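import Cfsg.Agent.StdEven.CoreQuot

/-!
# S1778: lifting 2-subgroups of `X = N_G(O)/O` which lie in `C_G(O)O/O` to `C_G(O)`

`π : N →* X` with kernel `K` of odd order, `C = C_N(K)`: 2-elements of `C` are determined by their images; a
homomorphism `f : P →* X` from a 2-group with values in `π(C)` lifts uniquely to a homomorphism `P →* C`, and all
relations `g f(x) g⁻¹ = f(y)`, `g ∈ N`, lift.
-/

set_option autoImplicit false
set_option linter.unusedSectionVars false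

namespace Cfsg.Agent.StdSpFour.Lift

open Subgroup

section abstract_

variable {N X : Type*} [Group N] [Finite N] [Group X] (π : N →* X) (hk : Odd (Nat.card π.ker))

/-- 2-elements -/
def Two {N : Type*} [Group N] (x : N) : Prop := ∃ k : ℕ, x ^ 2 ^ k = 1

theorem Two.conj {N : Type*} [Group N] {x : N} (h : Two x) (g : N) : Two (g * x * g⁻¹) := by
  obtain ⟨k, hk⟩ := h
  exact ⟨k, by rw [conj_pow, hk]; group⟩

theorem Two.inv {N : Type*} [Group N] {x : N} (h : Two x) : Two x⁻¹ := by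
  obtain ⟨k, hk⟩ := h
  exact ⟨k, by rw [inv_pow, hk, inv_one]⟩

/-- the centraliser of the kernel -/
def C : Subgroup N := centralizer (π.ker : Set N)

theorem conj_mem_C (g : N) {x : N} (hx : x ∈ C π) : g * x * g⁻¹ ∈ C π := by
  rw [C, mem_centralizer_iff] at hx ⊢
  intro k hk
  have h1 : g⁻¹ * k * g ∈ π.ker := by
    have := (MonoidHom.normal_ker π).conj_mem k hk g⁻¹
    rwa [inv_inv] at this
  have h2 := hx _ h1
  calc k * (g * x * g⁻¹) = g * ((g⁻¹ * k * g) * x) * g⁻¹ := by group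
    _ = g * (x * (g⁻¹ * k * g)) * g⁻¹ := by rw [h2]
    _ = g * x * g⁻¹ * k := by group

include hk

theorem eq_one_of_ker {x : N} (hx : x ∈ π.ker) (h : Two x) : x = 1 := by
  obtain ⟨k, h⟩ := h
  have h1 : orderOf x ∣ Nat.card π.ker := Subgroup.orderOf_dvd_natCard _ hx
  have h2 : orderOf x ∣ 2 ^ k := orderOf_dvd_of_pow_eq_one h
  rw [← orderOf_eq_one_iff]
  exact Nat.eq_one_of_dvd_coprimes (Nat.Coprime.pow_left k (Nat.coprime_two_left.mpr hk)) h2 h1

/-- 2-elements of `C` are determined by their images -/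
theorem unique {x y : N} (hx : x ∈ C π) (h2x : Two x) (h2y : Two y) (h : π x = π y) : x = y := by
  -- `y = x k`
  have hkk : x⁻¹ * y ∈ π.ker := by
    rw [MonoidHom.mem_ker, map_mul, map_inv, h, inv_mul_cancel]
  set k := x⁻¹ * y with hkdef
  have hy : y = x * k := by rw [hkdef]; group
  have hc : Commute x k := ((mem_centralizer_iff.1 hx) k hkk).symm
  obtain ⟨a, ha⟩ := h2x
  obtain ⟨b, hb⟩ := h2y
  have h3 : k ^ 2 ^ (a + b) = 1 := by
    have h4 : y ^ 2 ^ (a + b) = 1 := by rw [add_comm, pow_add, pow_mul, hb, one_pow]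
    have h5 : x ^ 2 ^ (a + b) = 1 := by rw [pow_add, pow_mul, ha, one_pow]
    rw [hy, hc.mul_pow, h5, one_mul] at h4
    exact h4
  have h6 : k = 1 := eq_one_of_ker π hk hkk ⟨_, h3⟩
  rw [hy, h6, mul_one]

/-- **the lift** -/
theorem exists_lift {P : Type*} [Group P] (hP : IsPGroup 2 P) (f : P →* X) (hf : ∀ x, ∃ n ∈ C π, π n = f x) :
    ∃ i : P →* N, (∀ x, π (i x) = f x) ∧ (∀ x, i x ∈ C π) ∧ (∀ x, Two (i x)) ∧
      (∀ g x y, π g * f x * (π g)⁻¹ = f y → g * i x * g⁻¹ = i y) ∧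
      (∀ x n, Two n → π n = f x → i x = n) := by
  have : Fact (Nat.Prime 2) := ⟨Nat.prime_two⟩
  let φ : ↥(C π) →* X := π.comp (C π).subtype
  let ψ : ↥(C π) →* φ.range := φ.rangeRestrict
  have hψ : Function.Surjective ψ := φ.rangeRestrict_surjective
  have hker : Odd (Nat.card ψ.ker) := by
    have h1 : ψ.ker = π.ker.subgroupOf (C π) := by
      rw [MonoidHom.ker_rangeRestrict]
      ext x
      rfl
    rw [h1]
    have h2 : Nat.card (π.ker.subgroupOf (C π)) ∣ Nat.card π.ker := by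
      rw [← Subgroup.card_map_of_injective (C π).subtype_injective, subgroupOf_map_subtype]
      exact Subgroup.card_dvd_of_le inf_le_left
    exact Odd.of_dvd_nat hk h2
  have hfr : ∀ x, f x ∈ φ.range := fun x => by
    obtain ⟨n, hn, e⟩ := hf x
    exact ⟨⟨n, hn⟩, e⟩
  let f' : P →* φ.range := f.codRestrict _ hfr
  have h2 : IsPGroup 2 f'.range := hP.of_surjective f'.rangeRestrict f'.rangeRestrict_surjective
  obtain ⟨Y, hY, -, hYm⟩ := Cfsg.Agent.StdEven.OddQuot.exists_lift ψ hψ hker h2 (Y0 := ⊥)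
    IsPGroup.of_bot (by rw [Subgroup.map_bot]; exact bot_le)
  -- `Y ≃ f'.range`
  let e : ↥Y →* f'.range := (ψ.comp Y.subtype).codRestrict _ (fun y => by
    have : ψ y ∈ Y.map ψ := ⟨y, y.2, rfl⟩
    rwa [hYm] at this)
  have he : Function.Bijective e := by
    constructor
    · intro a b hab
      exact Subtype.ext (Cfsg.Agent.StdEven.OddQuot.injOn ψ hker hY a.2 b.2 (congrArg Subtype.val hab))
    · rintro ⟨x, hx⟩
      have hx' := hx
      rw [← hYm] at hx'
      obtain ⟨y, hy, e⟩ := hx'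
      exact ⟨⟨y, hy⟩, Subtype.ext e⟩
  let E := MulEquiv.ofBijective e he
  let i : P →* N := (C π).subtype.comp (Y.subtype.comp (E.symm.toMonoidHom.comp f'.rangeRestrict))
  have h1 : ∀ x, π (i x) = f x := by
    intro x
    have h3 : e (E.symm (f'.rangeRestrict x)) = f'.rangeRestrict x := E.apply_symm_apply _
    have h4 := congrArg (fun z : f'.range => ((z : φ.range) : X)) h3
    exact h4
  have h2' : ∀ x, i x ∈ C π := fun x => ((E.symm (f'.rangeRestrict x) : Y) : ↥(C π)).2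
  have h3 : ∀ x, Two (i x) := by
    intro x
    obtain ⟨k, hk⟩ := hY (E.symm (f'.rangeRestrict x))
    exact ⟨k, congrArg (fun z : Y => ((z : ↥(C π)) : N)) hk⟩
  refine ⟨i, h1, h2', h3, ?_, ?_⟩
  · intro g x y h
    apply unique π hk (conj_mem_C π g (h2' x)) ((h3 x).conj g) (h3 y)
    rw [map_mul, map_mul, map_inv, h1, h1, h]
  · intro x n hn h
    exact unique π hk (h2' x) (h3 x) hn (by rw [h1, h])

end abstract_

/-! ### the version for `N_G(O) → N_G(O)/O` -/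

section core

open Cfsg Cfsg.Agent.StdEven.CoreQuot

variable {G : Type*} [Group G] [Finite G] {A : Subgroup G} {t : G} {T : Subgroup G}

theorem mem_C {n : ↥(NO A t)} : n ∈ C (pr A t) ↔ ∀ o ∈ core A t, o * (n : G) = n * o := by
  rw [C, mem_centralizer_iff]
  constructor
  · intro h o ho
    exact congrArg Subtype.val (h ⟨o, le_normalizer ho⟩ (pr_eq_one.2 ho))
  · intro h o ho
    exact Subtype.ext (h o (pr_eq_one.1 ho))

/-- the image of `C_G(O)` in `X` -/
def Cb (A : Subgroup G) (t : G) : Subgroup (XQ A t) := (C (pr A t)).map (pr A t)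

theorem mem_Cb {x : XQ A t} : x ∈ Cb A t ↔ ∃ n ∈ C (pr A t), pr A t n = x := Iff.rfl

theorem Cb_conj {x : XQ A t} (hx : x ∈ Cb A t) (g : XQ A t) : g * x * g⁻¹ ∈ Cb A t := by
  obtain ⟨n, hn, rfl⟩ := hx
  obtain ⟨g, rfl⟩ := pr_surjective A t g
  exact ⟨g * n * g⁻¹, conj_mem_C _ g hn, by simp only [map_mul, map_inv]⟩

instance : (Cb A t).Normal := ⟨fun _ hx g => Cb_conj hx g⟩

/-- commutators with elements of `C_G(O)` -/
theorem Cb_comm {x : XQ A t} (hx : x ∈ Cb A t) (g : XQ A t) : x * g * x⁻¹ * g⁻¹ ∈ Cb A t := by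
  have h1 := Cb_conj (inv_mem hx) g
  have h2 := mul_mem hx h1
  rwa [show x * (g * x⁻¹ * g⁻¹) = x * g * x⁻¹ * g⁻¹ by group] at h2

theorem Cb_comm' {x : XQ A t} (hx : x ∈ Cb A t) (g : XQ A t) : g * x * g⁻¹ * x⁻¹ ∈ Cb A t :=
  mul_mem (Cb_conj hx g) (inv_mem hx)

variable (h : Hyp A t T)
include h

theorem A_mem_C {a : G} (ha : a ∈ A) : (⟨a, h.A_le ha⟩ : ↥(NO A t)) ∈ C (pr A t) :=
  mem_C.2 fun _ ho => ((mem_centralizer_iff.1 (h.core_le ho)) a ha).symm

theorem im_A_le : im A t A ≤ Cb A t := by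
  intro x hx
  obtain ⟨n, hn, rfl⟩ := mem_im.mp hx
  exact ⟨n, A_mem_C h hn, rfl⟩

theorem t_mem_C : (⟨t, h.t_mem⟩ : ↥(NO A t)) ∈ C (pr A t) := mem_C.2 fun _ ho => h.comm_t ho

theorem tX_mem : h.tX ∈ Cb A t := ⟨_, t_mem_C h, rfl⟩

/-- **lifting 2-groups from `X` to `G`** -/
theorem exists_lift_core {P : Type*} [Group P] (hP : IsPGroup 2 P) (f : P →* XQ A t) (hf : ∀ x, f x ∈ Cb A t) :
    ∃ (i : P →* G) (hi : ∀ x, i x ∈ NO A t), (∀ x, pr A t ⟨i x, hi x⟩ = f x) ∧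
      (∀ x, ∀ o ∈ core A t, o * i x = i x * o) ∧ (∀ x, Two (i x)) ∧
      (∀ (g : ↥(NO A t)) x y, pr A t g * f x * (pr A t g)⁻¹ = f y → (g : G) * i x * (g : G)⁻¹ = i y) ∧
      (∀ x (n : ↥(NO A t)), Two (n : G) → pr A t n = f x → i x = n) := by
  obtain ⟨i, h1, h2, h3, h4, h5⟩ := exists_lift (pr A t) h.odd_ker hP f hf
  refine ⟨(NO A t).subtype.comp i, fun x => (i x).2, h1, fun x => mem_C.1 (h2 x), ?_, ?_, ?_⟩
  · intro x
    obtain ⟨k, hk⟩ := h3 x
    exact ⟨k, congrArg Subtype.val hk⟩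
  · intro g x y e
    exact congrArg Subtype.val (h4 g x y e)
  · intro x n hn e
    obtain ⟨k, hk⟩ := hn
    exact congrArg Subtype.val (h5 x n ⟨k, Subtype.ext hk⟩ e)

/-- 2-elements of `im A` are images of 2-elements of `A` -/
theorem exists_two_A {x : XQ A t} (hx : x ∈ im A t A) (h2 : Two x) : ∃ (a : G) (ha : a ∈ A), Two a ∧
    pr A t ⟨a, h.A_le ha⟩ = x := by
  obtain ⟨n, hn, rfl⟩ := mem_im.mp hx
  obtain ⟨k, hk⟩ := h2
  -- the 2-part of `n`
  obtain ⟨i, j, hij, hi, l, hl⟩ := Cfsg.Agent.StdSz.Env.exists_decomp (n : G)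
  refine ⟨(n : G) ^ j, pow_mem hn j, ⟨l, hl⟩, ?_⟩
  -- the image of `n ^ i` is a 2-element of odd order
  have h3 : (⟨(n : G) ^ j, h.A_le (pow_mem hn j)⟩ : ↥(NO A t)) = n ^ j := rfl
  have h4 : n = n ^ i * n ^ j := Subtype.ext hij
  have h5 : Odd (orderOf (pr A t (n ^ i))) := by
    refine Odd.of_dvd_nat hi ?_
    rw [show orderOf ((n : G) ^ i) = orderOf (n ^ i) by rw [← Subgroup.orderOf_coe]; rfl]
    exact orderOf_map_dvd _ _
  have h6 : orderOf (pr A t (n ^ i)) ∣ 2 ^ k := by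
    apply orderOf_dvd_of_pow_eq_one
    rw [map_pow, ← pow_mul, mul_comm, pow_mul, hk, one_pow]
  have h7 : pr A t (n ^ i) = 1 := by
    rw [← orderOf_eq_one_iff]
    exact Nat.eq_one_of_dvd_coprimes (Nat.Coprime.pow_left k (Nat.coprime_two_left.mpr h5)) h6 dvd_rfl
  rw [h3]
  conv_rhs => rw [h4, map_mul, h7, one_mul]

end core

end Cfsg.Agent.StdSpFour.Lift
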