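import Cfsg.Agent.StdSpFour.V1
import Mathlib.GroupTheory.SpecificGroups.Cyclic
import Mathlib.RingTheory.IntegralDomain
import Mathlib.Algebra.Group.Subgroup.Basic

/-! The second layer over `Z_s`: construction of `ShortLayer` from one element moving `t`. -/
set_option autoImplicit false
set_option linter.unusedSectionVars false

namespace Cfsg.Agent.StdSpFour
namespace Base

variable {F G : Type*} [Field F] [CharP F 2] [Group G] (B : Base F G)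

/-- The elements which centralise `V₁`, centralise `L₁` modulo `V₁` and translate `t` by `Z_s`. -/
structure IsN4 (m : G) : Prop where
  cent : ∀ s k r, Commute m (B.v1 s k r)
  xa : ∀ u, ∃ s k r, m⁻¹ * B.xa u * m = B.xa u * B.v1 s k r
  tor : ∀ α : Fˣ, ∃ s k r, m⁻¹ * B.h α α⁻¹ * m = B.h α α⁻¹ * B.v1 s k r
  tr : ∃ w, m⁻¹ * B.t * m = B.t * B.zs w

variable {B}

theorem v1_zs (m : F) : B.v1 0 m 0 = B.zs m := by
  rw [v1, B.xb_zero, B.zl_zero, one_mul, mul_one]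

theorem v1_xb (m : F) : B.v1 m 0 0 = B.xb m := by
  rw [v1, B.zs_zero, B.zl_zero, mul_one, mul_one]

theorem v1_zl (m : F) : B.v1 0 0 m = B.zl m := by
  rw [v1, B.xb_zero, B.zs_zero, one_mul, one_mul]

namespace IsN4

theorem conj_inv {m l : G} (hm : B.IsN4 m) {s k r : F} (h : m⁻¹ * l * m = l * B.v1 s k r) :
    m * l * m⁻¹ = l * B.v1 s k r := by
  have h1 : l * m = m * (l * B.v1 s k r) := by rw [← h]; group
  have h2 : m * l = l * m * B.v1 s k r := by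
    rw [h1, mul_assoc m, mul_assoc l, B.v1_v1, mul_one]
  rw [h2, mul_assoc l, (hm.cent s k r).eq]
  group

theorem mul {m n : G} (hm : B.IsN4 m) (hn : B.IsN4 n) : B.IsN4 (m * n) := by
  have aux : ∀ l : G, (∃ s k r, m⁻¹ * l * m = l * B.v1 s k r) → (∃ s k r, n⁻¹ * l * n = l * B.v1 s k r) →
      ∃ s k r, (m * n)⁻¹ * l * (m * n) = l * B.v1 s k r := by
    rintro l ⟨s, k, r, h1⟩ ⟨s', k', r', h2⟩
    refine ⟨s' + s, k' + k, r' + r, ?_⟩
    rw [← B.v1_mul, ← mul_assoc l, ← h2]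
    calc (m * n)⁻¹ * l * (m * n) = n⁻¹ * (m⁻¹ * l * m) * n := by group
      _ = n⁻¹ * l * (B.v1 s k r * n) := by rw [h1]; group
      _ = n⁻¹ * l * n * B.v1 s k r := by rw [← (hn.cent s k r).eq]; group
  refine ⟨fun s k r => (hm.cent s k r).mul_left (hn.cent s k r), fun u => aux _ (hm.xa u) (hn.xa u),
    fun α => aux _ (hm.tor α) (hn.tor α), ?_⟩
  obtain ⟨s, k, r, h⟩ := aux B.t (by
    obtain ⟨w, h⟩ := hm.tr
    exact ⟨0, w, 0, by rw [v1_zs, h]⟩) (by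
    obtain ⟨w, h⟩ := hn.tr
    exact ⟨0, w, 0, by rw [v1_zs, h]⟩)
  obtain ⟨w, h1⟩ := hm.tr
  obtain ⟨w', h2⟩ := hn.tr
  refine ⟨w' + w, ?_⟩
  rw [B.zs_add, ← mul_assoc B.t, ← h2]
  calc (m * n)⁻¹ * B.t * (m * n) = n⁻¹ * (m⁻¹ * B.t * m) * n := by group
      _ = n⁻¹ * B.t * (B.zs w * n) := by rw [h1]; group
      _ = n⁻¹ * B.t * n * B.zs w := by rw [← v1_zs, ← (hn.cent 0 w 0).eq]; group

theorem inv {m : G} (hm : B.IsN4 m) : B.IsN4 m⁻¹ := by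
  refine ⟨fun s k r => (hm.cent s k r).inv_left, ?_, ?_, ?_⟩
  · intro u
    obtain ⟨s, k, r, h⟩ := hm.xa u
    exact ⟨s, k, r, by rw [inv_inv]; exact hm.conj_inv h⟩
  · intro u
    obtain ⟨s, k, r, h⟩ := hm.tor u
    exact ⟨s, k, r, by rw [inv_inv]; exact hm.conj_inv h⟩
  · obtain ⟨w, h⟩ := hm.tr
    refine ⟨w, ?_⟩
    rw [inv_inv, ← v1_zs]
    rw [← v1_zs] at h
    exact hm.conj_inv h

/-- translation part of a product -/
theorem tr_mul {m n : G} (hn : B.IsN4 n) {w w' : F} (h1 : m⁻¹ * B.t * m = B.t * B.zs w)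
    (h2 : n⁻¹ * B.t * n = B.t * B.zs w') : (m * n)⁻¹ * B.t * (m * n) = B.t * B.zs (w + w') := by
  rw [add_comm, B.zs_add, ← mul_assoc B.t, ← h2]
  calc (m * n)⁻¹ * B.t * (m * n) = n⁻¹ * (m⁻¹ * B.t * m) * n := by group
      _ = n⁻¹ * B.t * (B.zs w * n) := by rw [h1]; group
      _ = n⁻¹ * B.t * n * B.zs w := by rw [← v1_zs, ← (hn.cent 0 w 0).eq]; group

theorem tr_inv {m : G} (hm : B.IsN4 m) {w : F} (h : m⁻¹ * B.t * m = B.t * B.zs w) :
    m * B.t * m⁻¹ = B.t * B.zs w := by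
  rw [← v1_zs] at h ⊢
  exact hm.conj_inv h

theorem cent_t (hB : B.Self) {m : G} (hm : B.IsN4 m) (ht : Commute m B.t) :
    ∃ s k r, m = B.v1 s k r ∨ m = B.t * B.v1 s k r := by
  refine hB.cent1 m ht (fun u => ?_) (fun u => ?_) (fun u => ?_)
  · rw [← v1_xb]; exact hm.cent _ _ _
  · rw [← v1_zs]; exact hm.cent _ _ _
  · rw [← v1_zl]; exact hm.cent _ _ _

theorem commute_of_tr {m : G} (h : m⁻¹ * B.t * m = B.t * B.zs 0) : Commute m B.t := by
  rw [B.zs_zero, mul_one] at h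
  have : B.t * m = m * B.t := by
    calc B.t * m = m * (m⁻¹ * B.t * m) := by group
      _ = m * B.t := by rw [h]
  exact this.symm

theorem sq (hB : B.Self) {m : G} (hm : B.IsN4 m) : ∃ s k r, m * m = B.v1 s k r := by
  obtain ⟨w, hw⟩ := hm.tr
  have h1 := tr_mul hm hw hw
  rw [CharTwo.add_self_eq_zero] at h1
  obtain ⟨s, k, r, h | h⟩ := (hm.mul hm).cent_t hB (commute_of_tr h1)
  · exact ⟨s, k, r, h⟩
  · exfalso
    have h2 : Commute m B.t := by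
      have h3 : Commute m (m * m) := (Commute.refl m).mul_right (Commute.refl m)
      have h4 : B.t = m * m * B.v1 s k r := by rw [h, mul_assoc, B.v1_v1, mul_one]
      rw [h4]
      exact h3.mul_right (hm.cent s k r)
    obtain ⟨s', k', r', h3 | h3⟩ := hm.cent_t hB h2
    · rw [h3, B.v1_v1] at h
      have h5 : B.v1 s k r = B.t := by
        calc B.v1 s k r = B.t * (B.t * B.v1 s k r) := by rw [← mul_assoc, B.tt, one_mul]
          _ = B.t := by rw [← h, mul_one]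
      exact B.v1_ne_t _ _ _ h5
    · have h6 : m * m = 1 := by
        rw [h3]
        calc B.t * B.v1 s' k' r' * (B.t * B.v1 s' k' r')
            = (B.v1 s' k' r' * B.t) * (B.t * B.v1 s' k' r') := by rw [(B.t_v1 s' k' r').eq]
          _ = B.v1 s' k' r' * (B.t * B.t) * B.v1 s' k' r' := by group
          _ = 1 := by rw [B.tt, mul_one, B.v1_v1]
      rw [h6] at h
      have h5 : B.v1 s k r = B.t := by
        calc B.v1 s k r = B.t * (B.t * B.v1 s k r) := by rw [← mul_assoc, B.tt, one_mul]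
          _ = B.t := by rw [← h, mul_one]
      exact B.v1_ne_t _ _ _ h5

theorem comm (hB : B.Self) {m n : G} (hm : B.IsN4 m) (hn : B.IsN4 n) :
    ∃ s k r, m * n = n * m * B.v1 s k r := by
  obtain ⟨s1, k1, r1, h1⟩ := hm.sq hB
  obtain ⟨s2, k2, r2, h2⟩ := hn.sq hB
  obtain ⟨s3, k3, r3, h3⟩ := (hm.mul hn).sq hB
  -- `(m n)² = m n m n`, so `n m = m⁻¹ v₃ n⁻¹`
  have e1 : m⁻¹ = m * B.v1 s1 k1 r1 := by
    apply inv_eq_of_mul_eq_one_right
    rw [← mul_assoc, h1, B.v1_v1]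
  have e2 : n⁻¹ = B.v1 s2 k2 r2 * n := by
    rw [← (hn.cent _ _ _).eq]
    apply inv_eq_of_mul_eq_one_right
    rw [← mul_assoc, h2, B.v1_v1]
  have e3 : n * m = m⁻¹ * B.v1 s3 k3 r3 * n⁻¹ := by rw [← h3]; group
  have e4 : n * m = m * n * B.v1 (s1 + s3 + s2) (k1 + k3 + k2) (r1 + r3 + r2) := by
    rw [e3, e1, e2, ← B.v1_mul, ← B.v1_mul]
    have c1 := (hn.cent s1 k1 r1).eq
    have c2 := (hn.cent s2 k2 r2).eq
    have c3 := (hn.cent s3 k3 r3).eq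
    calc m * B.v1 s1 k1 r1 * B.v1 s3 k3 r3 * (B.v1 s2 k2 r2 * n)
        = m * B.v1 s1 k1 r1 * B.v1 s3 k3 r3 * (n * B.v1 s2 k2 r2) := by rw [c2]
      _ = m * B.v1 s1 k1 r1 * (B.v1 s3 k3 r3 * n) * B.v1 s2 k2 r2 := by group
      _ = m * (B.v1 s1 k1 r1 * n) * B.v1 s3 k3 r3 * B.v1 s2 k2 r2 := by rw [← c3]; group
      _ = _ := by rw [← c1]; group
  refine ⟨s1 + s3 + s2, k1 + k3 + k2, r1 + r3 + r2, ?_⟩
  rw [e4, mul_assoc, B.v1_v1, mul_one]

/-- the elements of `V₁` and `t` are in `N₄` -/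
theorem of_v1 (s k r : F) : B.IsN4 (B.v1 s k r) := by
  refine ⟨fun _ _ _ => B.v1_comm _ _ _ _ _ _, fun u => ?_, fun α => ?_, ⟨0, ?_⟩⟩
  · refine ⟨0, u * s, u ^ 2 * s, ?_⟩
    rw [B.v1_inv, mul_assoc, B.xa_v1, ← mul_assoc, B.v1_mul, B.xa_v1]
    congr 1
    simp [CharTwo.add_self_eq_zero, ← add_assoc]
  · have h1 : ∀ s k r, B.v1 s k r * B.h α α⁻¹ =
        B.h α α⁻¹ * B.v1 (α * s) k (((α⁻¹ : Fˣ) : F) * r) := by
      intro s k r
      rw [B.h_v1]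
      congr 2
      · rw [← mul_assoc, Units.inv_mul, one_mul]
      · rw [Units.mul_inv, one_mul]
      · rw [Units.val_inv_eq_inv_val]
        field_simp
    refine ⟨α * s + s, k + k, ((α⁻¹ : Fˣ) : F) * r + r, ?_⟩
    rw [B.v1_inv, h1, mul_assoc, B.v1_mul]
  · rw [B.v1_inv, ← (B.t_v1 s k r).eq, mul_assoc, B.v1_v1, mul_one, B.zs_zero, mul_one]

/-- conjugation by the torus element `h 1 β` -/
theorem conj_h {m : G} (hm : B.IsN4 m) (β : Fˣ) : B.IsN4 (B.h 1 β * m * (B.h 1 β)⁻¹) := by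
  set h := B.h 1 β with hh
  have hv : ∀ s k r, h * B.v1 s k r * h⁻¹ = B.v1 (β * s) (β * k) (β * r) := by
    intro s k r
    rw [hh, B.h_v1]
    simp
  have hv' : ∀ s k r, h⁻¹ * B.v1 s k r * h = B.v1 ((β⁻¹ : Fˣ) * s) ((β⁻¹ : Fˣ) * k) ((β⁻¹ : Fˣ) * r) := by
    intro s k r
    rw [hh, B.h_inv, B.h_v1, mul_assoc, ← B.h_mul]
    simp [B.h_one]
  have aux : ∀ l : G, Commute h l → (∃ s k r, m⁻¹ * l * m = l * B.v1 s k r) →
      ∃ s k r, (h * m * h⁻¹)⁻¹ * l * (h * m * h⁻¹) = l * B.v1 s k r := by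
    rintro l hl ⟨s, k, r, h1⟩
    refine ⟨β * s, β * k, β * r, ?_⟩
    rw [← hv]
    calc (h * m * h⁻¹)⁻¹ * l * (h * m * h⁻¹) = h * m⁻¹ * (h⁻¹ * (l * h)) * m * h⁻¹ := by group
      _ = h * (m⁻¹ * l * m) * h⁻¹ := by rw [← hl.eq]; group
      _ = (h * l) * B.v1 s k r * h⁻¹ := by rw [h1]; group
      _ = _ := by rw [hl.eq]; group
  refine ⟨?_, ?_, ?_, ?_⟩
  · intro s k r
    have h1 := (hm.cent ((β⁻¹ : Fˣ) * s) ((β⁻¹ : Fˣ) * k) ((β⁻¹ : Fˣ) * r)).eq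
    rw [← hv'] at h1
    show h * m * h⁻¹ * B.v1 s k r = B.v1 s k r * (h * m * h⁻¹)
    calc h * m * h⁻¹ * B.v1 s k r = h * (m * (h⁻¹ * B.v1 s k r * h)) * h⁻¹ := by group
      _ = _ := by rw [h1]; group
  · intro u
    refine aux _ ?_ (hm.xa u)
    show h * B.xa u = B.xa u * h
    rw [hh, B.h_xa]; simp
  · intro α
    exact aux _ (B.h_comm _ _ _ _) (hm.tor α)
  · obtain ⟨w, hw⟩ := hm.tr
    refine ⟨β * w, ?_⟩
    have h2 : h * B.zs w * h⁻¹ = B.zs (β * w) := by rw [hh, B.h_zs]; simp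
    rw [← h2]
    have h3 := (B.t_h 1 β).eq
    rw [← hh] at h3
    calc (h * m * h⁻¹)⁻¹ * B.t * (h * m * h⁻¹) = h * m⁻¹ * (h⁻¹ * (B.t * h)) * m * h⁻¹ := by group
      _ = h * (m⁻¹ * B.t * m) * h⁻¹ := by rw [h3]; group
      _ = (h * B.t) * B.zs w * h⁻¹ := by rw [hw]; group
      _ = _ := by rw [← h3]; group

end IsN4

end Base
end Cfsg.Agent.StdSpFour
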