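import Cfsg.Agent.StdSpFour.Mover

/-! Construction of the `ShortLayer` from an element of `N₄` moving `t`. -/
set_option autoImplicit false
set_option linter.unusedSectionVars false

namespace Cfsg.Agent.StdSpFour
namespace Base

variable {F G : Type*} [Field F] [CharP F 2] [Group G] {B : Base F G}

variable (B) in
/-- elements of `N₄` commuting with `T_a` -/
structure IsX (m : G) : Prop extends B.IsN4 m where
  comm_h : ∀ α : Fˣ, Commute m (B.h α α⁻¹)

namespace IsX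

theorem mul {m n : G} (hm : B.IsX m) (hn : B.IsX n) : B.IsX (m * n) :=
  ⟨hm.toIsN4.mul hn.toIsN4, fun α => (hm.comm_h α).mul_left (hn.comm_h α)⟩

theorem inv {m : G} (hm : B.IsX m) : B.IsX m⁻¹ :=
  ⟨hm.toIsN4.inv, fun α => (hm.comm_h α).inv_left⟩

theorem conj_h {m : G} (hm : B.IsX m) (β : Fˣ) : B.IsX (B.h 1 β * m * (B.h 1 β)⁻¹) :=
  ⟨hm.toIsN4.conj_h β, fun α =>
    ((B.h_comm 1 β α α⁻¹).mul_left (hm.comm_h α)).mul_left (B.h_comm 1 β α α⁻¹).inv_left⟩

theorem v1_zero_of_comm [Fintype F] (hF : 4 ≤ Fintype.card F) {s k r : F}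
    (h : ∀ α : Fˣ, Commute (B.v1 s k r) (B.h α α⁻¹)) : s = 0 ∧ r = 0 := by
  obtain ⟨α, hα⟩ := exists_unit_ne hF
  have h1 := (h α).eq
  rw [ha_v1] at h1
  obtain ⟨h2, -, h3⟩ := B.v1_inj (mul_left_cancel h1)
  constructor
  · by_contra hs
    exact hα (Units.ext (mul_right_cancel₀ hs (by rw [h2, Units.val_one, one_mul])))
  · by_contra hs
    have : α⁻¹ = 1 := Units.ext (mul_right_cancel₀ hs (by rw [h3, Units.val_one, one_mul]))
    exact hα (inv_eq_one.1 this)

variable [Fintype F] (hF : 4 ≤ Fintype.card F)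
include hF

theorem cent_t (hB : B.Self) {m : G} (hm : B.IsX m) (ht : Commute m B.t) :
    ∃ k, m = B.zs k ∨ m = B.t * B.zs k := by
  obtain ⟨s, k, r, h | h⟩ := hm.toIsN4.cent_t hB ht
  · obtain ⟨h1, h2⟩ := v1_zero_of_comm (B := B) hF (s := s) (k := k) (r := r) (by rw [← h]; exact hm.comm_h)
    exact ⟨k, Or.inl (by rw [h, h1, h2, v1_zs])⟩
  · have h3 : ∀ α : Fˣ, Commute (B.v1 s k r) (B.h α α⁻¹) := by
      intro α
      have h4 : B.v1 s k r = B.t * m := by rw [h, ← mul_assoc, B.tt, one_mul]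
      rw [h4]
      exact (B.t_h α α⁻¹).mul_left (hm.comm_h α)
    obtain ⟨h1, h2⟩ := v1_zero_of_comm (B := B) hF h3
    exact ⟨k, Or.inr (by rw [h, h1, h2, v1_zs])⟩

theorem sq (hB : B.Self) {m : G} (hm : B.IsX m) : ∃ k, m * m = B.zs k := by
  obtain ⟨s, k, r, h⟩ := hm.toIsN4.sq hB
  obtain ⟨h1, h2⟩ := v1_zero_of_comm (B := B) hF (s := s) (k := k) (r := r) (by
    rw [← h]; exact fun α => (hm.comm_h α).mul_left (hm.comm_h α))
  exact ⟨k, by rw [h, h1, h2, v1_zs]⟩

theorem comm (hB : B.Self) {m n : G} (hm : B.IsX m) (hn : B.IsX n) : ∃ k, m * n = n * m * B.zs k := by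
  obtain ⟨s, k, r, h⟩ := hm.toIsN4.comm hB hn.toIsN4
  obtain ⟨h1, h2⟩ := v1_zero_of_comm (B := B) hF (s := s) (k := k) (r := r) (by
    have h3 : B.v1 s k r = (n * m)⁻¹ * (m * n) := by rw [h]; group
    rw [h3]
    exact fun α => ((hn.comm_h α).mul_left (hm.comm_h α)).inv_left.mul_left
      ((hm.comm_h α).mul_left (hn.comm_h α)))
  exact ⟨k, by rw [h, h1, h2, v1_zs]⟩

end IsX

theorem IsX.zs_comm {m : G} (hm : B.IsX m) (k : F) : Commute m (B.zs k) := by
  rw [← v1_zs]; exact hm.cent _ _ _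

theorem h1_zs (β : Fˣ) (k : F) : B.h 1 β * B.zs k * (B.h 1 β)⁻¹ = B.zs (β * k) := by
  rw [← v1_zs, h1_v1, mul_zero, v1_zs]

theorem tr_conj {m : G} {w : F} (hw : m⁻¹ * B.t * m = B.t * B.zs w) (β : Fˣ) :
    (B.h 1 β * m * (B.h 1 β)⁻¹)⁻¹ * B.t * (B.h 1 β * m * (B.h 1 β)⁻¹) = B.t * B.zs (β * w) := by
  have h3 := (B.t_h 1 β).eq
  rw [← h1_zs]
  calc (B.h 1 β * m * (B.h 1 β)⁻¹)⁻¹ * B.t * (B.h 1 β * m * (B.h 1 β)⁻¹)
      = B.h 1 β * m⁻¹ * ((B.h 1 β)⁻¹ * (B.t * B.h 1 β)) * m * (B.h 1 β)⁻¹ := by group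
    _ = B.h 1 β * (m⁻¹ * B.t * m) * (B.h 1 β)⁻¹ := by rw [h3]; group
    _ = (B.h 1 β * B.t) * B.zs w * (B.h 1 β)⁻¹ := by rw [hw]; group
    _ = _ := by rw [← h3]; group

/-- Construction of the short layer. -/
theorem exists_shortLayer [Fintype F] (hF : 4 ≤ Fintype.card F) (hB : B.Self) {y0 : G} (hy0 : B.IsX y0)
    {w0 : F} (hw0 : w0 ≠ 0) (hyw : y0⁻¹ * B.t * y0 = B.t * B.zs w0) : Nonempty (ShortLayer B) := by
  classical
  obtain ⟨l, hl⟩ := exists_unit_ne hF
  have hl1 : (1 : F) + l ≠ 0 := fun h => hl (Units.ext (FieldAux.eq_of_add_eq_zero h).symm)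
  -- normalise: translation `(1 + l)⁻¹`
  set c : Fˣ := Units.mk0 ((1 + (l : F))⁻¹ * w0⁻¹) (mul_ne_zero (inv_ne_zero hl1) (inv_ne_zero hw0)) with hc
  set y := B.h 1 c * y0 * (B.h 1 c)⁻¹ with hy
  have hyX : B.IsX y := hy0.conj_h c
  have hyt : y⁻¹ * B.t * y = B.t * B.zs ((1 + (l : F))⁻¹) := by
    rw [hy, tr_conj hyw]
    congr 2
    rw [hc, Units.val_mk0, mul_assoc, inv_mul_cancel₀ hw0, mul_one]
  -- the family `Y`
  set Y : F → G := fun m => if h : m = 0 then 1 else B.h 1 (Units.mk0 m h) * y * (B.h 1 (Units.mk0 m h))⁻¹ with hY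
  have hY0 : Y 0 = 1 := by simp [hY]
  have hYne : ∀ (m : F) (h : m ≠ 0), Y m = B.h 1 (Units.mk0 m h) * y * (B.h 1 (Units.mk0 m h))⁻¹ := by
    intro m h; simp [hY, h]
  have one_X : B.IsX 1 := by
    refine ⟨?_, fun α => Commute.one_left _⟩
    have := IsN4.of_v1 (B := B) 0 0 0
    rwa [B.v1_zero] at this
  have hYX : ∀ m, B.IsX (Y m) := by
    intro m
    by_cases h : m = 0
    · rw [h, hY0]; exact one_X
    · rw [hYne m h]; exact hyX.conj_h _
  have hYt : ∀ m, (Y m)⁻¹ * B.t * Y m = B.t * B.zs ((1 + (l : F))⁻¹ * m) := by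
    intro m
    by_cases h : m = 0
    · rw [h, hY0, mul_zero, B.zs_zero]; group
    · rw [hYne m h, tr_conj hyt, Units.val_mk0, mul_comm]
  have hYh : ∀ (β : Fˣ) m, B.h 1 β * Y m * (B.h 1 β)⁻¹ = Y (β * m) := by
    intro β m
    by_cases h : m = 0
    · rw [h, mul_zero, hY0]; group
    · have h' : (β : F) * m ≠ 0 := mul_ne_zero β.ne_zero h
      rw [hYne m h, hYne _ h']
      have e : B.h 1 (Units.mk0 ((β : F) * m) h') = B.h 1 β * B.h 1 (Units.mk0 m h) := by
        rw [← B.h_mul, mul_one]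
        congr 1
        ext; simp
      rw [e]; group
  -- the family `p`
  set p : F → G := fun m => (Y m)⁻¹ * (B.h 1 l * Y m * (B.h 1 l)⁻¹) with hp
  have hpX : ∀ m, B.IsX (p m) := fun m => (hYX m).inv.mul ((hYX m).conj_h l)
  have hpt : ∀ m, (p m)⁻¹ * B.t * p m = B.t * B.zs m := by
    intro m
    have h1 : ((Y m)⁻¹)⁻¹ * B.t * (Y m)⁻¹ = B.t * B.zs ((1 + (l : F))⁻¹ * m) := by
      rw [inv_inv]; exact (hYX m).toIsN4.tr_inv (hYt m)
    have h2 := IsN4.tr_mul ((hYX m).conj_h l).toIsN4 h1 (tr_conj (hYt m) l)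
    rw [h2]
    congr 2
    field_simp
  have hp0 : p 0 = 1 := by simp only [hp, hY0]; group
  have hph : ∀ (β : Fˣ) m, B.h 1 β * p m * (B.h 1 β)⁻¹ = p (β * m) := by
    intro β m
    simp only [hp]
    rw [← hYh β m]
    have e := (B.h_comm 1 β 1 l).eq
    calc B.h 1 β * ((Y m)⁻¹ * (B.h 1 l * Y m * (B.h 1 l)⁻¹)) * (B.h 1 β)⁻¹
        = (B.h 1 β * (Y m)⁻¹ * (B.h 1 β)⁻¹) * ((B.h 1 β * B.h 1 l) * Y m * (B.h 1 β * B.h 1 l)⁻¹) := by group
      _ = _ := by rw [e]; group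
  have htp : ∀ m, B.t * p m = p m * B.t * B.zs m := by
    intro m
    rw [mul_assoc, ← hpt m]; group
  -- additivity modulo `Z_s`
  have hpadd : ∀ m m', ∃ k, p m * p m' = p (m + m') * B.zs k := by
    intro m m'
    obtain ⟨a, ha⟩ : ∃ a, a = Y m := ⟨_, rfl⟩
    obtain ⟨b, hb⟩ : ∃ b, b = Y m' := ⟨_, rfl⟩
    obtain ⟨cc, hcc⟩ : ∃ cc, cc = Y (m + m') := ⟨_, rfl⟩
    obtain ⟨H, hH⟩ : ∃ H, H = B.h 1 l := ⟨_, rfl⟩
    have haX : B.IsX a := ha ▸ hYX m
    have hbX : B.IsX b := hb ▸ hYX m'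
    have hcX : B.IsX cc := hcc ▸ hYX (m + m')
    have hta : a⁻¹ * B.t * a = B.t * B.zs ((1 + (l : F))⁻¹ * m) := ha ▸ hYt m
    have htb : b⁻¹ * B.t * b = B.t * B.zs ((1 + (l : F))⁻¹ * m') := hb ▸ hYt m'
    have htc : cc⁻¹ * B.t * cc = B.t * B.zs ((1 + (l : F))⁻¹ * (m + m')) := hcc ▸ hYt (m + m')
    have hpa : p m = a⁻¹ * (H * a * H⁻¹) := by simp only [hp, ha, hH]
    have hpb : p m' = b⁻¹ * (H * b * H⁻¹) := by simp only [hp, hb, hH]
    have hpc : p (m + m') = cc⁻¹ * (H * cc * H⁻¹) := by simp only [hp, hcc, hH]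
    have hHz : ∀ k, H * B.zs k * H⁻¹ = B.zs (l * k) := fun k => by rw [hH, h1_zs]
    -- `a b = cc * d`, `d` centralises `t`
    have hd : ∃ k, cc⁻¹ * (a * b) = B.zs k ∨ cc⁻¹ * (a * b) = B.t * B.zs k := by
      refine IsX.cent_t hF hB (hcX.inv.mul (haX.mul hbX)) ?_
      apply IsN4.commute_of_tr
      have h1 := IsN4.tr_mul hbX.toIsN4 hta htb
      have h2 : (cc⁻¹)⁻¹ * B.t * cc⁻¹ = B.t * B.zs ((1 + (l : F))⁻¹ * (m + m')) := by
        rw [inv_inv]; exact hcX.toIsN4.tr_inv htc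
      have h3 := IsN4.tr_mul (haX.mul hbX).toIsN4 h2 h1
      rw [h3]
      congr 2
      rw [mul_add, CharTwo.add_self_eq_zero]
    have hσ : ∀ g : G, B.IsX g → B.IsX (H * g * H⁻¹) := fun g hg => by rw [hH]; exact hg.conj_h l
    obtain ⟨k1, hk1⟩ := IsX.comm hF hB (hσ a haX) hbX.inv
    obtain ⟨k2, hk2⟩ := IsX.comm hF hB hbX haX
    have e1 : p m * p m' = (b * a)⁻¹ * (H * (a * b) * H⁻¹) * B.zs k1 := by
      rw [hpa, hpb]
      have z1 := ((hσ b hbX).zs_comm k1).eq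
      calc a⁻¹ * (H * a * H⁻¹) * (b⁻¹ * (H * b * H⁻¹))
          = a⁻¹ * ((H * a * H⁻¹) * b⁻¹) * (H * b * H⁻¹) := by group
        _ = a⁻¹ * b⁻¹ * (H * a * H⁻¹) * (B.zs k1 * (H * b * H⁻¹)) := by rw [hk1]; group
        _ = _ := by rw [← z1]; group
    have e2 : (b * a)⁻¹ = B.zs k2 * (a * b)⁻¹ := by
      rw [hk2, mul_inv_rev, B.zs_inv]
    have z2 : B.zs k2 * (a * b)⁻¹ * (H * (a * b) * H⁻¹) = (a * b)⁻¹ * (H * (a * b) * H⁻¹) * B.zs k2 := by
      have := ((haX.mul hbX).inv.mul (hσ _ (haX.mul hbX))).zs_comm k2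
      rw [this.eq]
      simp only [mul_assoc]
    obtain ⟨k, hk | hk⟩ := hd
    · have hab : a * b = cc * B.zs k := by rw [← hk]; group
      refine ⟨k + l * k + k2 + k1, ?_⟩
      rw [e1, e2, z2, hab]
      have e3 : (cc * B.zs k)⁻¹ * (H * (cc * B.zs k) * H⁻¹) = p (m + m') * B.zs (k + l * k) := by
        have e4 : H * (cc * B.zs k) * H⁻¹ = H * cc * H⁻¹ * B.zs (l * k) := by
          rw [← hHz]; group
        rw [e4, mul_inv_rev, B.zs_inv, B.zs_add, hpc]
        have z3 := ((hpX (m + m')).zs_comm k).eq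
        rw [hpc] at z3
        calc B.zs k * cc⁻¹ * (H * cc * H⁻¹ * B.zs (l * k)) = (B.zs k * (cc⁻¹ * (H * cc * H⁻¹))) * B.zs (l * k) := by
              group
          _ = cc⁻¹ * (H * cc * H⁻¹) * B.zs k * B.zs (l * k) := by rw [z3]
          _ = _ := by group
      rw [e3]
      simp only [B.zs_add, mul_assoc]
    · have hab : a * b = cc * (B.t * B.zs k) := by rw [← hk]; group
      refine ⟨(m + m') + k + l * k + k2 + k1, ?_⟩
      rw [e1, e2, z2, hab]
      have e3 : (cc * (B.t * B.zs k))⁻¹ * (H * (cc * (B.t * B.zs k)) * H⁻¹) =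
          p (m + m') * B.zs ((m + m') + k + l * k) := by
        have ht : H * B.t = B.t * H := by rw [hH]; exact (B.t_h 1 l).symm.eq
        have e4 : H * (cc * (B.t * B.zs k)) * H⁻¹ = H * cc * H⁻¹ * (B.t * B.zs (l * k)) := by
          rw [← hHz]
          calc H * (cc * (B.t * B.zs k)) * H⁻¹ = H * cc * H⁻¹ * (H * B.t) * B.zs k * H⁻¹ := by group
            _ = _ := by rw [ht]; group
        rw [e4, mul_inv_rev, mul_inv_rev, B.zs_inv, B.t_inv, B.zs_add, B.zs_add]
        have z3 := ((hpX (m + m')).zs_comm k).eq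
        have t1 := htp (m + m')
        have e5 : B.t * p (m + m') * B.t = p (m + m') * B.zs (m + m') := by
          rw [t1, mul_assoc (p (m + m') * B.t), (B.t_zs (m + m')).symm.eq]
          calc p (m + m') * B.t * (B.t * B.zs (m + m')) = p (m + m') * (B.t * B.t) * B.zs (m + m') := by group
            _ = _ := by rw [B.tt, mul_one]
        calc B.zs k * B.t * cc⁻¹ * (H * cc * H⁻¹ * (B.t * B.zs (l * k)))
            = B.zs k * (B.t * p (m + m') * B.t) * B.zs (l * k) := by rw [hpc]; group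
          _ = (B.zs k * p (m + m')) * B.zs (m + m') * B.zs (l * k) := by rw [e5]; group
          _ = p (m + m') * (B.zs k * B.zs (m + m')) * B.zs (l * k) := by rw [← z3]; group
          _ = _ := by rw [← B.zs_add, add_comm k, B.zs_add]; group
      rw [e3]
      simp only [B.zs_add, mul_assoc]
  -- commutation
  have hcm : ∀ m m', ∃ k, p m * p m' = p m' * p m * B.zs k := fun m m' => IsX.comm hF hB (hpX m) (hpX m')
  choose β hβ using hcm
  have hzinj : ∀ {k k' : F}, B.zs k = B.zs k' → k = k' := by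
    intro k k' h
    rw [← v1_zs, ← v1_zs] at h
    exact (B.v1_inj h).2.1
  have hpz : ∀ m k, p m * B.zs k = B.zs k * p m := fun m k => ((hpX m).zs_comm k).eq
  have hβl : ∀ x y z, β (x + y) z = β x z + β y z := by
    intro x y z
    obtain ⟨k, hk⟩ := hpadd x y
    have e : p (x + y) = p x * p y * B.zs k := by rw [hk, mul_assoc, B.zs_zs, mul_one]
    apply hzinj
    have h1 := hβ (x + y) z
    have h2 : p (x + y) * p z = p z * p (x + y) * B.zs (β x z + β y z) := by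
      rw [e, B.zs_add]
      have a1 := hβ x z
      have a2 := hβ y z
      calc p x * p y * B.zs k * p z = p x * (p y * p z) * B.zs k := by
            rw [mul_assoc (p x * p y), ← hpz z k]; group
        _ = (p x * p z) * p y * B.zs (β y z) * B.zs k := by rw [a2]; group
        _ = p z * p x * (B.zs (β x z) * p y) * B.zs (β y z) * B.zs k := by rw [a1]; group
        _ = p z * p x * p y * B.zs (β x z) * B.zs (β y z) * B.zs k := by rw [← hpz y]; group
        _ = p z * (p x * p y * B.zs k) * (B.zs (β x z) * B.zs (β y z)) := by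
            have : B.zs (β x z) * B.zs (β y z) * B.zs k = B.zs k * (B.zs (β x z) * B.zs (β y z)) := by
              simp only [← B.zs_add]; congr 1; ring
            calc p z * p x * p y * B.zs (β x z) * B.zs (β y z) * B.zs k
                = p z * p x * p y * (B.zs (β x z) * B.zs (β y z) * B.zs k) := by group
              _ = _ := by rw [this]; group
    exact mul_left_cancel (h1.symm.trans h2)
  have hβs : ∀ x y, β x y = β y x := by
    intro x y
    apply hzinj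
    have h1 := hβ x y
    have h2 := hβ y x
    have h3 : p x * p y = p y * p x * B.zs (β y x) := by
      have : p y * p x * B.zs (β y x) = p x * p y * B.zs (β y x) * B.zs (β y x) := by rw [← h2]
      rw [mul_assoc (p x * p y), B.zs_zs, mul_one] at this
      exact this.symm
    exact mul_left_cancel (h1.symm.trans h3)
  have hβr : ∀ x y z, β x (y + z) = β x y + β x z := by
    intro x y z
    rw [hβs, hβl, hβs y, hβs z]
  have hβh : ∀ k x y, k ≠ 0 → β (k * x) (k * y) = k * β x y := by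
    intro k x y hk
    have h1 := hβ x y
    set H := B.h 1 (Units.mk0 k hk) with hH
    have e : ∀ m, H * p m * H⁻¹ = p (k * m) := fun m => by rw [hph, Units.val_mk0]
    have e2 : H * B.zs (β x y) * H⁻¹ = B.zs (k * β x y) := by rw [h1_zs, Units.val_mk0]
    have h2 : p (k * x) * p (k * y) = p (k * y) * p (k * x) * B.zs (k * β x y) := by
      rw [← e, ← e, ← e2]
      calc H * p x * H⁻¹ * (H * p y * H⁻¹) = H * (p x * p y) * H⁻¹ := by group
        _ = _ := by rw [h1]; group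
    exact hzinj (mul_left_cancel ((hβ _ _).symm.trans h2))
  have hβa : ∀ x, β x x = 0 := by
    intro x
    apply hzinj
    rw [B.zs_zero]
    exact (left_eq_mul.1 (hβ x x))
  have hβ0 := FieldAux.alt_zero hβl hβr hβh hβa
  have hpp : ∀ m m', Commute (p m) (p m') := by
    intro m m'
    have := hβ m m'
    rw [hβ0, B.zs_zero, mul_one] at this
    exact this
  -- squares
  have hsq : ∀ m, ∃ k, p m * p m = B.zs k := fun m => IsX.sq hF hB (hpX m)
  choose f hf using hsq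
  have hfh : ∀ k m, k ≠ 0 → f (k * m) = k * f m := by
    intro k m hk
    apply hzinj
    rw [← hf]
    have e : p (k * m) = B.h 1 (Units.mk0 k hk) * p m * (B.h 1 (Units.mk0 k hk))⁻¹ := by
      rw [hph, Units.val_mk0]
    have e2 : B.zs (k * f m) = B.h 1 (Units.mk0 k hk) * B.zs (f m) * (B.h 1 (Units.mk0 k hk))⁻¹ := by
      rw [h1_zs, Units.val_mk0]
    rw [e, e2, ← hf]; group
  have hf1 : ∀ m, f m = f 1 * m := by
    intro m
    by_cases h : m = 0
    · rw [h, mul_zero]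
      apply hzinj
      rw [← hf, hp0, B.zs_zero, one_mul]
    · have := hfh m 1 h
      rw [mul_one] at this
      rw [this, mul_comm]
  -- commutator with `X_a`
  have hxap : ∀ m u, ∃ s k r, (p m)⁻¹ * B.xa u * p m = B.xa u * B.v1 s k r := fun m u => (hpX m).xa u
  choose g1 g2 g3 hg using hxap
  have hgadd : ∀ m u u', g1 m (u + u') = g1 m u + g1 m u' ∧
      g2 m (u + u') = g2 m u + u' * g1 m u + g2 m u' ∧
      g3 m (u + u') = g3 m u + u' ^ 2 * g1 m u + g3 m u' := by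
    intro m u u'
    have h1 := hg m (u + u')
    have e : ∀ s k r, B.v1 s k r * B.xa u' = B.xa u' * B.v1 s (k + u' * s) (r + u' ^ 2 * s) := by
      intro s k r
      rw [B.xa_v1]
      congr 1
      rw [add_assoc, CharTwo.add_self_eq_zero, add_zero, add_assoc, CharTwo.add_self_eq_zero, add_zero]
    have h2 : (p m)⁻¹ * B.xa (u + u') * p m = B.xa (u + u') *
        B.v1 (g1 m u + g1 m u') (g2 m u + u' * g1 m u + g2 m u') (g3 m u + u' ^ 2 * g1 m u + g3 m u') := by
      calc (p m)⁻¹ * B.xa (u + u') * p m = ((p m)⁻¹ * B.xa u * p m) * ((p m)⁻¹ * B.xa u' * p m) := by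
            rw [B.xa_add]; group
        _ = B.xa u * (B.v1 (g1 m u) (g2 m u) (g3 m u) * B.xa u') * B.v1 (g1 m u') (g2 m u') (g3 m u') := by
            rw [hg, hg]; group
        _ = (B.xa u * B.xa u') * (B.v1 (g1 m u) (g2 m u + u' * g1 m u) (g3 m u + u' ^ 2 * g1 m u) *
              B.v1 (g1 m u') (g2 m u') (g3 m u')) := by rw [e]; group
        _ = _ := by rw [B.v1_mul, B.xa_add]
    rw [h1] at h2
    exact B.v1_inj (mul_left_cancel h2)
  have hg00 : ∀ m, g1 m 0 = 0 ∧ g2 m 0 = 0 ∧ g3 m 0 = 0 := by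
    intro m
    have h1 := hg m 0
    rw [B.xa_zero, one_mul] at h1
    have h2 : B.v1 (g1 m 0) (g2 m 0) (g3 m 0) = B.v1 0 0 0 := by
      rw [← h1, B.v1_zero]; group
    exact B.v1_inj h2
  have hg1 : ∀ m u, g1 m u = 0 := by
    intro m u
    by_cases hu : u = 0
    · rw [hu]; exact (hg00 m).1
    · have h1 := (hgadd m u u).2.1
      rw [CharTwo.add_self_eq_zero, (hg00 m).2.1] at h1
      have h2 : u * g1 m u = 0 := by
        have h3 : g2 m u + u * g1 m u + g2 m u = u * g1 m u + (g2 m u + g2 m u) := by ring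
        rw [h3, CharTwo.add_self_eq_zero, add_zero] at h1
        exact h1.symm
      exact (mul_eq_zero.1 h2).resolve_left hu
  have hgh : ∀ m (α : Fˣ) u, g2 m (α * u) = g2 m u ∧ g3 m (α * u) = α * g3 m u := by
    intro m α u
    have h1 := hg m u
    have hc := ((hpX m).comm_h α)
    have h2 : (p m)⁻¹ * B.xa (α * u) * p m = B.xa (α * u) * B.v1 0 (g2 m u) (α * g3 m u) := by
      have e1 : B.xa (α * u) = B.h α α⁻¹ * B.xa u * (B.h α α⁻¹)⁻¹ := by rw [B.h_xa]; group
      have e2 : B.v1 0 (g2 m u) (α * g3 m u) = B.h α α⁻¹ * B.v1 0 (g2 m u) (g3 m u) * (B.h α α⁻¹)⁻¹ := by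
        rw [B.h_v1, mul_inv_cancel_right]
        congr 1
        · rw [mul_zero]
        · rw [Units.mul_inv, one_mul]
        · rw [Units.val_inv_eq_inv_val]; field_simp
      rw [e2, e1]
      set h := B.h α α⁻¹
      have h3 : (p m)⁻¹ * h = h * (p m)⁻¹ := hc.inv_left.eq
      have h4 : h⁻¹ * p m = p m * h⁻¹ := hc.symm.inv_left.eq
      calc (p m)⁻¹ * (h * B.xa u * h⁻¹) * p m = ((p m)⁻¹ * h) * B.xa u * (h⁻¹ * p m) := by group
        _ = h * ((p m)⁻¹ * B.xa u * p m) * h⁻¹ := by rw [h3, h4]; group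
        _ = h * (B.xa u * B.v1 0 (g2 m u) (g3 m u)) * h⁻¹ := by rw [h1, hg1]
        _ = _ := by group
    rw [hg] at h2
    have h3 := B.v1_inj (mul_left_cancel h2)
    exact ⟨h3.2.1, h3.2.2⟩
  have hg2 : ∀ m u, g2 m u = 0 := by
    intro m u
    refine FieldAux.const_zero hF (f := g2 m) ?_ ?_ u
    · intro x y
      have := (hgadd m x y).2.1
      rw [hg1, mul_zero, add_zero] at this
      exact this
    · intro x y hx hy
      have h1 := (hgh m (Units.mk0 x hx) 1).1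
      have h2 := (hgh m (Units.mk0 y hy) 1).1
      rw [Units.val_mk0, mul_one] at h1 h2
      rw [h1, h2]
  have hg3 : ∀ m u, g3 m u = u * g3 m 1 := by
    intro m u
    by_cases hu : u = 0
    · rw [hu, (hg00 m).2.2, zero_mul]
    · have := (hgh m (Units.mk0 u hu) 1).2
      rw [Units.val_mk0, mul_one] at this
      exact this
  have hg3h : ∀ k m, k ≠ 0 → g3 (k * m) 1 = k * g3 m 1 := by
    intro k m hk
    set H := B.h 1 (Units.mk0 k hk) with hH
    have e : p (k * m) = H * p m * H⁻¹ := by rw [hph, Units.val_mk0]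
    have e1 : B.xa 1 = H * B.xa 1 * H⁻¹ := by rw [hH, B.h_xa]; simp
    have e2 : H * B.v1 0 0 (g3 m 1) * H⁻¹ = B.v1 0 0 (k * g3 m 1) := by
      rw [h1_v1, Units.val_mk0, mul_zero]
    have h1 := hg m 1
    rw [hg1, hg2] at h1
    have h2 : (p (k * m))⁻¹ * B.xa 1 * p (k * m) = B.xa 1 * B.v1 0 0 (k * g3 m 1) := by
      rw [e, ← e2]
      calc (H * p m * H⁻¹)⁻¹ * B.xa 1 * (H * p m * H⁻¹)
          = (H * p m * H⁻¹)⁻¹ * (H * B.xa 1 * H⁻¹) * (H * p m * H⁻¹) := by rw [← e1]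
        _ = H * ((p m)⁻¹ * B.xa 1 * p m) * H⁻¹ := by group
        _ = (H * B.xa 1 * H⁻¹) * (H * B.v1 0 0 (g3 m 1) * H⁻¹) := by rw [h1]; group
        _ = _ := by rw [← e1]
    rw [hg] at h2
    exact (B.v1_inj (mul_left_cancel h2)).2.2
  have hg30 : g3 0 1 = 0 := by
    have h1 := hg 0 1
    rw [hp0, inv_one, one_mul, mul_one] at h1
    have h2 : B.v1 (g1 0 1) (g2 0 1) (g3 0 1) = B.v1 0 0 0 := by
      rw [B.v1_zero]; exact (left_eq_mul.1 h1)
    exact (B.v1_inj h2).2.2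
  have hg3' : ∀ m u, g3 m u = g3 1 1 * u * m := by
    intro m u
    rw [hg3]
    by_cases h : m = 0
    · rw [h, hg30, mul_zero, mul_zero]
    · have := hg3h m 1 h
      rw [mul_one] at this
      rw [this]; ring
  refine ⟨{ p := p, e := g3 1 1, c := f 1, p_zero := hp0, t_p := htp, p_xb := ?_, p_zs := ?_, p_zl := ?_,
            p_p := hpp, p_add := hpadd, p_sq := ?_, xa_p := ?_, h_p := ?_ }⟩
  · intro m s; rw [← v1_xb]; exact (hpX m).cent _ _ _
  · intro m s; rw [← v1_zs]; exact (hpX m).cent _ _ _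
  · intro m s; rw [← v1_zl]; exact (hpX m).cent _ _ _
  · intro m; rw [hf, hf1]
  · intro u m
    have h1 := hg m u
    rw [hg1, hg2, hg3', v1_zl] at h1
    calc B.xa u * p m = p m * ((p m)⁻¹ * B.xa u * p m) := by group
      _ = _ := by rw [h1]; group
  · intro α β m
    have e : B.h α β = B.h 1 (α * β) * B.h α α⁻¹ := by
      rw [← B.h_mul, one_mul, mul_comm α β, mul_inv_cancel_right]
    have h1 := ((hpX m).comm_h α).eq
    have h2 := hph (α * β) m
    rw [Units.val_mul] at h2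
    rw [← h2, e]
    calc B.h 1 (α * β) * B.h α α⁻¹ * p m = B.h 1 (α * β) * (B.h α α⁻¹ * p m) := by group
      _ = _ := by rw [← h1]; group

end Base
end Cfsg.Agent.StdSpFour
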