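import Cfsg.Agent.StdSpFour.EnvSwap
import Cfsg.Agent.StdSpFour.ShortMake

/-!
`Env B A` gives `PFacts B (P1 B) (P1 (swap B)) A`, hence the short layer when `t ~ t z_s` and the long layer when
`t ~ t z_l`.
-/
set_option autoImplicit false
set_option linter.unusedSectionVars false

open Subgroup Pointwise
open scoped commutatorElement

namespace Cfsg.Agent.StdSpFour

open Swap Env EnvSwap

namespace EnvFacts

variable {F G : Type*} [Field F] [CharP F 2] [Finite F] [Group G] {B : Base F G} {A : Subgroup G}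

theorem isU_of_mul_left {x y : G} (hx : IsU B x) (h : IsU B (x * y)) : IsU B y := by
  have h1 := hx.inv.mul h
  rwa [inv_mul_cancel_left] at h1

theorem isU_of_mul_right {x y : G} (hy : IsU B y) (h : IsU B (x * y)) : IsU B x := by
  have h1 := h.mul hy.inv
  rwa [mul_inv_cancel_right] at h1

theorem IsU.zs (w : F) : IsU B (B.zs w) := by rw [← Base.v1_zs]; exact IsU.v1 _ _ _
theorem IsU.zl (w : F) : IsU B (B.zl w) := by rw [← Base.v1_zl]; exact IsU.v1 _ _ _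
theorem IsU.xb (w : F) : IsU B (B.xb w) := by rw [← Base.v1_xb]; exact IsU.v1 _ _ _

theorem zz_v1 (w w' : F) : B.zs w * B.zl w' = B.v1 0 w w' := by
  rw [Base.v1, B.xb_zero, one_mul]

variable (hE : Env B A)
include hE

theorem not_isU_xmb {u : F} (hu : u ≠ 0) : ¬ IsU B (B.nb * B.xb u * B.nb⁻¹) := by
  intro h
  exact (env_swap hE).not_isU_xma hu (isU_swap.2 h)

/-- Central elements under a Bruhat word. -/
theorem word_eq {g u u' n : G} {α β : Fˣ} (hu : IsU B u) (hu' : IsU B u') (hg : g = u * B.h α β * n * u') {w w' : F}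
    (hc : Commute g (B.zs w * B.zl w')) :
    n * (B.zs w * B.zl w') * n⁻¹ =
      B.zs ((((α * β)⁻¹ : Fˣ) : F) * w) * B.zl ((((α ^ 2 * β)⁻¹ : Fˣ) : F) * w') := by
  have h1 : (B.h α β)⁻¹ * (B.zs w * B.zl w') * B.h α β =
      B.zs ((((α * β)⁻¹ : Fˣ) : F) * w) * B.zl ((((α ^ 2 * β)⁻¹ : Fˣ) : F) * w') := by
    rw [zz_v1, B.h_inv, B.h_v1, mul_assoc, ← B.h_mul, inv_mul_cancel, inv_mul_cancel, B.h_one, mul_one, mul_zero,
      zz_v1]
    congr 1
    · push_cast; rw [← mul_inv]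
    · push_cast; rw [inv_pow, ← mul_inv]
  have hu1 : Commute u (B.zs w * B.zl w') := by rw [zz_v1]; exact hu.comm_z w w'
  have hu2 : Commute u' (B.zs w * B.zl w') := by rw [zz_v1]; exact hu'.comm_z w w'
  rw [← h1]
  have h2 : u' * (B.zs w * B.zl w') * u'⁻¹ = B.zs w * B.zl w' := by rw [hu2.eq]; group
  have h3 : u⁻¹ * (B.zs w * B.zl w') * u = B.zs w * B.zl w' := by rw [mul_assoc, ← hu1.eq]; group
  have h4 : g * (B.zs w * B.zl w') * g⁻¹ = B.zs w * B.zl w' := by rw [hc.eq]; group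
  calc n * (B.zs w * B.zl w') * n⁻¹
      = (B.h α β)⁻¹ * (u⁻¹ * (u * B.h α β * n * u' * (u'⁻¹ * (B.zs w * B.zl w') * u') *
        (u * B.h α β * n * u')⁻¹) * u) * B.h α β := by group
    _ = (B.h α β)⁻¹ * (u⁻¹ * (g * (B.zs w * B.zl w') * g⁻¹) * u) * B.h α β := by
        rw [← hg, mul_assoc u'⁻¹, ← hu2.eq, inv_mul_cancel_left]
    _ = _ := by rw [h4, h3]

/-- `C_A(z_s(w)) ≤ P₁` -/
theorem cent_zs {g : G} (hg : g ∈ A) {w : F} (hw : w ≠ 0) (hc : Commute g (B.zs w)) : g ∈ P1 B := by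
  obtain ⟨u, hu, α, β, n, hn, u', hu', h⟩ := hE.bruhat g hg
  have hc' : Commute g (B.zs w * B.zl 0) := by rw [B.zl_zero, mul_one]; exact hc
  have h1 := word_eq hE hu hu' h hc'
  rw [mul_zero, B.zl_zero, mul_one, mul_one] at h1
  set w1 : F := (((α * β)⁻¹ : Fˣ) : F) * w with hw1
  have hnb : B.nb * B.zs w * B.nb⁻¹ = B.xa w := by rw [B.nb_zs]; group
  have hna : B.na * B.zs w * B.na⁻¹ = B.zs w := by rw [B.na_zs]; group
  have hxz : ∀ {v : F}, B.xa w = B.zs v → False := by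
    intro v h2
    have h3 : B.xa w * B.v1 0 0 0 = B.xa 0 * B.v1 0 v 0 := by
      rw [B.v1_zero, mul_one, B.xa_zero, one_mul, Base.v1_zs, h2]
    exact hw (nf_inj h3).1
  have hxm : ∀ {v : F}, B.na * B.xa w * B.na⁻¹ = B.zs v → False := by
    intro v h2
    exact hE.not_isU_xma hw (by rw [h2]; exact IsU.zs v)
  have key : w = w1 → B.h α β ∈ P1 B := by
    intro h2
    have h3 : (((α * β)⁻¹ : Fˣ) : F) = 1 := mul_right_cancel₀ hw (by rw [one_mul]; exact h2.symm)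
    have h4 : (α * β)⁻¹ = 1 := Units.ext (by rw [h3, Units.val_one])
    have h5 : β = α⁻¹ := by
      rw [inv_eq_one] at h4
      exact eq_inv_of_mul_eq_one_right h4
    rw [h5]
    exact L1_le (hE.tor α)
  have hwv : B.zs w = B.zs w1 → w = w1 := by
    intro h2
    rw [← Base.v1_zs, ← Base.v1_zs] at h2
    exact (B.v1_inj h2).2.1
  rcases hn with rfl | rfl | rfl | rfl | rfl | rfl | rfl | rfl
  · rw [one_mul, inv_one, mul_one] at h1
    rw [h]
    exact mul_mem (mul_mem (mul_mem (isU_P1 hu) (key (hwv h1))) (one_mem _)) (isU_P1 hu')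
  · rw [hna] at h1
    rw [h]
    exact mul_mem (mul_mem (mul_mem (isU_P1 hu) (key (hwv h1))) na_P1) (isU_P1 hu')
  · rw [hnb] at h1
    exact (hxz h1).elim
  · rw [show B.na * B.nb * B.zs w * (B.na * B.nb)⁻¹ = B.na * (B.nb * B.zs w * B.nb⁻¹) * B.na⁻¹ by group, hnb] at h1
    exact (hxm h1).elim
  · rw [show B.nb * B.na * B.zs w * (B.nb * B.na)⁻¹ = B.nb * (B.na * B.zs w * B.na⁻¹) * B.nb⁻¹ by group, hna,
      hnb] at h1
    exact (hxz h1).elim
  · rw [show B.na * B.nb * B.na * B.zs w * (B.na * B.nb * B.na)⁻¹ =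
      B.na * (B.nb * (B.na * B.zs w * B.na⁻¹) * B.nb⁻¹) * B.na⁻¹ by group, hna, hnb] at h1
    exact (hxm h1).elim
  · rw [show B.nb * B.na * B.nb * B.zs w * (B.nb * B.na * B.nb)⁻¹ =
      B.nb * (B.na * (B.nb * B.zs w * B.nb⁻¹) * B.na⁻¹) * B.nb⁻¹ by group, hnb] at h1
    exfalso
    apply hE.not_isU_xma hw
    have h2 : B.na * B.xa w * B.na⁻¹ = B.xa w1 := by
      calc B.na * B.xa w * B.na⁻¹ = B.nb⁻¹ * (B.nb * (B.na * B.xa w * B.na⁻¹) * B.nb⁻¹) * B.nb := by group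
        _ = B.nb⁻¹ * B.zs w1 * B.nb := by rw [h1]
        _ = B.nb * B.zs w1 * B.nb⁻¹ := by rw [hE.nb_inv]
        _ = B.xa w1 := by rw [B.nb_zs]; group
    rw [h2]; exact IsU.xa _
  · rw [show B.na * B.nb * B.na * B.nb * B.zs w * (B.na * B.nb * B.na * B.nb)⁻¹ =
      B.na * (B.nb * (B.na * (B.nb * B.zs w * B.nb⁻¹) * B.na⁻¹) * B.nb⁻¹) * B.na⁻¹ by group, hnb] at h1
    exfalso
    apply hE.not_isU_xma hw
    have h2 : B.na * B.xa w * B.na⁻¹ = B.xa w1 := by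
      calc B.na * B.xa w * B.na⁻¹ = B.nb⁻¹ * (B.na⁻¹ * (B.na * (B.nb * (B.na * B.xa w * B.na⁻¹) * B.nb⁻¹) * B.na⁻¹)
            * B.na) * B.nb := by group
        _ = B.nb⁻¹ * (B.na⁻¹ * B.zs w1 * B.na) * B.nb := by rw [h1]
        _ = B.nb * (B.na * B.zs w1 * B.na⁻¹) * B.nb⁻¹ := by rw [hE.nb_inv, hE.na_inv]
        _ = B.nb * B.zs w1 * B.nb⁻¹ := by rw [B.na_zs]; group
        _ = B.xa w1 := by rw [B.nb_zs]; group
    rw [h2]; exact IsU.xa _

/-- `C_A(z_s(w) z_l(w')) ≤ U` for `w, w' ≠ 0` -/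
theorem cent_mixed (hF : 4 ≤ Nat.card F) {g : G} (hg : g ∈ A) {w w' : F} (hw : w ≠ 0) (hw' : w' ≠ 0)
    (hc : Commute g (B.zs w * B.zl w')) : IsU B g := by
  obtain ⟨u, hu, α, β, n, hn, u', hu', h⟩ := hE.bruhat g hg
  have h1 := word_eq hE hu hu' h hc
  set w1 : F := (((α * β)⁻¹ : Fˣ) : F) * w with hw1
  set w2 : F := (((α ^ 2 * β)⁻¹ : Fˣ) : F) * w' with hw2
  have hw20 : w2 ≠ 0 := mul_ne_zero (Units.ne_zero _) hw'
  have cs : ∀ x : F, B.nb * B.zs x * B.nb⁻¹ = B.xa x := fun x => by rw [B.nb_zs]; group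
  have cl : ∀ x : F, B.nb * B.zl x * B.nb⁻¹ = B.zl x := fun x => by rw [B.nb_zl]; group
  have as : ∀ x : F, B.na * B.zs x * B.na⁻¹ = B.zs x := fun x => by rw [B.na_zs]; group
  have al : ∀ x : F, B.na * B.zl x * B.na⁻¹ = B.xb x := fun x => by rw [B.na_zl]; group
  have ab : ∀ x : F, B.na * B.xb x * B.na⁻¹ = B.zl x := fun x => by rw [B.na_xb]; group
  have cm : ∀ n x y : G, n * (x * y) * n⁻¹ = (n * x * n⁻¹) * (n * y * n⁻¹) := fun n x y => by group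
  have cjj : ∀ n n' x : G, (n * n') * x * (n * n')⁻¹ = n * (n' * x * n'⁻¹) * n⁻¹ := fun n n' x => by group
  have a1 : B.na * (B.zs w * B.zl w') * B.na⁻¹ = B.zs w * B.xb w' := by rw [cm, as, al]
  have b1 : B.nb * (B.zs w * B.zl w') * B.nb⁻¹ = B.xa w * B.zl w' := by rw [cm, cs, cl]
  have ba : B.nb * (B.zs w * B.xb w') * B.nb⁻¹ = B.xa w * (B.nb * B.xb w' * B.nb⁻¹) := by rw [cm, cs]
  have ab' : B.na * (B.xa w * B.zl w') * B.na⁻¹ = B.na * B.xa w * B.na⁻¹ * B.xb w' := by rw [cm, al]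
  have hUz : IsU B (B.zs w1 * B.zl w2) := (IsU.zs _).mul (IsU.zl _)
  -- the inverse actions
  have backa : ∀ {x : G}, B.na * x * B.na⁻¹ = B.zs w1 * B.zl w2 → x = B.zs w1 * B.xb w2 := by
    intro x h2
    calc x = B.na⁻¹ * (B.na * x * B.na⁻¹) * B.na := by group
      _ = B.na * (B.zs w1 * B.zl w2) * B.na⁻¹ := by rw [h2, hE.na_inv]
      _ = _ := by rw [cm, as, al]
  have backb : ∀ {x : G}, B.nb * x * B.nb⁻¹ = B.zs w1 * B.zl w2 → x = B.xa w1 * B.zl w2 := by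
    intro x h2
    calc x = B.nb⁻¹ * (B.nb * x * B.nb⁻¹) * B.nb := by group
      _ = B.nb * (B.zs w1 * B.zl w2) * B.nb⁻¹ := by rw [h2, hE.nb_inv]
      _ = _ := by rw [cm, cs, cl]
  rcases hn with rfl | rfl | rfl | rfl | rfl | rfl | rfl | rfl
  · rw [one_mul, inv_one, mul_one, zz_v1, zz_v1] at h1
    obtain ⟨-, h2, h3⟩ := B.v1_inj h1
    have h4 : (α * β)⁻¹ = 1 := Units.ext (mul_right_cancel₀ hw (by rw [← hw1, Units.val_one, one_mul, h2]))
    have h5 : (α ^ 2 * β)⁻¹ = 1 := Units.ext (mul_right_cancel₀ hw' (by rw [← hw2, Units.val_one, one_mul, h3]))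
    rw [inv_eq_one] at h4 h5
    have h6 : α = 1 := by
      have : α * (α * β) = 1 := by rw [← h5, sq, mul_assoc]
      rwa [h4, mul_one] at this
    have h7 : β = 1 := by rwa [h6, one_mul] at h4
    rw [h, h6, h7, B.h_one, mul_one, mul_one]
    exact hu.mul hu'
  · exfalso
    rw [cm, as, al, zz_v1] at h1
    have h2 : B.v1 w' w 0 = B.v1 0 w1 w2 := by rw [← h1, Base.v1, B.zl_zero, mul_one, (B.xb_zs w' w).eq]
    exact hw' (B.v1_inj h2).1
  · exfalso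
    rw [cm, cs, cl, zz_v1] at h1
    have h2 : B.xa w * B.v1 0 0 w' = B.xa 0 * B.v1 0 w1 w2 := by rw [Base.v1_zl, h1, B.xa_zero, one_mul]
    exact hw (nf_inj h2).1
  · exfalso
    rw [cjj, b1, ab'] at h1
    apply hE.not_isU_xma hw
    apply isU_of_mul_right (IsU.xb w')
    rw [h1]; exact hUz
  · exfalso
    rw [cjj, a1, ba] at h1
    apply not_isU_xmb hE hw'
    apply isU_of_mul_left (IsU.xa w)
    rw [h1]; exact hUz
  · exfalso
    rw [cjj, cjj, a1, ba] at h1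
    have h2 := backa h1
    apply not_isU_xmb hE hw'
    apply isU_of_mul_left (IsU.xa w)
    rw [h2]; exact (IsU.zs _).mul (IsU.xb _)
  · exfalso
    rw [cjj, cjj, b1, ab'] at h1
    have h2 := backb h1
    apply hE.not_isU_xma hw
    apply isU_of_mul_right (IsU.xb w')
    rw [h2]; exact (IsU.xa _).mul (IsU.zl _)
  · exfalso
    rw [cjj, cjj, cjj, b1, ab'] at h1
    have h2 := backa h1
    -- `(na xa w na⁻¹) xb w' = xa w1 (nb⁻¹ xb w2 nb)`
    have h3 : B.na * B.xa w * B.na⁻¹ * B.xb w' = B.xa w1 * (B.nb * B.xb w2 * B.nb⁻¹) := by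
      calc B.na * B.xa w * B.na⁻¹ * B.xb w'
          = B.nb⁻¹ * (B.nb * (B.na * B.xa w * B.na⁻¹ * B.xb w') * B.nb⁻¹) * B.nb := by group
        _ = B.nb * (B.zs w1 * B.xb w2) * B.nb⁻¹ := by rw [h2, hE.nb_inv]
        _ = _ := by rw [cm, cs]
    have := Fintype.ofFinite F
    rw [Nat.card_eq_fintype_card] at hF
    obtain ⟨γ, hγ⟩ := Base.exists_unit_ne hF
    -- conjugate by `h(1,γ)`
    have c1 : B.h 1 γ * (B.na * B.xa w * B.na⁻¹) * (B.h 1 γ)⁻¹ = B.na * B.xa w * B.na⁻¹ := by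
      rw [hE.conj_xma, inv_one, Units.val_one, one_mul]
    have c2 : B.h 1 γ * B.xb w' * (B.h 1 γ)⁻¹ = B.xb (γ * w') := by rw [B.h_xb]; group
    have c3 : B.h 1 γ * B.xa w1 * (B.h 1 γ)⁻¹ = B.xa w1 := by rw [B.h_xa, Units.val_one, one_mul]; group
    have c4 : B.h 1 γ * (B.nb * B.xb w2 * B.nb⁻¹) * (B.h 1 γ)⁻¹ =
        B.nb * B.xb (((γ⁻¹ : Fˣ) : F) * w2) * B.nb⁻¹ := by
      have h4 := (env_swap hE).conj_xma γ 1 w2
      change B.h (rtU 1) γ * (B.nb * B.xb w2 * B.nb⁻¹) * (B.h (rtU 1) γ)⁻¹ =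
        B.nb * B.xb (((γ⁻¹ : Fˣ) : F) * w2) * B.nb⁻¹ at h4
      rwa [map_one] at h4
    have h5 : B.na * B.xa w * B.na⁻¹ * B.xb (γ * w') =
        B.xa w1 * (B.nb * B.xb (((γ⁻¹ : Fˣ) : F) * w2) * B.nb⁻¹) := by
      have h6 : B.h 1 γ * (B.na * B.xa w * B.na⁻¹ * B.xb w') * (B.h 1 γ)⁻¹ =
        B.h 1 γ * (B.xa w1 * (B.nb * B.xb w2 * B.nb⁻¹)) * (B.h 1 γ)⁻¹ := by rw [h3]
      rwa [cm _ (B.na * B.xa w * B.na⁻¹) (B.xb w'), cm _ (B.xa w1) (B.nb * B.xb w2 * B.nb⁻¹), c1, c2, c3, c4] at h6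
    apply not_isU_xmb hE (u := w2 + ((γ⁻¹ : Fˣ) : F) * w2)
    · intro h6
      have h7 : w2 = ((γ⁻¹ : Fˣ) : F) * w2 := FieldAux.eq_of_add_eq_zero h6
      have h8 : γ⁻¹ = 1 := Units.ext (mul_right_cancel₀ hw20 (by rw [Units.val_one, one_mul, ← h7]))
      exact hγ (inv_eq_one.1 h8)
    · have h9 : B.nb * B.xb (w2 + ((γ⁻¹ : Fˣ) : F) * w2) * B.nb⁻¹ = B.xb w' * B.xb (γ * w') := by
        have h10 : (B.na * B.xa w * B.na⁻¹ * B.xb w')⁻¹ * (B.na * B.xa w * B.na⁻¹ * B.xb (γ * w')) =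
          (B.xa w1 * (B.nb * B.xb w2 * B.nb⁻¹))⁻¹ *
            (B.xa w1 * (B.nb * B.xb (((γ⁻¹ : Fˣ) : F) * w2) * B.nb⁻¹)) := by rw [h3, h5]
        have h11 : (B.na * B.xa w * B.na⁻¹ * B.xb w')⁻¹ * (B.na * B.xa w * B.na⁻¹ * B.xb (γ * w')) =
          B.xb w' * B.xb (γ * w') := by
            rw [mul_inv_rev, B.xb_inv]; group
        have h12 : (B.xa w1 * (B.nb * B.xb w2 * B.nb⁻¹))⁻¹ *
            (B.xa w1 * (B.nb * B.xb (((γ⁻¹ : Fˣ) : F) * w2) * B.nb⁻¹)) =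
            B.nb * B.xb (w2 + ((γ⁻¹ : Fˣ) : F) * w2) * B.nb⁻¹ := by
            rw [B.xb_add, mul_inv_rev, mul_inv_rev, mul_inv_rev, B.xb_inv]; group
        rw [← h11, h10, h12]
      rw [h9]
      exact (IsU.xb _).mul (IsU.xb _)

omit hE in
/-- commutators of elements of `U` lie in `Z` -/
theorem comm_isU {x y : G} (hx : IsU B x) (hy : IsU B y) : ∃ m r, ⁅x, y⁆ = B.v1 0 m r := by
  obtain ⟨u, s, m, r, rfl⟩ := hx
  obtain ⟨u', s', m', r', rfl⟩ := hy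
  have h1 : B.xa u * B.v1 s m r * (B.xa u' * B.v1 s' m' r') =
      B.xa (u + u') * B.v1 (s + s') (m + u' * s + m') (r + u' ^ 2 * s + r') := by
    rw [B.xa_add, ← B.v1_mul]
    calc B.xa u * B.v1 s m r * (B.xa u' * B.v1 s' m' r')
        = B.xa u * (B.v1 s m r * B.xa u') * B.v1 s' m' r' := by group
      _ = _ := by rw [v1_xa]; group
  have h2 : B.xa u' * B.v1 s' m' r' * (B.xa u * B.v1 s m r) =
      B.xa (u + u') * B.v1 (s + s') (m' + u * s' + m) (r' + u ^ 2 * s' + r) := by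
    rw [add_comm u u', add_comm s s', B.xa_add, ← B.v1_mul]
    calc B.xa u' * B.v1 s' m' r' * (B.xa u * B.v1 s m r)
        = B.xa u' * (B.v1 s' m' r' * B.xa u) * B.v1 s m r := by group
      _ = _ := by rw [v1_xa]; group
  refine ⟨(m' + u * s' + m) + (m + u' * s + m'), (r' + u ^ 2 * s' + r) + (r + u' ^ 2 * s + r'), ?_⟩
  set M1 := m + u' * s + m'
  set M2 := m' + u * s' + m
  set R1 := r + u' ^ 2 * s + r'
  set R2 := r' + u ^ 2 * s' + r
  have h3 : B.xa u * B.v1 s m r * (B.xa u' * B.v1 s' m' r') =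
      B.xa u' * B.v1 s' m' r' * (B.xa u * B.v1 s m r) * B.v1 0 (M2 + M1) (R2 + R1) := by
    rw [h1, h2, mul_assoc, B.v1_mul, add_zero, ← add_assoc, CharTwo.add_self_eq_zero, zero_add, ← add_assoc,
      CharTwo.add_self_eq_zero, zero_add]
  have h4 : Commute (B.xa u * B.v1 s m r) (B.v1 0 (M2 + M1) (R2 + R1)) := IsU.comm_z ⟨u, s, m, r, rfl⟩ _ _
  have h5 : Commute (B.xa u' * B.v1 s' m' r') (B.v1 0 (M2 + M1) (R2 + R1)) := IsU.comm_z ⟨u', s', m', r', rfl⟩ _ _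
  rw [commutatorElement_def, h3]
  have h6 : Commute (B.v1 0 (M2 + M1) (R2 + R1)) (B.xa u * B.v1 s m r)⁻¹ := h4.symm.inv_right
  have h7 : Commute (B.v1 0 (M2 + M1) (R2 + R1)) (B.xa u' * B.v1 s' m' r')⁻¹ := h5.symm.inv_right
  rw [mul_assoc _ (B.v1 0 (M2 + M1) (R2 + R1)), h6.eq, mul_assoc, mul_assoc _ (B.v1 0 (M2 + M1) (R2 + R1)), h7.eq]
  group

omit hE in
/-- a perfect subgroup of `U` is trivial -/
theorem perf_isU {Q : Subgroup G} (hQ : ⁅Q, Q⁆ = Q) (hU : ∀ x ∈ Q, IsU B x) : Q = ⊥ := by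
  let Z : Subgroup G :=
    { carrier := {x | ∃ m r, x = B.v1 0 m r}
      mul_mem' := by
        rintro _ _ ⟨m, r, rfl⟩ ⟨m', r', rfl⟩
        exact ⟨m + m', r + r', by rw [B.v1_mul, add_zero]⟩
      one_mem' := ⟨0, 0, by rw [B.v1_zero]⟩
      inv_mem' := by
        rintro _ ⟨m, r, rfl⟩
        exact ⟨m, r, B.v1_inv _ _ _⟩ }
  have h1 : Q ≤ Z := by
    rw [← hQ, commutator_le]
    intro x hx y hy
    exact comm_isU (hU x hx) (hU y hy)
  have h2 : Q ≤ ⊥ := by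
    rw [← hQ, commutator_le]
    intro x hx y hy
    obtain ⟨m, r, rfl⟩ := h1 hx
    obtain ⟨m', r', rfl⟩ := h1 hy
    rw [mem_bot, commutatorElement_eq_one_iff_commute]
    exact B.v1_comm _ _ _ _ _ _
  exact le_bot_iff.1 h2

theorem inv_v1 (s m r : F) (h : B.v1 s m r ≠ 1) :
    ∃ a ∈ A, ∃ w w', (w ≠ 0 ∨ w' ≠ 0) ∧ a⁻¹ * B.v1 s m r * a = B.zs w * B.zl w' := by
  by_cases hs : s = 0
  · refine ⟨1, one_mem _, m, r, ?_, ?_⟩
    · by_contra h1
      push Not at h1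
      apply h
      rw [hs, h1.1, h1.2, B.v1_zero]
    · rw [hs, zz_v1]; group
  · obtain ⟨v, hv⟩ := FieldAux.exists_sq (r * s⁻¹)
    have h1 : v ^ 2 * s = r := by rw [hv, inv_mul_cancel_right₀ hs]
    refine ⟨(B.na * B.xa v)⁻¹, inv_mem (mul_mem hE.na_mem (hE.xa_mem v)), m + v * s, s, Or.inr hs, ?_⟩
    have h2 : B.xa v * B.v1 s m r * (B.xa v)⁻¹ = B.v1 s (m + v * s) 0 := by
      rw [B.xa_v1, h1, CharTwo.add_self_eq_zero]; group
    have h3 : B.na * B.v1 s (m + v * s) 0 * B.na⁻¹ = B.v1 0 (m + v * s) s := by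
      rw [B.na_v1]; group
    rw [zz_v1, ← h3, ← h2]
    group

theorem inv_fact (x : G) (hx : x ∈ A) (hxx : x * x = 1) (hx1 : x ≠ 1) :
    ∃ a ∈ A, ∃ w w', (w ≠ 0 ∨ w' ≠ 0) ∧ a⁻¹ * x * a = B.zs w * B.zl w' := by
  obtain ⟨a, ha, u, s, m, r, h⟩ := hE.conjU x hx hxx
  have hne : B.xa u * B.v1 s m r ≠ 1 := by
    rw [← h]
    intro h1
    apply hx1
    calc x = a * (a⁻¹ * x * a) * a⁻¹ := by group
      _ = 1 := by rw [h1]; group
  have hsq : B.xa u * B.v1 s m r * (B.xa u * B.v1 s m r) = 1 := by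
    rw [← h]
    calc a⁻¹ * x * a * (a⁻¹ * x * a) = a⁻¹ * (x * x) * a := by group
      _ = 1 := by rw [hxx]; group
  have hsq' : B.xa u * B.v1 s m r * (B.xa u * B.v1 s m r) = B.xa 0 * B.v1 0 (u * s) (u ^ 2 * s) := by
    calc B.xa u * B.v1 s m r * (B.xa u * B.v1 s m r) = B.xa u * (B.v1 s m r * B.xa u) * B.v1 s m r := by group
      _ = (B.xa u * B.xa u) * (B.v1 s (m + u * s) (r + u ^ 2 * s) * B.v1 s m r) := by rw [v1_xa]; group
      _ = _ := by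
        rw [B.xa_xa, B.v1_mul, B.xa_zero]
        congr 2
        · exact CharTwo.add_self_eq_zero s
        · rw [add_comm m, add_assoc, CharTwo.add_self_eq_zero, add_zero]
        · rw [add_comm r, add_assoc, CharTwo.add_self_eq_zero, add_zero]
  have hus : u * s = 0 := by
    rw [hsq', B.xa_zero, one_mul, ← B.v1_zero] at hsq
    exact (B.v1_inj hsq).2.1
  have fin : ∀ y : G, y = a⁻¹ * x * a → (∃ a' ∈ A, ∃ w w', (w ≠ 0 ∨ w' ≠ 0) ∧ a'⁻¹ * y * a' = B.zs w * B.zl w') →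
      ∃ a ∈ A, ∃ w w', (w ≠ 0 ∨ w' ≠ 0) ∧ a⁻¹ * x * a = B.zs w * B.zl w' := by
    rintro _ rfl ⟨a', ha', w, w', hww, h1⟩
    exact ⟨a * a', mul_mem ha ha', w, w', hww, by rw [← h1]; group⟩
  rcases mul_eq_zero.1 hus with hu | hs
  · rw [hu, B.xa_zero, one_mul] at h hne
    exact fin _ h.symm (inv_v1 hE s m r hne)
  · rw [hs] at h hne
    -- swap
    have e : B.xa u * B.v1 0 m r = (swap B).v1 (u ^ 2) r (m ^ 2) := by
      show B.xa u * B.v1 0 m r = B.xa (rt (u ^ 2)) * B.zl r * B.zs (rt (m ^ 2))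
      rw [rt_sq, rt_sq, ← zz_v1, (B.zs_zl m r).eq, mul_assoc]
    obtain ⟨a', ha', w, w', hww, h1⟩ := inv_v1 (env_swap hE) (u ^ 2) r (m ^ 2) (by rw [← e]; exact hne)
    refine fin _ h.symm ⟨a', ha', rt w', w, ?_, ?_⟩
    · rcases hww with h2 | h2
      · exact Or.inr h2
      · exact Or.inl (fun h3 => h2 (rt_eq_zero h3))
    · rw [e, h1]
      show B.zl w * B.zs (rt w') = B.zs (rt w') * B.zl w
      exact (B.zs_zl _ _).symm.eq

theorem o2_fact (W : Subgroup G) (hWP : W ≤ P1 B) (hn : ∀ x ∈ P1 B, ∀ y ∈ W, x⁻¹ * y * x ∈ W)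
    (h2 : ∀ y ∈ W, ∃ k : ℕ, y ^ 2 ^ k = 1) : ∀ y ∈ W, ∃ s m r, y = B.v1 s m r := by
  have hn' : ∀ x ∈ P1 B, ∀ y ∈ W, x * y * x⁻¹ ∈ W := by
    intro x hx y hy
    have := hn x⁻¹ (inv_mem hx) y hy
    rwa [inv_inv] at this
  let Q : Subgroup G :=
    { carrier := {x | ∃ y ∈ W, ∃ u, IsU B u ∧ x = y * u}
      mul_mem' := by
        rintro _ _ ⟨y, hy, u, hu, rfl⟩ ⟨y', hy', u', hu', rfl⟩
        refine ⟨y * (u * y' * u⁻¹), mul_mem hy (hn' u (isU_P1 hu) y' hy'), u * u', hu.mul hu', ?_⟩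
        group
      one_mem' := ⟨1, one_mem _, 1, IsU.one, by group⟩
      inv_mem' := by
        rintro _ ⟨y, hy, u, hu, rfl⟩
        refine ⟨u⁻¹ * y⁻¹ * u, hn u (isU_P1 hu) _ (inv_mem hy), u⁻¹, hu.inv, ?_⟩
        group }
  have hU4 : ∀ u, IsU B u → u * u * (u * u) = 1 := by
    rintro _ ⟨u, s, m, r, rfl⟩
    have h3 : B.xa u * B.v1 s m r * (B.xa u * B.v1 s m r) = B.v1 0 (u * s) (u ^ 2 * s) := by
      calc B.xa u * B.v1 s m r * (B.xa u * B.v1 s m r) = B.xa u * (B.v1 s m r * B.xa u) * B.v1 s m r := by group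
        _ = (B.xa u * B.xa u) * (B.v1 s (m + u * s) (r + u ^ 2 * s) * B.v1 s m r) := by rw [v1_xa]; group
        _ = _ := by
          rw [B.xa_xa, B.v1_mul, one_mul]
          congr 1
          · exact CharTwo.add_self_eq_zero s
          · rw [add_comm m, add_assoc, CharTwo.add_self_eq_zero, add_zero]
          · rw [add_comm r, add_assoc, CharTwo.add_self_eq_zero, add_zero]
    rw [h3, B.v1_v1]
  have hQ2 : ∀ x ∈ Q, ∃ k : ℕ, x ^ 2 ^ k = 1 := by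
    rintro _ ⟨y, hy, u, hu, rfl⟩
    have h3 : ∃ y' ∈ W, (y * u) ^ 4 = y' := by
      refine ⟨y * (u * y * u⁻¹) * ((u * u) * (y * (u * y * u⁻¹)) * (u * u)⁻¹), ?_, ?_⟩
      · have h4 : y * (u * y * u⁻¹) ∈ W := mul_mem hy (hn' u (isU_P1 hu) y hy)
        exact mul_mem h4 (hn' _ (isU_P1 (hu.mul hu)) _ h4)
      · have h5 := hU4 u hu
        calc (y * u) ^ 4 = y * (u * y * u⁻¹) * ((u * u) * (y * (u * y * u⁻¹)) * (u * u)⁻¹) * (u * u * (u * u)) := by
              rw [pow_succ, pow_succ, pow_succ, pow_one]; group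
          _ = _ := by rw [h5, mul_one]
    obtain ⟨y', hy', h4⟩ := h3
    obtain ⟨k, hk⟩ := h2 y' hy'
    refine ⟨2 + k, ?_⟩
    rw [pow_add, pow_mul, show (2 : ℕ) ^ 2 = 4 by norm_num, h4, hk]
  have hQA : Q ≤ A := by
    rintro _ ⟨y, hy, u, hu, rfl⟩
    exact mul_mem (hE.P1_le (hWP hy)) (hE.isU_mem hu)
  have hQU := hE.syl Q hQA hQ2 (fun u hu => ⟨1, one_mem _, u, hu, by group⟩)
  have hWU : ∀ y ∈ W, IsU B y := fun y hy => hQU y ⟨y, hy, 1, IsU.one, by group⟩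
  intro y hy
  obtain ⟨u, s, m, r, h⟩ := hWU y hy
  have h3 : u = 0 := by
    by_contra hu
    apply hE.not_isU_xma hu
    have h4 : IsU B (B.na * y * B.na⁻¹) := hWU _ (hn' _ na_P1 y hy)
    have h5 : B.na * y * B.na⁻¹ = (B.na * B.xa u * B.na⁻¹) * B.v1 r m s := by
      have h6 : B.na * B.v1 s m r * B.na⁻¹ = B.v1 r m s := by rw [B.na_v1]; group
      rw [h, ← h6]; group
    rw [h5] at h4
    exact isU_of_mul_right (IsU.v1 _ _ _) h4
  exact ⟨s, m, r, by rw [h, h3, B.xa_zero, one_mul]⟩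

theorem pfacts (hF : 4 ≤ Nat.card F) : PFacts B (P1 B) (P1 (swap B)) A where
  perf1 := hE.perf1 hF
  t1 := fun x hx => hE.comm x (hE.P1_le hx)
  z1 := fun x hx w => hE.z1 hx w
  max1 := by
    intro w hw Q hQ ht hz x hx
    exact cent_zs hE (hE.maxA Q hQ ht hx) hw (hz x hx)
  max2 := by
    intro w hw Q hQ ht hz x hx
    exact cent_zs (env_swap hE) (hE.maxA Q hQ ht hx) hw (hz x hx)
  mixed := by
    intro w w' hw hw' Q hQ ht hz
    rw [perf_isU (B := B) hQ (fun x hx => cent_mixed hE hF (hE.maxA Q hQ ht hx) hw hw' (hz x hx))]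
  maxA := hE.maxA
  tA := hE.comm
  inv := inv_fact hE
  perf2 := (env_swap hE).perf1 hF
  t2 := fun x hx => hE.comm x ((env_swap hE).P1_le hx)
  zs_mem := fun w => by rw [← Base.v1_zs]; exact v1_P1 _ _ _
  center1 := fun x hx hc => hE.center1 hx hc
  center2 := fun w x hx => (env_swap hE).z1 hx w
  zl_mem := fun w => by
    have h1 : (swap B).v1 0 w 0 = B.zl w := Base.v1_zs (B := swap B) w
    rw [← h1]; exact v1_P1 _ _ _
  v_mem := v1_P1
  v_norm := fun x hx s m r => (hE.v_norm_both hx s m r).1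
  o2 := o2_fact hE
  h2 := by
    intro α β x hx
    have h1 := (env_swap hE).conj_h hx β (α ^ 2)
    change B.h (rtU (α ^ 2)) β * x * (B.h (rtU (α ^ 2)) β)⁻¹ ∈ P1 (swap B) at h1
    rwa [rtU_sq] at h1
  split := fun x hx => hE.split hx
  l1 := L1_le
  tor := hE.tor

theorem leviSet : B.LeviSet (closure ({B.na} ∪ Set.range B.xa : Set G) : Set G) where
  xa_mem := xa_L1
  na_mem := na_L1
  h_mem := hE.tor
  t_comm := fun l hl => (hE.comm l (hE.P1_le (L1_le hl))).symm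
  h_comm := by
    intro l hl β
    change l ∈ closure ({B.na} ∪ Set.range B.xa : Set G) at hl
    induction hl using closure_induction with
    | mem y hy =>
      rcases hy with rfl | ⟨u, rfl⟩
      · show B.h 1 β * B.na = B.na * B.h 1 β
        rw [B.na_h, inv_one, one_pow, one_mul]
      · show B.h 1 β * B.xa u = B.xa u * B.h 1 β
        rw [B.h_xa, Units.val_one, one_mul]
    | one => exact Commute.one_right _
    | mul x y _ _ hx hy => exact hx.mul_right hy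
    | inv x _ hx => exact hx.inv_right
  norm := fun l hl s m r => (hE.v_norm_both (L1_le hl) s m r).1

/-- **Short layer**: exists when `t ~ t z`, `1 ≠ z ∈ Z_s`. -/
theorem exists_short [Finite G] (hF : 4 ≤ Nat.card F) {g : G} {w : F} (hw : w ≠ 0)
    (hg : g * B.t * g⁻¹ = B.t * B.zs w) : Nonempty (ShortLayer B) := by
  have := Fintype.ofFinite F
  have hF' : 4 ≤ Fintype.card F := by rwa [Nat.card_eq_fintype_card] at hF
  obtain ⟨n, hn⟩ := (pfacts hE hF).exists_mover hF' hw hg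
  obtain ⟨m, hm, w1, hw1, h1⟩ := Base.exists_isN4 hF' (leviSet hE) hn
  obtain ⟨y, hy, h2, h3⟩ := Base.exists_isN4_comm hF' hm h1
  exact Base.exists_shortLayer hF' hE.self ⟨hy, h3⟩ hw1 h2

omit hE in
/-- a short layer of `swap B` is a long layer of `B`. -/
noncomputable def longOfSwap (S : ShortLayer (swap B)) : LongLayer B where
  q := S.p
  e := rt S.e
  c := S.c
  q_zero := S.p_zero
  t_q := S.t_p
  q_xa := fun m s => by
    have h1 := S.p_xb m (s ^ 2)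
    change Commute (S.p m) (B.xa (rt (s ^ 2))) at h1
    rwa [rt_sq] at h1
  q_zs := fun m s => by
    have h1 := S.p_zl m (s ^ 2)
    change Commute (S.p m) (B.zs (rt (s ^ 2))) at h1
    rwa [rt_sq] at h1
  q_zl := S.p_zs
  q_q := S.p_p
  q_add := S.p_add
  q_sq := S.p_sq
  xb_q := by
    intro s r
    have h1 := S.xa_p (s ^ 2) (r ^ 2)
    change B.xb (s ^ 2) * S.p (r ^ 2) = S.p (r ^ 2) * B.xb (s ^ 2) * B.zs (rt (S.e * s ^ 2 * r ^ 2)) at h1
    rw [h1, rt_mul, rt_mul, rt_sq, rt_sq, mul_assoc (rt S.e)]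
  h_q := by
    intro α β r
    have h1 := S.h_p β (α ^ 2) r
    change B.h (rtU (α ^ 2)) β * S.p r = S.p (β * (α ^ 2 : Fˣ) * r) * B.h (rtU (α ^ 2)) β at h1
    rw [rtU_sq] at h1
    rw [h1, Units.val_pow_eq_pow_val, mul_comm (β : F)]

/-- **Long layer**: exists when `t ~ t z`, `1 ≠ z ∈ Z_l`. -/
theorem exists_long [Finite G] (hF : 4 ≤ Nat.card F) {g : G} {w : F} (hw : w ≠ 0)
    (hg : g * B.t * g⁻¹ = B.t * B.zl w) : Nonempty (LongLayer B) := by
  obtain ⟨S⟩ := exists_short (env_swap hE) hF hw hg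
  exact ⟨longOfSwap S⟩

end EnvFacts

end Cfsg.Agent.StdSpFour
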