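import Cfsg.Agent.StdSpFour.Layer

/-! From an element moving `t` inside `t Z_s` (normalising `V₁ L₁`) to an element of `N₄` moving `t`,
and then to one commuting with the torus `T_a`. -/
set_option autoImplicit false
set_option linter.unusedSectionVars false

namespace Cfsg.Agent.StdSpFour
namespace Base

variable {F G : Type*} [Field F] [CharP F 2] [Group G] (B : Base F G)

/-- A set of elements containing the generators of `L₁ = L_a`, centralising `t` and `T_(a+b)`, normalising `V₁`. -/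
structure LeviSet (L : Set G) : Prop where
  xa_mem : ∀ u, B.xa u ∈ L
  na_mem : B.na ∈ L
  h_mem : ∀ α : Fˣ, B.h α α⁻¹ ∈ L
  t_comm : ∀ l ∈ L, Commute B.t l
  h_comm : ∀ l ∈ L, ∀ β, Commute (B.h 1 β) l
  norm : ∀ l ∈ L, ∀ s m r, ∃ s' m' r', l⁻¹ * B.v1 s m r * l = B.v1 s' m' r'

/-- `n` normalises `Z_s`, `V₁` and `V₁ L₁` and moves `t` to `t z`, `1 ≠ z ∈ Z_s`. -/
structure Mover (L : Set G) (n : G) : Prop where
  tr : ∃ w, w ≠ 0 ∧ n * B.t * n⁻¹ = B.t * B.zs w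
  tr' : ∃ w, n⁻¹ * B.t * n = B.t * B.zs w
  zs : ∀ m, ∃ m', n⁻¹ * B.zs m * n = B.zs m'
  v : ∀ s m r, ∃ s' m' r', n * B.v1 s m r * n⁻¹ = B.v1 s' m' r'
  v' : ∀ s m r, ∃ s' m' r', n⁻¹ * B.v1 s m r * n = B.v1 s' m' r'
  l : ∀ l ∈ L, ∃ l' ∈ L, ∃ s m r, n * l * n⁻¹ = l' * B.v1 s m r

variable {B}

theorem h1_v1 (β : Fˣ) (s k r : F) : B.h 1 β * B.v1 s k r * (B.h 1 β)⁻¹ = B.v1 (β * s) (β * k) (β * r) := by
  rw [B.h_v1]
  simp

theorem h1_v1' (β : Fˣ) (s k r : F) : (B.h 1 β)⁻¹ * B.v1 s k r * B.h 1 β =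
    B.v1 ((β⁻¹ : Fˣ) * s) ((β⁻¹ : Fˣ) * k) ((β⁻¹ : Fˣ) * r) := by
  rw [B.h_inv, B.h_v1, mul_assoc, ← B.h_mul]
  simp [B.h_one]

theorem exists_unit_ne [Fintype F] (hF : 4 ≤ Fintype.card F) : ∃ β : Fˣ, β ≠ 1 := by
  obtain ⟨x, h0, h1⟩ := FieldAux.exists_ne hF
  exact ⟨Units.mk0 x h0, fun h => h1 (by simpa using congrArg Units.val h)⟩

/-- Step 1: an element of `N₄` moving `t`. -/
theorem exists_isN4 [Fintype F] (hF : 4 ≤ Fintype.card F) {L : Set G} (hL : B.LeviSet L) {n : G}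
    (hn : B.Mover L n) : ∃ m, B.IsN4 m ∧ ∃ w, w ≠ 0 ∧ m⁻¹ * B.t * m = B.t * B.zs w := by
  obtain ⟨β, hβ⟩ := exists_unit_ne hF
  set h := B.h 1 β with hh
  set g := n⁻¹ * h * n with hg
  have hVL : ∀ l ∈ L, ∃ s m r, g⁻¹ * l * g = l * B.v1 s m r := by
    intro l hl
    obtain ⟨l', hl', s, m, r, h1⟩ := hn.l l hl
    obtain ⟨s', m', r', h2⟩ := hn.v' (s + (β⁻¹ : Fˣ) * s) (m + (β⁻¹ : Fˣ) * m) (r + (β⁻¹ : Fˣ) * r)
    refine ⟨s', m', r', ?_⟩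
    have h3 : h⁻¹ * (l' * B.v1 s m r) * h = l' * B.v1 s m r *
        B.v1 (s + (β⁻¹ : Fˣ) * s) (m + (β⁻¹ : Fˣ) * m) (r + (β⁻¹ : Fˣ) * r) := by
      have h4 := (hL.h_comm l' hl' β).eq
      rw [← hh] at h4
      have h5 : h⁻¹ * l' = l' * h⁻¹ := by
        calc h⁻¹ * l' = h⁻¹ * (l' * h) * h⁻¹ := by group
          _ = l' * h⁻¹ := by rw [← h4]; group
      rw [mul_assoc l', B.v1_mul, ← add_assoc, ← add_assoc, ← add_assoc, CharTwo.add_self_eq_zero,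
        CharTwo.add_self_eq_zero, CharTwo.add_self_eq_zero, zero_add, zero_add, zero_add, ← h1_v1', ← hh,
        ← mul_assoc h⁻¹, h5]
      group
    calc g⁻¹ * l * g = n⁻¹ * (h⁻¹ * (n * l * n⁻¹) * h) * n := by rw [hg]; group
      _ = n⁻¹ * ((n * l * n⁻¹) *
        B.v1 (s + (β⁻¹ : Fˣ) * s) (m + (β⁻¹ : Fˣ) * m) (r + (β⁻¹ : Fˣ) * r)) * n := by rw [h1, h3]
      _ = l * (n⁻¹ * B.v1 (s + (β⁻¹ : Fˣ) * s) (m + (β⁻¹ : Fˣ) * m) (r + (β⁻¹ : Fˣ) * r) * n) := by group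
      _ = _ := by rw [h2]
  have hVg : ∀ s m r, ∃ s' m' r', g⁻¹ * B.v1 s m r * g = B.v1 s' m' r' := by
    intro s m r
    obtain ⟨s1, m1, r1, h1⟩ := hn.v s m r
    obtain ⟨s2, m2, r2, h2⟩ := hn.v' ((β⁻¹ : Fˣ) * s1) ((β⁻¹ : Fˣ) * m1) ((β⁻¹ : Fˣ) * r1)
    refine ⟨s2, m2, r2, ?_⟩
    rw [← h2, ← h1_v1', ← h1, hg, hh]
    group
  obtain ⟨μ, hμ⟩ := B.scalar hF g hVg (fun u => hVL _ (hL.xa_mem u)) (hVL _ hL.na_mem)
  have hμ0 : μ ≠ 0 := by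
    rintro rfl
    have h1 := hμ 1 0 0
    rw [zero_mul, zero_mul, B.v1_zero] at h1
    have h2 : B.v1 1 0 0 = 1 := by
      calc B.v1 1 0 0 = g * (g⁻¹ * B.v1 1 0 0 * g) * g⁻¹ := by group
        _ = 1 := by rw [h1]; group
    rw [← B.v1_zero] at h2
    exact one_ne_zero (B.v1_inj h2).1
  set k := B.h 1 (Units.mk0 μ hμ0) with hk
  -- translation of `g`
  obtain ⟨w, hw0, hw⟩ := hn.tr
  obtain ⟨w', hw'⟩ := hn.tr'
  obtain ⟨m1, hm1⟩ := hn.zs (w + (β⁻¹ : Fˣ) * w)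
  have hzh : h⁻¹ * B.zs w * h = B.zs ((β⁻¹ : Fˣ) * w) := by
    rw [← v1_zs, ← v1_zs, hh, h1_v1', mul_zero]
  have hth : h⁻¹ * B.t = B.t * h⁻¹ := by
    have := (B.t_h 1 β).inv_right.eq
    rw [hh, this]
  have hne : w + (β⁻¹ : Fˣ) * w ≠ 0 := by
    intro h1
    apply hβ
    have h2 : w = (β⁻¹ : Fˣ) * w := FieldAux.eq_of_add_eq_zero h1
    have h3 : ((β⁻¹ : Fˣ) : F) = 1 := by
      have h4 : (1 : F) * w = (β⁻¹ : Fˣ) * w := by rw [one_mul]; exact h2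
      exact (mul_right_cancel₀ hw0 h4).symm
    have h4 : β⁻¹ = 1 := Units.ext h3
    exact inv_eq_one.1 h4
  have htg : g⁻¹ * B.t * g = B.t * B.zs m1 := by
    have h1 : B.t = (n * B.t * n⁻¹) * B.zs w := by
      rw [hw, mul_assoc, B.zs_zs, mul_one]
    calc g⁻¹ * B.t * g = n⁻¹ * (h⁻¹ * (n * B.t * n⁻¹) * h) * n := by rw [hg]; group
      _ = n⁻¹ * ((h⁻¹ * B.t) * B.zs w * h) * n := by rw [hw]; group
      _ = n⁻¹ * (B.t * (h⁻¹ * B.zs w * h)) * n := by rw [hth]; group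
      _ = n⁻¹ * ((n * B.t * n⁻¹) * (B.zs w * B.zs ((β⁻¹ : Fˣ) * w))) * n := by
          rw [hzh, ← mul_assoc (n * B.t * n⁻¹), ← h1]
      _ = B.t * (n⁻¹ * B.zs (w + (β⁻¹ : Fˣ) * w) * n) := by rw [B.zs_add]; group
      _ = _ := by rw [hm1]
  have hm10 : m1 ≠ 0 := by
    rintro rfl
    rw [B.zs_zero] at hm1
    have h2 : B.zs (w + (β⁻¹ : Fˣ) * w) = 1 := by
      calc B.zs (w + (β⁻¹ : Fˣ) * w) = n * (n⁻¹ * B.zs (w + (β⁻¹ : Fˣ) * w) * n) * n⁻¹ := by group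
        _ = 1 := by rw [hm1]; group
    rw [← v1_zs, ← B.v1_zero] at h2
    exact hne (B.v1_inj h2).2.1
  -- the element `m = g k`
  have hkv : ∀ s m r, k⁻¹ * B.v1 s m r * k = B.v1 (μ⁻¹ * s) (μ⁻¹ * m) (μ⁻¹ * r) := by
    intro s m r
    rw [hk, h1_v1']
    simp
  have hgk : ∀ s m r, (g * k)⁻¹ * B.v1 s m r * (g * k) = B.v1 s m r := by
    intro s m r
    calc (g * k)⁻¹ * B.v1 s m r * (g * k) = k⁻¹ * (g⁻¹ * B.v1 s m r * g) * k := by group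
      _ = B.v1 s m r := by
        rw [hμ, hkv, inv_mul_cancel_left₀ hμ0, inv_mul_cancel_left₀ hμ0, inv_mul_cancel_left₀ hμ0]
  have hLk : ∀ l ∈ L, ∃ s m r, (g * k)⁻¹ * l * (g * k) = l * B.v1 s m r := by
    intro l hl
    obtain ⟨s, m, r, h1⟩ := hVL l hl
    refine ⟨μ⁻¹ * s, μ⁻¹ * m, μ⁻¹ * r, ?_⟩
    have h4 := (hL.h_comm l hl (Units.mk0 μ hμ0)).eq
    rw [← hk] at h4
    have h5 : k⁻¹ * l = l * k⁻¹ := by
      calc k⁻¹ * l = k⁻¹ * (l * k) * k⁻¹ := by group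
        _ = l * k⁻¹ := by rw [← h4]; group
    calc (g * k)⁻¹ * l * (g * k) = k⁻¹ * (g⁻¹ * l * g) * k := by group
      _ = (k⁻¹ * l) * B.v1 s m r * k := by rw [h1]; group
      _ = l * (k⁻¹ * B.v1 s m r * k) := by rw [h5]; group
      _ = _ := by rw [hkv]
  have htk : k⁻¹ * B.t = B.t * k⁻¹ := by
    have := (B.t_h 1 (Units.mk0 μ hμ0)).inv_right.eq
    rw [hk, this]
  have htr : (g * k)⁻¹ * B.t * (g * k) = B.t * B.zs (μ⁻¹ * m1) := by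
    calc (g * k)⁻¹ * B.t * (g * k) = k⁻¹ * (g⁻¹ * B.t * g) * k := by group
      _ = (k⁻¹ * B.t) * B.zs m1 * k := by rw [htg]; group
      _ = B.t * (k⁻¹ * B.zs m1 * k) := by rw [htk]; group
      _ = _ := by rw [← v1_zs, hkv, mul_zero, v1_zs]
  refine ⟨g * k, ⟨?_, fun u => hLk _ (hL.xa_mem u), fun α => hLk _ (hL.h_mem α), ⟨_, htr⟩⟩, _, ?_, htr⟩
  · intro s m r
    have h1 := hgk s m r
    show g * k * B.v1 s m r = B.v1 s m r * (g * k)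
    calc g * k * B.v1 s m r = g * k * ((g * k)⁻¹ * B.v1 s m r * (g * k)) := by rw [h1]
      _ = _ := by group
  · exact mul_ne_zero (inv_ne_zero hμ0) hm10

/-- torus `T_a` on `V₁` -/
theorem ha_v1 (α : Fˣ) (s m r : F) : B.v1 s m r * B.h α α⁻¹ =
    B.h α α⁻¹ * B.v1 (α * s) m (((α⁻¹ : Fˣ) : F) * r) := by
  rw [B.h_v1]
  congr 2
  · rw [← mul_assoc, Units.inv_mul, one_mul]
  · rw [Units.mul_inv, one_mul]
  · rw [Units.val_inv_eq_inv_val]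
    field_simp

/-- Step 2: an element of `N₄` moving `t` and commuting with `T_a`. -/
theorem exists_isN4_comm [Fintype F] (hF : 4 ≤ Fintype.card F) {m : G} (hm : B.IsN4 m) {w : F}
    (hw : m⁻¹ * B.t * m = B.t * B.zs w) :
    ∃ y, B.IsN4 y ∧ y⁻¹ * B.t * y = B.t * B.zs w ∧ ∀ α : Fˣ, Commute y (B.h α α⁻¹) := by
  classical
  obtain ⟨ζ, hζ⟩ := IsCyclic.exists_generator (α := Fˣ)
  have hζ1 : (ζ : F) ≠ 1 := by
    intro h1
    obtain ⟨β, hβ⟩ := exists_unit_ne hF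
    obtain ⟨k, hk⟩ := Subgroup.mem_zpowers_iff.1 (hζ β)
    have h2 : ζ = 1 := Units.ext h1
    rw [h2, one_zpow] at hk
    exact hβ hk.symm
  set h := B.h ζ ζ⁻¹ with hh
  obtain ⟨s, k, r, h1⟩ := hm.tor ζ
  rw [← hh] at h1
  -- powers
  have hpow : ∀ n : ℕ, ∃ a b, (h * B.v1 s k r) ^ n = h ^ n * B.v1 a (n * k) b := by
    intro n
    induction n with
    | zero => exact ⟨0, 0, by simp [B.v1_zero]⟩
    | succ n ih =>
      obtain ⟨a, b, hab⟩ := ih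
      refine ⟨ζ * a + s, ((ζ⁻¹ : Fˣ) : F) * b + r, ?_⟩
      rw [pow_succ, hab, pow_succ]
      calc h ^ n * B.v1 a (n * k) b * (h * B.v1 s k r) = h ^ n * (B.v1 a (n * k) b * h) * B.v1 s k r := by group
        _ = h ^ n * (h * B.v1 (ζ * a) (n * k) (((ζ⁻¹ : Fˣ) : F) * b)) * B.v1 s k r := by rw [hh, ha_v1]
        _ = h ^ n * h * (B.v1 (ζ * a) (n * k) (((ζ⁻¹ : Fˣ) : F) * b) * B.v1 s k r) := by group
        _ = _ := by rw [B.v1_mul]; congr 2; push_cast; ring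
  have hhn : ∀ n : ℕ, h ^ n = B.h (ζ ^ n) (ζ⁻¹ ^ n) := by
    intro n
    induction n with
    | zero => simp [B.h_one]
    | succ n ih => rw [pow_succ, ih, hh, ← B.h_mul, pow_succ, pow_succ]
  have hk0 : k = 0 := by
    obtain ⟨a, b, hab⟩ := hpow (Fintype.card Fˣ)
    have e1 : h ^ Fintype.card Fˣ = 1 := by
      rw [hhn, inv_pow, pow_card_eq_one, inv_one, B.h_one]
    have e2 : (h * B.v1 s k r) ^ Fintype.card Fˣ = 1 := by
      rw [← h1]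
      have : (m⁻¹ * h * m) ^ Fintype.card Fˣ = m⁻¹ * h ^ Fintype.card Fˣ * m := by
        have := conj_pow (i := Fintype.card Fˣ) (a := m⁻¹) (b := h)
        rw [inv_inv] at this
        exact this
      rw [this, e1]; group
    rw [e2, e1, one_mul, ← B.v1_zero] at hab
    have h3 := (B.v1_inj hab).2.1
    have hcard : ((Fintype.card Fˣ : ℕ) : F) = 1 := by
      have h4 : Fintype.card Fˣ = Fintype.card F - 1 := Fintype.card_units F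
      have h5 : (Fintype.card F : F) = 0 := FiniteField.cast_card_eq_zero F
      have h6 : Fintype.card Fˣ + 1 = Fintype.card F := by omega
      have h7 : ((Fintype.card Fˣ : ℕ) : F) + 1 = 0 := by
        rw [← h5, ← h6]; push_cast; rfl
      exact FieldAux.eq_of_add_eq_zero h7
    rw [hcard, one_mul] at h3
    exact h3.symm
  subst hk0
  have hz1 : (1 : F) + ζ ≠ 0 := fun h3 => hζ1 (FieldAux.eq_of_add_eq_zero h3).symm
  have hz2 : (1 : F) + ((ζ⁻¹ : Fˣ) : F) ≠ 0 := by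
    intro h3
    have h4 := FieldAux.eq_of_add_eq_zero h3
    apply hζ1
    rw [Units.val_inv_eq_inv_val] at h4
    rw [← inv_inv (ζ : F), ← h4, inv_one]
  set s' := (1 + (ζ : F))⁻¹ * s with hs'
  set r' := (1 + ((ζ⁻¹ : Fˣ) : F))⁻¹ * r with hr'
  have es : s = s' + ζ * s' := by
    rw [hs']
    field_simp
  have er : r = r' + ((ζ⁻¹ : Fˣ) : F) * r' := by
    rw [hr', show (1 + ((ζ⁻¹ : Fˣ) : F))⁻¹ * r + ((ζ⁻¹ : Fˣ) : F) * ((1 + ((ζ⁻¹ : Fˣ) : F))⁻¹ * r) =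
      ((1 + ((ζ⁻¹ : Fˣ) : F)) * (1 + ((ζ⁻¹ : Fˣ) : F))⁻¹) * r by ring, mul_inv_cancel₀ hz2, one_mul]
  have hy : Commute (m * B.v1 s' 0 r') h := by
    have h5 : h * m = m * (h * B.v1 s 0 r) := by rw [← h1]; group
    show m * B.v1 s' 0 r' * h = h * (m * B.v1 s' 0 r')
    calc m * B.v1 s' 0 r' * h = m * (B.v1 s' 0 r' * h) := by group
      _ = m * (h * B.v1 (ζ * s') 0 (((ζ⁻¹ : Fˣ) : F) * r')) := by rw [hh, ha_v1]
      _ = m * (h * (B.v1 s 0 r * B.v1 s' 0 r')) := by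
          rw [B.v1_mul]
          congr 3
          · rw [es, add_comm s', add_assoc, CharTwo.add_self_eq_zero, add_zero]
          · rw [add_zero]
          · rw [er, add_comm r', add_assoc, CharTwo.add_self_eq_zero, add_zero]
      _ = h * m * B.v1 s' 0 r' := by rw [h5]; group
      _ = _ := by group
  refine ⟨m * B.v1 s' 0 r', hm.mul (IsN4.of_v1 _ _ _), ?_, ?_⟩
  · calc (m * B.v1 s' 0 r')⁻¹ * B.t * (m * B.v1 s' 0 r')
        = (B.v1 s' 0 r')⁻¹ * (m⁻¹ * B.t * m) * B.v1 s' 0 r' := by group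
      _ = B.t * B.zs w := by
        rw [hw, ← v1_zs]
        have h6 : Commute (B.v1 s' 0 r') (B.t * B.v1 0 w 0) :=
          (B.t_v1 _ _ _).symm.mul_right (B.v1_comm _ _ _ _ _ _)
        calc (B.v1 s' 0 r')⁻¹ * (B.t * B.v1 0 w 0) * B.v1 s' 0 r'
            = (B.v1 s' 0 r')⁻¹ * ((B.t * B.v1 0 w 0) * B.v1 s' 0 r') := by group
          _ = _ := by rw [← h6.eq]; group
  · intro α
    obtain ⟨k, hk⟩ := Subgroup.mem_zpowers_iff.1 (hζ α)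
    have h7 : B.h α α⁻¹ = h ^ k := by
      let φ : Fˣ →* G := MonoidHom.mk' (fun x => B.h x x⁻¹) (fun x y => by
        rw [mul_inv, B.h_mul])
      have h8 : φ α = φ ζ ^ k := by rw [← map_zpow, hk]
      exact h8
    rw [h7]
    exact hy.zpow_right k

end Base
end Cfsg.Agent.StdSpFour
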