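import Mathlib.Algebra.CharP.Two
import Mathlib.FieldTheory.Finite.Basic
import Mathlib.Algebra.Group.Commute.Basic

/-!
S1778, type Sp₄(q), q = 2^a ≥ 4: abstract data for the 2-local growth (bb S1778, helper68 #5604).

`Base F G`: positive root groups `xa` (short), `xb` (long), `zs` (short, root a+b), `zl` (long, root 2a+b),
torus `h α β` (weights: a ↦ α, b ↦ β, a+b ↦ αβ, 2a+b ↦ α²β), Weyl elements `na`, `nb`, and the involution `t`
centralising all of them.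
`Self`: `C_G(⟨t⟩V₁) = ⟨t⟩V₁`, `C_G(⟨t⟩V₂) = ⟨t⟩V₂`, `C_G(⟨t⟩Z) = ⟨t⟩U`.
`ShortLayer`: the elements `p m` over `zs m` (`t ^ p m = t * zs m`), `LongLayer`: the `q r` over `zl r`.
-/
set_option autoImplicit false

namespace Cfsg.Agent.StdSpFour

/-- Positive root groups, torus, simple reflections of `Sp₄(F)` (char 2), centralised by the involution `t`. -/
structure Base (F G : Type*) [Field F] [Group G] where
  t : G
  xa : F → G
  xb : F → G
  zs : F → G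
  zl : F → G
  h : Fˣ → Fˣ → G
  na : G
  nb : G
  tt : t * t = 1
  xa_add : ∀ u v, xa (u + v) = xa u * xa v
  xb_add : ∀ u v, xb (u + v) = xb u * xb v
  zs_add : ∀ u v, zs (u + v) = zs u * zs v
  zl_add : ∀ u v, zl (u + v) = zl u * zl v
  t_xa : ∀ u, Commute t (xa u)
  t_xb : ∀ u, Commute t (xb u)
  t_zs : ∀ u, Commute t (zs u)
  t_zl : ∀ u, Commute t (zl u)
  t_h : ∀ α β, Commute t (h α β)
  t_na : Commute t na
  t_nb : Commute t nb
  xa_zs : ∀ u m, Commute (xa u) (zs m)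
  xa_zl : ∀ u m, Commute (xa u) (zl m)
  xb_zs : ∀ u m, Commute (xb u) (zs m)
  xb_zl : ∀ u m, Commute (xb u) (zl m)
  zs_zl : ∀ u m, Commute (zs u) (zl m)
  /-- `x_a(u)^{x_b(s)} = x_a(u) z_s(us) z_l(u²s)` -/
  xa_xb : ∀ u s, xa u * xb s = xb s * xa u * zs (u * s) * zl (u ^ 2 * s)
  h_mul : ∀ α β α' β', h (α * α') (β * β') = h α β * h α' β'
  h_xa : ∀ (α β : Fˣ) u, h α β * xa u = xa (α * u) * h α β
  h_xb : ∀ (α β : Fˣ) u, h α β * xb u = xb (β * u) * h α β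
  h_zs : ∀ (α β : Fˣ) u, h α β * zs u = zs (α * β * u) * h α β
  h_zl : ∀ (α β : Fˣ) u, h α β * zl u = zl (α ^ 2 * β * u) * h α β
  na_h : ∀ (α β : Fˣ), na * h α β = h α⁻¹ (α ^ 2 * β) * na
  nb_h : ∀ (α β : Fˣ), nb * h α β = h (α * β) β⁻¹ * nb
  na_xb : ∀ u, na * xb u = zl u * na
  na_zl : ∀ u, na * zl u = xb u * na
  na_zs : ∀ u, na * zs u = zs u * na
  nb_xa : ∀ u, nb * xa u = zs u * nb
  nb_zs : ∀ u, nb * zs u = xa u * nb
  nb_zl : ∀ u, nb * zl u = zl u * nb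
  inj : ∀ u s m r, xa u * xb s * zs m * zl r = 1 → u = 0 ∧ s = 0 ∧ m = 0 ∧ r = 0
  /-- `t ∉ U` -/
  t_ne : ∀ u s m r, xa u * xb s * zs m * zl r ≠ t

/-- The centralisers of `⟨t⟩V₁`, `⟨t⟩V₂`, `⟨t⟩Z` (modulo the core, i.e. when `O(C_G(t)) = 1`). -/
structure Base.Self {F G : Type*} [Field F] [Group G] (B : Base F G) : Prop where
  cent1 : ∀ g : G, Commute g B.t → (∀ u, Commute g (B.xb u)) → (∀ u, Commute g (B.zs u)) →
    (∀ u, Commute g (B.zl u)) → ∃ s m r, g = B.xb s * B.zs m * B.zl r ∨ g = B.t * (B.xb s * B.zs m * B.zl r)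
  cent2 : ∀ g : G, Commute g B.t → (∀ u, Commute g (B.xa u)) → (∀ u, Commute g (B.zs u)) →
    (∀ u, Commute g (B.zl u)) → ∃ s m r, g = B.xa s * B.zs m * B.zl r ∨ g = B.t * (B.xa s * B.zs m * B.zl r)
  centZ : ∀ g : G, Commute g B.t → (∀ u, Commute g (B.zs u)) → (∀ u, Commute g (B.zl u)) →
    ∃ u s m r, g = B.xa u * B.xb s * B.zs m * B.zl r ∨ g = B.t * (B.xa u * B.xb s * B.zs m * B.zl r)

/-- The second layer over the short root group `Z_s` (exists iff `t ~ t z_s`); it centralises `V₁`. -/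
structure ShortLayer {F G : Type*} [Field F] [Group G] (B : Base F G) where
  p : F → G
  e : F
  c : F
  p_zero : p 0 = 1
  /-- `t ^ p m = t * zs m` -/
  t_p : ∀ m, B.t * p m = p m * B.t * B.zs m
  p_xb : ∀ m s, Commute (p m) (B.xb s)
  p_zs : ∀ m s, Commute (p m) (B.zs s)
  p_zl : ∀ m s, Commute (p m) (B.zl s)
  p_p : ∀ m m', Commute (p m) (p m')
  p_add : ∀ m m', ∃ k, p m * p m' = p (m + m') * B.zs k
  p_sq : ∀ m, p m * p m = B.zs (c * m)
  xa_p : ∀ u m, B.xa u * p m = p m * B.xa u * B.zl (e * u * m)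
  h_p : ∀ (α β : Fˣ) m, B.h α β * p m = p (α * β * m) * B.h α β

/-- The second layer over the long root group `Z_l` (exists iff `t ~ t z_l`); it centralises `V₂`. -/
structure LongLayer {F G : Type*} [Field F] [Group G] (B : Base F G) where
  q : F → G
  e : F
  c : F
  q_zero : q 0 = 1
  /-- `t ^ q r = t * zl r` -/
  t_q : ∀ r, B.t * q r = q r * B.t * B.zl r
  q_xa : ∀ m s, Commute (q m) (B.xa s)
  q_zs : ∀ m s, Commute (q m) (B.zs s)
  q_zl : ∀ m s, Commute (q m) (B.zl s)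
  q_q : ∀ m m', Commute (q m) (q m')
  q_add : ∀ m m', ∃ k, q m * q m' = q (m + m') * B.zl k
  q_sq : ∀ r, q r * q r = B.zl (c * r)
  /-- `[x_b(s), q_r] = z_s(e √(sr))` -/
  xb_q : ∀ s r, B.xb (s ^ 2) * q (r ^ 2) = q (r ^ 2) * B.xb (s ^ 2) * B.zs (e * (s * r))
  h_q : ∀ (α β : Fˣ) r, B.h α β * q r = q (α ^ 2 * β * r) * B.h α β

end Cfsg.Agent.StdSpFour
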