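import Cfsg.Agent.StdSpFour.CaseBEnv
import Cfsg.Agent.StdRank2.UTFour
import Cfsg.Prelude.Def_CaseTheorems
import Cfsg.Prelude.Def_LieTypeChar

/-!
# S1778, type Sp₄(q), case (B), split case: `T` is the Sylow 2-subgroup of `L₄(q)`
-/

set_option autoImplicit false
set_option linter.unusedSectionVars false

namespace Cfsg.Agent.StdSpFour.CaseBSplit

open Subgroup Cfsg.Agent.StdSpFour.CaseBModel Cfsg.Agent.StdSpFour.CaseBInv
open Cfsg.Agent.StdRank2

universe u v

variable {F : Type v} [Field F] [CharP F 2] {c : F}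

section coord

variable {θ : F} (hθ : θ ^ 2 + θ + c = 0)
include hθ

/-- root group coordinates of type `A₃` -/
def coord : UTFour.Coord (TB c) F where
  a1 x := ⟨x * (1 + θ), x, 0, 0, 0, 0⟩
  b x := ⟨0, 0, x, 0, 0, 0⟩
  a2 x := ⟨x * θ, x, 0, 0, 0, 0⟩
  c1 x := ⟨0, 0, 0, x * (1 + θ), x, 0⟩
  c2 x := ⟨0, 0, 0, x * θ, x, 0⟩
  z x := ⟨0, 0, 0, 0, 0, x⟩
  a1_add r s := by
    ext <;> simp only [mul_u, mul_v, mul_s, mul_m, mul_n, mul_r] <;> ring
  b_add r s := by
    ext <;> simp only [mul_u, mul_v, mul_s, mul_m, mul_n, mul_r] <;> ring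
  a2_add r s := by
    ext <;> simp only [mul_u, mul_v, mul_s, mul_m, mul_n, mul_r] <;> ring
  c1_add r s := by
    ext <;> simp only [mul_u, mul_v, mul_s, mul_m, mul_n, mul_r] <;> ring
  c2_add r s := by
    ext <;> simp only [mul_u, mul_v, mul_s, mul_m, mul_n, mul_r] <;> ring
  z_add r s := by
    ext <;> simp only [mul_u, mul_v, mul_s, mul_m, mul_n, mul_r] <;> ring
  a1_b r s := by
    have h2 := two_eq (F := F)
    ext <;> simp only [mul_u, mul_v, mul_s, mul_m, mul_n, mul_r]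
    · ring
    · ring
    · ring
    · linear_combination (-r*s - r*s*θ) * h2
    · linear_combination (-r*s) * h2
    · linear_combination (-r^2*s) * hθ + (-2*r^2*s - 2*r^2*s*θ) * h2
  b_a2 r s := by
    have h2 := two_eq (F := F)
    ext <;> simp only [mul_u, mul_v, mul_s, mul_m, mul_n, mul_r]
    · ring
    · ring
    · ring
    · ring
    · ring
    · linear_combination (r*s^2) * hθ + (-r*s^2*θ) * h2
  a1_c2 r s := by
    have h2 := two_eq (F := F)
    ext <;> simp only [mul_u, mul_v, mul_s, mul_m, mul_n, mul_r]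
    · ring
    · ring
    · ring
    · ring
    · ring
    · linear_combination (-r*s - r*s*θ) * h2
  c1_a2 r s := by
    have h2 := two_eq (F := F)
    ext <;> simp only [mul_u, mul_v, mul_s, mul_m, mul_n, mul_r]
    · ring
    · ring
    · ring
    · ring
    · ring
    · linear_combination (r*s*θ) * h2
  a1_a2 r s := by
    ext <;> simp only [mul_u, mul_v, mul_s, mul_m, mul_n, mul_r] <;> ring
  a1_c1 r s := by
    have h2 := two_eq (F := F)
    ext <;> simp only [mul_u, mul_v, mul_s, mul_m, mul_n, mul_r]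
    all_goals first | ring1 | linear_combination (-r*s - r*s*θ) * h2
  b_c1 r s := by
    ext <;> simp only [mul_u, mul_v, mul_s, mul_m, mul_n, mul_r] <;> ring
  b_c2 r s := by
    ext <;> simp only [mul_u, mul_v, mul_s, mul_m, mul_n, mul_r] <;> ring
  a2_c2 r s := by
    have h2 := two_eq (F := F)
    ext <;> simp only [mul_u, mul_v, mul_s, mul_m, mul_n, mul_r]
    all_goals first | ring1 | linear_combination (-r*s*θ) * h2
  c1_c2 r s := by
    ext <;> simp only [mul_u, mul_v, mul_s, mul_m, mul_n, mul_r] <;> ring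
  a1_z r s := by
    ext <;> simp only [mul_u, mul_v, mul_s, mul_m, mul_n, mul_r] <;> ring
  b_z r s := by
    ext <;> simp only [mul_u, mul_v, mul_s, mul_m, mul_n, mul_r] <;> ring
  a2_z r s := by
    ext <;> simp only [mul_u, mul_v, mul_s, mul_m, mul_n, mul_r] <;> ring
  c1_z r s := by
    ext <;> simp only [mul_u, mul_v, mul_s, mul_m, mul_n, mul_r] <;> ring
  c2_z r s := by
    ext <;> simp only [mul_u, mul_v, mul_s, mul_m, mul_n, mul_r] <;> ring

theorem gen (K : Subgroup (TB c)) (h1 : ∀ r, (coord hθ).a1 r ∈ K) (hb : ∀ r, (coord hθ).b r ∈ K)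
    (h2 : ∀ r, (coord hθ).a2 r ∈ K) : K = ⊤ := by
  set C := coord hθ with hC
  have two := two_eq (F := F)
  have e1 : ∀ r, C.c1 r ∈ K := by
    intro r
    have h := C.a1_b r 1
    rw [mul_one] at h
    have : C.c1 r = (C.a1 r * C.b 1) * (C.b 1 * C.a1 r)⁻¹ := by rw [h]; group
    rw [this]
    exact mul_mem (mul_mem (h1 _) (hb _)) (inv_mem (mul_mem (hb _) (h1 _)))
  have e2 : ∀ r, C.c2 r ∈ K := by
    intro r
    have h := C.b_a2 1 r
    rw [one_mul] at h
    have : C.c2 r = (C.b 1 * C.a2 r) * (C.a2 r * C.b 1)⁻¹ := by rw [h]; group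
    rw [this]
    exact mul_mem (mul_mem (hb _) (h2 _)) (inv_mem (mul_mem (h2 _) (hb _)))
  have e3 : ∀ r, C.z r ∈ K := by
    intro r
    have h := C.a1_c2 r 1
    rw [mul_one] at h
    have : C.z r = (C.a1 r * C.c2 1) * (C.c2 1 * C.a1 r)⁻¹ := by rw [h]; group
    rw [this]
    exact mul_mem (mul_mem (h1 _) (e2 _)) (inv_mem (mul_mem (e2 _) (h1 _)))
  rw [eq_top_iff]
  rintro ⟨xu, xv, xs, xm, xn, xr⟩ -
  have key : (⟨xu, xv, xs, xm, xn, xr⟩ : TB c) = C.a1 (xu + xv * θ) * C.a2 (xu + xv + xv * θ) * C.b xs *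
      C.c1 (xm + xn * θ) * C.c2 (xm + xn + xn * θ) * C.z xr := by
    show (⟨xu, xv, xs, xm, xn, xr⟩ : TB c) = ⟨(xu + xv * θ) * (1 + θ), xu + xv * θ, 0, 0, 0, 0⟩ *
      ⟨(xu + xv + xv * θ) * θ, xu + xv + xv * θ, 0, 0, 0, 0⟩ * ⟨0, 0, xs, 0, 0, 0⟩ *
      ⟨0, 0, 0, (xm + xn * θ) * (1 + θ), xm + xn * θ, 0⟩ *
      ⟨0, 0, 0, (xm + xn + xn * θ) * θ, xm + xn + xn * θ, 0⟩ * ⟨0, 0, 0, 0, 0, xr⟩
    ext <;> simp only [mul_u, mul_v, mul_s, mul_m, mul_n, mul_r]
    · linear_combination (-(xu * θ) - xv * θ - xv * θ ^ 2) * two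
    · linear_combination (-xu - xv * θ) * two
    · ring
    · linear_combination (-(xm * θ) - xn * θ - xn * θ ^ 2) * two
    · linear_combination (-xm - xn * θ) * two
    · ring
  rw [key]
  exact mul_mem (mul_mem (mul_mem (mul_mem (mul_mem (h1 _) (h2 _)) (hb _)) (e1 _)) (e2 _)) (e3 _)

theorem exists_equiv_sylow [Fintype F] (P : Sylow 2 (Matrix.ProjectiveSpecialLinearGroup (Fin 4) F)) :
    Nonempty (TB c ≃* ↥(P : Subgroup (Matrix.ProjectiveSpecialLinearGroup (Fin 4) F))) :=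
  (coord hθ).exists_equiv_sylow (by rw [card_TB, Nat.card_eq_fintype_card]) (gen hθ) P

end coord

/-- the rank of a group containing `T` -/
theorem not_rank [Finite F] (hF : 2 ≤ Nat.card F) {L : Type u} [Group L] (i : TB c →* L)
    (hi : Function.Injective i) : ¬ Cfsg.PRankLE 2 2 L := by
  intro h
  have h1 := h ((V4 c).map i) ⟨⟨?_⟩⟩ ?_
  · rw [Nat.card_congr ((V4 c).equivMapOfInjective i hi).toEquiv.symm, card_V4] at h1
    have h2 : 2 ^ 4 ≤ Nat.card F ^ 4 := Nat.pow_le_pow_left hF 4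
    omega
  · rintro ⟨_, x, hx, rfl⟩ ⟨_, y, hy, rfl⟩
    apply Subtype.ext
    show i x * i y = i y * i x
    rw [← map_mul, V4_comm hx hy, map_mul]
  · rintro _ ⟨x, hx, rfl⟩
    rw [pow_two, ← map_mul, V4_sq hx, map_one]

/-- the statement of S1769 for a simple group `L` -/
def LinSylow (L : Type u) [Group L] [Finite L] : Prop :=
  ¬ Cfsg.PRankLE 2 2 L → ∀ (F : Type v) [Field F] [Fintype F] (r : ℕ), 2 ≤ r → Fintype.card F = 2 ^ r →
    ∀ m : ℕ, 3 ≤ m → ∀ (S : Sylow 2 L) (P : Sylow 2 (Matrix.ProjectiveSpecialLinearGroup (Fin m) F)),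
    Nonempty (↥(S : Subgroup L) ≃* ↥(P : Subgroup (Matrix.ProjectiveSpecialLinearGroup (Fin m) F))) →
    Nonempty (L ≃* Matrix.ProjectiveSpecialLinearGroup (Fin m) F)

/-- **the split case** -/
theorem nonempty_equiv [Fintype F] {r : ℕ} (hr : 2 ≤ r) (hF : Fintype.card F = 2 ^ r) {θ : F}
    (hθ : θ ^ 2 + θ + c = 0) {L : Type u} [Group L] [Finite L] (h1769 : LinSylow.{u, v} L) (S : Sylow 2 L)
    (e : TB c ≃* ↥(S : Subgroup L)) : Nonempty (L ≃* Matrix.ProjectiveSpecialLinearGroup (Fin 4) F) := by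
  have P : Sylow 2 (Matrix.ProjectiveSpecialLinearGroup (Fin 4) F) := default
  obtain ⟨e'⟩ := exists_equiv_sylow hθ P
  refine h1769 (not_rank (c := c) ?_ ((S : Subgroup L).subtype.comp e.toMonoidHom) ?_) F r hr hF 4 (by norm_num) S P
    ⟨e.symm.trans e'⟩
  · rw [Nat.card_eq_fintype_card, hF]
    calc 2 = 2 ^ 1 := rfl
      _ ≤ 2 ^ r := Nat.pow_le_pow_right (by norm_num) (by omega)
  · exact (Subtype.val_injective).comp e.injective

/-- `L` is of Lie type in the split case -/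
theorem isLie {F : Type} [Field F] [CharP F 2] [Fintype F] {c : F} {r : ℕ} (hr : 2 ≤ r) (hF : Fintype.card F = 2 ^ r)
    {θ : F} (hθ : θ ^ 2 + θ + c = 0) {L : Type u} [Group L] [Finite L] (h1769 : LinSylow.{u, 0} L) (S : Sylow 2 L)
    (e : TB c ≃* ↥(S : Subgroup L)) : Cfsg.IsLieTypeChar 2 L :=
  Or.inl ⟨F, inferInstance, inferInstance, inferInstance, 4, by norm_num, by norm_num,
    nonempty_equiv hr hF hθ h1769 S e⟩

end Cfsg.Agent.StdSpFour.CaseBSplit
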