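import Cfsg.Agent.StdSpFour.Base
import Cfsg.Agent.StdRank2.SpFrame

/-!
The Weyl relations of the frame (`Sp₄(q)`, `Z(A) = 1`): `na² = nb² = (na x_a(1))³ = (nb x_b(1))³ = (na nb)⁴ = 1`.
-/
set_option autoImplicit false

namespace Cfsg.Agent.StdSpFour

/-- Order relations of the Weyl elements. -/
structure Weyl {F G : Type*} [Field F] [Group G] (B : Base F G) : Prop where
  na_sq : B.na * B.na = 1
  nb_sq : B.nb * B.nb = 1
  na_xa : (B.na * B.xa 1) ^ 3 = 1
  nb_xb : (B.nb * B.xb 1) ^ 3 = 1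
  braid : (B.na * B.nb) ^ 4 = 1

namespace Weyl

open Cfsg.Agent.TitsThree.B2Pkg Cfsg.Agent.TitsThree.RankTwoIdentB2
  Cfsg.Agent.TitsThree.CoreB2 Cfsg.Agent.TitsThree.RankTwoIdx Cfsg.Agent.TitsThree.RankTwoRGD
  Cfsg.Agent.TitsThree.StdData
open Cfsg.Agent.StdRank2.OddLift Cfsg.Agent.StdRank2.B2Lift Cfsg.Agent.StdRank2.B2Std
  Cfsg.Agent.StdRank2.B2Torus

universe u

variable {F : Type*} [Field F] [Finite F] [CharP F 2]

/-- If `n = x y x`, `n² = 1`, `n x n = y`, `x² = y² = 1` then `(n x)³ = 1`. -/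
theorem cube_one {A : Type*} [Group A] {n x y : A} (hn : n = x * y * x) (hx : x * x = 1) (hy : y * y = 1)
    (hnn : n * n = 1) (hc : n * x * n⁻¹ = y) : (n * x) ^ 3 = 1 := by
  have hni : n⁻¹ = n := inv_eq_of_mul_eq_one_right hnn
  rw [hni] at hc
  have h1 : n * x = x * y := by rw [hn, mul_assoc (x * y), hx, mul_one]
  calc (n * x) ^ 3 = (n * x * n) * x * (n * x) := by rw [pow_succ, pow_two]; group
    _ = y * x * (x * y) := by rw [hc, h1]
    _ = y * (x * x) * y := by group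
    _ = 1 := by rw [hx, mul_one, hy]

/-- If `n = y x y`, `n² = 1`, `n x n = y` then `(n x)³ = 1`. -/
theorem cube_one' {A : Type*} [Group A] {n x y : A} (hn : n = y * x * y)
    (hnn : n * n = 1) (hc : n * x * n⁻¹ = y) : (n * x) ^ 3 = 1 := by
  have hni : n⁻¹ = n := inv_eq_of_mul_eq_one_right hnn
  rw [hni] at hc
  have h1 : n * x * n = y := hc
  have h2 : y * x * y * x * (y * x * y) = y := by rw [← hn]; exact hc
  calc (n * x) ^ 3 = (n * x * n) * x * (n * x) := by rw [pow_succ, pow_two]; group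
    _ = y * x * (y * x * y * x) := by rw [hc, ← hn]
    _ = (y * x * y * x * (y * x * y)) * y⁻¹ := by group
    _ = 1 := by rw [h2, mul_inv_cancel]

theorem na_cube {A : Type u} [Group A] (S : Std (stdSp F) A) (hZ : Subgroup.center A = ⊥) :
    (Cfsg.Agent.StdRank2.SpFrame.na S * S.m.x 1) ^ 3 = 1 := by
  have e1 : (-1 : F) = 1 := CharTwo.neg_eq 1
  apply cube_one (y := S.m.x' 1)
  · change S.m.nI = _
    rw [B2Maps.nI, e1]
  · rw [← S.rel.x_add, CharTwo.add_self_eq_zero, x_zero S.rel]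
  · rw [← S.rel.x'_add, CharTwo.add_self_eq_zero, x'_zero S.rel]
  · exact Cfsg.Agent.StdRank2.SpFrame.na_sq S hZ
  · exact Cfsg.Agent.StdRank2.SpFrame.na_x S 1

theorem nb_cube {A : Type u} [Group A] (S : Std (stdSp F) A) (hZ : Subgroup.center A = ⊥) :
    (Cfsg.Agent.StdRank2.SpFrame.nb S * S.m.z₂ (Cfsg.Agent.StdRank2.SpFrame.tt 1)) ^ 3 = 1 := by
  apply cube_one' (y := S.m.z₂' (Cfsg.Agent.StdRank2.SpFrame.tt 1))
  · change S.m.nII _ = _
    have h1 : (stdSp F).sc (-((stdSp F).σ (Cfsg.Agent.StdRank2.SpFrame.tt (1 : F)).c)⁻¹)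
        (Cfsg.Agent.StdRank2.SpFrame.tt 1) = Cfsg.Agent.StdRank2.SpFrame.tt 1 := by
      rw [Cfsg.Agent.StdRank2.SpFrame.sc_tt]
      congr 1
      change -(1 : F)⁻¹ * -(1 : F)⁻¹ * 1 = 1
      simp
    have h2 : (stdSp F).sc (-((stdSp F).ε * (Cfsg.Agent.StdRank2.SpFrame.tt (1 : F)).c⁻¹))
        (Cfsg.Agent.StdRank2.SpFrame.tt 1) = Cfsg.Agent.StdRank2.SpFrame.tt 1 := by
      rw [Cfsg.Agent.StdRank2.SpFrame.sc_tt]
      congr 1
      change -(-1 * (1 : F)⁻¹) * -(-1 * (1 : F)⁻¹) * 1 = 1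
      simp
    rw [B2Maps.nII, h1, h2]
  · exact Cfsg.Agent.StdRank2.SpFrame.nb_sq S hZ
  · exact Cfsg.Agent.StdRank2.SpFrame.nb_z₂ S 1

theorem braid_four {A : Type*} [Group A] {a b : A} (ha : a * a = 1) (hb : b * b = 1)
    (h : a * (b * (a * b)) = b * (a * (b * a))) : (a * b) ^ 4 = 1 := by
  calc (a * b) ^ 4 = (a * (b * (a * b))) * (a * (b * (a * b))) := by
        rw [pow_succ, pow_succ, pow_two]; group
    _ = (b * (a * (b * a))) * (a * (b * (a * b))) := by rw [← h]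
    _ = b * (a * (b * (a * a) * b)) * a * b := by group
    _ = 1 := by rw [ha, mul_one, hb, mul_one]; rw [mul_assoc b a a, ha, mul_one, hb]

theorem base {G : Type u} [Group G] {A : Subgroup G} (S : Std (stdSp F) ↥A)
    (hZ : Subgroup.center ↥A = ⊥) {t : G} (htt : t * t = 1)
    (htA : t ∈ Subgroup.centralizer (A : Set G)) (htn : t ∉ A) :
    Weyl (Cfsg.Agent.StdRank2.SpFrame.base S hZ htt htA htn) where
  na_sq := congrArg A.subtype (Cfsg.Agent.StdRank2.SpFrame.na_sq S hZ)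
  nb_sq := congrArg A.subtype (Cfsg.Agent.StdRank2.SpFrame.nb_sq S hZ)
  na_xa := congrArg A.subtype (na_cube S hZ)
  nb_xb := congrArg A.subtype (nb_cube S hZ)
  braid := congrArg A.subtype (braid_four (Cfsg.Agent.StdRank2.SpFrame.na_sq S hZ)
    (Cfsg.Agent.StdRank2.SpFrame.nb_sq S hZ) (by
      have h1 := Cfsg.Agent.TitsThree.CoreB2.braid S.rel (r := Cfsg.Agent.StdRank2.SpFrame.tt (1 : F)) Cfsg.Agent.StdRank2.SpFrame.one_c
      rw [nt_one] at h1
      exact h1))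

end Weyl

end Cfsg.Agent.StdSpFour
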