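import Mathlib.Algebra.CharP.Two
import Mathlib.FieldTheory.Finite.Basic
import Mathlib.FieldTheory.Perfect
import Mathlib.Tactic.LinearCombination
import Mathlib.Tactic.FieldSimp

/-! Elementary facts on additive maps of a finite field of characteristic two. -/
set_option autoImplicit false
set_option linter.unusedSectionVars false

namespace Cfsg.Agent.StdSpFour.FieldAux

variable {F : Type*} [Field F] [CharP F 2]

theorem add_self (x : F) : x + x = 0 := CharTwo.add_self_eq_zero x

theorem eq_of_add_eq_zero {x y : F} (h : x + y = 0) : x = y := by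
  have := add_self y
  calc x = x + (y + y) := by rw [this, add_zero]
    _ = (x + y) + y := by ring
    _ = y := by rw [h, zero_add]

theorem sq_inj {x y : F} (h : x ^ 2 = y ^ 2) : x = y := by
  have h1 : (x + y) ^ 2 = 0 := by
    have h3 : (x + y) ^ 2 = x ^ 2 + y ^ 2 + (x * y + x * y) := by ring
    rw [h3, h, add_self, add_self, add_zero]
  exact eq_of_add_eq_zero (by simpa using h1)

theorem exists_sq [Finite F] (x : F) : ∃ y, y ^ 2 = x := by
  have h : Function.Injective (fun x : F => x ^ 2) := fun x y h => sq_inj h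
  obtain ⟨y, hy⟩ := (Finite.injective_iff_surjective.1 h) x
  exact ⟨y, hy⟩

/-- There is an element other than `0, 1`. -/
theorem exists_ne [Fintype F] (hF : 4 ≤ Fintype.card F) : ∃ x : F, x ≠ 0 ∧ x ≠ 1 := by
  classical
  by_contra hcon
  push Not at hcon
  have h1 : (Finset.univ : Finset F) ⊆ {0, 1} := by
    intro x _
    by_cases hx : x = 0
    · simp [hx]
    · simp [hcon x hx]
  have h2 := Finset.card_le_card h1
  rw [Finset.card_univ] at h2
  have h3 : ({0, 1} : Finset F).card ≤ 2 := Finset.card_le_two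
  omega

/-- An additive map which is constant on the non-zero elements vanishes (at least four elements). -/
theorem const_zero [Fintype F] (hF : 4 ≤ Fintype.card F) {M : Type*} [AddCommGroup M] {f : F → M}
    (hadd : ∀ x y, f (x + y) = f x + f y) (hc : ∀ x y, x ≠ 0 → y ≠ 0 → f x = f y) (x : F) : f x = 0 := by
  have h0 : f 0 = 0 := by
    have := hadd 0 0
    rw [add_zero] at this
    exact left_eq_add.1 this
  by_cases hx : x = 0
  · rw [hx, h0]
  obtain ⟨w, hw0, hw1⟩ := exists_ne hF
  have h1 : f x = f 1 := hc _ _ hx one_ne_zero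
  have hw : 1 + w ≠ 0 := by
    intro h
    exact hw1 (eq_of_add_eq_zero h).symm
  have h2 := hadd 1 w
  rw [hc (1 + w) 1 hw one_ne_zero, hc w 1 hw0 one_ne_zero] at h2
  rw [h1]
  exact left_eq_add.1 h2

/-- Hua type identity: an alternating biadditive map with `f (k x) (k y) = k f x y` is zero. -/
theorem alt_zero [Finite F] {f : F → F → F} (hl : ∀ x y z, f (x + y) z = f x z + f y z)
    (hr : ∀ x y z, f x (y + z) = f x y + f x z) (hs : ∀ k x y, k ≠ 0 → f (k * x) (k * y) = k * f x y)
    (ha : ∀ x, f x x = 0) (x y : F) : f x y = 0 := by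
  have hsymm : ∀ x y, f x y = f y x := by
    intro x y
    have h1 := ha (x + y)
    rw [hl, hr, hr, ha, ha, zero_add, add_zero] at h1
    exact eq_of_add_eq_zero h1
  have h0l : ∀ y, f 0 y = 0 := by
    intro y
    have := hl 0 0 y
    rw [add_zero] at this
    exact left_eq_add.1 this
  have h0r : ∀ y, f y 0 = 0 := fun y => by rw [hsymm, h0l]
  have hinv : ∀ w, w ≠ 0 → f 1 w⁻¹ = w⁻¹ * f 1 w := by
    intro w hw
    have h1 := hs w⁻¹ w 1 (inv_ne_zero hw)
    rw [inv_mul_cancel₀ hw, mul_one] at h1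
    rw [h1, hsymm]
  have hsq : ∀ w, f 1 (w ^ 2) = 0 := by
    intro w
    by_cases hw0 : w = 0
    · rw [hw0, zero_pow two_ne_zero, h0r]
    by_cases hw1 : w = 1
    · rw [hw1, one_pow, ha]
    have hw1' : w + 1 ≠ 0 := fun h => hw1 (eq_of_add_eq_zero h)
    have hww : w ^ 2 + w ≠ 0 := by
      have : w ^ 2 + w = w * (w + 1) := by ring
      rw [this]
      exact mul_ne_zero hw0 hw1'
    have h1 := hinv (w ^ 2 + w) hww
    have h2 : (w ^ 2 + w)⁻¹ = w⁻¹ + (w + 1)⁻¹ := by
      have h3 : w⁻¹ + (w + 1)⁻¹ = (w + 1 + w) * (w * (w + 1))⁻¹ := by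
        field_simp
      rw [h3, show w + 1 + w = 1 + (w + w) by ring, add_self, add_zero, one_mul]
      congr 1
      ring
    rw [h2, hr, hinv w hw0, hinv (w + 1) hw1', hr, hr, ha, add_zero] at h1
    have h4 : (w⁻¹ + (w + 1)⁻¹) * f 1 w = (w⁻¹ + (w + 1)⁻¹) * (f 1 (w ^ 2) + f 1 w) := by
      rw [← h1]; ring
    have h5 : w⁻¹ + (w + 1)⁻¹ ≠ 0 := by rw [← h2]; exact inv_ne_zero hww
    have h6 := mul_left_cancel₀ h5 h4
    exact right_eq_add.1 h6
  have hone : ∀ w, f 1 w = 0 := by
    intro w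
    obtain ⟨v, rfl⟩ := exists_sq w
    exact hsq v
  by_cases hx : x = 0
  · rw [hx, h0l]
  have h7 := hs x 1 (x⁻¹ * y) hx
  rw [mul_one, mul_inv_cancel_left₀ hx, hone, mul_zero] at h7
  exact h7

end Cfsg.Agent.StdSpFour.FieldAux
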