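import Cfsg.Agent.StdSpFour.Base
import Cfsg.Agent.StdSpFour.FieldAux
import Mathlib.Tactic.Group

/-! Basic calculus in `V₁ = X_b Z_s Z_l` and the scalar lemma. -/
set_option autoImplicit false
set_option linter.unusedSectionVars false

namespace Cfsg.Agent.StdSpFour
namespace Base

variable {F G : Type*} [Field F] [CharP F 2] [Group G] (B : Base F G)

theorem xa_zero : B.xa 0 = 1 := by
  have := B.xa_add 0 0
  rw [add_zero] at this
  exact left_eq_mul.1 this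

theorem xb_zero : B.xb 0 = 1 := by
  have := B.xb_add 0 0
  rw [add_zero] at this
  exact left_eq_mul.1 this

theorem zs_zero : B.zs 0 = 1 := by
  have := B.zs_add 0 0
  rw [add_zero] at this
  exact left_eq_mul.1 this

theorem zl_zero : B.zl 0 = 1 := by
  have := B.zl_add 0 0
  rw [add_zero] at this
  exact left_eq_mul.1 this

theorem xa_xa (u : F) : B.xa u * B.xa u = 1 := by
  rw [← B.xa_add, CharTwo.add_self_eq_zero, B.xa_zero]

theorem xb_xb (u : F) : B.xb u * B.xb u = 1 := by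
  rw [← B.xb_add, CharTwo.add_self_eq_zero, B.xb_zero]

theorem zs_zs (u : F) : B.zs u * B.zs u = 1 := by
  rw [← B.zs_add, CharTwo.add_self_eq_zero, B.zs_zero]

theorem zl_zl' (u : F) : B.zl u * B.zl u = 1 := by
  rw [← B.zl_add, CharTwo.add_self_eq_zero, B.zl_zero]

theorem xa_inv (u : F) : (B.xa u)⁻¹ = B.xa u := inv_eq_of_mul_eq_one_right (B.xa_xa u)
theorem xb_inv (u : F) : (B.xb u)⁻¹ = B.xb u := inv_eq_of_mul_eq_one_right (B.xb_xb u)
theorem zs_inv (u : F) : (B.zs u)⁻¹ = B.zs u := inv_eq_of_mul_eq_one_right (B.zs_zs u)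
theorem zl_inv (u : F) : (B.zl u)⁻¹ = B.zl u := inv_eq_of_mul_eq_one_right (B.zl_zl' u)
theorem t_inv : (B.t)⁻¹ = B.t := inv_eq_of_mul_eq_one_right B.tt

theorem h_one : B.h 1 1 = 1 := by
  have := B.h_mul 1 1 1 1
  rw [mul_one] at this
  exact left_eq_mul.1 this

theorem h_inv (α β : Fˣ) : (B.h α β)⁻¹ = B.h α⁻¹ β⁻¹ := by
  apply inv_eq_of_mul_eq_one_right
  rw [← B.h_mul, mul_inv_cancel, mul_inv_cancel, B.h_one]

theorem h_comm (α β α' β' : Fˣ) : Commute (B.h α β) (B.h α' β') := by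
  rw [commute_iff_eq, ← B.h_mul, ← B.h_mul, mul_comm α, mul_comm β]

/-- The elements of `V₁`. -/
def v1 (s m r : F) : G := B.xb s * B.zs m * B.zl r

theorem v1_zero : B.v1 0 0 0 = 1 := by
  rw [v1, B.xb_zero, B.zs_zero, B.zl_zero, one_mul, one_mul]

theorem v1_mul (s m r s' m' r' : F) :
    B.v1 s m r * B.v1 s' m' r' = B.v1 (s + s') (m + m') (r + r') := by
  simp only [v1, B.xb_add, B.zs_add, B.zl_add]
  have h1 := (B.zs_zl m' r).eq
  have h2 := (B.xb_zs s' m).eq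
  have h3 := (B.xb_zl s' r).eq
  calc B.xb s * B.zs m * B.zl r * (B.xb s' * B.zs m' * B.zl r')
      = B.xb s * B.zs m * (B.zl r * B.xb s') * B.zs m' * B.zl r' := by group
    _ = B.xb s * (B.zs m * B.xb s') * (B.zl r * B.zs m') * B.zl r' := by rw [← h3]; group
    _ = B.xb s * B.xb s' * (B.zs m * B.zs m') * (B.zl r * B.zl r') := by rw [← h1, ← h2]; group

theorem v1_v1 (s m r : F) : B.v1 s m r * B.v1 s m r = 1 := by
  rw [v1_mul, CharTwo.add_self_eq_zero, CharTwo.add_self_eq_zero, CharTwo.add_self_eq_zero, B.v1_zero]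

theorem v1_inv (s m r : F) : (B.v1 s m r)⁻¹ = B.v1 s m r := inv_eq_of_mul_eq_one_right (B.v1_v1 s m r)

theorem v1_comm (s m r s' m' r' : F) : Commute (B.v1 s m r) (B.v1 s' m' r') := by
  rw [commute_iff_eq, v1_mul, v1_mul, add_comm s, add_comm m, add_comm r]

theorem v1_inj {s m r s' m' r' : F} (h : B.v1 s m r = B.v1 s' m' r') : s = s' ∧ m = m' ∧ r = r' := by
  have h1 : B.v1 (s + s') (m + m') (r + r') = 1 := by
    rw [← v1_mul, h, v1_v1]
  have h2 := B.inj 0 (s + s') (m + m') (r + r') (by rw [B.xa_zero, one_mul]; exact h1)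
  exact ⟨FieldAux.eq_of_add_eq_zero h2.2.1, FieldAux.eq_of_add_eq_zero h2.2.2.1,
    FieldAux.eq_of_add_eq_zero h2.2.2.2⟩

theorem v1_ne_t (s m r : F) : B.v1 s m r ≠ B.t := by
  have := B.t_ne 0 s m r
  rwa [B.xa_zero, one_mul] at this

theorem t_v1 (s m r : F) : Commute B.t (B.v1 s m r) :=
  ((B.t_xb s).mul_right (B.t_zs m)).mul_right (B.t_zl r)

theorem xa_v1 (u s m r : F) : B.xa u * B.v1 s m r = B.v1 s (m + u * s) (r + u ^ 2 * s) * B.xa u := by
  simp only [v1, B.zs_add, B.zl_add]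
  have h1 := B.xa_xb u s
  have h2 := (B.xa_zs u (u * s)).eq
  have h3 := (B.xa_zl u (u ^ 2 * s)).eq
  have h4 := (B.xa_zs u m).eq
  have h5 := (B.xa_zl u r).eq
  have h6 := (B.zs_zl m (u ^ 2 * s)).eq
  have h7 := (B.zs_zl (u * s) (u ^ 2 * s)).eq
  have h8 : B.zs (u * s) * B.zs m = B.zs m * B.zs (u * s) := by
    rw [← B.zs_add, ← B.zs_add, add_comm]
  have h9 : B.zl (u ^ 2 * s) * B.zl r = B.zl r * B.zl (u ^ 2 * s) := by
    rw [← B.zl_add, ← B.zl_add, add_comm]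
  calc B.xa u * (B.xb s * B.zs m * B.zl r) = (B.xa u * B.xb s) * B.zs m * B.zl r := by group
    _ = B.xb s * (B.xa u * B.zs (u * s)) * B.zl (u ^ 2 * s) * B.zs m * B.zl r := by rw [h1]; group
    _ = B.xb s * B.zs (u * s) * (B.xa u * B.zl (u ^ 2 * s)) * B.zs m * B.zl r := by rw [h2]; group
    _ = B.xb s * B.zs (u * s) * B.zl (u ^ 2 * s) * (B.xa u * B.zs m) * B.zl r := by rw [h3]; group
    _ = B.xb s * B.zs (u * s) * B.zl (u ^ 2 * s) * B.zs m * (B.xa u * B.zl r) := by rw [h4]; group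
    _ = B.xb s * B.zs (u * s) * (B.zl (u ^ 2 * s) * B.zs m) * B.zl r * B.xa u := by rw [h5]; group
    _ = B.xb s * (B.zs (u * s) * B.zs m) * (B.zl (u ^ 2 * s) * B.zl r) * B.xa u := by rw [← h6]; group
    _ = B.xb s * (B.zs m * B.zs (u * s)) * (B.zl r * B.zl (u ^ 2 * s)) * B.xa u := by rw [h8, h9]

theorem na_v1 (s m r : F) : B.na * B.v1 s m r = B.v1 r m s * B.na := by
  simp only [v1]
  have h1 := (B.zs_zl m s).eq
  calc B.na * (B.xb s * B.zs m * B.zl r) = (B.na * B.xb s) * B.zs m * B.zl r := by group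
    _ = B.zl s * (B.na * B.zs m) * B.zl r := by rw [B.na_xb]; group
    _ = B.zl s * B.zs m * (B.na * B.zl r) := by rw [B.na_zs]; group
    _ = (B.zl s * B.zs m) * B.xb r * B.na := by rw [B.na_zl]; group
    _ = B.xb r * B.zs m * B.zl s * B.na := by
        rw [← h1]
        have h2 := (B.xb_zs r m).eq
        have h3 := (B.xb_zl r s).eq
        calc B.zs m * B.zl s * B.xb r * B.na = B.zs m * (B.zl s * B.xb r) * B.na := by group
          _ = (B.zs m * B.xb r) * B.zl s * B.na := by rw [← h3]; group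
          _ = B.xb r * B.zs m * B.zl s * B.na := by rw [← h2]

theorem h_v1 (α β : Fˣ) (s m r : F) :
    B.h α β * B.v1 s m r = B.v1 (β * s) (α * β * m) (α ^ 2 * β * r) * B.h α β := by
  simp only [v1]
  calc B.h α β * (B.xb s * B.zs m * B.zl r) = (B.h α β * B.xb s) * B.zs m * B.zl r := by group
    _ = B.xb (β * s) * (B.h α β * B.zs m) * B.zl r := by rw [B.h_xb]; group
    _ = B.xb (β * s) * B.zs (α * β * m) * (B.h α β * B.zl r) := by rw [B.h_zs]; group
    _ = _ := by rw [B.h_zl]; group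

/-- `g` normalises `V₁` and acts on it commuting with `x_a(u)` and `n_a`: then it is a scalar. -/
theorem scalar [Fintype F] (hF : 4 ≤ Fintype.card F) (g : G)
    (hV : ∀ s m r, ∃ s' m' r', g⁻¹ * B.v1 s m r * g = B.v1 s' m' r')
    (hxa : ∀ u, ∃ s m r, g⁻¹ * B.xa u * g = B.xa u * B.v1 s m r)
    (hna : ∃ s m r, g⁻¹ * B.na * g = B.na * B.v1 s m r) :
    ∃ μ : F, ∀ s m r, g⁻¹ * B.v1 s m r * g = B.v1 (μ * s) (μ * m) (μ * r) := by
  choose f1 f2 f3 hf using hV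
  -- the conjugation commutes with `xa u`
  have key : ∀ (l : G), (∃ s m r, g⁻¹ * l * g = l * B.v1 s m r) → ∀ s m r s' m' r',
      l * B.v1 s m r = B.v1 s' m' r' * l →
      l * B.v1 (f1 s m r) (f2 s m r) (f3 s m r) =
        B.v1 (f1 s' m' r') (f2 s' m' r') (f3 s' m' r') * l := by
    rintro l ⟨x, y, z, hl⟩ s m r s' m' r' h
    rw [← hf s m r, ← hf s' m' r']
    have h1 : g⁻¹ * l * g * (g⁻¹ * B.v1 s m r * g) = g⁻¹ * B.v1 s' m' r' * g * (g⁻¹ * l * g) := by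
      calc g⁻¹ * l * g * (g⁻¹ * B.v1 s m r * g) = g⁻¹ * (l * B.v1 s m r) * g := by group
        _ = g⁻¹ * B.v1 s' m' r' * g * (g⁻¹ * l * g) := by rw [h]; group
    rw [hl] at h1
    have h2 : Commute (B.v1 x y z) (g⁻¹ * B.v1 s m r * g) := by rw [hf]; exact B.v1_comm _ _ _ _ _ _
    have h3 : l * (g⁻¹ * B.v1 s m r * g) * B.v1 x y z = g⁻¹ * B.v1 s' m' r' * g * l * B.v1 x y z := by
      rw [mul_assoc l, ← h2.eq, ← mul_assoc, h1]
      simp only [mul_assoc]
    exact mul_right_cancel h3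
  have hadd : ∀ s m r s' m' r', B.v1 (f1 s m r) (f2 s m r) (f3 s m r) *
      B.v1 (f1 s' m' r') (f2 s' m' r') (f3 s' m' r') =
      B.v1 (f1 (s + s') (m + m') (r + r')) (f2 (s + s') (m + m') (r + r')) (f3 (s + s') (m + m') (r + r')) := by
    intro s m r s' m' r'
    rw [← hf, ← hf, ← hf, ← B.v1_mul]; group
  have hadd' : ∀ s m r s' m' r', f1 (s + s') (m + m') (r + r') = f1 s m r + f1 s' m' r' ∧
      f2 (s + s') (m + m') (r + r') = f2 s m r + f2 s' m' r' ∧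
      f3 (s + s') (m + m') (r + r') = f3 s m r + f3 s' m' r' := by
    intro s m r s' m' r'
    have h := hadd s m r s' m' r'
    rw [B.v1_mul] at h
    obtain ⟨h1, h2, h3⟩ := B.v1_inj h
    exact ⟨h1.symm, h2.symm, h3.symm⟩
  have hxa' : ∀ u s m r, f1 s (m + u * s) (r + u ^ 2 * s) = f1 s m r ∧
      f2 s (m + u * s) (r + u ^ 2 * s) = f2 s m r + u * f1 s m r ∧
      f3 s (m + u * s) (r + u ^ 2 * s) = f3 s m r + u ^ 2 * f1 s m r := by
    intro u s m r
    have h := key _ (hxa u) _ _ _ _ _ _ (B.xa_v1 u s m r)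
    rw [B.xa_v1] at h
    obtain ⟨h1, h2, h3⟩ := B.v1_inj (mul_right_cancel h)
    exact ⟨h1.symm, h2.symm, h3.symm⟩
  have hna' : ∀ s m r, f1 r m s = f3 s m r ∧ f2 r m s = f2 s m r ∧ f3 r m s = f1 s m r := by
    intro s m r
    have h := key _ hna _ _ _ _ _ _ (B.na_v1 s m r)
    rw [B.na_v1] at h
    obtain ⟨h1, h2, h3⟩ := B.v1_inj (mul_right_cancel h)
    exact ⟨h1.symm, h2.symm, h3.symm⟩
  -- on `Z_s`
  have hzs1 : ∀ m, f1 0 m 0 = 0 := by
    intro m
    have h := (hxa' 1 0 m 0).2.1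
    simp only [mul_zero, add_zero, one_mul] at h
    exact left_eq_add.1 h
  have hzs3 : ∀ m, f3 0 m 0 = 0 := by
    intro m
    rw [← (hna' 0 m 0).1, hzs1]
  -- on `Z_l`
  have hzl1 : ∀ r, f1 0 0 r = 0 := by
    intro r
    have h := (hxa' 1 0 0 r).2.1
    simp only [mul_zero, add_zero, one_mul] at h
    exact left_eq_add.1 h
  -- on `X_b`
  have hxb1 : ∀ s, f1 s 0 0 = f3 0 0 s := fun s => (hna' 0 0 s).1
  have hxb2 : ∀ s, f2 s 0 0 = f2 0 0 s := fun s => (hna' 0 0 s).2.1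
  have hxb3 : ∀ s, f3 s 0 0 = 0 := fun s => by rw [(hna' 0 0 s).2.2, hzl1]
  -- decomposition
  have hdec : ∀ s m r, f1 s m r = f1 s 0 0 + (f1 0 m 0 + f1 0 0 r) ∧
      f2 s m r = f2 s 0 0 + (f2 0 m 0 + f2 0 0 r) ∧ f3 s m r = f3 s 0 0 + (f3 0 m 0 + f3 0 0 r) := by
    intro s m r
    have h1 := hadd' s 0 0 0 m r
    have h2 := hadd' 0 m 0 0 0 r
    simp only [add_zero, zero_add] at h1 h2
    exact ⟨by rw [h1.1, h2.1], by rw [h1.2.1, h2.2.1], by rw [h1.2.2, h2.2.2]⟩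
  have e3 : ∀ u s, f3 0 0 (u ^ 2 * s) = u ^ 2 * f3 0 0 s := by
    intro u s
    have h := (hxa' u s 0 0).2.2
    simp only [zero_add] at h
    rw [(hdec s (u * s) (u ^ 2 * s)).2.2, hxb3, hzs3, zero_add, zero_add, zero_add, hxb1] at h
    exact h
  have e2 : ∀ u s, f2 0 (u * s) 0 + f2 0 0 (u ^ 2 * s) = u * f3 0 0 s := by
    intro u s
    have h := (hxa' u s 0 0).2.1
    simp only [zero_add] at h
    rw [(hdec s (u * s) (u ^ 2 * s)).2.1, hxb1] at h
    exact add_left_cancel h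
  set μ := f3 0 0 1 with hμ
  have hτ : ∀ x, f3 0 0 x = μ * x := by
    intro x
    obtain ⟨y, rfl⟩ := FieldAux.exists_sq x
    have := e3 y 1
    rw [mul_one] at this
    rw [this, mul_comm]
  have hκc : ∀ x y, x ≠ 0 → y ≠ 0 → f2 0 0 x = f2 0 0 y := by
    intro x y hx hy
    have h1 := e2 x x⁻¹
    have h2 := e2 y y⁻¹
    rw [hτ, mul_inv_cancel₀ hx, show x * (μ * x⁻¹) = μ * (x * x⁻¹) by ring, mul_inv_cancel₀ hx,
      show x ^ 2 * x⁻¹ = x * (x * x⁻¹) by ring, mul_inv_cancel₀ hx, mul_one, mul_one] at h1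
    rw [hτ, mul_inv_cancel₀ hy, show y * (μ * y⁻¹) = μ * (y * y⁻¹) by ring, mul_inv_cancel₀ hy,
      show y ^ 2 * y⁻¹ = y * (y * y⁻¹) by ring, mul_inv_cancel₀ hy, mul_one, mul_one] at h2
    exact add_left_cancel (h1.trans h2.symm)
  have hκ : ∀ x, f2 0 0 x = 0 := by
    apply FieldAux.const_zero hF _ hκc
    intro x y
    have := (hadd' 0 0 x 0 0 y).2.1
    simpa using this
  have hρ : ∀ x, f2 0 x 0 = μ * x := by
    intro x
    have := e2 x 1
    rw [mul_one, mul_one, hκ, add_zero, hτ, mul_one] at this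
    rw [this, mul_comm]
  refine ⟨μ, fun s m r => ?_⟩
  rw [hf, (hdec s m r).1, (hdec s m r).2.1, (hdec s m r).2.2, hzs1, hzl1, hxb1, hxb2, hκ, hκ, hρ, hxb3, hzs3,
    hτ, hτ]
  simp only [add_zero, zero_add]

end Base
end Cfsg.Agent.StdSpFour
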