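import Cfsg.Agent.StdSpFour.Fld
import Cfsg.Agent.StdSpFour.V1

/-!
# S1778, type Sp₄(q): the perfect subgroup `Sp₄(2)' ≅ A₆` of `A`

`SS B`: the conjugates of `p0 = x_a(1) z_s(1)`, `q0 = x_b(1) z_l(1)` under `D0 = ⟨x_a(1), x_b(1), na, nb⟩`.  Every element of `SS`
is the commutator of an element `s₁ s₂` and an element `s₃`, `sᵢ ∈ SS`.  Used for the outer fusion lemma.
-/

set_option autoImplicit false
set_option linter.unusedSectionVars false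

namespace Cfsg.Agent.StdSpFour.Alt

open Subgroup Cfsg.Agent.StdSpFour Cfsg.Agent.StdSpFour.Comm Cfsg.Agent.StdSpFour.Fld

variable {F G : Type*} [Field F] [Group G]

/-- `x_a(1) z_s(1)` -/
def p0 (B : Base F G) : G := B.xa 1 * B.zs 1
/-- `x_b(1) z_l(1)` -/
def q0 (B : Base F G) : G := B.xb 1 * B.zl 1
/-- `⟨x_a(1), x_b(1), na, nb⟩` -/
def D0 (B : Base F G) : Subgroup G := closure {B.xa 1, B.xb 1, B.na, B.nb}
/-- the conjugates of `p0`, `q0` under `D0` -/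
def SS (B : Base F G) : Set G := {s | ∃ x ∈ D0 B, s = x * p0 B * x⁻¹ ∨ s = x * q0 B * x⁻¹}

variable {B : Base F G}

theorem xa_D0 : B.xa 1 ∈ D0 B := subset_closure (Or.inl rfl)
theorem xb_D0 : B.xb 1 ∈ D0 B := subset_closure (Or.inr (Or.inl rfl))
theorem na_D0 : B.na ∈ D0 B := subset_closure (Or.inr (Or.inr (Or.inl rfl)))
theorem nb_D0 : B.nb ∈ D0 B := subset_closure (Or.inr (Or.inr (Or.inr rfl)))

theorem conj_SS {x s : G} (hx : x ∈ D0 B) (hs : s ∈ SS B) : x * s * x⁻¹ ∈ SS B := by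
  obtain ⟨y, hy, rfl | rfl⟩ := hs
  · exact ⟨x * y, mul_mem hx hy, Or.inl (by group)⟩
  · exact ⟨x * y, mul_mem hx hy, Or.inr (by group)⟩

theorem p0_SS : p0 B ∈ SS B := ⟨1, one_mem _, Or.inl (by group)⟩
theorem q0_SS : q0 B ∈ SS B := ⟨1, one_mem _, Or.inr (by group)⟩

/-- elements commuting with the generators -/
theorem comm_SS {f : G} (h1 : Commute f (B.xa 1)) (h2 : Commute f (B.xb 1)) (h3 : Commute f (B.zs 1))
    (h4 : Commute f (B.zl 1)) (h5 : Commute f B.na) (h6 : Commute f B.nb) {s : G} (hs : s ∈ SS B) : Commute f s := by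
  have key : ∀ x ∈ D0 B, Commute f x := by
    intro x hx
    have hle : D0 B ≤ centralizer {f} := by
      rw [D0, closure_le]
      rintro _ (rfl | rfl | rfl | rfl)
      · exact mem_centralizer_singleton_iff.2 h1.symm.eq
      · exact mem_centralizer_singleton_iff.2 h2.symm.eq
      · exact mem_centralizer_singleton_iff.2 h5.symm.eq
      · exact mem_centralizer_singleton_iff.2 h6.symm.eq
    exact (mem_centralizer_singleton_iff.1 (hle hx)).symm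
  obtain ⟨x, hx, rfl | rfl⟩ := hs
  · exact ((key x hx).mul_right (h1.mul_right h3)).mul_right (key x hx).inv_right
  · exact ((key x hx).mul_right (h2.mul_right h4)).mul_right (key x hx).inv_right

theorem comm_fld {σ : F ≃+* F} {f : G} (hf : IsFld B σ f) {s : G} (hs : s ∈ SS B) : Commute f s := by
  refine comm_SS ?_ ?_ ?_ ?_ hf.na hf.nb hs
  · have := hf.xa 1; rwa [map_one] at this
  · have := hf.xb 1; rwa [map_one] at this
  · have := hf.zs 1; rwa [map_one] at this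
  · have := hf.zl 1; rwa [map_one] at this

theorem comm_t {s : G} (hs : s ∈ SS B) : Commute B.t s :=
  comm_SS (B.t_xa 1) (B.t_xb 1) (B.t_zs 1) (B.t_zl 1) B.t_na B.t_nb hs

variable [CharP F 2]

theorem xa_sq : B.xa 1 * B.xa 1 = 1 := sq_of_add B.xa_add _
theorem xb_sq : B.xb 1 * B.xb 1 = 1 := sq_of_add B.xb_add _
theorem zs_sq : B.zs 1 * B.zs 1 = 1 := sq_of_add B.zs_add _
theorem zl_sq : B.zl 1 * B.zl 1 = 1 := sq_of_add B.zl_add _

theorem p0_sq : p0 B * p0 B = 1 := by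
  have h1 := (B.xa_zs 1 1).eq
  calc B.xa 1 * B.zs 1 * (B.xa 1 * B.zs 1) = B.xa 1 * (B.zs 1 * B.xa 1) * B.zs 1 := by group
    _ = (B.xa 1 * B.xa 1) * (B.zs 1 * B.zs 1) := by rw [← h1]; group
    _ = 1 := by rw [xa_sq, zs_sq, one_mul]

theorem q0_sq : q0 B * q0 B = 1 := by
  have h1 := (B.xb_zl 1 1).eq
  calc B.xb 1 * B.zl 1 * (B.xb 1 * B.zl 1) = B.xb 1 * (B.zl 1 * B.xb 1) * B.zl 1 := by group
    _ = (B.xb 1 * B.xb 1) * (B.zl 1 * B.zl 1) := by rw [← h1]; group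
    _ = 1 := by rw [xb_sq, zl_sq, one_mul]

theorem SS_sq {s : G} (hs : s ∈ SS B) : s * s = 1 := by
  obtain ⟨x, hx, rfl | rfl⟩ := hs
  · calc x * p0 B * x⁻¹ * (x * p0 B * x⁻¹) = x * (p0 B * p0 B) * x⁻¹ := by group
      _ = 1 := by rw [p0_sq]; group
  · calc x * q0 B * x⁻¹ * (x * q0 B * x⁻¹) = x * (q0 B * q0 B) * x⁻¹ := by group
      _ = 1 := by rw [q0_sq]; group

/-- the data: `s = [s₁ s₂, s₃]`, where `s₄ = (s₁ s₂) s₃ (s₁ s₂)⁻¹` commutes with `s₃` -/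
def Per (B : Base F G) (s : G) : Prop :=
  ∃ s1 ∈ SS B, ∃ s2 ∈ SS B, ∃ s3 ∈ SS B, ∃ s4 ∈ SS B, s1 * s2 * s3 * (s1 * s2)⁻¹ = s4 ∧ s4 * s3 = s ∧ s3 * s4 = s

theorem Per.conj {s x : G} (hx : x ∈ D0 B) (h : Per B s) : Per B (x * s * x⁻¹) := by
  obtain ⟨s1, h1, s2, h2, s3, h3, s4, h4, e1, e2, e3⟩ := h
  refine ⟨_, conj_SS hx h1, _, conj_SS hx h2, _, conj_SS hx h3, _, conj_SS hx h4, ?_, ?_, ?_⟩
  · rw [← e1]; group
  · rw [← e2]; group
  · rw [← e3]; group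

/-- `d' = p0 (na p0 na⁻¹) = x_a(1) na x_a(1) na⁻¹` -/
theorem d_eq : p0 B * (B.na * p0 B * B.na⁻¹) = B.xa 1 * (B.na * B.xa 1 * B.na⁻¹) := by
  have h1 : Commute (B.zs 1) (B.na * B.xa 1 * B.na⁻¹) := by
    have h2 : Commute (B.zs 1) B.na := (show Commute B.na (B.zs 1) from B.na_zs 1).symm
    exact (h2.mul_right (B.xa_zs 1 1).symm).mul_right h2.inv_right
  have h3 : B.zs 1 * B.na⁻¹ = B.na⁻¹ * B.zs 1 := by
    have h2 : Commute (B.zs 1) B.na := (show Commute B.na (B.zs 1) from B.na_zs 1).symm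
    exact h2.inv_right.eq
  unfold p0
  calc B.xa 1 * B.zs 1 * (B.na * (B.xa 1 * B.zs 1) * B.na⁻¹)
      = B.xa 1 * B.zs 1 * (B.na * B.xa 1 * (B.zs 1 * B.na⁻¹)) := by group
    _ = B.xa 1 * (B.zs 1 * (B.na * B.xa 1 * B.na⁻¹)) * B.zs 1 := by rw [h3]; group
    _ = B.xa 1 * (B.na * B.xa 1 * B.na⁻¹) * (B.zs 1 * B.zs 1) := by rw [h1.eq]; group
    _ = _ := by rw [zs_sq, mul_one]

theorem e_eq : q0 B * (B.nb * q0 B * B.nb⁻¹) = B.xb 1 * (B.nb * B.xb 1 * B.nb⁻¹) := by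
  have h2 : Commute (B.zl 1) B.nb := (show Commute B.nb (B.zl 1) from B.nb_zl 1).symm
  have h1 : Commute (B.zl 1) (B.nb * B.xb 1 * B.nb⁻¹) := (h2.mul_right (B.xb_zl 1 1).symm).mul_right h2.inv_right
  have h3 : B.zl 1 * B.nb⁻¹ = B.nb⁻¹ * B.zl 1 := h2.inv_right.eq
  unfold q0
  calc B.xb 1 * B.zl 1 * (B.nb * (B.xb 1 * B.zl 1) * B.nb⁻¹)
      = B.xb 1 * B.zl 1 * (B.nb * B.xb 1 * (B.zl 1 * B.nb⁻¹)) := by group
    _ = B.xb 1 * (B.zl 1 * (B.nb * B.xb 1 * B.nb⁻¹)) * B.zl 1 := by rw [h3]; group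
    _ = B.xb 1 * (B.nb * B.xb 1 * B.nb⁻¹) * (B.zl 1 * B.zl 1) := by rw [h1.eq]; group
    _ = _ := by rw [zl_sq, mul_one]

/-- action of `x_a(1) (na x_a(1) na⁻¹)` on `V₁` -/
theorem d_v1 (s m r : F) : B.xa 1 * (B.na * B.xa 1 * B.na⁻¹) * B.v1 s m r * (B.xa 1 * (B.na * B.xa 1 * B.na⁻¹))⁻¹ =
    B.v1 (s + r) (m + s) s := by
  have h2 := CharTwo.two_eq_zero (R := F)
  have e1 : B.na⁻¹ * B.v1 s m r = B.v1 r m s * B.na⁻¹ := by
    rw [inv_mul_eq_iff_eq_mul, ← mul_assoc, B.na_v1, mul_inv_cancel_right]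
  have e2 := B.xa_v1 1 r m s
  have e3 := B.na_v1 r (m + 1 * r) (s + 1 ^ 2 * r)
  have e4 := B.xa_v1 1 (s + 1 ^ 2 * r) (m + 1 * r) r
  calc B.xa 1 * (B.na * B.xa 1 * B.na⁻¹) * B.v1 s m r * (B.xa 1 * (B.na * B.xa 1 * B.na⁻¹))⁻¹
      = B.xa 1 * B.na * B.xa 1 * (B.na⁻¹ * B.v1 s m r) * (B.xa 1 * (B.na * B.xa 1 * B.na⁻¹))⁻¹ := by group
    _ = B.xa 1 * B.na * (B.xa 1 * B.v1 r m s) * B.na⁻¹ * (B.xa 1 * (B.na * B.xa 1 * B.na⁻¹))⁻¹ := by rw [e1]; group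
    _ = B.xa 1 * (B.na * B.v1 r (m + 1 * r) (s + 1 ^ 2 * r)) * B.xa 1 * B.na⁻¹ *
          (B.xa 1 * (B.na * B.xa 1 * B.na⁻¹))⁻¹ := by rw [e2]; group
    _ = (B.xa 1 * B.v1 (s + 1 ^ 2 * r) (m + 1 * r) r) * B.na * B.xa 1 * B.na⁻¹ *
          (B.xa 1 * (B.na * B.xa 1 * B.na⁻¹))⁻¹ := by rw [e3]; group
    _ = B.v1 (s + 1 ^ 2 * r) (m + 1 * r + 1 * (s + 1 ^ 2 * r)) (r + 1 ^ 2 * (s + 1 ^ 2 * r)) := by rw [e4]; group
    _ = _ := by
        congr 1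
        · ring
        · linear_combination r * h2
        · linear_combination r * h2

/-- `x_a(u) z_s(m) z_l(r)` -/
def v2 (B : Base F G) (u m r : F) : G := B.xa u * B.zs m * B.zl r

theorem v2_mul (u m r u' m' r' : F) : v2 B u m r * v2 B u' m' r' = v2 B (u + u') (m + m') (r + r') := by
  have h1 := (B.xa_zs u' m).eq
  have h2 := (B.xa_zl u' r).eq
  have h3 := (B.zs_zl m' r).eq
  unfold v2
  rw [B.xa_add, B.zs_add, B.zl_add]
  calc B.xa u * B.zs m * B.zl r * (B.xa u' * B.zs m' * B.zl r')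
      = B.xa u * B.zs m * (B.zl r * B.xa u') * B.zs m' * B.zl r' := by group
    _ = B.xa u * (B.zs m * B.xa u') * (B.zl r * B.zs m') * B.zl r' := by rw [← h2]; group
    _ = _ := by rw [← h1, ← h3]; group

theorem v2_comm (u m r u' m' r' : F) : v2 B u m r * v2 B u' m' r' = v2 B u' m' r' * v2 B u m r := by
  rw [v2_mul, v2_mul, add_comm u, add_comm m, add_comm r]

theorem nb_v2 (u m r : F) : B.nb * v2 B u m r = v2 B m u r * B.nb := by
  have h1 := B.nb_xa u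
  have h2 := B.nb_zs m
  have h3 := B.nb_zl r
  have h4 := (B.xa_zs m u).eq
  unfold v2
  calc B.nb * (B.xa u * B.zs m * B.zl r) = (B.nb * B.xa u) * B.zs m * B.zl r := by group
    _ = B.zs u * (B.nb * B.zs m) * B.zl r := by rw [h1]; group
    _ = B.zs u * B.xa m * (B.nb * B.zl r) := by rw [h2]; group
    _ = _ := by rw [h3, ← h4]; group

theorem xb_v2 (s u m r : F) : B.xb s * v2 B u m r = v2 B u (m + u * s) (r + u ^ 2 * s) * B.xb s := by
  have h1 := B.xa_xb u s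
  have h2 := (B.xb_zs s m).eq
  have h3 := (B.xb_zl s r).eq
  have i1 := sq_of_add B.zs_add (u * s)
  have i2 := sq_of_add B.zl_add (u ^ 2 * s)
  have e1 : B.xb s * B.xa u = B.xa u * B.zs (u * s) * B.zl (u ^ 2 * s) * B.xb s := by
    have c1 := (B.xb_zs s (u * s)).eq
    have c2 := (B.xb_zl s (u ^ 2 * s)).eq
    have c3 := (B.zs_zl (u * s) (u ^ 2 * s)).eq
    have c4 := (B.xa_zs u (u * s)).eq
    have c5 := (B.xa_zl u (u ^ 2 * s)).eq
    symm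
    calc B.xa u * B.zs (u * s) * B.zl (u ^ 2 * s) * B.xb s
        = B.xa u * B.zs (u * s) * (B.zl (u ^ 2 * s) * B.xb s) := by group
      _ = B.xa u * (B.zs (u * s) * B.xb s) * B.zl (u ^ 2 * s) := by rw [← c2]; group
      _ = (B.xa u * B.xb s) * B.zs (u * s) * B.zl (u ^ 2 * s) := by rw [← c1]; group
      _ = B.xb s * B.xa u * B.zs (u * s) * (B.zl (u ^ 2 * s) * B.zs (u * s)) * B.zl (u ^ 2 * s) := by rw [h1]; group
      _ = B.xb s * B.xa u * (B.zs (u * s) * B.zs (u * s)) * (B.zl (u ^ 2 * s) * B.zl (u ^ 2 * s)) := by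
          rw [← c3]; group
      _ = _ := by rw [i1, i2, mul_one, mul_one]
  have c5 := (B.zs_zl m (u ^ 2 * s)).eq
  have c6 : B.zs (u * s) * B.zs m = B.zs m * B.zs (u * s) := by rw [← B.zs_add, ← B.zs_add, add_comm]
  have c7 : B.zl (u ^ 2 * s) * B.zl r = B.zl r * B.zl (u ^ 2 * s) := by rw [← B.zl_add, ← B.zl_add, add_comm]
  unfold v2
  rw [B.zs_add, B.zl_add]
  calc B.xb s * (B.xa u * B.zs m * B.zl r) = (B.xb s * B.xa u) * B.zs m * B.zl r := by group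
    _ = B.xa u * B.zs (u * s) * B.zl (u ^ 2 * s) * (B.xb s * B.zs m) * B.zl r := by rw [e1]; group
    _ = B.xa u * B.zs (u * s) * (B.zl (u ^ 2 * s) * B.zs m) * (B.xb s * B.zl r) := by rw [h2]; group
    _ = B.xa u * (B.zs (u * s) * B.zs m) * (B.zl (u ^ 2 * s) * B.zl r) * B.xb s := by rw [← c5, h3]; group
    _ = _ := by rw [c6, c7]

/-- action of `x_b(1) (nb x_b(1) nb⁻¹)` on `V₂` -/
theorem e_v2 (u m r : F) : B.xb 1 * (B.nb * B.xb 1 * B.nb⁻¹) * v2 B u m r * (B.xb 1 * (B.nb * B.xb 1 * B.nb⁻¹))⁻¹ =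
    v2 B (u + m) u (r + u ^ 2) := by
  have h2 := CharTwo.two_eq_zero (R := F)
  have e1 : B.nb⁻¹ * v2 B u m r = v2 B m u r * B.nb⁻¹ := by
    rw [inv_mul_eq_iff_eq_mul, ← mul_assoc, nb_v2, mul_inv_cancel_right]
  have e2 := xb_v2 (B := B) 1 m u r
  have e3 := nb_v2 (B := B) m (u + m * 1) (r + m ^ 2 * 1)
  have e4 := xb_v2 (B := B) 1 (u + m * 1) m (r + m ^ 2 * 1)
  calc B.xb 1 * (B.nb * B.xb 1 * B.nb⁻¹) * v2 B u m r * (B.xb 1 * (B.nb * B.xb 1 * B.nb⁻¹))⁻¹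
      = B.xb 1 * B.nb * B.xb 1 * (B.nb⁻¹ * v2 B u m r) * (B.xb 1 * (B.nb * B.xb 1 * B.nb⁻¹))⁻¹ := by group
    _ = B.xb 1 * B.nb * (B.xb 1 * v2 B m u r) * B.nb⁻¹ * (B.xb 1 * (B.nb * B.xb 1 * B.nb⁻¹))⁻¹ := by rw [e1]; group
    _ = B.xb 1 * (B.nb * v2 B m (u + m * 1) (r + m ^ 2 * 1)) * B.xb 1 * B.nb⁻¹ *
          (B.xb 1 * (B.nb * B.xb 1 * B.nb⁻¹))⁻¹ := by rw [e2]; group
    _ = (B.xb 1 * v2 B (u + m * 1) m (r + m ^ 2 * 1)) * B.nb * B.xb 1 * B.nb⁻¹ *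
          (B.xb 1 * (B.nb * B.xb 1 * B.nb⁻¹))⁻¹ := by rw [e3]; group
    _ = v2 B (u + m * 1) (m + (u + m * 1) * 1) (r + m ^ 2 * 1 + (u + m * 1) ^ 2 * 1) := by rw [e4]; group
    _ = _ := by
        congr 1
        · ring
        · linear_combination m * h2
        · linear_combination (m ^ 2 + u * m) * h2

theorem q0_v1 : q0 B = B.v1 1 0 1 := by
  rw [q0, Base.v1, B.zs_zero, mul_one]

theorem p0_v2 : p0 B = v2 B 1 1 0 := by
  rw [p0, v2, B.zl_zero, mul_one]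

theorem per_q0 : Per B (q0 B) := by
  have h2 := CharTwo.two_eq_zero (R := F)
  have hd := d_v1 (B := B) 1 0 1
  have hd2 := d_v1 (B := B) (1 + 1) (0 + 1) 1
  have z : (1 : F) + 1 = 0 := CharTwo.add_self_eq_zero 1
  rw [← d_eq] at hd hd2
  set s2 := B.na * p0 B * B.na⁻¹ with hs2
  have hs2m : s2 ∈ SS B := conj_SS na_D0 p0_SS
  have h3 : B.v1 (1 + 1) (0 + 1) 1 ∈ SS B := by
    rw [← hd, ← q0_v1]
    have hdm : p0 B * s2 * q0 B * (p0 B * s2)⁻¹ ∈ SS B := by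
      have hD : p0 B * s2 ∈ D0 B := by
        rw [hs2, d_eq]
        exact mul_mem xa_D0 (mul_mem (mul_mem na_D0 xa_D0) (inv_mem na_D0))
      exact conj_SS hD q0_SS
    exact hdm
  have h4 : B.v1 (1 + 1 + 1) (0 + 1 + (1 + 1)) (1 + 1) ∈ SS B := by
    rw [← hd2]
    have hD : p0 B * s2 ∈ D0 B := by
      rw [hs2, d_eq]
      exact mul_mem xa_D0 (mul_mem (mul_mem na_D0 xa_D0) (inv_mem na_D0))
    exact conj_SS hD h3
  refine ⟨p0 B, p0_SS, s2, hs2m, _, h3, _, h4, hd2, ?_, ?_⟩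
  · rw [B.v1_mul, q0_v1]
    congr 1
    · linear_combination (2 : F) * h2
    · linear_combination (2 : F) * h2
    · linear_combination h2
  · rw [B.v1_mul, q0_v1]
    congr 1
    · linear_combination (2 : F) * h2
    · linear_combination (2 : F) * h2
    · linear_combination h2

theorem per_p0 : Per B (p0 B) := by
  have h2 := CharTwo.two_eq_zero (R := F)
  have hd := e_v2 (B := B) 1 1 0
  have hd2 := e_v2 (B := B) (1 + 1) 1 (0 + 1 ^ 2)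
  rw [← e_eq] at hd hd2
  set s2 := B.nb * q0 B * B.nb⁻¹ with hs2
  have hs2m : s2 ∈ SS B := conj_SS nb_D0 q0_SS
  have hD : q0 B * s2 ∈ D0 B := by
    rw [hs2, e_eq]
    exact mul_mem xb_D0 (mul_mem (mul_mem nb_D0 xb_D0) (inv_mem nb_D0))
  have h3 : v2 B (1 + 1) 1 (0 + 1 ^ 2) ∈ SS B := by
    rw [← hd, ← p0_v2]
    exact conj_SS hD p0_SS
  have h4 : v2 B (1 + 1 + 1) (1 + 1) (0 + 1 ^ 2 + (1 + 1) ^ 2) ∈ SS B := by
    rw [← hd2]
    exact conj_SS hD h3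
  refine ⟨q0 B, q0_SS, s2, hs2m, _, h3, _, h4, hd2, ?_, ?_⟩
  · rw [v2_mul, p0_v2]
    congr 1
    · linear_combination (2 : F) * h2
    · linear_combination h2
    · linear_combination (3 : F) * h2
  · rw [v2_mul, p0_v2]
    congr 1
    · linear_combination (2 : F) * h2
    · linear_combination h2
    · linear_combination (3 : F) * h2

theorem per {s : G} (hs : s ∈ SS B) : Per B s := by
  obtain ⟨x, hx, rfl | rfl⟩ := hs
  · exact per_p0.conj hx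
  · exact per_q0.conj hx

/-- `p0` and `q0` do not commute -/
theorem not_comm : p0 B * q0 B ≠ q0 B * p0 B := by
  intro h
  have h1 := B.xa_xb 1 1
  rw [one_mul, one_pow, one_mul] at h1
  have c1 : Commute (B.zs 1) (q0 B) := (B.xb_zs 1 1).symm.mul_right (B.zs_zl 1 1)
  have c2 : Commute (B.xa 1) (B.zl 1) := B.xa_zl 1 1
  have h2 : B.xa 1 * q0 B = q0 B * B.xa 1 := by
    apply mul_right_cancel (b := B.zs 1)
    calc B.xa 1 * q0 B * B.zs 1 = B.xa 1 * (q0 B * B.zs 1) := by group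
      _ = p0 B * q0 B := by rw [← c1.eq]; unfold p0; group
      _ = q0 B * (B.xa 1 * B.zs 1) := h
      _ = _ := by group
  have h3 : B.xa 1 * B.xb 1 = B.xb 1 * B.xa 1 := by
    apply mul_right_cancel (b := B.zl 1)
    calc B.xa 1 * B.xb 1 * B.zl 1 = B.xa 1 * q0 B := by unfold q0; group
      _ = B.xb 1 * (B.zl 1 * B.xa 1) := by rw [h2]; unfold q0; group
      _ = _ := by rw [← c2.eq]; group
  rw [h3] at h1
  have h4 : B.zs 1 * B.zl 1 = 1 := by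
    have : B.xb 1 * B.xa 1 * (B.zs 1 * B.zl 1) = B.xb 1 * B.xa 1 := by rw [← mul_assoc]; exact h1.symm
    exact mul_eq_left.1 this
  have h5 := B.inj 0 0 1 1 (by rw [xa_zero, xb_zero, one_mul, one_mul]; exact h4)
  exact one_ne_zero h5.2.2.1

end Cfsg.Agent.StdSpFour.Alt
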