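import Cfsg.Agent.StdSpFour.Bridge
import Cfsg.Agent.StdSpFour.Alt

/-!
# Type `Sp₄`, no long fusion: `t` is not conjugate to an outer involution of `T`

If `f ∈ T` is an involutory field automorphism conjugate to `t` then the perfect group `Sp₄(2)' = ⟨SS⟩ ≤ C_A(f)` gives two
non-commuting involutions `P₂, Q₂ ∈ T ∩ A` with `t ~ t P₂`, `t ~ t Q₂`; without long fusion both are in `V₂`.
-/

set_option autoImplicit false
set_option linter.unusedSectionVars false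

namespace Cfsg.Agent.StdSpFour.BOut

open Subgroup Cfsg.Agent.StdSpFour Cfsg.Agent.StdSpFour.Env Cfsg.Agent.StdSpFour.Comm Cfsg.Agent.StdSpFour.Swap
  Cfsg.Agent.StdSpFour.Fld Cfsg.Agent.StdSpFour.Lift Cfsg.Agent.StdSpFour.EnvFacts Cfsg.Agent.StdSpFour.Alt
  Cfsg.Agent.StdSpFour.Bridge
open Cfsg.Agent.StdEven.CoreQuot Cfsg.Agent.StdEven.Loc Cfsg.Agent.StdEven.Syl
open Cfsg.Agent.StdRank2.OutField
open scoped commutatorElement

universe u v

variable {F : Type v} {G : Type u} [Field F] [Group G] [Finite G] {A : Subgroup G} {t : G} {T : Subgroup G}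
variable [CharP F 2] [Finite F] {H : Hyp A t T} {B : Base F (XQ A t)}

/-- no fusion of `t` to `t z`, `z ∈ Z(U) - Z_s` -/
def NoLong (H : Hyp A t T) (B : Base F (XQ A t)) : Prop :=
  ∀ (a : G) (ha : a ∈ A) (m r : F), Two a → r ≠ 0 → pr A t ⟨a, H.A_le ha⟩ = B.v1 0 m r → ∀ g : G, g * t * g⁻¹ ≠ t * a

variable (b : Bridge H B)
include b

theorem SS_mem {s : XQ A t} (hs : s ∈ SS B) : s ∈ im A t A := by
  have hD : D0 B ≤ im A t A := by
    rw [D0, closure_le]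
    rintro _ (rfl | rfl | rfl | rfl)
    · exact b.env.xa_mem 1
    · exact b.env.xb_mem 1
    · exact b.env.na_mem
    · exact b.env.nb_mem
  obtain ⟨x, hx, rfl | rfl⟩ := hs
  · exact mul_mem (mul_mem (hD hx) (mul_mem (b.env.xa_mem 1) (b.env.zs_mem 1))) (inv_mem (hD hx))
  · exact mul_mem (mul_mem (hD hx) (mul_mem (b.env.xb_mem 1) (b.env.zl_mem 1))) (inv_mem (hD hx))

/-- the hat of `SS` generates a perfect group -/
theorem perf : ⁅closure (hat H '' SS B), closure (hat H '' SS B)⁆ = closure (hat H '' SS B) := by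
  apply le_antisymm
  · rw [commutator_le]
    intro x hx y hy
    exact mul_mem (mul_mem (mul_mem hx hy) (inv_mem hx)) (inv_mem hy)
  · rw [closure_le]
    rintro _ ⟨s, hs, rfl⟩
    obtain ⟨s1, h1, s2, h2, s3, h3, s4, h4, e1, e2, e3⟩ := per hs
    have m1 : hat H s1 * hat H s2 ∈ closure (hat H '' SS B) :=
      mul_mem (subset_closure ⟨_, h1, rfl⟩) (subset_closure ⟨_, h2, rfl⟩)
    have m3 : hat H s3 ∈ closure (hat H '' SS B) := subset_closure ⟨_, h3, rfl⟩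
    have T' : ∀ {s}, s ∈ SS B → Two s := fun h => two_of_sq (SS_sq h)
    have i1 := SS_mem b h1
    have i2 := SS_mem b h2
    have i3 := SS_mem b h3
    have i4 := SS_mem b h4
    have f1 := conj_hat H i3 (T' h3) i4
      (⟨hat H s1, H.A_le (hat_mem H i1 (T' h1))⟩ * ⟨hat H s2, H.A_le (hat_mem H i2 (T' h2))⟩) (by
        rw [map_mul, pr_hat H i1 (T' h1), pr_hat H i2 (T' h2), e1])
    have f1' : hat H s1 * hat H s2 * hat H s3 * (hat H s1 * hat H s2)⁻¹ = hat H s4 := f1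
    have f2 : hat H s4 * hat H s3 = hat H s := by
      rw [hat_mul_comm H i4 (T' h4) i3 (T' h3) (by rw [e2, e3]), e2]
    have f3 : (hat H s3)⁻¹ = hat H s3 := inv_eq_of_mul_eq_one_right (hat_sq H i3 (SS_sq h3))
    have f4 : hat H s = ⁅hat H s1 * hat H s2, hat H s3⁆ := by
      rw [commutatorElement_def, f1', f3, f2]
    rw [SetLike.mem_coe, f4]
    exact commutator_mem_commutator m1 m3

/-- an involution `a ∈ T ∩ A` with `t ~ t a` is in `V₂` if there is no long fusion -/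
theorem mem_V2 (nl : NoLong H B) {a : G} (haT : a ∈ T) (ha : a ∈ A) (haa : a * a = 1) {d : G}
    (hd : d * t * d⁻¹ = t * a) : ∃ u m r, pr A t ⟨a, H.A_le ha⟩ = v2 B u m r := by
  obtain ⟨u, s, m, r, e⟩ := b.TU haT ha
  by_cases hs : s = 0
  · refine ⟨u, m, r, ?_⟩
    rw [e, hs, Base.v1, xb_zero, one_mul, v2, mul_assoc]
  exfalso
  have hsq : B.xa u * B.v1 s m r * (B.xa u * B.v1 s m r) = 1 := by
    rw [← e, ← map_mul]
    have : (⟨a, H.A_le ha⟩ : ↥(NO A t)) * ⟨a, H.A_le ha⟩ = 1 := Subtype.ext haa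
    rw [this, map_one]
  have hu : u = 0 := by
    rw [nf_mul] at hsq
    have e0 : B.xa (u + u) * B.v1 (s + s) (m + u * s + m) (r + u ^ 2 * s + r) = B.xa 0 * B.v1 0 0 0 := by
      rw [hsq, B.xa_zero, B.v1_zero, one_mul]
    have e3 := (nf_inj e0).2.2.1
    have c2 := CharTwo.two_eq_zero (R := F)
    have h3 : u * s = 0 := by linear_combination e3 - m * c2
    exact (mul_eq_zero.1 h3).resolve_right hs
  subst hu
  rw [B.xa_zero, one_mul] at e
  obtain ⟨v, hv⟩ := Cfsg.Agent.StdRank2.OutField.exists_sqrt (r * s⁻¹)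
  have h1 : v ^ 2 * s = r := by rw [pow_two, hv, inv_mul_cancel_right₀ hs]
  have hy : B.na * B.xa v ∈ im A t A := mul_mem b.env.na_mem (b.env.xa_mem v)
  obtain ⟨n, hn, hne⟩ := mem_im.1 hy
  have h2 : B.na * B.xa v * B.v1 s m r * (B.na * B.xa v)⁻¹ = B.v1 0 (m + v * s) s := by
    rw [mul_inv_eq_iff_eq_mul]
    calc B.na * B.xa v * B.v1 s m r = B.na * (B.xa v * B.v1 s m r) := by group
      _ = (B.na * B.v1 s (m + v * s) (r + v ^ 2 * s)) * B.xa v := by rw [B.xa_v1]; group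
      _ = B.v1 (r + v ^ 2 * s) (m + v * s) s * (B.na * B.xa v) := by rw [B.na_v1]; group
      _ = _ := by rw [h1, CharTwo.add_self_eq_zero]
  have hna : (n : G) * a * (n : G)⁻¹ ∈ A := mul_mem (mul_mem hn ha) (inv_mem hn)
  have hnt : (n : G) * t = t * n := (comm_of_centralizer H.htA hn).symm
  refine nl _ hna (m + v * s) s ((two_T H haT).conj _) hs ?_ ((n : G) * d) ?_
  · have h3 : (⟨(n : G) * a * (n : G)⁻¹, H.A_le hna⟩ : ↥(NO A t)) = n * ⟨a, H.A_le ha⟩ * n⁻¹ := rfl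
    rw [h3, map_mul, map_mul, map_inv, hne, e, h2]
  · calc (n : G) * d * t * ((n : G) * d)⁻¹ = n * (d * t * d⁻¹) * (n : G)⁻¹ := by group
      _ = (n * t) * a * (n : G)⁻¹ := by rw [hd]; group
      _ = _ := by rw [hnt]; group

/-- conjugating a field involution by an element of `U` -/
theorem exists_c {f : G} (hfT : f ∈ T) {w w1 : XQ A t}
    (hw : IsU B w) (hw1 : IsU B w1) (e : pr A t ⟨f, H.T_le hfT⟩ * w * (pr A t ⟨f, H.T_le hfT⟩)⁻¹ = w1)
    (hww : w * w = 1) (hc : w * w1 = w1 * w) (hfc : f * hat H (w * w1) = hat H (w * w1) * f) :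
    ∃ c : G, c * f * c⁻¹ = f * hat H (w * w1) := by
  have i := b.isU_mem hw
  have i1 := b.isU_mem hw1
  have t1 := b.isU_two hw
  have t2 := b.isU_two hw1
  have h1 : f * hat H w * f⁻¹ = hat H w1 := conj_hat H i t1 i1 ⟨f, H.T_le hfT⟩ e
  have h2 := hat_sq H i hww
  refine ⟨(hat H w)⁻¹, ?_⟩
  rw [hfc, ← hat_mul_comm H i t1 i1 t2 hc, inv_inv, inv_eq_of_mul_eq_one_right h2, ← h1]
  group

/-- **the field involutions of `T` are not conjugate to `t`** -/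
theorem not_fld (nl : NoLong H B) {f : G} (hfT : f ∈ T) {σ : F ≃+* F} (hσ2 : σ * σ = 1) (hσ1 : σ ≠ 1)
    (hf : IsFld B σ (pr A t ⟨f, H.T_le hfT⟩)) {g : G} (hg : g * t * g⁻¹ = f) : False := by
  set φ := pr A t ⟨f, H.T_le hfT⟩ with hφ
  have T' : ∀ {s : XQ A t}, s ∈ SS B → Two s := fun h => two_of_sq (SS_sq h)
  -- `f` commutes with the hats of `SS`
  have hfs : ∀ s ∈ SS B, f * hat H s = hat H s * f := by
    intro s hs
    have h1 := conj_hat H (SS_mem b hs) (T' hs) (SS_mem b hs) ⟨f, H.T_le hfT⟩ (by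
      rw [← hφ, (comm_fld hf hs).eq, mul_inv_cancel_right])
    change f * hat H s * f⁻¹ = hat H s at h1
    rwa [mul_inv_eq_iff_eq_mul] at h1
  -- `g⁻¹ K g ≤ C(t)`
  set K := closure (hat H '' SS B) with hK
  set K' := K.map (MulAut.conj g⁻¹).toMonoidHom with hK'
  have hK'c : ∀ x ∈ K', x * t = t * x := by
    rintro _ ⟨k, hk, rfl⟩
    have h1 : f * k = k * f := by
      have hle : K ≤ centralizer {f} := by
        rw [hK, closure_le]
        rintro _ ⟨s, hs, rfl⟩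
        exact mem_centralizer_singleton_iff.2 (hfs s hs).symm
      exact (mem_centralizer_singleton_iff.1 (hle hk)).symm
    show g⁻¹ * k * g⁻¹⁻¹ * t = t * (g⁻¹ * k * g⁻¹⁻¹)
    rw [← hg] at h1
    calc g⁻¹ * k * g⁻¹⁻¹ * t = g⁻¹ * (k * (g * t * g⁻¹)) * g := by group
      _ = g⁻¹ * (g * t * g⁻¹ * k) * g := by rw [h1]
      _ = _ := by group
  have hK'N : K' ≤ NO A t := fun x hx => H.mem_normalizer_core (hK'c x hx)
  have hK'p : ⁅K', K'⁆ = K' := by rw [hK', ← map_commutator, perf b]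
  have hQ : im A t K' ≤ im A t A := by
    apply b.env.maxA
    · apply le_antisymm
      · rw [commutator_le]
        intro x hx y hy
        exact mul_mem (mul_mem (mul_mem hx hy) (inv_mem hx)) (inv_mem hy)
      · intro x hx
        obtain ⟨n, hn, rfl⟩ := mem_im.1 hx
        have h1 : (K'.subgroupOf (NO A t)) ≤ ⁅K'.subgroupOf (NO A t), K'.subgroupOf (NO A t)⁆ := by
          have h2 : (⁅K'.subgroupOf (NO A t), K'.subgroupOf (NO A t)⁆).map (NO A t).subtype = K' := by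
            rw [map_commutator, subgroupOf_map_subtype, inf_eq_left.2 hK'N, hK'p]
          intro y hy
          have h3 : (y : G) ∈ (⁅K'.subgroupOf (NO A t), K'.subgroupOf (NO A t)⁆).map (NO A t).subtype := by
            rw [h2]; exact hy
          obtain ⟨z, hz, e⟩ := h3
          have : z = y := Subtype.ext e
          rwa [← this]
        have h2 : (im A t K') = (K'.subgroupOf (NO A t)).map (pr A t) := rfl
        rw [h2, ← map_commutator]
        exact ⟨n, h1 hn, rfl⟩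
    · intro x hx
      obtain ⟨n, hn, rfl⟩ := mem_im.1 hx
      rw [b.t_eq]
      exact H.pr_comm_iff.2 (hK'c n hn)
  -- the images of the hats are in `A`
  have hA : ∀ s ∈ SS B, g⁻¹ * hat H s * g ∈ A := by
    intro s hs
    have h1 : g⁻¹ * hat H s * g ∈ K' := ⟨hat H s, subset_closure ⟨s, hs, rfl⟩, by
      show g⁻¹ * hat H s * g⁻¹⁻¹ = _
      rw [inv_inv]⟩
    have h2 : (g⁻¹ * hat H s * g) * (g⁻¹ * hat H s * g) = 1 := by
      calc (g⁻¹ * hat H s * g) * (g⁻¹ * hat H s * g) = g⁻¹ * (hat H s * hat H s) * g := by group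
        _ = 1 := by rw [hat_sq H (SS_mem b hs) (SS_sq hs)]; group
    have h3 : Two (g⁻¹ * hat H s * g) := two_of_sq h2
    have h4 := hQ (pr_mem_im (n := ⟨_, hK'N h1⟩) h1)
    have h5 := eq_hat H h4 (two_pr (n := ⟨_, hK'N h1⟩) h3) (b := ⟨_, hK'N h1⟩) h3 rfl
    change g⁻¹ * hat H s * g = _ at h5
    rw [h5]
    exact hat_mem H h4 (two_pr (n := ⟨_, hK'N h1⟩) h3)
  -- `f ~ f s` for `s = p0, q0`
  obtain ⟨β, hβ⟩ := exists_trace hσ2 hσ1 (a := (1 : F)) (map_one σ)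
  have hβ' : β + σ β = 1 := hβ
  have hp : ∃ c : G, c * f * c⁻¹ = f * hat H (p0 B) := by
    have hw : IsU B (v2 B β β 0) := by
      refine ⟨β, 0, β, 0, ?_⟩
      rw [v2, Base.v1, xb_zero, one_mul, mul_assoc]
    have hw1 : IsU B (v2 B (σ β) (σ β) 0) := by
      refine ⟨σ β, 0, σ β, 0, ?_⟩
      rw [v2, Base.v1, xb_zero, one_mul, mul_assoc]
    have e : φ * v2 B β β 0 * φ⁻¹ = v2 B (σ β) (σ β) 0 := by
      rw [mul_inv_eq_iff_eq_mul, v2, v2, zl_zero, mul_one, mul_one, ← mul_assoc, hf.xa, mul_assoc, hf.zs, mul_assoc]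
    have e2 : v2 B β β 0 * v2 B (σ β) (σ β) 0 = p0 B := by
      rw [v2_mul, hβ', add_zero, p0_v2]
    have ew : v2 B β β 0 * v2 B β β 0 = 1 := by
      rw [v2_mul, CharTwo.add_self_eq_zero, CharTwo.add_self_eq_zero, v2, xa_zero, zs_zero, zl_zero]
      group
    have h3 := exists_c b hfT hw hw1 e ew (v2_comm _ _ _ _ _ _) (by rw [e2]; exact hfs _ p0_SS)
    rwa [e2] at h3
  have hq : ∃ c : G, c * f * c⁻¹ = f * hat H (q0 B) := by
    have hw : IsU B (B.v1 β 0 β) := IsU.v1 _ _ _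
    have hw1 : IsU B (B.v1 (σ β) 0 (σ β)) := IsU.v1 _ _ _
    have e : φ * B.v1 β 0 β * φ⁻¹ = B.v1 (σ β) 0 (σ β) := by
      rw [mul_inv_eq_iff_eq_mul, fld_v1 hf.toAct, map_zero]
    have e2 : B.v1 β 0 β * B.v1 (σ β) 0 (σ β) = q0 B := by
      rw [B.v1_mul, hβ', add_zero, q0_v1]
    have h3 := exists_c b hfT hw hw1 e (B.v1_v1 _ _ _) (B.v1_comm _ _ _ _ _ _).eq (by rw [e2]; exact hfs _ q0_SS)
    rwa [e2] at h3
  -- transport to `T ∩ A`
  set P1 := g⁻¹ * hat H (p0 B) * g with hP1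
  set Q1 := g⁻¹ * hat H (q0 B) * g with hQ1
  have hU0 : IsU B (p0 B) := by
    refine ⟨1, 0, 1, 0, ?_⟩
    rw [p0_v2, v2, Base.v1, xb_zero, one_mul, mul_assoc]
  have hU1 : IsU B (q0 B) := by rw [q0_v1]; exact IsU.v1 _ _ _
  have hY0 : IsPGroup 2 (closure {P1, Q1}) := by
    have h1 : IsPGroup 2 (T.map (MulAut.conj g⁻¹).toMonoidHom) := H.isT.syl.two.map _
    refine h1.to_le ?_
    rw [closure_le]
    rintro _ (rfl | rfl)
    · refine ⟨hat H (p0 B), b.hat_mem_T hU0, ?_⟩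
      show g⁻¹ * hat H (p0 B) * g⁻¹⁻¹ = _
      rw [inv_inv]
    · refine ⟨hat H (q0 B), b.hat_mem_T hU1, ?_⟩
      show g⁻¹ * hat H (q0 B) * g⁻¹⁻¹ = _
      rw [inv_inv]
  have hP1A : P1 ∈ A := hA _ p0_SS
  have hQ1A : Q1 ∈ A := hA _ q0_SS
  have hYt : closure {P1, Q1} ≤ centralizer ({t} : Set G) := by
    rw [closure_le]
    rintro _ (rfl | rfl)
    · exact mem_centralizer_singleton_iff.2 (comm_of_centralizer H.htA hP1A).symm
    · exact mem_centralizer_singleton_iff.2 (comm_of_centralizer H.htA hQ1A).symm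
  obtain ⟨n, hn, hnT⟩ := (H.isT.syl_cent H.std H.ht H.htA).exists_conj hY0 hYt
  have hnt : n * t = t * n := mem_centralizer_singleton_iff.1 hn
  have hnA := H.mem_normalizer hnt
  -- the two elements
  have key : ∀ s ∈ SS B, (∃ c : G, c * f * c⁻¹ = f * hat H s) → n * (g⁻¹ * hat H s * g) * n⁻¹ ∈ T →
      ∃ (hA2 : n * (g⁻¹ * hat H s * g) * n⁻¹ ∈ A) (u m r : F),
        pr A t ⟨n * (g⁻¹ * hat H s * g) * n⁻¹, H.A_le hA2⟩ = v2 B u m r := by
    rintro s hs ⟨c, hc⟩ hsT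
    have hA2 : n * (g⁻¹ * hat H s * g) * n⁻¹ ∈ A := conj_mem_of_mem_normalizer hnA (hA s hs)
    refine ⟨hA2, mem_V2 b nl hsT hA2 ?_ (d := n * (g⁻¹ * c * g)) ?_⟩
    · calc n * (g⁻¹ * hat H s * g) * n⁻¹ * (n * (g⁻¹ * hat H s * g) * n⁻¹)
          = n * g⁻¹ * (hat H s * hat H s) * g * n⁻¹ := by group
        _ = 1 := by rw [hat_sq H (SS_mem b hs) (SS_sq hs)]; group
    · rw [← hg] at hc
      calc n * (g⁻¹ * c * g) * t * (n * (g⁻¹ * c * g))⁻¹
          = n * g⁻¹ * (c * (g * t * g⁻¹) * c⁻¹) * g * n⁻¹ := by group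
        _ = (n * t) * (g⁻¹ * hat H s * g) * n⁻¹ := by rw [hc]; group
        _ = _ := by rw [hnt]; group
  obtain ⟨hA2, u, m, r, e1⟩ := key _ p0_SS hp (hnT _ (subset_closure (Or.inl rfl)))
  obtain ⟨hA3, u', m', r', e2⟩ := key _ q0_SS hq (hnT _ (subset_closure (Or.inr rfl)))
  -- they commute
  have hP2T := hnT _ (subset_closure (Or.inl rfl : P1 ∈ ({P1, Q1} : Set G)))
  have hQ2T := hnT _ (subset_closure (Or.inr rfl : Q1 ∈ ({P1, Q1} : Set G)))
  have hcomm : (n * P1 * n⁻¹) * (n * Q1 * n⁻¹) = (n * Q1 * n⁻¹) * (n * P1 * n⁻¹) := by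
    have i1 := pr_mem_im (n := ⟨n * P1 * n⁻¹, H.A_le hA2⟩) hA2
    have i2 := pr_mem_im (n := ⟨n * Q1 * n⁻¹, H.A_le hA3⟩) hA3
    have j1 := eq_hat H i1 (two_pr (n := ⟨_, H.A_le hA2⟩) (two_T H hP2T)) (b := ⟨_, H.A_le hA2⟩) (two_T H hP2T) rfl
    have j2 := eq_hat H i2 (two_pr (n := ⟨_, H.A_le hA3⟩) (two_T H hQ2T)) (b := ⟨_, H.A_le hA3⟩) (two_T H hQ2T) rfl
    have j3 := hat_comm H i1 (two_pr (n := ⟨_, H.A_le hA2⟩) (two_T H hP2T)) i2
      (two_pr (n := ⟨_, H.A_le hA3⟩) (two_T H hQ2T)) (by rw [e1, e2, v2_comm])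
    rw [← j1, ← j2] at j3
    exact j3
  have hcomm1 : hat H (p0 B) * hat H (q0 B) = hat H (q0 B) * hat H (p0 B) := by
    calc hat H (p0 B) * hat H (q0 B) = g * n⁻¹ * ((n * P1 * n⁻¹) * (n * Q1 * n⁻¹)) * n * g⁻¹ := by
          rw [hP1, hQ1]; group
      _ = g * n⁻¹ * ((n * Q1 * n⁻¹) * (n * P1 * n⁻¹)) * n * g⁻¹ := by rw [hcomm]
      _ = _ := by rw [hP1, hQ1]; group
  apply not_comm (B := B)
  have i0 := SS_mem b (p0_SS (B := B))
  have i1 := SS_mem b (q0_SS (B := B))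
  have h1 : pr A t (⟨hat H (p0 B), H.A_le (hat_mem H i0 (T' p0_SS))⟩ * ⟨hat H (q0 B), H.A_le (hat_mem H i1 (T' q0_SS))⟩) =
      pr A t (⟨hat H (q0 B), H.A_le (hat_mem H i1 (T' q0_SS))⟩ * ⟨hat H (p0 B), H.A_le (hat_mem H i0 (T' p0_SS))⟩) :=
    congrArg (pr A t) (Subtype.ext hcomm1)
  rwa [map_mul, map_mul, pr_hat H i0 (T' p0_SS), pr_hat H i1 (T' q0_SS)] at h1

/-- **`t^G ∩ T ⊆ U ∪ tU`** (no long fusion) -/
theorem nout (nl : NoLong H B) {z : G} (hz : z ∈ T) {g : G} (hg : g * t * g⁻¹ = z) :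
    IsU B (pr A t ⟨z, H.T_le hz⟩) ∨ IsU B (B.t * pr A t ⟨z, H.T_le hz⟩) := by
  have hzz : z * z = 1 := by
    rw [← hg]
    calc g * t * g⁻¹ * (g * t * g⁻¹) = g * (t * t) * g⁻¹ := by group
      _ = 1 := by rw [H.tt]; group
  rcases b.exists_invol hz hzz with h | ⟨w, hw, σ, h2, h1, hf⟩
  · exact h
  exfalso
  have hwT : hat H w ∈ T := b.hat_mem_T hw
  have i := b.isU_mem hw
  have t1 := b.isU_two hw
  have hfT : hat H w * z * (hat H w)⁻¹ ∈ T := mul_mem (mul_mem hwT hz) (inv_mem hwT)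
  refine not_fld b nl hfT h2 h1 (g := hat H w * g) ?_ ?_
  · have h3 : (⟨hat H w * z * (hat H w)⁻¹, H.T_le hfT⟩ : ↥(NO A t)) =
        ⟨hat H w, H.A_le (hat_mem H i t1)⟩ * ⟨z, H.T_le hz⟩ * ⟨hat H w, H.A_le (hat_mem H i t1)⟩⁻¹ := rfl
    rw [h3, map_mul, map_mul, map_inv, pr_hat H i t1]
    exact hf
  · rw [← hg]; group

end Cfsg.Agent.StdSpFour.BOut
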