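import Cfsg.Agent.StdSpFour.XStart
import Cfsg.Agent.StdEven.StepFour

/-!
# Type `Sp₄`: fusion of `t` into `t Z(U)` in `G` is controlled by `N_G(J) ≤ N_G(O)`
-/

set_option autoImplicit false
set_option linter.unusedSectionVars false

namespace Cfsg.Agent.StdSpFour.XFus

open Subgroup
open Cfsg.Agent.TitsThree.B2Pkg Cfsg.Agent.TitsThree.RankTwoIdentB2
  Cfsg.Agent.TitsThree.CoreB2 Cfsg.Agent.TitsThree.RankTwoIdx Cfsg.Agent.TitsThree.RankTwoRGD
  Cfsg.Agent.TitsThree.StdData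
open Cfsg.Agent.StdRank2 Cfsg.Agent.StdRank2.OddLift Cfsg.Agent.StdRank2.B2Lift Cfsg.Agent.StdRank2.B2Std
  Cfsg.Agent.StdRank2.B2Torus Cfsg.Agent.StdRank2.B2Act Cfsg.Agent.StdRank2.B2Act.Std
  Cfsg.Agent.StdRank2.B2Par Cfsg.Agent.StdRank2.B2Par.Std
  Cfsg.Agent.StdRank2.B2Amb Cfsg.Agent.StdRank2.SpFrame Cfsg.Agent.StdRank2.SpSelf
open Cfsg.Agent.SignalizersComponents Cfsg.Agent.StdEven.Syl Cfsg.Agent.StdEven.Perf Cfsg.Agent.StdEven.Avg
open Cfsg.Agent.StdEven Cfsg.Agent.StdEven.CoreQuot Cfsg.Agent.StdEven.Loc Cfsg.Agent.StdEven.StepFour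
open Cfsg.Agent.Schreier.Basic Cfsg.Agent.StdSpFour.XStart
open scoped commutatorElement Pointwise

universe u

/-- type independent: fusion of `t` to `s` with `J ≤ C(s)` is controlled by `N(J)`. -/
theorem exists_normalizer_of_conj {G : Type*} [Group G] [Finite G] {A : Subgroup G} {t : G} {T J W : Subgroup G}
    (D : StepFour.Data A t T J W) (hA : Cfsg.IsStandardSubgroup A) (ht : orderOf t = 2)
    (htA : t ∈ centralizer (A : Set G)) {g s : G} (hg : g * t * g⁻¹ = s) (hsJ : ∀ j ∈ J, j * s = s * j) :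
    ∃ c, c * t = t * c ∧ g * c ∈ normalizer (J : Set G) ∧ g * c * t * (g * c)⁻¹ = s := by
  have hTc := D.isT.syl_cent hA ht htA
  have hJs : ∀ j ∈ J, g⁻¹ * j * g ∈ centralizer ({t} : Set G) := by
    intro j hj
    rw [mem_centralizer_singleton_iff]
    have h1 := hsJ j hj
    rw [← hg] at h1
    calc g⁻¹ * j * g * t = g⁻¹ * (j * (g * t * g⁻¹)) * g := by group
      _ = g⁻¹ * (g * t * g⁻¹ * j) * g := by rw [h1]
      _ = t * (g⁻¹ * j * g) := by group
  have hJp : IsPGroup 2 (J.map (MulAut.conj g⁻¹).toMonoidHom) := isPGroup_map (D.isT.syl.two.to_le D.J_le) g⁻¹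
  obtain ⟨c, hc, hcT⟩ := hTc.exists_conj hJp (by
    rintro _ ⟨j, hj, rfl⟩
    show g⁻¹ * j * g⁻¹⁻¹ ∈ _
    rw [inv_inv]
    exact hJs j hj)
  rw [mem_centralizer_singleton_iff] at hc
  have hn : c * g⁻¹ ∈ normalizer (J : Set G) := by
    apply D.mem_normalizer_J
    intro j hj
    have h1 := hcT _ (conj_mem_map g⁻¹ hj)
    have h2 : c * g⁻¹ * j * (c * g⁻¹)⁻¹ = c * (g⁻¹ * j * g⁻¹⁻¹) * c⁻¹ := by group
    rw [h2]; exact h1
  have hct : c⁻¹ * t = t * c⁻¹ := by
    calc c⁻¹ * t = c⁻¹ * (t * c) * c⁻¹ := by group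
      _ = c⁻¹ * (c * t) * c⁻¹ := by rw [hc]
      _ = t * c⁻¹ := by group
  refine ⟨c⁻¹, hct, ?_, ?_⟩
  · have h3 := inv_mem hn
    rwa [mul_inv_rev, inv_inv] at h3
  · calc g * c⁻¹ * t * (g * c⁻¹)⁻¹ = g * (c⁻¹ * t) * c * g⁻¹ := by group
      _ = g * t * g⁻¹ := by rw [hct]; group
      _ = s := hg

variable {F : Type*} [Field F] [Finite F] [CharP F 2]
variable {G : Type u} [Group G] [Finite G] {A : Subgroup G} {t : G} {T W : Subgroup G}
variable {S : Std (stdSp F) ↥A}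

/-- elements of `Z(U)` centralise `J` -/
theorem comm_JG (H : Hyp A t T) {v : G} (hv : v ∈ WG S) : ∀ j ∈ JG S t, j * (t * v) = t * v * j := by
  intro j hj
  have htA : ∀ a ∈ A, t * a = a * t := fun a ha => comm_of_centralizer H.htA ha
  obtain ⟨v', hv', rfl⟩ := hv
  have hvU : ∀ u ∈ S.U, u * v' = v' * u := by
    intro u hu
    obtain ⟨m, r, rfl⟩ := (mem_inf_iff S).1 hv'
    rw [← mul_assoc, U_comm_y S hu, mul_assoc, (z₁_comm_U (S := S) (p := tt r) rfl hu).symm, mul_assoc]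
  have hvA : t * (A.subtype v') = A.subtype v' * t := htA _ v'.2
  rcases (mem_JG S H.tt htA).1 hj with ⟨u, hu, rfl⟩ | ⟨u, hu, h1⟩
  · have h2 : A.subtype u * A.subtype v' = A.subtype v' * A.subtype u := by
      rw [← map_mul, ← map_mul, hvU u hu]
    have h3 : t * (A.subtype u) = A.subtype u * t := htA _ u.2
    calc A.subtype u * (t * A.subtype v') = (A.subtype u * t) * A.subtype v' := by group
      _ = t * (A.subtype u * A.subtype v') := by rw [← h3]; group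
      _ = _ := by rw [h2]; group
  · have h2 : A.subtype u * A.subtype v' = A.subtype v' * A.subtype u := by
      rw [← map_mul, ← map_mul, hvU u hu]
    have h3 : t * (A.subtype u) = A.subtype u * t := htA _ u.2
    have h4 : j = t * A.subtype u := by rw [h1, ← mul_assoc, H.tt, one_mul]
    rw [h4]
    calc t * A.subtype u * (t * A.subtype v') = t * (A.subtype u * t) * A.subtype v' := by group
      _ = t * t * (A.subtype u * A.subtype v') := by rw [← h3]; group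
      _ = t * (t * A.subtype v') * A.subtype u := by rw [h2]; group
      _ = t * (A.subtype v' * t) * A.subtype u := by rw [hvA]
      _ = t * A.subtype v' * (t * A.subtype u) := by group

/-- fusion of `t` to `t v`, `v ∈ Z(U)`, happens in `N_G(J)`. -/
theorem exists_of_conj (D : StepFour.Data A t T (JG S t) W) (H : Hyp A t T) {g v : G} (hv : v ∈ WG S)
    (hg : g * t * g⁻¹ = t * v) : ∃ n ∈ normalizer (JG S t : Set G), n * t * n⁻¹ = t * v := by
  obtain ⟨c, -, h1, h2⟩ := exists_normalizer_of_conj D H.std H.ht H.htA hg (comm_JG H hv)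
  exact ⟨_, h1, h2⟩

/-- **`g ∈ N_G(O)`.** -/
theorem mem_NO_of_conj (hF : 3 ≤ Nat.card F) (D : StepFour.Data A t T (JG S t) W) (H : Hyp A t T) {g v : G}
    (hv : v ∈ WG S) (hg : g * t * g⁻¹ = t * v) : g ∈ NO A t := by
  obtain ⟨c, hc, h1, h2⟩ := exists_normalizer_of_conj D H.std H.ht H.htA hg (comm_JG H hv)
  have h3 := normalizer_JG_le H S hF h1
  have h4 := mul_mem h3 (inv_mem (H.mem_normalizer_core hc))
  rwa [mul_inv_cancel_right] at h4

theorem mem_WG (m r : F) : ((S.m.y m * S.m.z₁ (tt r) : ↥A) : G) ∈ WG S :=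
  ⟨_, (mem_inf_iff S).2 ⟨m, r, rfl⟩, rfl⟩

/-- fusion of `t` to `t y(m) z₁(r)` in `G` gives fusion in `N_X(J)`. -/
theorem exists_n_of_conj (hF : 3 ≤ Nat.card F) (D : StepFour.Data A t T (JG S t) W) (H : Hyp A t T) {g : G}
    {m r : F} (hg : g * t * g⁻¹ = t * ((S.m.y m * S.m.z₁ (tt r) : ↥A) : G)) :
    ∃ n : XQ A t, (∀ x, NormJ.IsJ (B2Conn.base H S) x → NormJ.IsJ (B2Conn.base H S) (n * x * n⁻¹)) ∧
      (∀ x, NormJ.IsJ (B2Conn.base H S) x → NormJ.IsJ (B2Conn.base H S) (n⁻¹ * x * n)) ∧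
        n * (B2Conn.base H S).t * n⁻¹ = (B2Conn.base H S).t * (B2Conn.base H S).v1 0 m r := by
  obtain ⟨n, hn, hnt⟩ := exists_of_conj D H (mem_WG m r) hg
  exact exists_n' H S hF hn hnt

/-- the short layer from fusion in `G` -/
theorem short_of_fusion (hF : 4 ≤ Nat.card F) (D : StepFour.Data A t T (JG S t) W) (H : Hyp A t T)
    (hS : Sch ↥(im A t A)) {g : G} {m r : F} (hm : m ≠ 0)
    (hg : g * t * g⁻¹ = t * ((S.m.y m * S.m.z₁ (tt r) : ↥A) : G)) :
    Nonempty (ShortLayer (B2Conn.base H S)) := by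
  obtain ⟨n, h1, h2, h3⟩ := exists_n_of_conj (by omega) D H hg
  by_cases hr : r = 0
  · rw [hr, Base.v1_zs] at h3
    exact EnvFacts.exists_short (envX H S (by omega) hS) hF hm h3
  · obtain ⟨⟨x, w, hw, hx⟩, -⟩ := NormJ.mixed_fusion hF h1 h2 hm hr h3
    exact EnvFacts.exists_short (envX H S (by omega) hS) hF hw hx

/-- the long layer from fusion in `G` -/
theorem long_of_fusion (hF : 4 ≤ Nat.card F) (D : StepFour.Data A t T (JG S t) W) (H : Hyp A t T)
    (hS : Sch ↥(im A t A)) {g : G} {m r : F} (hr : r ≠ 0)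
    (hg : g * t * g⁻¹ = t * ((S.m.y m * S.m.z₁ (tt r) : ↥A) : G)) :
    Nonempty (LongLayer (B2Conn.base H S)) := by
  obtain ⟨n, h1, h2, h3⟩ := exists_n_of_conj (by omega) D H hg
  by_cases hm : m = 0
  · rw [hm, Base.v1_zl] at h3
    exact EnvFacts.exists_long (envX H S (by omega) hS) hF hr h3
  · obtain ⟨-, x, w, hw, hx⟩ := NormJ.mixed_fusion hF h1 h2 hm hr h3
    exact EnvFacts.exists_long (envX H S (by omega) hS) hF hw hx

/-- **no long layer in `X`: `t` is fused in `G` to no `t v`, `v ∈ Z(U)`, except short `v`.** -/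
theorem short_of_conj (hF : 4 ≤ Nat.card F) (D : StepFour.Data A t T (JG S t) W) (H : Hyp A t T)
    (hS : Sch ↥(im A t A)) (hL : ¬ Nonempty (LongLayer (B2Conn.base H S))) {g v : G} (hv : v ∈ WG S)
    (hg : g * t * g⁻¹ = t * v) : ∃ m, v = (S.m.y m : G) := by
  obtain ⟨v', hv', rfl⟩ := hv
  obtain ⟨m, r, rfl⟩ := (mem_inf_iff S).1 hv'
  by_cases hr : r = 0
  · refine ⟨m, ?_⟩
    rw [hr, show S.m.z₁ (tt 0) = 1 from mul_one' S.rel.z₁_mul, mul_one]; rfl
  · exact absurd (long_of_fusion hF D H hS hr hg) hL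

/-- **no short layer in `X`: `t` is fused in `G` to no `t v`, `v ∈ Z(U)`, except long `v`.** -/
theorem long_of_conj (hF : 4 ≤ Nat.card F) (D : StepFour.Data A t T (JG S t) W) (H : Hyp A t T)
    (hS : Sch ↥(im A t A)) (hL : ¬ Nonempty (ShortLayer (B2Conn.base H S))) {g v : G} (hv : v ∈ WG S)
    (hg : g * t * g⁻¹ = t * v) : ∃ r, v = (S.m.z₁ (tt r) : G) := by
  obtain ⟨v', hv', rfl⟩ := hv
  obtain ⟨m, r, rfl⟩ := (mem_inf_iff S).1 hv'
  by_cases hm : m = 0
  · refine ⟨r, ?_⟩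
    rw [hm, show S.m.y 0 = 1 from add_zero' S.rel.y_add, one_mul]; rfl
  · exact absurd (short_of_fusion hF D H hS hm hg) hL

end Cfsg.Agent.StdSpFour.XFus
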