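import Cfsg.Agent.StdRank2.OutSpG
import Cfsg.Agent.StdSpFour.XFus
import Cfsg.Agent.StdSpFour.BOut

/-!
# Type `Sp₄`: `Bridge H (base H S)` from `AdaptedSp S T` when exactly one of the layers exists

Elements of `T` of graph type interchange `Z_s` and `Z_l`, hence exist only if both or none of the layers exist.
-/

set_option autoImplicit false
set_option linter.unusedSectionVars false

namespace Cfsg.Agent.StdSpFour.Adapt

open Subgroup
open Cfsg.Agent.TitsThree.B2Pkg Cfsg.Agent.TitsThree.RankTwoIdentB2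
  Cfsg.Agent.TitsThree.CoreB2 Cfsg.Agent.TitsThree.RankTwoIdx Cfsg.Agent.TitsThree.RankTwoRGD
  Cfsg.Agent.TitsThree.StdData
open Cfsg.Agent.StdRank2.OddLift Cfsg.Agent.StdRank2.B2Lift Cfsg.Agent.StdRank2.B2Std
  Cfsg.Agent.StdRank2.OutB2Aut Cfsg.Agent.StdRank2.OutB2Tw
  Cfsg.Agent.StdRank2.OutB2Data Cfsg.Agent.StdRank2.OutSpG Cfsg.Agent.StdRank2.OutSpGraph
  Cfsg.Agent.StdRank2.SpFrame
open Cfsg.Agent.StdRank2 Cfsg.Agent.StdEven Cfsg.Agent.StdEven.CoreQuot Cfsg.Agent.StdEven.Loc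
open Cfsg.Agent.Schreier.Basic
open Cfsg.Agent.StdSpFour Cfsg.Agent.StdSpFour.Env Cfsg.Agent.StdSpFour.Comm Cfsg.Agent.StdSpFour.Lift
  Cfsg.Agent.StdSpFour.Fld Cfsg.Agent.StdSpFour.Bridge Cfsg.Agent.StdSpFour.BOut Cfsg.Agent.StdSpFour.XStart

universe u

variable {F : Type*} [Field F] [Finite F] [CharP F 2]
variable {G : Type u} [Group G] [Finite G] {A : Subgroup G} {t : G} {T : Subgroup G}
variable (H : Hyp A t T) (S : Std (stdSp F) ↥A)

/-- elements of field type -/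
theorem act_of_fld {y : G} (hy : y ∈ T) {u : G} (hu : u ∈ XStart.UG S) {ρ : F ≃+* F} (h : OutB2G.Fld nSp S (u * y) ρ) :
    ∃ w, IsU (B2Conn.base H S) w ∧ ∃ σ : F ≃+* F, Act (B2Conn.base H S) σ (w⁻¹ * pr A t ⟨y, H.T_le hy⟩) := by
  have huA : u ∈ A := XStart.UG_le S hu
  refine ⟨(pr A t ⟨u, H.A_le huA⟩)⁻¹, ?_, ρ, ?_⟩
  · rw [isU_iff]
    exact inv_mem (pr_mem_im (n := ⟨u, H.A_le huA⟩) hu)
  have hf : (pr A t ⟨u, H.A_le huA⟩)⁻¹⁻¹ * pr A t ⟨y, H.T_le hy⟩ =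
      pr A t (⟨u, H.A_le huA⟩ * ⟨y, H.T_le hy⟩) := by rw [inv_inv, map_mul]
  rw [hf]
  have key : ∀ a b : ↥A, u * y * a * (u * y)⁻¹ = b →
      pr A t (⟨u, H.A_le huA⟩ * ⟨y, H.T_le hy⟩) * pr A t ⟨a, H.A_le a.2⟩ =
        pr A t ⟨b, H.A_le b.2⟩ * pr A t (⟨u, H.A_le huA⟩ * ⟨y, H.T_le hy⟩) := by
    intro a b e
    rw [mul_inv_eq_iff_eq_mul] at e
    rw [← map_mul, ← map_mul]
    exact congrArg (pr A t) (Subtype.ext e)
  exact
    { t := by
        show _ * H.tX = H.tX * _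
        refine H.pr_comm_iff.2 ?_
        show u * y * t = t * (u * y)
        have h1 : u * t = t * u := (comm_of_centralizer H.htA huA).symm
        rw [mul_assoc, H.isT.cent y hy, ← mul_assoc, h1, mul_assoc]
      xa := fun a => key _ _ (h.x a)
      xb := fun a => key _ _ (h.z₂ (tt a))
      zs := fun a => key _ _ (h.y a)
      zl := fun a => key _ _ (h.z₁ (tt a)) }

/-- moving `t` in `G` from the short layer in `X` -/
theorem exists_move {B : Base F (XQ A t)} (hBt : B.t = H.tX) {p z : XQ A t} (hp : B.t * p = p * B.t * z) {a : G}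
    (ha : a ∈ A) (h2 : Two (t * a)) (e : pr A t ⟨a, H.A_le ha⟩ = z) : ∃ g : G, g * t * g⁻¹ = t * a := by
  obtain ⟨n, hn⟩ := pr_surjective A t p⁻¹
  refine ⟨n, ?_⟩
  have htC : (⟨t, H.t_mem⟩ : ↥(NO A t)) ∈ Lift.C (pr A t) := t_mem_C H
  have h3 := uniqC H (a := n * ⟨t, H.t_mem⟩ * n⁻¹) (b := ⟨t, H.t_mem⟩ * ⟨a, H.A_le ha⟩) (conj_mem_C _ n htC)
    ((Bridge.two_of_sq H.tt).conj _) h2 (by
      rw [map_mul, map_mul, map_inv, map_mul, hn, e, inv_inv, ← H.tX_eq, ← hBt]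
      calc p⁻¹ * B.t * p = p⁻¹ * (B.t * p) := by group
        _ = B.t * z := by rw [hp]; group)
  exact congrArg Subtype.val h3

include H in
theorem two_ta {a : G} (ha : a ∈ A) (haa : a * a = 1) : Two (t * a) := by
  apply Bridge.two_of_sq
  have h1 : t * a = a * t := comm_of_centralizer H.htA ha
  calc t * a * (t * a) = t * (a * t) * a := by group
    _ = (t * t) * (a * a) := by rw [← h1]; group
    _ = 1 := by rw [H.tt, haa, one_mul]

theorem y_sq (m : F) : ((S.m.y m : ↥A) : G) * S.m.y m = 1 := by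
  have h1 : S.m.y m * S.m.y m = 1 := by
    rw [← S.rel.y_add, CharTwo.add_self_eq_zero]
    exact add_zero' S.rel.y_add
  exact congrArg Subtype.val h1

theorem z_sq (r : F) : ((S.m.z₁ (tt r) : ↥A) : G) * S.m.z₁ (tt r) = 1 := by
  have h1 : S.m.z₁ (tt r) * S.m.z₁ (tt r) = 1 := by
    rw [← S.rel.z₁_mul, tt_mul, CharTwo.add_self_eq_zero, ← tt_one]
    exact mul_one' S.rel.z₁_mul
  exact congrArg Subtype.val h1

theorem y_zero : S.m.y 0 = 1 := add_zero' S.rel.y_add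
theorem z_zero : S.m.z₁ (tt 0) = 1 := by rw [← tt_one]; exact mul_one' S.rel.z₁_mul

/-- **short layer, no long layer: no graph elements in `T`** -/
theorem no_graph_short {W : Subgroup G} (hF : 4 ≤ Nat.card F) (D : StepFour.Data A t T (JG S t) W)
    (hS : Sch ↥(im A t A)) (L : ShortLayer (B2Conn.base H S)) (hL : ¬ Nonempty (LongLayer (B2Conn.base H S))) {w : G}
    (hw : w * t = t * w) {ρ : F ≃+* F} (h : Gr S w ρ) : False := by
  apply hL
  obtain ⟨g, hg⟩ := exists_move H (B := B2Conn.base H S) rfl (L.t_p 1) (a := S.m.y 1) (S.m.y 1).2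
    (two_ta H (S.m.y 1).2 (y_sq S 1)) rfl
  have h1 := h.y 1
  refine XFus.long_of_fusion hF D H hS (g := w * g) (m := 0) (r := ρ 1 * ρ 1) ?_ ?_
  · rw [map_one, one_mul]; exact one_ne_zero
  · rw [y_zero, one_mul]
    calc w * g * t * (w * g)⁻¹ = w * (g * t * g⁻¹) * w⁻¹ := by group
      _ = (w * t) * S.m.y 1 * w⁻¹ := by rw [hg]; group
      _ = t * (w * S.m.y 1 * w⁻¹) := by rw [hw]; group
      _ = _ := by rw [h1]; rfl

/-- **long layer, no short layer: no graph elements in `T`** -/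
theorem no_graph_long {W : Subgroup G} (hF : 4 ≤ Nat.card F) (D : StepFour.Data A t T (JG S t) W)
    (hS : Sch ↥(im A t A)) (L : LongLayer (B2Conn.base H S)) (hL : ¬ Nonempty (ShortLayer (B2Conn.base H S))) {w : G}
    (hw : w * t = t * w) {ρ : F ≃+* F} (h : Gr S w ρ) : False := by
  apply hL
  obtain ⟨g, hg⟩ := exists_move H (B := B2Conn.base H S) rfl (L.t_q 1) (a := S.m.z₁ (tt 1)) (S.m.z₁ (tt 1)).2
    (two_ta H (S.m.z₁ (tt 1)).2 (z_sq S 1)) rfl
  have h1 := h.z₁ (tt 1)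
  refine XFus.short_of_fusion hF D H hS (g := w * g) (m := ρ 1) (r := 0) ?_ ?_
  · rw [map_one]; exact one_ne_zero
  · rw [z_zero, mul_one]
    calc w * g * t * (w * g)⁻¹ = w * (g * t * g⁻¹) * w⁻¹ := by group
      _ = (w * t) * S.m.z₁ (tt 1) * w⁻¹ := by rw [hg]; group
      _ = t * (w * S.m.z₁ (tt 1) * w⁻¹) := by rw [hw]; group
      _ = _ := by rw [h1]; rfl

/-- no graph elements: the bridge -/
theorem bridge_of (hF : 4 ≤ Nat.card F) (hS : Sch ↥(im A t A)) (hUT : XStart.UG S ≤ T) (had : AdaptedSp S T)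
    (hno : ∀ (w : G) (ρ : F ≃+* F), w * t = t * w → ¬ Gr S w ρ) : Bridge H (B2Conn.base H S) where
  env := envX H S (by omega) hS
  hF := hF
  t_eq := rfl
  UT := by
    intro x hx
    rw [isU_iff] at hx
    obtain ⟨n, hn, rfl⟩ := mem_im.1 hx
    exact ⟨n, hUT hn, XStart.UG_le S hn, rfl⟩
  act := by
    intro y hy
    obtain ⟨u, hu, ρ, ⟨-, h⟩ | ⟨-, h⟩⟩ := had y hy
    · exact act_of_fld H S hy hu h
    · exfalso
      refine hno _ ρ ?_ h
      have h1 : u * t = t * u := (comm_of_centralizer H.htA (XStart.UG_le S hu)).symm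
      rw [mul_assoc, H.isT.cent y hy, ← mul_assoc, h1, mul_assoc]

/-- `NoLong` -/
theorem noLong_of {W : Subgroup G} (hF : 4 ≤ Nat.card F) (D : StepFour.Data A t T (JG S t) W)
    (hS : Sch ↥(im A t A)) (hL : ¬ Nonempty (LongLayer (B2Conn.base H S))) : NoLong H (B2Conn.base H S) := by
  intro a ha m r h2 hr e g hg
  apply hL
  refine XFus.long_of_fusion hF D H hS (g := g) (m := m) (r := r) hr ?_
  rw [hg]
  congr 1
  have h3 : Two ((S.m.y m * S.m.z₁ (tt r) : ↥A) : G) := by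
    apply Bridge.two_of_sq
    have h4 : (S.m.y m : G) * S.m.z₁ (tt r) = S.m.z₁ (tt r) * S.m.y m :=
      congrArg Subtype.val (y_z₁_comm S m r).eq
    calc (S.m.y m : G) * S.m.z₁ (tt r) * (S.m.y m * S.m.z₁ (tt r))
        = S.m.y m * (S.m.z₁ (tt r) * S.m.y m) * S.m.z₁ (tt r) := by group
      _ = (S.m.y m * S.m.y m) * (S.m.z₁ (tt r) * S.m.z₁ (tt r)) := by rw [← h4]; group
      _ = 1 := by rw [y_sq, z_sq, one_mul]
  refine uniqA H ha (b := ⟨(S.m.y m * S.m.z₁ (tt r) : ↥A), H.A_le (S.m.y m * S.m.z₁ (tt r)).2⟩) h2 h3 ?_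
  rw [e, Base.v1, xb_zero, one_mul]
  show pr A t _ * pr A t _ = _
  rw [← map_mul]
  rfl

/-- `NoLong` for the swapped base -/
theorem noLong_swap_of {W : Subgroup G} (hF : 4 ≤ Nat.card F) (D : StepFour.Data A t T (JG S t) W)
    (hS : Sch ↥(im A t A)) (hL : ¬ Nonempty (ShortLayer (B2Conn.base H S))) :
    NoLong H (Swap.swap (B2Conn.base H S)) := by
  intro a ha m r h2 hr e g hg
  apply hL
  refine XFus.short_of_fusion hF D H hS (g := g) (m := Swap.rt r) (r := m) (fun h => hr (Swap.rt_eq_zero h)) ?_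
  rw [hg]
  congr 1
  have h3 : Two ((S.m.y (Swap.rt r) * S.m.z₁ (tt m) : ↥A) : G) := by
    apply Bridge.two_of_sq
    have h4 : (S.m.y (Swap.rt r) : G) * S.m.z₁ (tt m) = S.m.z₁ (tt m) * S.m.y (Swap.rt r) :=
      congrArg Subtype.val (y_z₁_comm S (Swap.rt r) m).eq
    calc (S.m.y (Swap.rt r) : G) * S.m.z₁ (tt m) * (S.m.y (Swap.rt r) * S.m.z₁ (tt m))
        = S.m.y (Swap.rt r) * (S.m.z₁ (tt m) * S.m.y (Swap.rt r)) * S.m.z₁ (tt m) := by group
      _ = (S.m.y (Swap.rt r) * S.m.y (Swap.rt r)) * (S.m.z₁ (tt m) * S.m.z₁ (tt m)) := by rw [← h4]; group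
      _ = 1 := by rw [y_sq, z_sq, one_mul]
  refine uniqA H ha (b := ⟨(S.m.y (Swap.rt r) * S.m.z₁ (tt m) : ↥A), H.A_le (S.m.y (Swap.rt r) * S.m.z₁ (tt m)).2⟩)
    h2 h3 ?_
  rw [e, Base.v1, xb_zero, one_mul]
  have h5 := ((B2Conn.base H S).zs_zl (Swap.rt r) m).eq
  show (B2Conn.base H S).zl m * (B2Conn.base H S).zs (Swap.rt r) = _
  rw [← h5]
  show pr A t _ * pr A t _ = _
  rw [← map_mul]
  rfl

end Cfsg.Agent.StdSpFour.Adapt
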