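import Cfsg.Agent.StdSpFour.CaseBInv
import Cfsg.Agent.StdEven.OuterKill
import Cfsg.Agent.Lib.GoldschmidtFusion

/-!
# S1778, type Sp₄(q), case (B): the end, from an abstract environment

`Env i t S0`: `i : TB c →* G` injective, `t` acts by `tau`, `S0` a Sylow 2-subgroup of `C_G(t)` acting on `T = range i`
by semilinear automorphisms.  `star`: `t^G ∩ (T S0) = t^T`.  `main`: `t ∉ L` and `T` is a Sylow 2-subgroup of `L`.
-/

set_option autoImplicit false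
set_option linter.unusedSectionVars false

namespace Cfsg.Agent.StdSpFour.CaseBEnv

open Subgroup Cfsg.Agent.StdSpFour.CaseBModel Cfsg.Agent.StdSpFour.CaseBInv
open Cfsg.Agent.StdRank2.OutField

universe u v

variable {F : Type v} {G : Type u} [Field F] [CharP F 2] [Group G] {c : F}

/-- `z` acts on `T` as `inn(y) ∘ phi σ δ`, `y ∈ Y` -/
def Typ (Y : Subgroup (TB c)) (i : TB c →* G) (z : G) (σ : F ≃+* F) : Prop :=
  ∃ y ∈ Y, ∃ (δ : F) (h : σ c = c + δ + δ ^ 2), ∀ x, z * i x = i (y * phi σ δ h x * y⁻¹) * z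

theorem Typ.top {Y : Subgroup (TB c)} {i : TB c →* G} {z : G} {σ : F ≃+* F} (h : Typ Y i z σ) : Typ ⊤ i z σ := by
  obtain ⟨y, -, δ, hc, hz⟩ := h
  exact ⟨y, mem_top _, δ, hc, hz⟩

theorem Typ.unique {i : TB c →* G} (inj : Function.Injective i) {Y Y' : Subgroup (TB c)} {z : G} {σ σ' : F ≃+* F}
    (h : Typ Y i z σ) (h' : Typ Y' i z σ') : σ = σ' := by
  obtain ⟨y, -, δ, hc, hz⟩ := h
  obtain ⟨y', -, δ', hc', hz'⟩ := h'
  ext a
  have h1 := inj (mul_right_cancel ((hz ⟨0, 0, a, 0, 0, 0⟩).symm.trans (hz' ⟨0, 0, a, 0, 0, 0⟩)))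
  have h2 := congrArg TB.s h1
  simp only [mul_s, inv_s, phi_apply] at h2
  have h3 := two_eq (F := F)
  linear_combination h2 - y.s * h3 + y'.s * h3

theorem cond_mul {σ σ' : F ≃+* F} {δ δ' : F} (h : σ c = c + δ + δ ^ 2) (h' : σ' c = c + δ' + δ' ^ 2) :
    (σ * σ') c = c + (δ + σ δ') + (δ + σ δ') ^ 2 := by
  show σ (σ' c) = _
  rw [h', map_add, map_add, map_pow, h]
  linear_combination (-(δ * σ δ')) * two_eq (F := F)

theorem phi_phi {σ σ' : F ≃+* F} {δ δ' : F} (h : σ c = c + δ + δ ^ 2) (h' : σ' c = c + δ' + δ' ^ 2) (x : TB c) :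
    phi σ δ h (phi σ' δ' h' x) = phi (σ * σ') (δ + σ δ') (cond_mul h h') x := by
  have e : ∀ a, (σ * σ') a = σ (σ' a) := fun _ => rfl
  simp only [phi_apply, map_add, map_mul, e]
  ext
  · show σ (σ' x.u) + σ δ' * σ (σ' x.v) + δ * σ (σ' x.v) = σ (σ' x.u) + (δ + σ δ') * σ (σ' x.v)
    ring
  · rfl
  · rfl
  · show σ (σ' x.m) + σ δ' * σ (σ' x.n) + δ * σ (σ' x.n) = σ (σ' x.m) + (δ + σ δ') * σ (σ' x.n)
    ring
  · rfl
  · rfl

theorem phi_mem_U {σ : F ≃+* F} {δ : F} (h : σ c = c + δ + δ ^ 2) {x : TB c} (hx : x ∈ U c) : phi σ δ h x ∈ U c := by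
  rw [phi_apply, mem_U]
  obtain ⟨h1, h2⟩ := hx
  exact ⟨by show σ x.v = 0; rw [h1, map_zero], by show σ x.n = 0; rw [h2, map_zero]⟩

theorem Typ.mul {i : TB c →* G} {z z' : G} {σ σ' : F ≃+* F} {Y : Subgroup (TB c)} (hY : Y = ⊤ ∨ Y = U c)
    (h : Typ Y i z σ) (h' : Typ Y i z' σ') : Typ Y i (z * z') (σ * σ') := by
  obtain ⟨y, hy, δ, hc, hz⟩ := h
  obtain ⟨y', hy', δ', hc', hz'⟩ := h'
  refine ⟨y * phi σ δ hc y', ?_, δ + σ δ', cond_mul hc hc', fun x => ?_⟩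
  · rcases hY with rfl | rfl
    · exact mem_top _
    · exact mul_mem hy (phi_mem_U hc hy')
  · rw [mul_assoc, hz', ← mul_assoc, hz, ← phi_phi hc hc', map_mul (phi σ δ hc), map_mul (phi σ δ hc), map_inv,
      mul_assoc]
    congr 2
    group

theorem Typ.of_act {i : TB c →* G} {z : G} {σ : F ≃+* F} {δ : F} (h : σ c = c + δ + δ ^ 2)
    (hz : ∀ x, z * i x = i (phi σ δ h x) * z) {Y : Subgroup (TB c)} : Typ Y i z σ :=
  ⟨1, one_mem _, δ, h, fun x => by rw [one_mul, inv_one, mul_one]; exact hz x⟩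

theorem phi_one (h : (1 : F ≃+* F) c = c + 0 + 0 ^ 2) (x : TB c) : phi 1 0 h x = x := by
  rw [phi_apply]
  ext
  · show x.u + 0 * x.v = x.u
    ring
  · rfl
  · rfl
  · show x.m + 0 * x.n = x.m
    ring
  · rfl
  · rfl

theorem cond_one : (1 : F ≃+* F) c = c + 0 + 0 ^ 2 := by
  show c = _
  ring

theorem Typ.i {i : TB c →* G} (y : TB c) {Y : Subgroup (TB c)} (hy : y ∈ Y) : Typ Y i (i y) 1 :=
  ⟨y, hy, 0, cond_one, fun x => by
    rw [phi_one, ← map_mul, ← map_mul]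
    congr 1
    group⟩

theorem Typ.inv {i : TB c →* G} {z : G} {σ : F ≃+* F} (h : Typ ⊤ i z σ) {σ' : F ≃+* F} (h' : Typ ⊤ i z⁻¹ σ')
    (inj : Function.Injective i) : σ' = σ⁻¹ := by
  have h1 := h'.mul (Or.inl rfl) h
  rw [inv_mul_cancel] at h1
  have h2 : Typ ⊤ i (1 : G) (1 : F ≃+* F) := by
    have := Typ.i (i := i) (1 : TB c) (mem_top _)
    rwa [map_one] at this
  exact eq_inv_of_mul_eq_one_left (h1.unique inj h2)

/-- the environment -/
structure Env (i : TB c →* G) (t : G) (S0 : Subgroup G) : Prop where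
  inj : Function.Injective i
  tt : t * t = 1
  t_i : ∀ x, t * i x = i (tau x) * t
  t_ne : ∀ x, i x ≠ t
  two : IsPGroup 2 S0
  mem_t : t ∈ S0
  mem_U : ∀ x ∈ U c, i x ∈ S0
  comm : ∀ z ∈ S0, z * t = t * z
  syl : ∀ Q : Subgroup G, IsPGroup 2 Q → (∀ z ∈ Q, z * t = t * z) → S0 ≤ Q → Q ≤ S0
  typ : ∀ z ∈ S0, ∃ σ, Typ (U c) i z σ
  one : ∀ z ∈ S0, Typ ⊤ i z 1 → ∃ x ∈ U c, z = i x ∨ z = t * i x
  fus : ∀ u v r, ∃ x ∈ V4 c, IsConj (i ⟨u, v, 0, 0, 0, r⟩) (i x)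
  nzl : ∀ r, r ≠ 0 → ¬ IsConj t (t * i ⟨0, 0, 0, 0, 0, r⟩)
  nxb : ∀ s, s ≠ 0 → ¬ IsConj t (t * i ⟨0, 0, s, 0, 0, 0⟩)
  nout : ∀ z ∈ S0, IsConj t z → ∃ x ∈ U c, z = i x ∨ z = t * i x

namespace Env

variable {i : TB c →* G} {t : G} {S0 : Subgroup G} (E : Env i t S0)
include E

theorem t_inv : t⁻¹ = t := inv_eq_of_mul_eq_one_right E.tt

theorem i_t (x : TB c) : i x * t = t * i (tau x) := by
  rw [E.t_i, tau_tau]

theorem mem_U_of_comm {x : TB c} (h : i x * t = t * i x) : x ∈ U c := by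
  rw [mem_U_iff_tau]
  rw [E.i_t] at h
  exact E.inj (mul_left_cancel h)

/-- `T` -/
def TT (_ : Env i t S0) : Subgroup G := i.range

theorem mem_TT {g : G} : g ∈ E.TT ↔ ∃ x, i x = g := Iff.rfl

/-- `S0` normalises `T` -/
theorem conj_TT {z : G} (hz : z ∈ S0) {g : G} (hg : g ∈ E.TT) : z * g * z⁻¹ ∈ E.TT := by
  obtain ⟨x, rfl⟩ := hg
  obtain ⟨σ, y, -, δ, h, hz'⟩ := E.typ z hz
  exact ⟨y * phi σ δ h x * y⁻¹, by rw [hz' x, mul_inv_cancel_right]⟩

/-- `S = T S0` -/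
def SS (E : Env i t S0) : Subgroup G where
  carrier := {g | ∃ x, ∃ z ∈ S0, g = i x * z}
  one_mem' := ⟨1, 1, one_mem _, by simp⟩
  mul_mem' := by
    rintro _ _ ⟨x, z, hz, rfl⟩ ⟨x', z', hz', rfl⟩
    obtain ⟨x'', hx''⟩ := E.conj_TT hz (E.mem_TT.2 ⟨x', rfl⟩)
    refine ⟨x * x'', z * z', mul_mem hz hz', ?_⟩
    rw [map_mul, hx'']
    group
  inv_mem' := by
    rintro _ ⟨x, z, hz, rfl⟩
    obtain ⟨x'', hx''⟩ := E.conj_TT (inv_mem hz) (E.mem_TT.2 ⟨x⁻¹, rfl⟩)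
    refine ⟨x'', z⁻¹, inv_mem hz, ?_⟩
    rw [hx'', map_inv]
    group

theorem mem_SS {g : G} : g ∈ E.SS ↔ ∃ x, ∃ z ∈ S0, g = i x * z := Iff.rfl

theorem TT_le : E.TT ≤ E.SS := by
  rintro _ ⟨x, rfl⟩
  exact ⟨x, 1, one_mem _, by simp⟩

theorem S0_le : S0 ≤ E.SS := fun z hz => ⟨1, z, hz, by simp⟩

theorem S0_le_normalizer : S0 ≤ normalizer (E.TT : Set G) := by
  intro z hz
  rw [mem_normalizer_iff]
  intro g
  refine ⟨fun hg => E.conj_TT hz hg, fun hg => ?_⟩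
  have := E.conj_TT (inv_mem hz) hg
  have e : z⁻¹ * (z * g * z⁻¹) * z⁻¹⁻¹ = g := by group
  rwa [e] at this

theorem isPGroup_TT [Finite F] : IsPGroup 2 E.TT := by
  have h1 : IsPGroup 2 (TB c) := by
    rw [IsPGroup.iff_card]
    obtain ⟨n, hn⟩ : ∃ n, Nat.card F = 2 ^ n := by
      have := Fintype.ofFinite F
      obtain ⟨n, -, hn⟩ := FiniteField.card F 2
      exact ⟨n, by rw [Nat.card_eq_fintype_card, hn]⟩
    exact ⟨n * 6, by rw [card_TB, hn, ← pow_mul]⟩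
  exact IsPGroup.of_surjective h1 i.rangeRestrict i.rangeRestrict_surjective

theorem isPGroup_SS [Finite F] : IsPGroup 2 E.SS := by
  have h1 : IsPGroup 2 (E.TT ⊔ S0 : Subgroup G) :=
    IsPGroup.to_sup_of_normal_left' E.isPGroup_TT E.two E.S0_le_normalizer
  refine h1.to_le ?_
  rintro _ ⟨x, z, hz, rfl⟩
  exact mul_mem (mem_sup_left ⟨x, rfl⟩) (mem_sup_right hz)

theorem conj_SS_TT {s g : G} (hs : s ∈ E.SS) (hg : g ∈ E.TT) : s * g * s⁻¹ ∈ E.TT := by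
  obtain ⟨x, z, hz, rfl⟩ := hs
  obtain ⟨w, hw⟩ := E.conj_TT hz hg
  refine ⟨x * w * x⁻¹, ?_⟩
  rw [map_mul, map_mul, map_inv, hw]
  group

theorem typ_SS {g : G} (hg : g ∈ E.SS) : ∃ σ, Typ ⊤ i g σ := by
  obtain ⟨x, z, hz, rfl⟩ := hg
  obtain ⟨σ, hσ⟩ := E.typ z hz
  exact ⟨1 * σ, (Typ.i x (mem_top _)).mul (Or.inl rfl) hσ.top⟩

theorem typ_t : Typ (U c) i t 1 := Typ.of_act (δ := 1)
  (show (RingEquiv.refl F) c = c + 1 + 1 ^ 2 by
    show c = c + 1 + 1 ^ 2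
    linear_combination (-1) * two_eq (F := F)) E.t_i

/-- the field automorphism induced by an element of `S` -/
noncomputable def chi : E.SS →* (F ≃+* F) where
  toFun g := (E.typ_SS g.2).choose
  map_one' := by
    have h1 := (E.typ_SS (one_mem E.SS)).choose_spec
    have h2 : Typ ⊤ i (1 : G) (1 : F ≃+* F) := by
      have := Typ.i (i := i) (1 : TB c) (mem_top _)
      rwa [map_one] at this
    exact h1.unique E.inj h2
  map_mul' g g' := by
    have h1 := (E.typ_SS g.2).choose_spec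
    have h2 := (E.typ_SS g'.2).choose_spec
    have h3 := (E.typ_SS (g * g').2).choose_spec
    exact h3.unique E.inj (h1.mul (Or.inl rfl) h2)

theorem chi_spec (g : E.SS) : Typ ⊤ i (g : G) (E.chi g) := (E.typ_SS g.2).choose_spec

theorem chi_eq {g : E.SS} {σ : F ≃+* F} {Y : Subgroup (TB c)} (h : Typ Y i (g : G) σ) : E.chi g = σ :=
  (E.chi_spec g).unique E.inj h

theorem chi_i (x : TB c) : E.chi ⟨i x, E.TT_le ⟨x, rfl⟩⟩ = 1 := E.chi_eq (Typ.i x (mem_top _))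

theorem chi_t : E.chi ⟨t, E.S0_le E.mem_t⟩ = 1 := E.chi_eq E.typ_t

theorem of_chi_one {g : G} (hg : g ∈ E.SS) (h : E.chi ⟨g, hg⟩ = 1) : (∃ x, g = i x) ∨ ∃ x, g = t * i x := by
  obtain ⟨x, z, hz, rfl⟩ := hg
  have h1 := E.chi_spec ⟨i x * z, ⟨x, z, hz, rfl⟩⟩
  rw [h] at h1
  have h2 : Typ ⊤ i z 1 := by
    have h3 := (Typ.i (i := i) x⁻¹ (mem_top _)).mul (Or.inl rfl) h1
    have e : i x⁻¹ * (i x * z) = z := by rw [map_inv]; group
    rw [one_mul] at h3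
    change Typ ⊤ i (i x⁻¹ * (i x * z)) 1 at h3
    rwa [e] at h3
  obtain ⟨x', -, h3 | h3⟩ := E.one z hz h2
  · left
    exact ⟨x * x', by rw [h3, map_mul]⟩
  · right
    refine ⟨tau x * x', ?_⟩
    rw [h3, ← mul_assoc, E.i_t, map_mul, mul_assoc]

/-- `[S, S] ≤ T` modulo the central element `t` -/
theorem t_comm_mod {g : G} (hg : g ∈ E.SS) : g⁻¹ * t⁻¹ * g * t ∈ E.TT := by
  obtain ⟨x, z, hz, rfl⟩ := hg
  have h1 : t⁻¹ * i x = i (tau x) * t⁻¹ := by rw [E.t_inv, E.t_i]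
  have h2 : (z⁻¹ * i (x⁻¹ * tau x) * z⁻¹⁻¹) ∈ E.TT := E.conj_TT (inv_mem hz) ⟨_, rfl⟩
  have h3 : (i x * z)⁻¹ * t⁻¹ * (i x * z) * t = z⁻¹ * i (x⁻¹ * tau x) * z⁻¹⁻¹ := by
    have h4 : t⁻¹ * z * t = z := by
      rw [mul_assoc, E.comm z hz]; group
    calc (i x * z)⁻¹ * t⁻¹ * (i x * z) * t = z⁻¹ * (i x)⁻¹ * (t⁻¹ * i x) * z * t := by group
      _ = z⁻¹ * (i x)⁻¹ * i (tau x) * (t⁻¹ * z * t) := by rw [h1]; group
      _ = _ := by rw [h4, map_mul, map_inv]; group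
  rw [h3]; exact h2

theorem exists_phi [Finite F] : ∃ (A : Type u) (_ : CommGroup A) (φ : E.SS →* A),
    φ ⟨t, E.S0_le E.mem_t⟩ ≠ 1 := by
  let N : Subgroup E.SS := E.TT.subgroupOf E.SS
  have hN : N.Normal := ⟨fun n hn g => by
    rw [mem_subgroupOf] at hn ⊢
    exact E.conj_SS_TT g.2 hn⟩
  let f : E.SS ⧸ N →* (F ≃+* F) := QuotientGroup.lift N E.chi (by
    rintro ⟨g, hg⟩ hgN
    obtain ⟨x, rfl⟩ := mem_subgroupOf.1 hgN
    exact E.chi_i x)
  have hcyc : IsCyclic (F ≃+* F) := isCyclic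
  have hker : f.ker ≤ center (E.SS ⧸ N) := by
    intro q hq
    obtain ⟨⟨g, hg⟩, rfl⟩ := QuotientGroup.mk_surjective q
    have h1 : E.chi ⟨g, hg⟩ = 1 := hq
    rw [mem_center_iff]
    intro r
    obtain ⟨⟨h, hh⟩, rfl⟩ := QuotientGroup.mk_surjective r
    rcases E.of_chi_one hg h1 with ⟨x, rfl⟩ | ⟨x, rfl⟩
    · have : ((⟨i x, hg⟩ : E.SS) : E.SS ⧸ N) = 1 := (QuotientGroup.eq_one_iff _).2 (mem_subgroupOf.2 ⟨x, rfl⟩)
      rw [this, mul_one, one_mul]
    · have h2 : ((⟨t * i x, hg⟩ : E.SS) : E.SS ⧸ N) = ((⟨t, E.S0_le E.mem_t⟩ : E.SS) : E.SS ⧸ N) := by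
        rw [eq_comm, QuotientGroup.eq, mem_subgroupOf]
        show t⁻¹ * (t * i x) ∈ E.TT
        exact ⟨x, by group⟩
      rw [h2, ← QuotientGroup.mk_mul, ← QuotientGroup.mk_mul, eq_comm, QuotientGroup.eq, mem_subgroupOf]
      show (t * h)⁻¹ * (h * t) ∈ E.TT
      have e : (t * h)⁻¹ * (h * t) = h⁻¹ * t⁻¹ * h * t := by group
      rw [e]
      exact E.t_comm_mod hh
  let I : CommGroup (E.SS ⧸ N) :=
    { (inferInstance : Group (E.SS ⧸ N)) with
      mul_comm := (f.isMulCommutative_of_isCyclic_of_ker_le_center hker).is_comm.comm }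
  refine ⟨E.SS ⧸ N, I, QuotientGroup.mk' N, ?_⟩
  intro h
  have h1 : (⟨t, E.S0_le E.mem_t⟩ : E.SS) ∈ N := (QuotientGroup.eq_one_iff _).1 h
  obtain ⟨x, hx⟩ := mem_subgroupOf.1 h1
  exact E.t_ne x hx

/-- involutions in the cosets of involutory type -/
theorem exists_invol [Finite F] {g : G} (hg : g ∈ E.SS) {σ : F ≃+* F} (hσ : E.chi ⟨g, hg⟩ = σ) (hσ2 : σ * σ = 1)
    (hσ1 : σ ≠ 1) (hgg : g * g ∈ E.TT) :
    ∃ f ∈ S0, ∃ (δ : F) (h : σ c = c + δ + δ ^ 2), f * f = 1 ∧ σ δ = δ ∧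
      (∀ x, f * i x = i (phi σ δ h x) * f) ∧ ∃ x, g = i x * f := by
  obtain ⟨x, z, hz, rfl⟩ := hg
  obtain ⟨σ', hT⟩ := E.typ z hz
  have hσσ : σ' = σ := by
    have h1 := E.chi_eq (g := ⟨i x * z, ⟨x, z, hz, rfl⟩⟩) ((Typ.i x (mem_top _)).mul (Or.inl rfl) hT.top)
    rw [hσ, one_mul] at h1
    exact h1.symm
  subst hσσ
  obtain ⟨y, hy, δ, h, hz'⟩ := hT
  set g1 : G := (i y)⁻¹ * z with hg1
  have hg1S : g1 ∈ S0 := mul_mem (inv_mem (E.mem_U y hy)) hz
  have act : ∀ x, g1 * i x = i (phi σ' δ h x) * g1 := by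
    intro x
    rw [hg1, mul_assoc, hz', map_mul, map_mul, map_inv]
    group
  have hT1 : Typ ⊤ i (g1 * g1) 1 := by
    have := (Typ.of_act h act (Y := ⊤)).mul (Or.inl rfl) (Typ.of_act h act (Y := ⊤))
    rwa [hσ2] at this
  -- `g1 g1 ∈ T`
  have hzz : (i x * z) * (i x * z) = i (x * y * phi σ' δ h (x * y)) * (g1 * g1) := by
    have e : z = i y * g1 := by rw [hg1]; group
    have e1 : i x * z = i (x * y) * g1 := by rw [e, map_mul, mul_assoc]
    rw [e1]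
    calc i (x * y) * g1 * (i (x * y) * g1) = i (x * y) * (g1 * i (x * y)) * g1 := by group
      _ = _ := by rw [act, map_mul i (x * y)]; group
  obtain ⟨x1, hx1, h2⟩ := E.one _ (mul_mem hg1S hg1S) hT1
  have h3 : g1 * g1 = i x1 := by
    rcases h2 with h2 | h2
    · exact h2
    · exfalso
      rw [hzz, h2] at hgg
      obtain ⟨w, hw⟩ := hgg
      have : i ((x * y * phi σ' δ h (x * y))⁻¹ * w * x1⁻¹) = t := by
        rw [map_mul, map_mul, hw, map_inv, map_inv]; group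
      exact E.t_ne _ this
  have h4 : ∀ x, x1 * x = phi σ' δ h (phi σ' δ h x) * x1 := by
    intro x
    apply E.inj
    rw [map_mul, map_mul, ← h3, mul_assoc, act, ← mul_assoc, act, mul_assoc]
  have hσσ : ∀ a, σ' (σ' a) = a := invol_apply hσ2
  have h2' := two_eq (F := F)
  obtain ⟨hv1, hn1⟩ := hx1
  have e1 := h4 ⟨0, 1, 0, 0, 0, 0⟩
  have e2 := h4 ⟨0, 0, 1, 0, 0, 0⟩
  have e3 := congrArg TB.u e1
  have e4 := congrArg TB.n e1
  have e5 := congrArg TB.r e1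
  have e6 := congrArg TB.m e2
  simp only [phi_apply, mul_u, mul_n, mul_r, mul_m, map_zero, map_one, mul_zero, mul_one, zero_add,
    add_zero, zero_mul, one_mul, hv1, hn1, one_pow, ne_eq, OfNat.ofNat_ne_zero, not_false_eq_true, zero_pow] at e3 e4 e5 e6
  have hδ : σ' δ = δ := by linear_combination (-1) * e3 - δ * h2'
  have hu1 : x1.u = 0 := by linear_combination (-1) * e6
  have hm1 : x1.m = 0 := by linear_combination e5 - c * e4
  have hx1 : x1 = ⟨0, 0, 0, 0, 0, x1.r⟩ := by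
    ext
    · exact hu1
    · exact hv1
    · exact e4
    · exact hm1
    · exact hn1
    · rfl
  -- `σ r = r`
  have hr : σ' x1.r = x1.r := by
    have h5 : g1 * i x1 = i x1 * g1 := by
      rw [← h3]
      exact (mul_assoc g1 g1 g1).symm
    rw [act] at h5
    have h6 := congrArg TB.r (E.inj (mul_right_cancel h5))
    exact h6
  obtain ⟨r2, hr2⟩ := exists_trace hσ2 hσ1 hr
  set ρ : TB c := ⟨0, 0, 0, 0, 0, r2⟩ with hρ
  have hρc : ∀ x, ρ * x = x * ρ := by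
    intro x
    rw [hρ]
    ext
    · show 0 + x.u = x.u + 0
      ring
    · show 0 + x.v = x.v + 0
      ring
    · show 0 + x.s = x.s + 0
      ring
    · show 0 + x.u * 0 + x.m = x.m + 0 * x.s + 0
      ring
    · show 0 + x.v * 0 + x.n = x.n + 0 * x.s + 0
      ring
    · show r2 + (x.u * 0 + x.v * 0) + (x.u ^ 2 + x.u * x.v + c * x.v ^ 2) * 0 + x.r =
        x.r + (0 * x.n + 0 * x.m) + (0 ^ 2 + 0 * 0 + c * 0 ^ 2) * x.s + r2
      ring
  have hρU : ρ ∈ U c := ⟨rfl, rfl⟩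
  have hρφ : phi σ' δ h ρ * (x1 * ρ) = 1 := by
    rw [hx1, hρ]
    ext
    · simp [phi_apply]
    · simp [phi_apply]
    · simp [phi_apply]
    · simp [phi_apply]
    · simp [phi_apply]
    · simp only [phi_apply, mul_r, map_zero, mul_zero, add_zero, one_r]
      linear_combination hr2 + x1.r * h2'
  refine ⟨g1 * i ρ, mul_mem hg1S (E.mem_U _ hρU), δ, h, ?_, hδ, ?_, x * y * phi σ' δ h ρ, ?_⟩
  · calc g1 * i ρ * (g1 * i ρ) = (g1 * i ρ) * g1 * i ρ := by group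
      _ = i (phi σ' δ h ρ) * (g1 * g1) * i ρ := by rw [act]; group
      _ = i (phi σ' δ h ρ * (x1 * ρ)) := by rw [h3, map_mul, map_mul]; group
      _ = 1 := by rw [hρφ, map_one]
  · intro w
    calc g1 * i ρ * i w = g1 * i (ρ * w) := by rw [map_mul]; group
      _ = (g1 * i w) * i ρ := by rw [hρc, map_mul]; group
      _ = _ := by rw [act]; group
  · have hφρ : phi σ' δ h ρ * phi σ' δ h ρ = 1 := by
      rw [hρ]
      ext
      · simp [phi_apply]
      · simp [phi_apply]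
      · simp [phi_apply]
      · simp [phi_apply]
      · simp [phi_apply]
      · simp only [phi_apply, mul_r, map_zero, mul_zero, add_zero, one_r]
        exact add_self _
    calc i x * z = i (x * y) * g1 := by rw [hg1, map_mul]; group
      _ = i (x * y) * i (phi σ' δ h ρ * phi σ' δ h ρ) * g1 := by rw [hφρ, map_one, mul_one]
      _ = i (x * y) * i (phi σ' δ h ρ) * (i (phi σ' δ h ρ) * g1) := by rw [map_mul i (phi σ' δ h ρ)]; group
      _ = i (x * y) * i (phi σ' δ h ρ) * (g1 * i ρ) := by rw [← act]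
      _ = _ := by rw [map_mul i (x * y)]

/-- `t` is not conjugate into `T` -/
theorem not_conj [Finite F] [Finite G] (hF : 4 ≤ Nat.card F) (x : TB c) : ¬ IsConj t (i x) := by
  have : Fact (Nat.Prime 2) := ⟨Nat.prime_two⟩
  intro hconj
  have hix : i x * i x = 1 := by
    obtain ⟨g, hg⟩ := isConj_iff.1 hconj
    rw [← hg]
    calc g * t * g⁻¹ * (g * t * g⁻¹) = g * (t * t) * g⁻¹ := by group
      _ = 1 := by rw [E.tt]; group
  have hx : x * x = 1 := by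
    apply E.inj
    rw [map_mul, map_one, hix]
  obtain ⟨x', hx', hc'⟩ : ∃ x' ∈ V4 c, IsConj t (i x') := by
    rcases inv_normal hx with h | ⟨y, r, h⟩
    · exact ⟨x, h, hconj⟩
    · obtain ⟨x', hx', h1⟩ := E.fus x.u x.v r
      refine ⟨x', hx', (hconj.trans ?_).trans h1⟩
      rw [isConj_iff]
      refine ⟨(i y)⁻¹, ?_⟩
      rw [inv_inv, mul_assoc, ← map_mul, h, map_mul, inv_mul_cancel_left]
  obtain ⟨g, hg⟩ := isConj_iff.1 hc'
  -- the elementary abelian group of order `q⁴` in `C_G(t)`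
  set C : Subgroup G := centralizer ({t} : Set G) with hC
  set E1 : Subgroup G := ((V4 c).map i).map (MulAut.conj g⁻¹).toMonoidHom with hE1
  have hE1C : E1 ≤ C := by
    rintro _ ⟨_, ⟨w, hw, rfl⟩, rfl⟩
    rw [hC, mem_centralizer_singleton_iff]
    have h1 : i w * i x' = i x' * i w := by rw [← map_mul, V4_comm hw hx', map_mul]
    rw [← hg] at h1
    show (MulAut.conj g⁻¹) (i w) * t = t * (MulAut.conj g⁻¹) (i w)
    rw [MulAut.conj_apply, inv_inv]
    calc g⁻¹ * i w * g * t = g⁻¹ * (i w * (g * t * g⁻¹)) * g := by group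
      _ = t * (g⁻¹ * i w * g) := by rw [h1]; group
  have hE1p : IsPGroup 2 E1 := by
    have h1 : IsPGroup 2 ((V4 c).map i) := E.isPGroup_TT.to_le (by
      rintro _ ⟨w, -, rfl⟩; exact ⟨w, rfl⟩)
    exact h1.map _
  obtain ⟨R, hR1, hR2, hR3, hR4⟩ := Cfsg.Agent.Lib.GoldschmidtFusion.exists_sylow_in (p := 2) (N := C) (D := S0)
    (fun z hz => mem_centralizer_singleton_iff.2 (E.comm z hz)) E.two
  have hRS : R = S0 := le_antisymm (E.syl R hR3 (fun z hz => mem_centralizer_singleton_iff.1 (hR2 hz)) hR1) hR1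
  subst hRS
  obtain ⟨k, -, hk⟩ := Cfsg.Agent.Lib.GoldschmidtFusion.exists_conj_le_in (p := 2) hR3 hR4 hE1C hE1p
  set E2 : Subgroup G := E1.map (MulAut.conj k).toMonoidHom with hE2
  have hcard : Nat.card E2 = Nat.card F ^ 4 := by
    rw [hE2, hE1, ← card_V4 (c := c)]
    rw [Nat.card_congr (equivMapOfInjective _ _ (MulAut.conj k).injective).toEquiv.symm]
    rw [Nat.card_congr (equivMapOfInjective _ _ (MulAut.conj g⁻¹).injective).toEquiv.symm]
    exact (Nat.card_congr (equivMapOfInjective _ _ E.inj).toEquiv.symm)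
  have hsq : ∀ z ∈ E2, z * z = 1 := by
    rintro _ ⟨_, ⟨_, ⟨w, hw, rfl⟩, rfl⟩, rfl⟩
    rw [← map_mul, ← map_mul, ← map_mul, V4_sq hw, map_one, map_one, map_one]
  have hcomm : ∀ z ∈ E2, ∀ w ∈ E2, z * w = w * z := by
    rintro _ ⟨_, ⟨_, ⟨w, hw, rfl⟩, rfl⟩, rfl⟩ _ ⟨_, ⟨_, ⟨w', hw', rfl⟩, rfl⟩, rfl⟩
    rw [← map_mul, ← map_mul, ← map_mul, V4_comm hw hw', map_mul, map_mul, map_mul]
  have hE2S : E2 ≤ E.SS := hk.trans E.S0_le
  -- the part in `U`
  set E3 : Subgroup (TB c) := E2.comap i with hE3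
  have hE3U : E3 ≤ U c := fun w hw => E.mem_U_of_comm (E.comm _ (hk hw))
  have hE3sq : ∀ w ∈ E3, w * w = 1 := fun w hw => E.inj (by rw [map_mul, map_one]; exact hsq _ hw)
  have hE3c : ∀ w ∈ E3, ∀ w' ∈ E3, w * w' = w' * w := fun w hw w' hw' =>
    E.inj (by rw [map_mul, map_mul]; exact hcomm _ hw _ hw')
  have hn3 : ((E3.map i : Subgroup G) : Set G).ncard = Nat.card E3 := by
    rw [← Nat.card_coe_set_eq]
    exact Nat.card_congr (equivMapOfInjective _ _ E.inj).toEquiv.symm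
  -- elements of type one
  let H1 : Set G := {z | ∃ h : z ∈ E2, E.chi ⟨z, hE2S h⟩ = 1}
  have hA : H1.ncard ≤ 2 * Nat.card E3 := by
    rw [← hn3]
    by_cases hex : ∃ y0 ∈ H1, ∃ w, y0 = t * i w
    · obtain ⟨y0, ⟨hy0, -⟩, w0, hw0⟩ := hex
      refine ncard_le_two y0 fun z hz => ?_
      obtain ⟨hz2, hz1⟩ := hz
      rcases E.of_chi_one (hE2S hz2) hz1 with ⟨w, rfl⟩ | ⟨w, rfl⟩
      · left; exact ⟨w, hz2, rfl⟩
      · right
        have h1 : y0⁻¹ * (t * i w) ∈ E2 := mul_mem (inv_mem hy0) hz2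
        have h2 : y0⁻¹ * (t * i w) = i (w0⁻¹ * w) := by
          rw [hw0, map_mul, map_inv]; group
        rw [h2] at h1 ⊢
        exact ⟨_, h1, rfl⟩
    · refine ncard_le_two 1 fun z hz => ?_
      obtain ⟨hz2, hz1⟩ := hz
      rcases E.of_chi_one (hE2S hz2) hz1 with ⟨w, rfl⟩ | ⟨w, rfl⟩
      · left; exact ⟨w, hz2, rfl⟩
      · exact absurd ⟨_, ⟨hz2, hz1⟩, w, rfl⟩ hex
  have hncard : ((E2 : Subgroup G) : Set G).ncard = Nat.card F ^ 4 := by
    rw [← hcard, ← Nat.card_coe_set_eq]; rfl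
  by_cases hall : ∀ z (hz : z ∈ E2), E.chi ⟨z, hE2S hz⟩ = 1
  · have h1 : ((E2 : Subgroup G) : Set G) ⊆ H1 := fun z hz => ⟨hz, hall z hz⟩
    have h2 := Set.ncard_le_ncard h1 (Set.toFinite _)
    have h3 := card_elem_U hE3U hE3sq hE3c
    have h4 : Nat.card F ^ 4 ≤ 2 * Nat.card F ^ 3 := by
      rw [← hncard]; exact h2.trans (hA.trans (Nat.mul_le_mul_left 2 h3))
    have h5 : Nat.card F ^ 4 = Nat.card F * Nat.card F ^ 3 := by ring
    have h6 : 0 < Nat.card F ^ 3 := by positivity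
    rw [h5] at h4
    have := Nat.le_of_mul_le_mul_right h4 h6
    omega
  · push Not at hall
    obtain ⟨z0, hz0, hz01⟩ := hall
    set σ := E.chi ⟨z0, hE2S hz0⟩ with hσ
    have hsqchi : ∀ z (hz : z ∈ E2), E.chi ⟨z, hE2S hz⟩ * E.chi ⟨z, hE2S hz⟩ = 1 := by
      intro z hz
      rw [← map_mul]
      have : (⟨z, hE2S hz⟩ : E.SS) * ⟨z, hE2S hz⟩ = 1 := Subtype.ext (hsq z hz)
      rw [this, map_one]
    have hB : ((E2 : Subgroup G) : Set G).ncard ≤ 2 * H1.ncard := by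
      refine ncard_le_two z0 fun z hz => ?_
      have hz' : z ∈ E2 := hz
      by_cases h1 : E.chi ⟨z, hE2S hz'⟩ = 1
      · left; exact ⟨hz', h1⟩
      · right
        refine ⟨mul_mem (inv_mem hz0) hz', ?_⟩
        have h2 := unique_invol (hsqchi z0 hz0) (hsqchi z hz') hz01 h1
        have h3 : (⟨z0⁻¹ * z, hE2S (mul_mem (inv_mem hz0) hz')⟩ : E.SS) = ⟨z0, hE2S hz0⟩⁻¹ * ⟨z, hE2S hz'⟩ := rfl
        rw [h3, map_mul, map_inv, h2, inv_mul_cancel]
    obtain ⟨σ', hT⟩ := E.typ z0 (hk hz0)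
    have hσσ : σ' = σ := (E.chi_eq (g := ⟨z0, hE2S hz0⟩) hT).symm
    rw [hσσ] at hT
    obtain ⟨y, hy, δ, h, hz'⟩ := hT
    have h3 := card_fix_U (hsqchi z0 hz0) hz01 h hy hE3U (fun w hw => by
      apply E.inj
      have h4 := hcomm _ hz0 _ hw
      rw [hz'] at h4
      exact mul_right_cancel h4)
    have h4 : Nat.card F ^ 4 ≤ 4 * Nat.card F ^ 2 := by
      rw [← hncard]
      calc _ ≤ 2 * H1.ncard := hB
        _ ≤ 2 * (2 * Nat.card E3) := Nat.mul_le_mul_left 2 hA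
        _ ≤ 2 * (2 * Nat.card F ^ 2) := Nat.mul_le_mul_left 2 (Nat.mul_le_mul_left 2 h3)
        _ = 4 * Nat.card F ^ 2 := by ring
    have h5 : Nat.card F ^ 4 = Nat.card F ^ 2 * Nat.card F ^ 2 := by ring
    have h6 : 0 < Nat.card F ^ 2 := by positivity
    rw [h5] at h4
    have h7 := Nat.le_of_mul_le_mul_right h4 h6
    nlinarith

/-- **(★)** -/
theorem star [Finite F] [Finite G] (hF : 4 ≤ Nat.card F) (g : G) (hg : g * t * g⁻¹ ∈ E.SS) :
    ∃ x ∈ E.TT, g * t * g⁻¹ = x * t * x⁻¹ := by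
  set s : G := g * t * g⁻¹ with hs
  have hts : IsConj t s := isConj_iff.2 ⟨g, rfl⟩
  have hss : s * s = 1 := by
    calc s * s = g * (t * t) * g⁻¹ := by rw [hs]; group
      _ = 1 := by rw [E.tt]; group
  by_cases h1 : E.chi ⟨s, hg⟩ = 1
  · rcases E.of_chi_one hg h1 with ⟨x, hx⟩ | ⟨x, hx⟩
    · exact absurd (hx ▸ hts) (E.not_conj hF x)
    · -- the coset `tT`
      have h2 : tau x * x = 1 := by
        apply E.inj
        rw [map_one, ← hss, hx, map_mul]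
        calc i (tau x) * i x = i (tau x) * (t * t) * i x := by rw [E.tt, mul_one]
          _ = (i (tau x) * t) * t * i x := by group
          _ = t * i x * (t * i x) := by rw [← E.t_i]; group
      have key : ∀ (y x' : TB c), tau y * x = x' * y → i y * s * (i y)⁻¹ = t * i x' := by
        intro y x' h
        calc i y * s * (i y)⁻¹ = (i y * t) * i x * (i y)⁻¹ := by rw [hx]; group
          _ = t * (i (tau y * x)) * (i y)⁻¹ := by rw [E.i_t, map_mul]; group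
          _ = t * i x' := by rw [h, map_mul]; group
      rcases tau_normal h2 with ⟨y, r, h⟩ | ⟨y, s', hs', h⟩
      · have h3 := key y _ h
        have h4 : IsConj t (t * i ⟨0, 0, 0, 0, 0, r⟩) := hts.trans (isConj_iff.2 ⟨i y, h3⟩)
        have hr : r = 0 := by
          by_contra hr
          exact E.nzl r hr h4
        subst hr
        have h5 : (⟨0, 0, 0, 0, 0, 0⟩ : TB c) = 1 := rfl
        rw [h5, map_one, mul_one] at h3
        refine ⟨(i y)⁻¹, inv_mem ⟨y, rfl⟩, ?_⟩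
        rw [← h3]
        group
      · exact absurd (hts.trans (isConj_iff.2 ⟨i y, key y _ h⟩)) (E.nxb s' hs')
  · exfalso
    have hchi2 : E.chi ⟨s, hg⟩ * E.chi ⟨s, hg⟩ = 1 := by
      rw [← map_mul]
      have : (⟨s, hg⟩ : E.SS) * ⟨s, hg⟩ = 1 := Subtype.ext hss
      rw [this, map_one]
    obtain ⟨f, hf, δ, h, hff, hδ, hact, x, hx⟩ := E.exists_invol hg rfl hchi2 h1 (by rw [hss]; exact one_mem _)
    set σ := E.chi ⟨s, hg⟩ with hσ
    -- `x φ(x) = 1`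
    have h2 : x * phi σ δ h x = 1 := by
      apply E.inj
      rw [map_one, map_mul, ← hss, hx]
      calc i x * i (phi σ δ h x) = i x * i (phi σ δ h x) * (f * f) := by rw [hff, mul_one]
        _ = i x * (i (phi σ δ h x) * f) * f := by group
        _ = i x * f * (i x * f) := by rw [← hact]; group
    have h3 : phi σ δ h x * x = 1 := by
      calc phi σ δ h x * x = x⁻¹ * (x * phi σ δ h x) * x := by group
        _ = 1 := by rw [h2]; group
    obtain ⟨y, hy⟩ := h90 h (invol_apply hchi2) hδ (fun a ha => exists_trace hchi2 h1 ha) h3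
    have hφφ : ∀ w, phi σ δ h (phi σ δ h w) = w := by
      intro w
      apply E.inj
      have h4 : f * (f * i w) = i (phi σ δ h (phi σ δ h w)) * (f * f) := by
        rw [hact, ← mul_assoc, hact, mul_assoc]
      rw [hff, mul_one, ← mul_assoc, hff, one_mul] at h4
      exact h4.symm
    have h4 : i (phi σ δ h y) * s * (i (phi σ δ h y))⁻¹ = f := by
      calc i (phi σ δ h y) * s * (i (phi σ δ h y))⁻¹ = i (phi σ δ h y * x) * (f * i (phi σ δ h y)⁻¹) := by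
            rw [hx, map_mul, map_inv]; group
        _ = i y * (i (phi σ δ h (phi σ δ h y))⁻¹ * f) := by
            rw [hy, hact, map_inv (phi σ δ h)]
        _ = f := by rw [hφφ, map_inv]; group
    have h5 : IsConj t f := hts.trans (isConj_iff.2 ⟨_, h4⟩)
    have h6 : Typ ⊤ i f σ := Typ.of_act h hact
    obtain ⟨w, -, hw | hw⟩ := E.nout f hf h5
    · rw [hw] at h6
      exact h1 (h6.unique E.inj (Typ.i w (mem_top _)))
    · rw [hw] at h6
      have h7 := E.typ_t.top.mul (Or.inl rfl) (Typ.i (i := i) w (mem_top w))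
      exact h1 (h6.unique E.inj h7)

/-- `S` is a Sylow 2-subgroup -/
theorem exists_sylow [Finite F] [Finite G] (hF : 4 ≤ Nat.card F) : ∃ P : Sylow 2 G, (P : Subgroup G) = E.SS := by
  refine Cfsg.Agent.StdEven.OuterKill.exists_sylow (t := t) E.isPGroup_SS E.TT_le (E.S0_le E.mem_t)
    (fun g hg => E.star hF g hg) (fun Q hQ hQt hQS => ?_)
  exact (E.syl Q hQ hQt fun z hz => hQS z (E.S0_le hz) (E.comm z hz)).trans E.S0_le

/-- **The end of case (B).** -/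
theorem main [Finite F] [Finite G] (hF : 4 ≤ Nat.card F) {L : Subgroup G} [hLn : L.Normal] (hL : commutator L = ⊤)
    (hTL : ∀ x, i x ∈ L)
    (nin : ∀ y z, y * t = t * y → z ∈ S0 → y * z * y⁻¹ ∈ E.TT → ∃ x ∈ U c, z = i x) :
    t ∉ L ∧ ∃ P : Sylow 2 L, (P : Subgroup L).map L.subtype = E.TT := by
  have : Fact (Nat.Prime 2) := ⟨Nat.prime_two⟩
  obtain ⟨P, hP⟩ := E.exists_sylow hF
  have hstar : ∀ g : G, g * t * g⁻¹ ∈ (P : Subgroup G) → ∃ x ∈ E.TT, g * t * g⁻¹ = x * t * x⁻¹ := by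
    intro g hg
    rw [hP] at hg
    exact E.star hF g hg
  have htP : t ∈ (P : Subgroup G) := by rw [hP]; exact E.S0_le E.mem_t
  have hTP : E.TT ≤ (P : Subgroup G) := by rw [hP]; exact E.TT_le
  -- `t ∉ L`
  have htL : t ∉ L := by
    obtain ⟨A, _, φ, hφ⟩ := E.exists_phi
    let e : (P : Subgroup G) ≃* E.SS := MulEquiv.subgroupCongr hP
    exact Cfsg.Agent.StdEven.OuterKill.not_mem hTP E.tt htP hstar hL (φ.comp e.toMonoidHom) hφ
  refine ⟨htL, ?_⟩
  have hTL' : E.TT ≤ L := by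
    rintro _ ⟨x, rfl⟩; exact hTL x
  -- elements of type one in `S ∩ L`
  have hone : ∀ g (hg : g ∈ E.SS), g ∈ L → E.chi ⟨g, hg⟩ = 1 → g ∈ E.TT := by
    intro g hg hgL h1
    rcases E.of_chi_one hg h1 with ⟨x, hx⟩ | ⟨x, hx⟩
    · exact ⟨x, hx.symm⟩
    · exfalso
      apply htL
      have e : t = g * (i x)⁻¹ := by rw [hx]; group
      rw [e]
      exact mul_mem hgL (inv_mem (hTL x))
  have key : E.SS ⊓ L ≤ E.TT := by
    by_contra hcon
    -- an element of type `≠ 1`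
    obtain ⟨g, ⟨hgS, hgL⟩, hgT⟩ := SetLike.not_le_iff_exists.1 hcon
    have hg1 : E.chi ⟨g, hgS⟩ ≠ 1 := fun h => hgT (hone g hgS hgL h)
    -- an element whose type is an involution
    obtain ⟨z, hzS, hzL, hz2, hz1⟩ : ∃ z, ∃ hz : z ∈ E.SS, z ∈ L ∧ E.chi ⟨z, hz⟩ * E.chi ⟨z, hz⟩ = 1 ∧
        E.chi ⟨z, hz⟩ ≠ 1 := by
      obtain ⟨n, hn⟩ := E.isPGroup_SS ⟨g, hgS⟩
      have hex : ∃ k, E.chi (⟨g, hgS⟩ ^ 2 ^ k) = 1 := ⟨n, by rw [hn, map_one]⟩
      classical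
      let k := Nat.find hex
      have hk : E.chi (⟨g, hgS⟩ ^ 2 ^ k) = 1 := Nat.find_spec hex
      have hk0 : k ≠ 0 := by
        intro h0
        rw [h0, pow_zero, pow_one] at hk
        exact hg1 hk
      obtain ⟨m, hm⟩ := Nat.exists_eq_succ_of_ne_zero hk0
      have hm1 : ¬ E.chi (⟨g, hgS⟩ ^ 2 ^ m) = 1 := Nat.find_min hex (by omega)
      refine ⟨g ^ 2 ^ m, pow_mem hgS _, pow_mem hgL _, ?_, hm1⟩
      have h3 : (⟨g ^ 2 ^ m, pow_mem hgS _⟩ : E.SS) = ⟨g, hgS⟩ ^ 2 ^ m := rfl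
      rw [h3, ← map_mul, ← pow_two, ← pow_mul, ← pow_succ]
      rw [hm] at hk
      exact hk
    have hzz : z * z ∈ E.TT := hone _ (mul_mem hzS hzS) (mul_mem hzL hzL) (by
      have h3 : (⟨z * z, mul_mem hzS hzS⟩ : E.SS) = ⟨z, hzS⟩ * ⟨z, hzS⟩ := rfl
      rw [h3, map_mul, hz2])
    obtain ⟨f, hf, δ, h, hff, hδ, hact, x, hx⟩ := E.exists_invol hzS rfl hz2 hz1 hzz
    set σ := E.chi ⟨z, hzS⟩ with hσ
    have hfL : f ∈ L := by
      have e : f = (i x)⁻¹ * z := by rw [hx]; group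
      rw [e]
      exact mul_mem (inv_mem (hTL x)) hzL
    have hfS := E.S0_le hf
    have hchif : E.chi ⟨f, hfS⟩ = σ := E.chi_eq (g := ⟨f, hfS⟩) (Typ.of_act h hact (Y := ⊤))
    have hfT : f ∉ E.TT := by
      rintro ⟨w, hw⟩
      apply hz1
      rw [← hchif]
      have : (⟨f, hfS⟩ : E.SS) = ⟨i w, E.TT_le ⟨w, rfl⟩⟩ := Subtype.ext hw.symm
      rw [this]
      exact E.chi_i w
    let I : CommGroup (F ≃+* F) := { (inferInstance : Group (F ≃+* F)) with mul_comm := Cfsg.Agent.StdRank2.OutField.comm }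
    have hPS : (P : Subgroup G) ⊓ L ≤ E.SS := inf_le_left.trans hP.le
    let ψ : ↥((P : Subgroup G) ⊓ L) →* (F ≃+* F) := E.chi.comp (inclusion hPS)
    obtain ⟨y, hyt, hyf⟩ := Cfsg.Agent.StdEven.OuterKill.no_outer (A := F ≃+* F) (P := P) (T := E.TT) (L := L)
      (t := t) (f := f) E.tt htP (fun x hx => E.conj_TT E.mem_t hx) hstar hL ψ (by
        intro w hw
        constructor
        · intro h1
          exact hone w (hPS hw) (mem_inf.1 hw).2 h1
        · rintro ⟨w', rfl⟩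
          exact E.chi_i w') hff (E.comm f hf) (mem_inf.2 ⟨by rw [hP]; exact hfS, hfL⟩) hfT (by
        intro w hw hww
        have h1 : E.chi ⟨w, hPS hw⟩ * E.chi ⟨w, hPS hw⟩ = 1 := by
          rw [← map_mul]
          have : (⟨w, hPS hw⟩ : E.SS) * ⟨w, hPS hw⟩ = 1 := Subtype.ext hww
          rw [this, map_one]
        by_cases h2 : E.chi ⟨w, hPS hw⟩ = 1
        · exact Or.inl h2
        · right
          show E.chi ⟨w, hPS hw⟩ = E.chi ⟨f, hfS⟩
          rw [hchif]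
          exact unique_invol h1 hz2 h2 hz1)
    obtain ⟨w, -, hw⟩ := nin y f hyt hf hyf
    exact hfT ⟨w, hw.symm⟩
  have hSL : E.SS ⊓ L = E.TT := le_antisymm key (le_inf E.TT_le hTL')
  have hodd : ¬ 2 ∣ (E.TT.subgroupOf L).index := by
    have h1 := Cfsg.Agent.StdEven.OuterKill.not_dvd_relIndex P L
    rw [← inf_relIndex_right, hP, hSL] at h1
    exact h1
  have hT2 : IsPGroup 2 (E.TT.subgroupOf L) := E.isPGroup_TT.comap_of_injective L.subtype L.subtype_injective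
  refine ⟨hT2.toSylow hodd, ?_⟩
  show (E.TT.subgroupOf L).map L.subtype = E.TT
  rw [subgroupOf_map_subtype]
  exact inf_eq_left.2 hTL'

end Env

end Cfsg.Agent.StdSpFour.CaseBEnv
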