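import Cfsg.Agent.StdSpFour.CaseBRel

/-!
# S1778, type Sp₄(q), case (B): the homomorphism from the model
-/

set_option autoImplicit false

namespace Cfsg.Agent.StdSpFour.CaseBHom

open Cfsg.Agent.StdSpFour Cfsg.Agent.StdSpFour.Comm
open Cfsg.Agent.StdSpFour.CaseBModel Cfsg.Agent.StdSpFour.CaseBRel

variable {F G : Type*} [Field F] [Group G] [CharP F 2] {B : Base F G} {Q P : F → G} {c : F}

section

variable (R : Rels B Q P c)
include R

theorem P_sq (n : F) : P n * P n = 1 := sq_of_add R.P_add n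
theorem Q_sq (n : F) : Q n * Q n = 1 := sq_of_add R.Q_add n
theorem P_zero : P 0 = 1 := zero_of_add R.P_add
theorem Q_zero : Q 0 = 1 := zero_of_add R.Q_add

/-- the elements of `V4` -/
def w (B : Base F G) (P : F → G) (s m n r : F) : G := B.xb s * B.zs m * P n * B.zl r

theorem w_mul (s m n r s' m' n' r' : F) :
    w B P s m n r * w B P s' m' n' r' = w B P (s + s') (m + m') (n + n') (r + r') := by
  have h1 := (B.xb_zs s' m).eq
  have h2 := (R.P_xb n s').eq
  have h3 := (B.xb_zl s' r).eq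
  have h4 := (R.P_zs n m').eq
  have h5 := (B.zs_zl m' r).eq
  have h6 := (R.P_zl n' r).eq
  unfold w
  rw [B.xb_add, B.zs_add, R.P_add, B.zl_add]
  calc B.xb s * B.zs m * P n * B.zl r * (B.xb s' * B.zs m' * P n' * B.zl r')
      = B.xb s * B.zs m * P n * (B.zl r * B.xb s') * B.zs m' * P n' * B.zl r' := by group
    _ = B.xb s * B.zs m * (P n * B.xb s') * (B.zl r * B.zs m') * P n' * B.zl r' := by rw [← h3]; group
    _ = B.xb s * (B.zs m * B.xb s') * (P n * B.zs m') * (B.zl r * P n') * B.zl r' := by rw [h2, ← h5]; group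
    _ = _ := by rw [← h1, h4, ← h6]; group

theorem xb_xa (s u : F) : B.xb s * B.xa u = B.xa u * B.xb s * B.zs (u * s) * B.zl (u ^ 2 * s) := by
  have h1 := Swap.xb_xa B s u
  rw [h1]; group

theorem P_xa (n u : F) : P n * B.xa u = B.xa u * P n * B.zl (u * n) := by
  have h1 := R.xa_P u n
  have h2 : B.zl (u * n) * B.zl (u * n) = 1 := sq_of_add B.zl_add _
  calc P n * B.xa u = P n * B.xa u * (B.zl (u * n) * B.zl (u * n)) := by rw [h2, mul_one]
    _ = (P n * B.xa u * B.zl (u * n)) * B.zl (u * n) := by group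
    _ = _ := by rw [← h1]

theorem w_xa (s m n r u : F) :
    w B P s m n r * B.xa u = B.xa u * w B P s (m + u * s) n (r + u * n + u ^ 2 * s) := by
  have h1 := (B.xa_zl u r).eq
  have h2 := P_xa R n u
  have h3 := (B.xa_zs u m).eq
  have h4 := xb_xa R s u
  have h5 := (B.zs_zl m (u ^ 2 * s)).eq
  have h6 := (R.P_zl n (u ^ 2 * s)).eq
  have e1 : B.zs (m + u * s) = B.zs (u * s) * B.zs m := by rw [add_comm, B.zs_add]
  have e2 : B.zl (r + u * n + u ^ 2 * s) = B.zl (u ^ 2 * s) * B.zl (u * n) * B.zl r := by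
    rw [← B.zl_add, ← B.zl_add]; congr 1; ring
  unfold w
  rw [e1, e2]
  calc B.xb s * B.zs m * P n * B.zl r * B.xa u = B.xb s * B.zs m * P n * (B.zl r * B.xa u) := by group
    _ = B.xb s * B.zs m * (P n * B.xa u) * B.zl r := by rw [← h1]; group
    _ = B.xb s * (B.zs m * B.xa u) * P n * B.zl (u * n) * B.zl r := by rw [h2]; group
    _ = (B.xb s * B.xa u) * B.zs m * P n * B.zl (u * n) * B.zl r := by rw [← h3]; group
    _ = B.xa u * B.xb s * B.zs (u * s) * (B.zl (u ^ 2 * s) * B.zs m) * P n * B.zl (u * n) * B.zl r := by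
        rw [h4]; group
    _ = B.xa u * B.xb s * B.zs (u * s) * B.zs m * (B.zl (u ^ 2 * s) * P n) * B.zl (u * n) * B.zl r := by
        rw [← h5]; group
    _ = _ := by rw [← h6]; group

theorem xb_Q (s v : F) : B.xb s * Q v = Q v * B.xb s * (P (v * s) * B.zl (c * v ^ 2 * s)) := by
  have h1 := R.Q_xb v s
  have h2 : (P (v * s) * B.zl (c * v ^ 2 * s)) * (P (v * s) * B.zl (c * v ^ 2 * s)) = 1 := by
    have e1 := (R.P_zl (v * s) (c * v ^ 2 * s)).eq
    calc _ = P (v * s) * (B.zl (c * v ^ 2 * s) * P (v * s)) * B.zl (c * v ^ 2 * s) := by group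
      _ = (P (v * s) * P (v * s)) * (B.zl (c * v ^ 2 * s) * B.zl (c * v ^ 2 * s)) := by rw [← e1]; group
      _ = 1 := by rw [P_sq R, one_mul, sq_of_add B.zl_add]
  calc B.xb s * Q v = B.xb s * Q v * ((P (v * s) * B.zl (c * v ^ 2 * s)) * (P (v * s) * B.zl (c * v ^ 2 * s))) := by
        rw [h2, mul_one]
    _ = (B.xb s * Q v * (P (v * s) * B.zl (c * v ^ 2 * s))) * (P (v * s) * B.zl (c * v ^ 2 * s)) := by group
    _ = _ := by rw [← h1]

theorem w_Q (s m n r v : F) :
    w B P s m n r * Q v = Q v * w B P s m (n + v * s) (r + v * m + c * v ^ 2 * s) := by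
  have h1 := (R.Q_zl v r).eq
  have h2 := (R.Q_P v n).eq
  have h3 := R.zs_Q m v
  have h4 := xb_Q R s v
  have h5 := (R.P_zs (v * s) m).eq
  have h6 := (B.zs_zl m (c * v ^ 2 * s)).eq
  have h7 := (R.P_zl n (c * v ^ 2 * s)).eq
  have h8 := (R.P_zl n (m * v)).eq
  have e1 : P (n + v * s) = P (v * s) * P n := by rw [add_comm, R.P_add]
  have e2 : B.zl (r + v * m + c * v ^ 2 * s) = B.zl (c * v ^ 2 * s) * B.zl (m * v) * B.zl r := by
    rw [← B.zl_add, ← B.zl_add]; congr 1; ring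
  unfold w
  rw [e1, e2]
  calc B.xb s * B.zs m * P n * B.zl r * Q v = B.xb s * B.zs m * P n * (B.zl r * Q v) := by group
    _ = B.xb s * B.zs m * (P n * Q v) * B.zl r := by rw [← h1]; group
    _ = B.xb s * (B.zs m * Q v) * P n * B.zl r := by rw [← h2]; group
    _ = (B.xb s * Q v) * B.zs m * (B.zl (m * v) * P n) * B.zl r := by rw [h3]; group
    _ = Q v * B.xb s * P (v * s) * (B.zl (c * v ^ 2 * s) * B.zs m) * P n * B.zl (m * v) * B.zl r := by
        rw [h4, ← h8]; group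
    _ = Q v * B.xb s * (P (v * s) * B.zs m) * (B.zl (c * v ^ 2 * s) * P n) * B.zl (m * v) * B.zl r := by
        rw [← h6]; group
    _ = _ := by rw [h5, ← h7]; group

end

/-- **the homomorphism** -/
def hom (R : Rels B Q P c) : TB c →* G where
  toFun x := B.xa x.u * Q x.v * w B P x.s x.m x.n x.r
  map_one' := by
    simp [w, xa_zero, xb_zero, zs_zero, zl_zero, P_zero R, Q_zero R]
  map_mul' x y := by
    have h1 := w_xa R x.s x.m x.n x.r y.u
    have h2 := w_Q R x.s (x.m + y.u * x.s) x.n (x.r + y.u * x.n + y.u ^ 2 * x.s) y.v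
    have h3 := w_mul R x.s (x.m + y.u * x.s) (x.n + y.v * x.s)
      (x.r + y.u * x.n + y.u ^ 2 * x.s + y.v * (x.m + y.u * x.s) + c * y.v ^ 2 * x.s) y.s y.m y.n y.r
    have h4 := (R.Q_xa x.v y.u).eq
    have e1 : (x * y).r = x.r + y.u * x.n + y.u ^ 2 * x.s + y.v * (x.m + y.u * x.s) + c * y.v ^ 2 * x.s + y.r := by
      rw [mul_r]; ring
    rw [e1, mul_u, mul_v, mul_s, mul_m, mul_n, B.xa_add, R.Q_add, ← h3]
    symm
    calc B.xa x.u * Q x.v * w B P x.s x.m x.n x.r * (B.xa y.u * Q y.v * w B P y.s y.m y.n y.r)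
        = B.xa x.u * Q x.v * (w B P x.s x.m x.n x.r * B.xa y.u) * Q y.v * w B P y.s y.m y.n y.r := by group
      _ = B.xa x.u * (Q x.v * B.xa y.u) * (w B P x.s (x.m + y.u * x.s) x.n (x.r + y.u * x.n + y.u ^ 2 * x.s) *
            Q y.v) * w B P y.s y.m y.n y.r := by rw [h1]; group
      _ = _ := by rw [h4, h2]; group

theorem hom_apply (R : Rels B Q P c) (x : TB c) :
    hom R x = B.xa x.u * Q x.v * (B.xb x.s * B.zs x.m * P x.n * B.zl x.r) := rfl

theorem hom_U (R : Rels B Q P c) (u s m r : F) :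
    hom R ⟨u, 0, s, m, 0, r⟩ = B.xa u * B.xb s * B.zs m * B.zl r := by
  rw [hom_apply, Q_zero R, P_zero R]
  group

theorem hom_xa (R : Rels B Q P c) (u : F) : hom R ⟨u, 0, 0, 0, 0, 0⟩ = B.xa u := by
  simp [hom_apply, Q_zero R, P_zero R, xb_zero, zs_zero, zl_zero]
theorem hom_Q (R : Rels B Q P c) (u : F) : hom R ⟨0, u, 0, 0, 0, 0⟩ = Q u := by
  simp [hom_apply, P_zero R, xa_zero, xb_zero, zs_zero, zl_zero]
theorem hom_xb (R : Rels B Q P c) (u : F) : hom R ⟨0, 0, u, 0, 0, 0⟩ = B.xb u := by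
  simp [hom_apply, Q_zero R, P_zero R, xa_zero, zs_zero, zl_zero]
theorem hom_zs (R : Rels B Q P c) (u : F) : hom R ⟨0, 0, 0, u, 0, 0⟩ = B.zs u := by
  simp [hom_apply, Q_zero R, P_zero R, xa_zero, xb_zero, zl_zero]
theorem hom_P (R : Rels B Q P c) (u : F) : hom R ⟨0, 0, 0, 0, u, 0⟩ = P u := by
  simp [hom_apply, Q_zero R, xa_zero, xb_zero, zs_zero, zl_zero]
theorem hom_zl (R : Rels B Q P c) (u : F) : hom R ⟨0, 0, 0, 0, 0, u⟩ = B.zl u := by
  simp [hom_apply, Q_zero R, P_zero R, xa_zero, xb_zero, zs_zero]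

/-- `t` acts by `tau` -/
theorem t_hom (R : Rels B Q P c) (x : TB c) : B.t * hom R x = hom R (tau x) * B.t := by
  rw [tau_apply, hom_apply, hom_apply]
  simp only
  have h1 := (B.t_xa x.u).eq
  have h2 := R.t_Q x.v
  have h3 := (B.t_xb x.s).eq
  have h4 := (B.t_zs x.m).eq
  have h5 := R.t_P x.n
  have h6 := (B.t_zl x.r).eq
  have h7 := (R.Q_xa x.v x.v).eq
  have h8 := (R.P_zs x.n x.n).eq
  have h9 := (B.t_xa x.v).eq
  have h10 := (B.t_zs x.n).eq
  have h11 := (comm_of_add B.zs_add x.m x.n).eq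
  rw [B.xa_add, B.zs_add]
  calc B.t * (B.xa x.u * Q x.v * (B.xb x.s * B.zs x.m * P x.n * B.zl x.r))
      = (B.t * B.xa x.u) * Q x.v * B.xb x.s * B.zs x.m * P x.n * B.zl x.r := by group
    _ = B.xa x.u * (B.t * Q x.v) * B.xb x.s * B.zs x.m * P x.n * B.zl x.r := by rw [h1]; group
    _ = B.xa x.u * Q x.v * (B.t * B.xa x.v) * B.xb x.s * B.zs x.m * P x.n * B.zl x.r := by rw [h2]; group
    _ = B.xa x.u * (Q x.v * B.xa x.v) * (B.t * B.xb x.s) * B.zs x.m * P x.n * B.zl x.r := by rw [h9]; group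
    _ = B.xa x.u * B.xa x.v * Q x.v * B.xb x.s * (B.t * B.zs x.m) * P x.n * B.zl x.r := by rw [h7, h3]; group
    _ = B.xa x.u * B.xa x.v * Q x.v * B.xb x.s * B.zs x.m * (B.t * P x.n) * B.zl x.r := by rw [h4]; group
    _ = B.xa x.u * B.xa x.v * Q x.v * B.xb x.s * B.zs x.m * P x.n * (B.t * B.zs x.n) * B.zl x.r := by
        rw [h5]; group
    _ = B.xa x.u * B.xa x.v * Q x.v * B.xb x.s * B.zs x.m * (P x.n * B.zs x.n) * (B.t * B.zl x.r) := by
        rw [h10]; group
    _ = _ := by rw [h8, h6]; group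

theorem hom_injective (R : Rels B Q P c) : Function.Injective (hom R) := by
  rw [injective_iff_map_eq_one]
  intro x hx
  -- `x⁻¹ x^t`
  have h1 : hom R (tau x) = 1 := by
    have := t_hom R x
    rw [hx, mul_one] at this
    exact (mul_eq_right.1 this.symm)
  have h2 : tau x = x * ⟨x.v, 0, 0, x.n + x.v * x.s, 0, x.v * x.n + x.v ^ 2 * x.s⟩ := by
    have h2 := two_eq (F := F)
    rw [tau_apply]
    ext
    · simp only [mul_u]
    · simp only [mul_v]; ring
    · simp only [mul_s]; ring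
    · simp only [mul_m]; linear_combination (-(x.v * x.s)) * h2
    · simp only [mul_n]; ring
    · simp only [mul_r]; linear_combination (-(x.v * x.n) - x.v ^ 2 * x.s) * h2
  rw [h2, map_mul, hx, one_mul, hom_U] at h1
  obtain ⟨e1, -, e2, -⟩ := B.inj _ _ _ _ h1
  rw [e1, zero_mul, add_zero] at e2
  have h3 : hom R ⟨x.u, 0, x.s, x.m, 0, x.r⟩ = 1 := by
    rw [← hx]
    congr 1
    ext
    · rfl
    · exact e1.symm
    · rfl
    · rfl
    · exact e2.symm
    · rfl
  rw [hom_U] at h3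
  obtain ⟨e3, e4, e5, e6⟩ := B.inj _ _ _ _ h3
  ext
  · exact e3
  · exact e1
  · exact e4
  · exact e5
  · exact e2
  · exact e6

/-- fixed points of `tau` -/
theorem tau_eq_iff {x : TB c} : tau x = x ↔ x.v = 0 ∧ x.n = 0 := by
  rw [tau_apply]
  constructor
  · intro h
    have h1 := congrArg TB.u h
    have h2 := congrArg TB.m h
    simp only at h1 h2
    exact ⟨by linear_combination h1, by linear_combination h2⟩
  · rintro ⟨h1, h2⟩
    ext
    · show x.u + x.v = x.u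
      rw [h1, add_zero]
    · rfl
    · rfl
    · show x.m + x.n = x.m
      rw [h2, add_zero]
    · rfl
    · rfl

theorem t_ne_hom (R : Rels B Q P c) (x : TB c) : hom R x ≠ B.t := by
  intro h
  have h1 := t_hom R x
  rw [h] at h1
  have h2 : hom R (tau x) = hom R x := by
    rw [h]; exact (mul_right_cancel h1).symm
  have h3 := tau_eq_iff.1 (hom_injective R h2)
  have h4 : hom R ⟨x.u, 0, x.s, x.m, 0, x.r⟩ = B.t := by
    rw [← h]
    congr 1
    ext
    · rfl
    · exact h3.1.symm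
    · rfl
    · rfl
    · exact h3.2.symm
    · rfl
  rw [hom_U] at h4
  exact B.t_ne _ _ _ _ h4

end Cfsg.Agent.StdSpFour.CaseBHom
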