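import Cfsg.Agent.StdSpFour.Fld
import Cfsg.Agent.StdSpFour.CaseBEnv
import Cfsg.Agent.StdSpFour.CaseBHom

/-!
# S1778, type Sp₄(q), case (B): the action of the field elements on `T`
-/

set_option autoImplicit false
set_option linter.unusedSectionVars false

namespace Cfsg.Agent.StdSpFour.CaseBFld

open Cfsg.Agent.StdSpFour Cfsg.Agent.StdSpFour.Comm Cfsg.Agent.StdSpFour.Fld
open Cfsg.Agent.StdSpFour.CaseBModel Cfsg.Agent.StdSpFour.CaseBRel Cfsg.Agent.StdSpFour.CaseBHom
open Cfsg.Agent.StdSpFour.CaseBInv Cfsg.Agent.StdSpFour.CaseBEnv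

variable {F G : Type*} [Field F] [Group G] [CharP F 2] {B : Base F G} {Q P : F → G} {c : F}
  {σ : F ≃+* F} {f : G}

/-- if `x t' x⁻¹`-data agree then the quotient commutes -/
theorem comm_quot {t z x y : G} (h1 : t * x = x * z) (h2 : t * y = y * z) : Commute (x * y⁻¹) t := by
  show x * y⁻¹ * t = t * (x * y⁻¹)
  have e1 : y⁻¹ * t = z * y⁻¹ := by
    calc y⁻¹ * t = y⁻¹ * (t * y) * y⁻¹ := by group
      _ = _ := by rw [h2]; group
  calc x * y⁻¹ * t = x * (y⁻¹ * t) := by group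
    _ = (x * z) * y⁻¹ := by rw [e1]; group
    _ = _ := by rw [← h1]; group

theorem sq_aux {t w p z : G} (tt : t * t = 1) (pp : p * p = 1) (ww : w * w = 1) (tw : t * w = w * t)
    (pw : p * w = w * p) (tz : t * z = z * t) (pz : p * z = z * p) (tp : t * p = p * (t * z))
    (h : (t * w * p) * (t * w * p) = 1) : z = 1 := by
  rw [← h]
  symm
  calc (t * w * p) * (t * w * p) = t * (w * p) * (t * w) * p := by group
    _ = t * p * (w * w) * t * p := by rw [← pw, tw]; group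
    _ = (t * p) * t * p := by rw [ww]; group
    _ = p * (t * z) * t * p := by rw [tp]
    _ = p * z * (t * t) * p := by rw [tz]; group
    _ = (p * z) * p := by rw [tt]; group
    _ = z * (p * p) := by rw [pz]; group
    _ = z := by rw [pp, mul_one]

/-- weights `(l,l⁻¹)` on `⟨t⟩V₁` -/
theorem eq_tau3 {g d : G} {s m r : F} (hd : Tau B d) (hg : g = d * (B.xb s * B.zs m * B.zl r)) {l : Fˣ}
    (hl : (l : F) ≠ 1) (hh : Commute g (B.h l l⁻¹)) : g = d * B.zs m := by
  have h1 : Commute d (B.h l l⁻¹) := hd.comm (B.t_h l l⁻¹)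
  have h2 : Commute (B.xb s * B.zs m * B.zl r) (B.h l l⁻¹) := by
    have := (h1.inv_left).mul_left hh
    rwa [hg, inv_mul_cancel_left] at this
  have h3 : B.xb s * B.zs m * B.zl r = B.xb ((l⁻¹ : Fˣ) * s) * B.zs m * B.zl (l * r) := by
    apply mul_right_cancel (b := B.h l l⁻¹)
    rw [h2.eq]
    have e1 := B.h_xb l l⁻¹ s
    have e2 := B.h_zs l l⁻¹ m
    have e3 := B.h_zl l l⁻¹ r
    rw [wt3] at e2
    rw [wt4] at e3
    calc B.h l l⁻¹ * (B.xb s * B.zs m * B.zl r) = (B.h l l⁻¹ * B.xb s) * B.zs m * B.zl r := by group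
      _ = B.xb ((l⁻¹ : Fˣ) * s) * (B.h l l⁻¹ * B.zs m) * B.zl r := by rw [e1]; group
      _ = B.xb ((l⁻¹ : Fˣ) * s) * B.zs m * (B.h l l⁻¹ * B.zl r) := by rw [e2]; group
      _ = _ := by rw [e3]; group
  have h4 : B.xb (s + (l⁻¹ : Fˣ) * s) * B.zs (m + m) * B.zl (r + l * r) = 1 := by
    have c1 := (B.xb_zs ((l⁻¹ : Fˣ) * s) m).eq
    have c2 := (B.zs_zl m r).eq
    have c3 := (B.xb_zl ((l⁻¹ : Fˣ) * s) r).eq
    rw [B.xb_add, B.zs_add, B.zl_add]
    calc B.xb s * B.xb ((l⁻¹ : Fˣ) * s) * (B.zs m * B.zs m) * (B.zl r * B.zl (l * r))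
        = B.xb s * (B.xb ((l⁻¹ : Fˣ) * s) * B.zs m) * (B.zs m * B.zl r) * B.zl (l * r) := by group
      _ = B.xb s * B.zs m * (B.xb ((l⁻¹ : Fˣ) * s) * B.zl r) * B.zs m * B.zl (l * r) := by rw [c1, c2]; group
      _ = (B.xb s * B.zs m * B.zl r) * (B.xb ((l⁻¹ : Fˣ) * s) * B.zs m * B.zl (l * r)) := by rw [c3]; group
      _ = (B.xb s * B.zs m * B.zl r) * (B.xb s * B.zs m * B.zl r) := by rw [← h3]
      _ = B.xb s * (B.zs m * (B.zl r * B.xb s)) * B.zs m * B.zl r := by group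
      _ = B.xb s * (B.zs m * B.xb s) * (B.zl r * B.zs m) * B.zl r := by rw [← (B.xb_zl s r).eq]; group
      _ = (B.xb s * B.xb s) * (B.zs m * B.zs m) * (B.zl r * B.zl r) := by
          rw [← (B.xb_zs s m).eq, ← (B.zs_zl m r).eq]; group
      _ = 1 := by rw [sq_of_add B.xb_add, sq_of_add B.zs_add, sq_of_add B.zl_add, one_mul, one_mul]
  have h5 := B.inj 0 _ _ _ (by rw [xa_zero, one_mul]; exact h4)
  have hne : (1 : F) + l ≠ 0 := by
    intro h; apply hl
    linear_combination h - CharTwo.two_eq_zero (R := F)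
  have hr : r = 0 := by
    have : (1 + (l : F)) * r = 0 := by rw [← h5.2.2.2]; ring
    exact (mul_eq_zero.1 this).resolve_left hne
  have hs : s = 0 := by
    have h6 := h5.2.1
    have h7 : (1 + (l : F)) * s = 0 := by
      have h8 : (l : F) * (s + (l⁻¹ : Fˣ) * s) = 0 := by rw [h6, mul_zero]
      have h9 : (l : F) * ((l⁻¹ : Fˣ) : F) = 1 := by rw [← Units.val_mul, mul_inv_cancel, Units.val_one]
      linear_combination h8 - s * h9
    exact (mul_eq_zero.1 h7).resolve_left hne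
  rw [hg, hs, hr, xb_zero, zl_zero]
  group

/-- weights `(1,l)` on `⟨t⟩V₂` -/
theorem eq_tau4 {g d : G} {u m r : F} (hd : Tau B d) (hg : g = d * (B.xa u * B.zs m * B.zl r)) {l : Fˣ}
    (hl : (l : F) ≠ 1) (hh : Commute g (B.h 1 l)) : g = d * B.xa u := by
  have h1 : Commute d (B.h 1 l) := hd.comm (B.t_h 1 l)
  have h2 : Commute (B.xa u * B.zs m * B.zl r) (B.h 1 l) := by
    have := (h1.inv_left).mul_left hh
    rwa [hg, inv_mul_cancel_left] at this
  have h3 : B.xa u * B.zs m * B.zl r = B.xa u * B.zs (l * m) * B.zl (l * r) := by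
    apply mul_right_cancel (b := B.h 1 l)
    rw [h2.eq]
    have e1 := B.h_xa 1 l u
    have e2 := B.h_zs 1 l m
    have e3 := B.h_zl 1 l r
    rw [Units.val_one, one_mul] at e1
    rw [wt5] at e2
    rw [wt6] at e3
    calc B.h 1 l * (B.xa u * B.zs m * B.zl r) = (B.h 1 l * B.xa u) * B.zs m * B.zl r := by group
      _ = B.xa u * (B.h 1 l * B.zs m) * B.zl r := by rw [e1]; group
      _ = B.xa u * B.zs (l * m) * (B.h 1 l * B.zl r) := by rw [e2]; group
      _ = _ := by rw [e3]; group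
  have h4 : B.zs (m + l * m) * B.zl (r + l * r) = 1 := by
    have h5 : B.zs m * B.zl r = B.zs (l * m) * B.zl (l * r) := by
      rw [mul_assoc, mul_assoc] at h3
      exact mul_left_cancel h3
    have c2 := (B.zs_zl (l * m) r).eq
    rw [B.zs_add, B.zl_add]
    calc B.zs m * B.zs (l * m) * (B.zl r * B.zl (l * r)) = B.zs m * (B.zs (l * m) * B.zl r) * B.zl (l * r) := by group
      _ = (B.zs m * B.zl r) * (B.zs (l * m) * B.zl (l * r)) := by rw [c2]; group
      _ = B.zs m * (B.zl r * B.zs m) * B.zl r := by rw [← h5]; group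
      _ = (B.zs m * B.zs m) * (B.zl r * B.zl r) := by rw [← (B.zs_zl m r).eq]; group
      _ = 1 := by rw [sq_of_add B.zs_add, sq_of_add B.zl_add, one_mul]
  have h5 := B.inj 0 0 _ _ (by rw [xa_zero, xb_zero, one_mul, one_mul]; exact h4)
  have hne : (1 : F) + l ≠ 0 := by
    intro h; apply hl
    linear_combination h - CharTwo.two_eq_zero (R := F)
  have z : ∀ x : F, x + l * x = 0 → x = 0 := by
    intro x hx
    have : (1 + (l : F)) * x = 0 := by rw [← hx]; ring
    exact (mul_eq_zero.1 this).resolve_left hne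
  rw [hg, z _ h5.2.2.1, z _ h5.2.2.2, zs_zero, zl_zero]
  group

section

variable (R : Rels B Q P c)
include R

theorem zs_ne {n : F} (hn : n ≠ 0) : B.zs n ≠ 1 := fun h =>
  hn (zs_inj B (h.trans (zs_zero B).symm))

theorem xa_ne {n : F} (hn : n ≠ 0) : B.xa n ≠ 1 := fun h =>
  hn (B.inj n 0 0 0 (by rw [h, xb_zero, zs_zero, zl_zero]; group)).1

/-- `f P(n) f⁻¹ = z_s(k) P(σn)` -/
theorem f_P (hF : 4 ≤ Nat.card F) (hB : B.Self) (hP : ∀ α β m, B.h α β * P m = P (α * β * m) * B.h α β)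
    (hf : IsFld B σ f) (n : F) : ∃ k, f * P n = B.zs k * P (σ n) * f := by
  by_cases hn : n = 0
  · refine ⟨0, ?_⟩
    rw [hn, map_zero, P_zero R, zs_zero]; group
  obtain ⟨l, hl⟩ := exists_ne (F := F) hF
  set x := f * P n * f⁻¹ with hx
  have sm : ∀ {a b a' b' : G}, f * a = a' * f → f * b = b' * f → Commute (P n) a → Commute x a' := by
    intro a b a' b' h1 _ h3
    have h4 : f * a * f⁻¹ = a' := by rw [h1, mul_inv_cancel_right]
    rw [hx, ← h4]
    show f * P n * f⁻¹ * (f * a * f⁻¹) = f * a * f⁻¹ * (f * P n * f⁻¹)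
    calc f * P n * f⁻¹ * (f * a * f⁻¹) = f * (P n * a) * f⁻¹ := by group
      _ = _ := by rw [h3.eq]; group
  have cxb : ∀ u, Commute x (B.xb u) := fun u => by
    obtain ⟨v, rfl⟩ := σ.surjective u
    exact sm (hf.xb v) (hf.xb v) (R.P_xb n v)
  have czs : ∀ u, Commute x (B.zs u) := fun u => by
    obtain ⟨v, rfl⟩ := σ.surjective u
    exact sm (hf.zs v) (hf.zs v) (R.P_zs n v)
  have czl : ∀ u, Commute x (B.zl u) := fun u => by
    obtain ⟨v, rfl⟩ := σ.surjective u
    exact sm (hf.zl v) (hf.zl v) (R.P_zl n v)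
  have ch : Commute x (B.h l l⁻¹) := by
    obtain ⟨a, rfl⟩ := um_surj σ l
    have h1 : Commute (P n) (B.h a a⁻¹) := by
      have := hP a a⁻¹ n
      rw [wt3] at this
      exact this.symm
    have h2 := hf.h a a⁻¹
    rw [map_inv] at h2
    exact sm h2 h2 h1
  have htx : B.t * x = x * (B.t * B.zs (σ n)) := by
    have h1 := R.t_P n
    have e1 : B.t * f⁻¹ = f⁻¹ * B.t := by
      calc B.t * f⁻¹ = f⁻¹ * (f * B.t) * f⁻¹ := by group
        _ = _ := by rw [hf.t]; group
    have e2 : B.zs n * f⁻¹ = f⁻¹ * B.zs (σ n) := by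
      calc B.zs n * f⁻¹ = f⁻¹ * (f * B.zs n) * f⁻¹ := by group
        _ = _ := by rw [hf.zs]; group
    calc B.t * x = (B.t * f) * P n * f⁻¹ := by rw [hx]; group
      _ = f * (B.t * P n) * f⁻¹ := by rw [← hf.t]; group
      _ = f * P n * B.t * (B.zs n * f⁻¹) := by rw [h1]; group
      _ = f * P n * (B.t * f⁻¹) * B.zs (σ n) := by rw [e2]; group
      _ = _ := by rw [e1, hx]; group
  have htP : B.t * P (σ n) = P (σ n) * (B.t * B.zs (σ n)) := by rw [R.t_P, mul_assoc]
  have hPi : (P (σ n))⁻¹ = P (σ n) := inv_eq_of_mul_eq_one_right (P_sq R _)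
  have ct := comm_quot htx htP
  have hcomm : ∀ {a : G}, Commute x a → Commute (P (σ n)) a → Commute (x * (P (σ n))⁻¹) a := fun h1 h2 =>
    h1.mul_left h2.inv_left
  obtain ⟨s, m, r, hg⟩ := hB.cent1 (x * (P (σ n))⁻¹) ct (fun u => hcomm (cxb u) (R.P_xb _ u))
    (fun u => hcomm (czs u) (R.P_zs _ u)) (fun u => hcomm (czl u) (R.P_zl _ u))
  have hd : ∃ d, Tau B d ∧ x * (P (σ n))⁻¹ = d * (B.xb s * B.zs m * B.zl r) := by
    rcases hg with hg | hg
    · exact ⟨1, Or.inl rfl, by rw [hg, one_mul]⟩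
    · exact ⟨B.t, Or.inr rfl, hg⟩
  obtain ⟨d, hd, hg⟩ := hd
  have h1 := eq_tau3 hd hg hl (hcomm ch (by
    have := hP l l⁻¹ (σ n)
    rw [wt3] at this
    exact this.symm))
  have h2 : x = d * B.zs m * P (σ n) := by rw [← h1]; group
  have hx2 : x * x = 1 := by
    rw [hx]
    calc f * P n * f⁻¹ * (f * P n * f⁻¹) = f * (P n * P n) * f⁻¹ := by group
      _ = 1 := by rw [P_sq R]; group
  rcases hd with rfl | rfl
  · refine ⟨m, ?_⟩
    rw [one_mul] at h2
    rw [← h2, hx]; group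
  · exfalso
    rw [h2] at hx2
    have h3 : B.zs (σ n) = 1 := sq_aux B.tt (P_sq R _) (sq_of_add B.zs_add m) (B.t_zs m).eq (R.P_zs _ m).eq
      (B.t_zs _).eq (R.P_zs _ _).eq htP hx2
    exact zs_ne R (by rw [ne_eq, map_eq_zero]; exact hn) h3

/-- `f Q(v) f⁻¹ = x_a(k) Q(σv)` -/
theorem f_Q (hF : 4 ≤ Nat.card F) (hB : B.Self) (hQ : ∀ α β m, B.h α β * Q m = Q (α * m) * B.h α β)
    (hf : IsFld B σ f) (n : F) : ∃ k, f * Q n = B.xa k * Q (σ n) * f := by
  by_cases hn : n = 0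
  · refine ⟨0, ?_⟩
    rw [hn, map_zero, Q_zero R, xa_zero]; group
  obtain ⟨l, hl⟩ := exists_ne (F := F) hF
  set x := f * Q n * f⁻¹ with hx
  have sm : ∀ {a a' : G}, f * a = a' * f → Commute (Q n) a → Commute x a' := by
    intro a a' h1 h3
    have h4 : f * a * f⁻¹ = a' := by rw [h1, mul_inv_cancel_right]
    rw [hx, ← h4]
    show f * Q n * f⁻¹ * (f * a * f⁻¹) = f * a * f⁻¹ * (f * Q n * f⁻¹)
    calc f * Q n * f⁻¹ * (f * a * f⁻¹) = f * (Q n * a) * f⁻¹ := by group
      _ = _ := by rw [h3.eq]; group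
  have cxa : ∀ u, Commute x (B.xa u) := fun u => by
    obtain ⟨v, rfl⟩ := σ.surjective u
    exact sm (hf.xa v) (R.Q_xa n v)
  have czl : ∀ u, Commute x (B.zl u) := fun u => by
    obtain ⟨v, rfl⟩ := σ.surjective u
    exact sm (hf.zl v) (R.Q_zl n v)
  have hQ1 : ∀ a v, Commute (Q v) (B.h 1 a) := fun a v => by
    have := hQ 1 a v
    rw [Units.val_one, one_mul] at this
    exact this.symm
  have ch : Commute x (B.h 1 l) := by
    obtain ⟨a, rfl⟩ := um_surj σ l
    have h2 := hf.h 1 a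
    rw [map_one] at h2
    exact sm h2 (hQ1 a n)
  have cj' : ∀ {a b a' b' : G}, f * a = a' * f → f * b = b' * f → a * Q n = Q n * b → a' * x = x * b' := by
    intro a b a' b' h1 h2 h3
    have h4 : f * a * f⁻¹ = a' := by rw [h1, mul_inv_cancel_right]
    have h5 : f * b * f⁻¹ = b' := by rw [h2, mul_inv_cancel_right]
    rw [← h4, ← h5, hx]
    calc f * a * f⁻¹ * (f * Q n * f⁻¹) = f * (a * Q n) * f⁻¹ := by group
      _ = _ := by rw [h3]; group
  have htx : B.t * x = x * (B.t * B.xa (σ n)) := by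
    refine cj' hf.t (b := B.t * B.xa n) ?_ (by rw [R.t_Q, mul_assoc])
    calc f * (B.t * B.xa n) = (f * B.t) * B.xa n := by group
      _ = B.t * (f * B.xa n) := by rw [hf.t]; group
      _ = _ := by rw [hf.xa]; group
  have htQ : B.t * Q (σ n) = Q (σ n) * (B.t * B.xa (σ n)) := by rw [R.t_Q, mul_assoc]
  have czs : ∀ u, Commute (x * (Q (σ n))⁻¹) (B.zs u) := by
    intro u
    obtain ⟨v, rfl⟩ := σ.surjective u
    refine comm_quot (z := B.zs (σ v) * B.zl (σ v * σ n)) ?_ (by rw [R.zs_Q, mul_assoc])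
    refine cj' (hf.zs v) (b := B.zs v * B.zl (v * n)) ?_ (by rw [R.zs_Q, mul_assoc])
    rw [← map_mul]
    calc f * (B.zs v * B.zl (v * n)) = (f * B.zs v) * B.zl (v * n) := by group
      _ = B.zs (σ v) * (f * B.zl (v * n)) := by rw [hf.zs]; group
      _ = _ := by rw [hf.zl]; group
  have ct := comm_quot htx htQ
  have hcomm : ∀ {a : G}, Commute x a → Commute (Q (σ n)) a → Commute (x * (Q (σ n))⁻¹) a := fun h1 h2 =>
    h1.mul_left h2.inv_left
  obtain ⟨s, m, r, hg⟩ := hB.cent2 (x * (Q (σ n))⁻¹) ct (fun u => hcomm (cxa u) (R.Q_xa _ u))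
    czs (fun u => hcomm (czl u) (R.Q_zl _ u))
  have hd : ∃ d, Tau B d ∧ x * (Q (σ n))⁻¹ = d * (B.xa s * B.zs m * B.zl r) := by
    rcases hg with hg | hg
    · exact ⟨1, Or.inl rfl, by rw [hg, one_mul]⟩
    · exact ⟨B.t, Or.inr rfl, hg⟩
  obtain ⟨d, hd, hg⟩ := hd
  have h1 := eq_tau4 hd hg hl (hcomm ch (hQ1 l _))
  have h2 : x = d * B.xa s * Q (σ n) := by rw [← h1]; group
  have hx2 : x * x = 1 := by
    rw [hx]
    calc f * Q n * f⁻¹ * (f * Q n * f⁻¹) = f * (Q n * Q n) * f⁻¹ := by group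
      _ = 1 := by rw [Q_sq R]; group
  rcases hd with rfl | rfl
  · refine ⟨s, ?_⟩
    rw [one_mul] at h2
    rw [← h2, hx]; group
  · exfalso
    rw [h2] at hx2
    have h3 : B.xa (σ n) = 1 := sq_aux B.tt (Q_sq R _) (sq_of_add B.xa_add s) (B.t_xa s).eq (R.Q_xa _ s).eq
      (B.t_xa _).eq (R.Q_xa _ _).eq htQ hx2
    exact xa_ne R (by rw [ne_eq, map_eq_zero]; exact hn) h3

/-- **action of a field element on `T`** -/
theorem exists_phi (hF : 4 ≤ Nat.card F) (hB : B.Self) (hP : ∀ α β m, B.h α β * P m = P (α * β * m) * B.h α β)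
    (hQ : ∀ α β m, B.h α β * Q m = Q (α * m) * B.h α β) (hf : IsFld B σ f) :
    ∃ (δ : F) (hδ : σ c = c + δ + δ ^ 2), ∀ x, f * hom R x = hom R (phi σ δ hδ x) * f := by
  choose k hk using f_P R hF hB hP hf
  choose j hj using f_Q R hF hB hQ hf
  have two := CharTwo.two_eq_zero (R := F)
  -- homogeneity
  have k0 : ∀ n, k n = σ n * k 1 := by
    intro n
    by_cases hn : n = 0
    · have h1 := hk 0
      rw [map_zero, P_zero R, mul_one, mul_one] at h1
      have h2 : B.zs (k 0) = 1 := mul_eq_right.1 h1.symm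
      rw [hn, map_zero, zero_mul]
      exact zs_inj B (h2.trans (zs_zero B).symm)
    set a := Units.mk0 n hn with ha
    have h1 := hP a 1 1
    rw [Units.val_one, mul_one, mul_one] at h1
    have h2 : f * (B.h a 1 * P 1) = B.zs (σ n * k 1) * P (σ n) * B.h (um σ a) 1 * f := by
      have e1 := hf.h a 1
      have e2 := B.h_zs (um σ a) 1 (k 1)
      have e3 := hP (um σ a) 1 1
      have e5 : ((um σ a : Fˣ) : F) = σ n := rfl
      rw [map_one] at e1
      rw [Units.val_one, mul_one] at e2 e3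
      rw [mul_one] at e3
      rw [e5] at e2 e3
      have e4 := hk 1
      rw [map_one] at e4
      calc f * (B.h a 1 * P 1) = (f * B.h a 1) * P 1 := by group
        _ = B.h (um σ a) 1 * (f * P 1) := by rw [e1]; group
        _ = (B.h (um σ a) 1 * B.zs (k 1)) * P 1 * f := by rw [e4]; group
        _ = B.zs (σ n * k 1) * (B.h (um σ a) 1 * P 1) * f := by rw [e2]; group
        _ = _ := by rw [e3]; group
    have h3 : f * (P a * B.h a 1) = B.zs (k n) * P (σ n) * B.h (um σ a) 1 * f := by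
      have e1 := hf.h a 1
      rw [map_one] at e1
      calc f * (P n * B.h a 1) = (f * P n) * B.h a 1 := by group
        _ = B.zs (k n) * P (σ n) * (f * B.h a 1) := by rw [hk]; group
        _ = _ := by rw [e1]; group
    rw [h1, h3] at h2
    exact zs_inj B (mul_right_cancel (mul_right_cancel (mul_right_cancel h2)))
  have j0 : ∀ n, j n = σ n * j 1 := by
    intro n
    by_cases hn : n = 0
    · have h1 := hj 0
      rw [map_zero, Q_zero R, mul_one, mul_one] at h1
      have h2 : B.xa (j 0) = 1 := mul_eq_right.1 h1.symm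
      rw [hn, map_zero, zero_mul]
      exact (B.inj (j 0) 0 0 0 (by rw [h2, xb_zero, zs_zero, zl_zero]; group)).1
    set a := Units.mk0 n hn with ha
    have h1 := hQ a 1 1
    rw [mul_one] at h1
    have h2 : f * (B.h a 1 * Q 1) = B.xa (σ n * j 1) * Q (σ n) * B.h (um σ a) 1 * f := by
      have e1 := hf.h a 1
      have e2 := B.h_xa (um σ a) 1 (j 1)
      have e3 := hQ (um σ a) 1 1
      have e5 : ((um σ a : Fˣ) : F) = σ n := rfl
      rw [map_one] at e1
      rw [mul_one] at e3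
      rw [e5] at e2 e3
      have e4 := hj 1
      rw [map_one] at e4
      calc f * (B.h a 1 * Q 1) = (f * B.h a 1) * Q 1 := by group
        _ = B.h (um σ a) 1 * (f * Q 1) := by rw [e1]; group
        _ = (B.h (um σ a) 1 * B.xa (j 1)) * Q 1 * f := by rw [e4]; group
        _ = B.xa (σ n * j 1) * (B.h (um σ a) 1 * Q 1) * f := by rw [e2]; group
        _ = _ := by rw [e3]; group
    have h3 : f * (Q a * B.h a 1) = B.xa (j n) * Q (σ n) * B.h (um σ a) 1 * f := by
      have e1 := hf.h a 1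
      rw [map_one] at e1
      calc f * (Q n * B.h a 1) = (f * Q n) * B.h a 1 := by group
        _ = B.xa (j n) * Q (σ n) * (f * B.h a 1) := by rw [hj]; group
        _ = _ := by rw [e1]; group
    rw [h1, h3] at h2
    have h4 := mul_right_cancel (mul_right_cancel (mul_right_cancel h2))
    have h5 : B.xa (j n + σ n * j 1) = 1 := by rw [B.xa_add, h4, sq_of_add B.xa_add]
    have h6 := (B.inj _ 0 0 0 (by rw [h5, xb_zero, zs_zero, zl_zero]; group)).1
    exact eq_of_add h6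
  -- the relation at `(1,1)`
  have rel : j 1 = k 1 ∧ σ c = c + k 1 + k 1 ^ 2 := by
    have h1 := R.Q_xb 1 1
    rw [one_mul, one_pow, mul_one, mul_one] at h1
    have eQ := hj 1
    have eP := hk 1
    have ex := hf.xb 1
    have el := hf.zl c
    rw [map_one] at eQ eP ex
    have e1 := (B.xa_xb (j 1) 1)
    rw [mul_one, mul_one] at e1
    have hL : f * (Q 1 * B.xb 1) = B.xb 1 * B.xa (j 1) * Q 1 * P 1 * (B.zs (j 1) * B.zl (j 1 + j 1 ^ 2 + c)) * f := by
      have c1 := (B.zs_zl (j 1) (j 1 ^ 2)).eq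
      have c2 := R.zs_Q (j 1) 1
      have c3 := (R.Q_zl 1 (j 1 ^ 2)).eq
      have c4 := (R.P_zs 1 (j 1)).eq
      have c5 := (R.P_zl 1 (j 1 ^ 2)).eq
      have c6 := (R.P_zl 1 (j 1)).eq
      have c7 := (comm_of_add B.zl_add (j 1 ^ 2) (j 1)).eq
      rw [mul_one] at c2
      rw [B.zl_add, B.zl_add]
      calc f * (Q 1 * B.xb 1) = (f * Q 1) * B.xb 1 := by group
        _ = B.xa (j 1) * Q 1 * (f * B.xb 1) := by rw [eQ]; group
        _ = B.xa (j 1) * (Q 1 * B.xb 1) * f := by rw [ex]; group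
        _ = (B.xa (j 1) * B.xb 1) * Q 1 * (P 1 * B.zl c) * f := by rw [h1]; group
        _ = B.xb 1 * B.xa (j 1) * B.zs (j 1) * (B.zl (j 1 ^ 2) * Q 1) * (P 1 * B.zl c) * f := by rw [e1]; group
        _ = B.xb 1 * B.xa (j 1) * (B.zs (j 1) * Q 1) * (B.zl (j 1 ^ 2) * P 1) * B.zl c * f := by rw [← c3]; group
        _ = B.xb 1 * B.xa (j 1) * Q 1 * B.zs (j 1) * (B.zl (j 1) * P 1) * B.zl (j 1 ^ 2) * B.zl c * f := by
            rw [c2, ← c5]; group
        _ = B.xb 1 * B.xa (j 1) * Q 1 * (B.zs (j 1) * P 1) * B.zl (j 1) * B.zl (j 1 ^ 2) * B.zl c * f := by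
            rw [← c6]; group
        _ = _ := by rw [← c4]; group
    have hR : f * (B.xb 1 * Q 1 * (P 1 * B.zl c)) =
        B.xb 1 * B.xa (j 1) * Q 1 * P 1 * (B.zs (k 1) * B.zl (σ c)) * f := by
      have c4 := (R.P_zs 1 (k 1)).eq
      calc f * (B.xb 1 * Q 1 * (P 1 * B.zl c)) = (f * B.xb 1) * Q 1 * P 1 * B.zl c := by group
        _ = B.xb 1 * (f * Q 1) * P 1 * B.zl c := by rw [ex]; group
        _ = B.xb 1 * B.xa (j 1) * Q 1 * (f * P 1) * B.zl c := by rw [eQ]; group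
        _ = B.xb 1 * B.xa (j 1) * Q 1 * (B.zs (k 1) * P 1) * (f * B.zl c) := by rw [eP]; group
        _ = _ := by rw [← c4, el]; group
    rw [h1, hR] at hL
    have h2 := mul_left_cancel (mul_right_cancel hL)
    obtain ⟨h3, h4⟩ := zz_inj B h2
    refine ⟨h3.symm, ?_⟩
    rw [h4, ← h3]; ring
  refine ⟨k 1, rel.2, fun x => ?_⟩
  rw [phi_apply, hom_apply, hom_apply]
  simp only
  have e1 := hf.xa x.u
  have e2 := hj x.v
  have e3 := hf.xb x.s
  have e4 := hf.zs x.m
  have e5 := hk x.n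
  have e6 := hf.zl x.r
  rw [j0, rel.1, mul_comm] at e2
  rw [k0, mul_comm] at e5
  rw [B.xa_add, B.zs_add]
  calc f * (B.xa x.u * Q x.v * (B.xb x.s * B.zs x.m * P x.n * B.zl x.r))
      = (f * B.xa x.u) * Q x.v * (B.xb x.s * B.zs x.m * P x.n * B.zl x.r) := by group
    _ = B.xa (σ x.u) * (f * Q x.v) * (B.xb x.s * B.zs x.m * P x.n * B.zl x.r) := by rw [e1]; group
    _ = B.xa (σ x.u) * B.xa (k 1 * σ x.v) * Q (σ x.v) * (f * B.xb x.s) * (B.zs x.m * P x.n * B.zl x.r) := by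
        rw [e2]; group
    _ = B.xa (σ x.u) * B.xa (k 1 * σ x.v) * Q (σ x.v) * B.xb (σ x.s) * (f * B.zs x.m) * (P x.n * B.zl x.r) := by
        rw [e3]; group
    _ = B.xa (σ x.u) * B.xa (k 1 * σ x.v) * Q (σ x.v) * B.xb (σ x.s) * B.zs (σ x.m) * (f * P x.n) * B.zl x.r := by
        rw [e4]; group
    _ = B.xa (σ x.u) * B.xa (k 1 * σ x.v) * Q (σ x.v) * B.xb (σ x.s) * B.zs (σ x.m) * B.zs (k 1 * σ x.n) *
          P (σ x.n) * (f * B.zl x.r) := by
        rw [e5]; group
    _ = _ := by rw [e6]; group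

/-- `Typ` from an action on `U` up to an inner automorphism -/
theorem typ_of [Finite F] (hF : 4 ≤ Nat.card F) (hB : B.Self) (hna : (B.na * B.xa 1) ^ 3 = 1)
    (hnb : (B.nb * B.xb 1) ^ 3 = 1) (hP : ∀ α β m, B.h α β * P m = P (α * β * m) * B.h α β)
    (hQ : ∀ α β m, B.h α β * Q m = Q (α * m) * B.h α β) {z : G} {x : TB c} (hx : x ∈ U c)
    (hf : Act B σ ((hom R x)⁻¹ * z)) : Typ (U c) (hom R) z σ := by
  obtain ⟨a, b, hf1⟩ := hf.exists_fld hF hB hna hnb
  obtain ⟨δ, hδ, h1⟩ := exists_phi R hF hB hP hQ hf1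
  have e1 : B.zs a * B.zl b = hom R ⟨0, 0, 0, a, 0, b⟩ := by
    rw [hom_U, xa_zero, xb_zero]; group
  have e2 : (⟨0, 0, 0, a, 0, b⟩ : TB c) ∈ U c := ⟨rfl, rfl⟩
  refine ⟨x * (⟨0, 0, 0, a, 0, b⟩ : TB c)⁻¹, mul_mem hx (inv_mem e2), δ, hδ, fun y => ?_⟩
  have h2 := h1 y
  rw [e1] at h2
  rw [map_mul, map_mul, map_inv, map_mul, map_inv]
  calc z * hom R y = hom R x * (hom R ⟨0, 0, 0, a, 0, b⟩)⁻¹ *
        (hom R ⟨0, 0, 0, a, 0, b⟩ * ((hom R x)⁻¹ * z) * hom R y) := by group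
    _ = hom R x * (hom R ⟨0, 0, 0, a, 0, b⟩)⁻¹ *
        (hom R (phi σ δ hδ y) * (hom R ⟨0, 0, 0, a, 0, b⟩ * ((hom R x)⁻¹ * z))) := by rw [h2]
    _ = _ := by group

/-- the kernel of the type -/
theorem one_of (hB : B.Self) {z : G} (hz : z * B.t = B.t * z) (h : Typ ⊤ (hom R) z 1) :
    ∃ x ∈ U c, z = hom R x ∨ z = B.t * hom R x := by
  have two := CharTwo.two_eq_zero (R := F)
  -- the case `δ = 0`
  have key : ∀ z' : G, z' * B.t = B.t * z' → ∀ y : TB c, (∀ x, z' * hom R x = hom R (y * x * y⁻¹) * z') →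
      ∃ x ∈ U c, z' = hom R x := by
    intro z' hz' y hy
    have hinj := hom_injective R
    -- `y⁻¹ y^τ` is central
    have h1 : ∀ x : TB c, tau y * x * (tau y)⁻¹ = y * x * y⁻¹ := by
      intro x
      have e1 : z' * B.t * hom R x = hom R (y * tau x * y⁻¹) * z' * B.t := by
        calc z' * B.t * hom R x = z' * (B.t * hom R x) := by group
          _ = (z' * hom R (tau x)) * B.t := by rw [t_hom]; group
          _ = _ := by rw [hy]
      have e2 : B.t * z' * hom R x = hom R (tau (y * x * y⁻¹)) * z' * B.t := by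
        calc B.t * z' * hom R x = B.t * (z' * hom R x) := by group
          _ = (B.t * hom R (y * x * y⁻¹)) * z' := by rw [hy]; group
          _ = hom R (tau (y * x * y⁻¹)) * (B.t * z') := by rw [t_hom]; group
          _ = _ := by rw [← hz']; group
      rw [hz', e2] at e1
      have e3 := hinj (mul_right_cancel (mul_right_cancel e1))
      rw [map_mul, map_mul, map_inv] at e3
      have e4 := congrArg tau e3
      simp only [map_mul, map_inv, tau_tau] at e4
      exact e4.symm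
    have hy0 : y ∈ U c := by
      have a2 := congrArg TB.r (h1 ⟨0, 1, 0, 0, 0, 0⟩)
      have a3 := congrArg TB.m (h1 ⟨0, 0, 1, 0, 0, 0⟩)
      simp only [tau_apply, mul_u, mul_v, mul_s, mul_m, mul_n, mul_r, inv_u, inv_v, inv_s, inv_m, inv_n, inv_r]
        at a2 a3
      have hv : y.v = 0 := by linear_combination a3 - (y.v * y.s + y.n) * two
      rw [hv] at a2
      refine ⟨hv, ?_⟩
      linear_combination a2
    have hyt : tau y = y := mem_U_iff_tau.1 hy0
    set g := (hom R y)⁻¹ * z' with hg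
    have cg : ∀ x, Commute g (hom R x) := by
      intro x
      show g * hom R x = hom R x * g
      rw [hg]
      calc (hom R y)⁻¹ * z' * hom R x = (hom R y)⁻¹ * (z' * hom R x) := by group
        _ = _ := by rw [hy, map_mul, map_mul, map_inv]; group
    have ct : Commute g B.t := by
      have e1 : Commute (hom R y) B.t := by
        show _ * _ = _ * _
        rw [t_hom, hyt]
      exact e1.inv_left.mul_left hz'
    obtain ⟨d, m, r, hd, e⟩ := formZ hB ct (fun u => by rw [← hom_xa R]; exact cg _)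
      (fun u => by rw [← hom_zs R]; exact cg _) (fun u => by rw [← hom_zl R]; exact cg _)
      (by rw [← hom_xb R]; exact cg _)
    rcases hd with rfl | rfl
    · refine ⟨y * ⟨0, 0, 0, m, 0, r⟩, mul_mem hy0 ⟨rfl, rfl⟩, ?_⟩
      rw [one_mul] at e
      have e1 : B.zs m * B.zl r = hom R ⟨0, 0, 0, m, 0, r⟩ := by
        rw [hom_U, xa_zero, xb_zero]; group
      rw [map_mul, ← e1, ← e, hg]; group
    · exfalso
      have h2 : Commute B.t (P 1) := by
        have h3 : Commute (B.zs m * B.zl r) (P 1) := ((R.P_zs 1 m).symm).mul_left (R.P_zl 1 r).symm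
        have h4 : Commute g (P 1) := by rw [← hom_P R]; exact cg _
        rw [e] at h4
        have := h4.mul_left h3.inv_left
        rwa [mul_inv_cancel_right] at this
      have h3 := R.t_P 1
      rw [h2.eq] at h3
      exact zs_ne R one_ne_zero (mul_eq_left.1 h3.symm)
  obtain ⟨y, -, δ, hδ, hy⟩ := h
  have h0 : δ * (δ + 1) = 0 := by
    have : c = c + δ + δ ^ 2 := hδ
    linear_combination (-1 : F) * this
  rcases mul_eq_zero.1 h0 with h0 | h0
  · subst h0
    obtain ⟨x, hx, e⟩ := key z hz y (fun x => by rw [hy, phi_one])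
    exact ⟨x, hx, Or.inl e⟩
  · have h1 : δ = 1 := by linear_combination h0 - two
    subst h1
    obtain ⟨x, hx, e⟩ := key (B.t * z) (by rw [mul_assoc, hz, ← mul_assoc]) (tau y) (fun x => by
      rw [mul_assoc, hy, ← mul_assoc, t_hom]
      have : tau (y * phi 1 1 hδ x * y⁻¹) = tau y * x * (tau y)⁻¹ := by
        have e1 : phi 1 1 hδ x = tau x := rfl
        rw [e1, map_mul, map_mul, map_inv, tau_tau]
      rw [this, mul_assoc])
    exact ⟨x, hx, Or.inr (by rw [← e, ← mul_assoc, B.tt, one_mul])⟩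

end

end Cfsg.Agent.StdSpFour.CaseBFld
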