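import Cfsg.Agent.StdSpFour.Adapt
import Cfsg.Agent.StdSpFour.CaseBFld

/-!
# Type `Sp₄`, both layers: an element of `T` of graph type interchanges the layers, so `e = e'`
-/

set_option autoImplicit false
set_option linter.unusedSectionVars false

namespace Cfsg.Agent.StdSpFour.AdaptC

open Subgroup
open Cfsg.Agent.StdSpFour Cfsg.Agent.StdSpFour.Env Cfsg.Agent.StdSpFour.Comm Cfsg.Agent.StdSpFour.Bridge

section X

variable {F G : Type*} [Field F] [CharP F 2] [Group G] {B : Base F G}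

/-- a graph element interchanges the layers -/
theorem e_eq (hB : B.Self) (S : ShortLayer B) (L : LongLayer B) {w : G} {ρ : F ≃+* F} (ht : w * B.t = B.t * w)
    (h1 : ∀ u, w * B.xa u = B.xb (ρ u * ρ u) * w) (h2 : ∀ r, w * B.xb r = B.xa (ρ r) * w)
    (h3 : ∀ u, w * B.zs u = B.zl (ρ u * ρ u) * w) (h4 : ∀ r, w * B.zl r = B.zs (ρ r) * w)
    (hsq : ∀ a : F, ∃ b, b * b = a) : ρ S.e = L.e := by
  set P := w * S.p 1 * w⁻¹ with hP
  set q := L.q 1 with hq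
  have hρ1 : ρ 1 * ρ 1 = (1 : F) := by rw [map_one, one_mul]
  have wz : w * B.zs 1 = B.zl 1 * w := by rw [h3, hρ1]
  have tP : B.t * P = P * (B.t * B.zl 1) := by
    calc B.t * P = (B.t * w) * S.p 1 * w⁻¹ := by rw [hP]; group
      _ = w * (B.t * S.p 1) * w⁻¹ := by rw [← ht]; group
      _ = w * S.p 1 * B.t * B.zs 1 * w⁻¹ := by rw [S.t_p]; group
      _ = w * S.p 1 * w⁻¹ * (w * B.t) * w⁻¹ * (w * B.zs 1) * w⁻¹ := by group
      _ = P * B.t * B.zl 1 := by rw [ht, wz, hP]; group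
      _ = _ := by group
  have tq : B.t * q = q * (B.t * B.zl 1) := by rw [hq, L.t_q, mul_assoc]
  have gt : Commute (P * q⁻¹) B.t := CaseBFld.comm_quot tP tq
  have conj : ∀ x y, w * x = y * w → Commute (S.p 1) x → Commute P y := by
    intro x y e h
    have e1 : y = w * x * w⁻¹ := by rw [e, mul_inv_cancel_right]
    rw [hP, e1]
    show w * S.p 1 * w⁻¹ * (w * x * w⁻¹) = w * x * w⁻¹ * (w * S.p 1 * w⁻¹)
    calc w * S.p 1 * w⁻¹ * (w * x * w⁻¹) = w * (S.p 1 * x) * w⁻¹ := by group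
      _ = w * (x * S.p 1) * w⁻¹ := by rw [h.eq]
      _ = _ := by group
  have surj : ∀ a, ∃ b, ρ b = a := fun a => ⟨ρ.symm a, ρ.apply_symm_apply a⟩
  have gxa : ∀ u, Commute (P * q⁻¹) (B.xa u) := by
    intro u
    obtain ⟨v, rfl⟩ := surj u
    exact (conj _ _ (h2 v) (S.p_xb 1 v)).mul_left (L.q_xa 1 _).inv_left
  have gzs : ∀ u, Commute (P * q⁻¹) (B.zs u) := by
    intro u
    obtain ⟨v, rfl⟩ := surj u
    exact (conj _ _ (h4 v) (S.p_zl 1 v)).mul_left (L.q_zs 1 _).inv_left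
  have gzl : ∀ u, Commute (P * q⁻¹) (B.zl u) := by
    intro u
    obtain ⟨v, rfl⟩ := hsq u
    obtain ⟨v, rfl⟩ := surj v
    exact (conj _ _ (h3 v) (S.p_zs 1 v)).mul_left (L.q_zl 1 _).inv_left
  -- the action of `x_b(1)`
  have f1 : B.xb 1 * P = P * B.xb 1 * B.zs (ρ S.e) := by
    have e1 : w * B.xa 1 = B.xb 1 * w := by rw [h1, hρ1]
    have e2 := S.xa_p 1 1
    rw [mul_one, mul_one] at e2
    have e3 := h4 S.e
    calc B.xb 1 * P = (B.xb 1 * w) * S.p 1 * w⁻¹ := by rw [hP]; group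
      _ = w * (B.xa 1 * S.p 1) * w⁻¹ := by rw [← e1]; group
      _ = w * S.p 1 * w⁻¹ * (w * B.xa 1) * w⁻¹ * (w * B.zl S.e) * w⁻¹ := by rw [e2]; group
      _ = _ := by rw [e1, e3, hP]; group
  have f2 : B.xb 1 * q = q * B.xb 1 * B.zs L.e := by
    have e2 := L.xb_q 1 1
    rw [one_pow, mul_one, mul_one] at e2
    exact e2
  have f3 : B.xb 1 * q⁻¹ = q⁻¹ * B.xb 1 * B.zs L.e := by
    have i1 : B.zs L.e * B.zs L.e = 1 := sq_of_add B.zs_add _
    have c1 : q * B.zs L.e = B.zs L.e * q := (L.q_zs 1 L.e).eq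
    have e1 : q * B.xb 1 = B.xb 1 * B.zs L.e * q := by
      calc q * B.xb 1 = (q * B.xb 1 * B.zs L.e) * B.zs L.e := by rw [mul_assoc, i1, mul_one]
        _ = B.xb 1 * (q * B.zs L.e) := by rw [← f2]; group
        _ = _ := by rw [c1]; group
    calc B.xb 1 * q⁻¹ = q⁻¹ * (q * B.xb 1) * q⁻¹ := by group
      _ = _ := by rw [e1]; group
  have f4 : B.xb 1 * (P * q⁻¹) = P * q⁻¹ * B.xb 1 * B.zs (L.e + ρ S.e) := by
    have c1 : B.zs (ρ S.e) * q⁻¹ = q⁻¹ * B.zs (ρ S.e) := ((L.q_zs 1 (ρ S.e)).inv_left).symm.eq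
    calc B.xb 1 * (P * q⁻¹) = (B.xb 1 * P) * q⁻¹ := by group
      _ = P * B.xb 1 * (B.zs (ρ S.e) * q⁻¹) := by rw [f1]; group
      _ = P * (B.xb 1 * q⁻¹) * B.zs (ρ S.e) := by rw [c1]; group
      _ = P * q⁻¹ * B.xb 1 * (B.zs L.e * B.zs (ρ S.e)) := by rw [f3]; group
      _ = _ := by rw [← B.zs_add]
  obtain ⟨s, m, r, hg⟩ := hB.cent2 _ gt gxa gzs gzl
  obtain ⟨τ, hτ, hg⟩ : ∃ τ, Commute B.t τ ∧ Commute (B.xb 1) τ ∧ P * q⁻¹ = τ * (B.xa s * B.zs m * B.zl r) := by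
    rcases hg with hg | hg
    · exact ⟨1, Commute.one_right _, Commute.one_right _, by rw [hg, one_mul]⟩
    · exact ⟨B.t, Commute.refl _, (B.t_xb 1).symm, hg⟩
  obtain ⟨hτb, hg⟩ := hg
  have f5 : B.xb 1 * (τ * (B.xa s * B.zs m * B.zl r)) =
      τ * (B.xa s * B.zs m * B.zl r) * B.xb 1 * (B.zs s * B.zl (s ^ 2)) := by
    have e1 : B.xb 1 * B.xa s = B.xa s * B.xb 1 * B.zs s * B.zl (s ^ 2) := by
      have := Swap.xb_xa B 1 s
      rw [mul_one, mul_one] at this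
      rw [this]; group
    have i1 := sq_of_add B.zs_add s
    have i2 := sq_of_add B.zl_add (s ^ 2)
    have c1 := (B.xb_zs 1 m).eq
    have c2 := (B.xb_zl 1 r).eq
    have c3 := (B.zs_zl m (s ^ 2)).eq
    have c4 : B.zs s * B.zs m = B.zs m * B.zs s := by rw [← B.zs_add, ← B.zs_add, add_comm]
    have c5 : B.zl (s ^ 2) * B.zl r = B.zl r * B.zl (s ^ 2) := by rw [← B.zl_add, ← B.zl_add, add_comm]
    have c6 := (B.zs_zl s r).eq
    calc B.xb 1 * (τ * (B.xa s * B.zs m * B.zl r)) = (B.xb 1 * τ) * (B.xa s * B.zs m * B.zl r) := by group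
      _ = τ * (B.xb 1 * B.xa s) * B.zs m * B.zl r := by rw [hτb.eq]; group
      _ = τ * B.xa s * B.xb 1 * B.zs s * (B.zl (s ^ 2) * B.zs m) * B.zl r := by rw [e1]; group
      _ = τ * B.xa s * B.xb 1 * (B.zs s * B.zs m) * (B.zl (s ^ 2) * B.zl r) := by rw [← c3]; group
      _ = τ * B.xa s * (B.xb 1 * B.zs m) * (B.zs s * B.zl r) * B.zl (s ^ 2) := by rw [c4, c5]; group
      _ = τ * B.xa s * B.zs m * (B.xb 1 * B.zl r) * B.zs s * B.zl (s ^ 2) := by rw [c1, c6]; group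
      _ = _ := by rw [c2]; group
  rw [hg, f5] at f4
  have f6 := mul_left_cancel f4
  have f7 : B.xa 0 * B.xb 0 * B.zs (s + (L.e + ρ S.e)) * B.zl (s ^ 2) = 1 := by
    have i1 := sq_of_add B.zs_add (L.e + ρ S.e)
    rw [xa_zero, xb_zero, one_mul, one_mul, B.zs_add]
    calc B.zs s * B.zs (L.e + ρ S.e) * B.zl (s ^ 2) = B.zs s * (B.zs (L.e + ρ S.e) * B.zl (s ^ 2)) := by group
      _ = (B.zs s * B.zl (s ^ 2)) * B.zs (L.e + ρ S.e) := by rw [(B.zs_zl _ _).eq]; group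
      _ = 1 := by rw [f6, i1]
  obtain ⟨-, -, g1, g2⟩ := B.inj _ _ _ _ f7
  have hs : s = 0 := pow_eq_zero_iff two_ne_zero |>.1 g2
  rw [hs, zero_add] at g1
  exact (CharTwo.add_eq_zero.1 g1).symm

end X

section G

open Cfsg.Agent.TitsThree.B2Pkg Cfsg.Agent.TitsThree.RankTwoIdentB2
  Cfsg.Agent.TitsThree.CoreB2 Cfsg.Agent.TitsThree.RankTwoIdx Cfsg.Agent.TitsThree.RankTwoRGD
  Cfsg.Agent.TitsThree.StdData
open Cfsg.Agent.StdRank2.OddLift Cfsg.Agent.StdRank2.B2Lift Cfsg.Agent.StdRank2.B2Std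
  Cfsg.Agent.StdRank2.OutB2Aut Cfsg.Agent.StdRank2.OutB2Tw
  Cfsg.Agent.StdRank2.OutB2Data Cfsg.Agent.StdRank2.OutSpG Cfsg.Agent.StdRank2.OutSpGraph
  Cfsg.Agent.StdRank2.SpFrame
open Cfsg.Agent.StdRank2 Cfsg.Agent.StdEven Cfsg.Agent.StdEven.CoreQuot Cfsg.Agent.StdEven.Loc

universe u

variable {F : Type*} [Field F] [Finite F] [CharP F 2]
variable {G : Type u} [Group G] [Finite G] {A : Subgroup G} {t : G} {T : Subgroup G}

/-- **graph elements of `C(t)` interchange the layers** -/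
theorem e_eq_of_gr (H : Hyp A t T) (S : Std (stdSp F) ↥A) (hF : 3 ≤ Nat.card F) (S0 : ShortLayer (B2Conn.base H S))
    (L0 : LongLayer (B2Conn.base H S)) {w : G} (hw : w * t = t * w) {ρ : F ≃+* F} (h : Gr S w ρ) :
    ρ S0.e = L0.e := by
  have hwN := H.mem_normalizer_core hw
  have key : ∀ a b : ↥A, w * a * w⁻¹ = b → pr A t ⟨w, hwN⟩ * pr A t ⟨a, H.A_le a.2⟩ =
      pr A t ⟨b, H.A_le b.2⟩ * pr A t ⟨w, hwN⟩ := by
    intro a b e
    rw [mul_inv_eq_iff_eq_mul] at e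
    rw [← map_mul, ← map_mul]
    exact congrArg (pr A t) (Subtype.ext e)
  refine e_eq (B2Conn.base_self H S hF) S0 L0 (w := pr A t ⟨w, hwN⟩) (ρ := ρ) ?_ (fun a => key _ _ (h.x a))
    (fun a => key _ _ (h.z₂ (tt a))) (fun a => key _ _ (h.y a)) (fun a => key _ _ (h.z₁ (tt a)))
    Cfsg.Agent.StdRank2.OutField.exists_sqrt
  show _ * H.tX = H.tX * _
  exact H.pr_comm_iff.2 hw

/-- **no graph elements in case (C)** (both orders of the layers) -/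
theorem no_graph_both (H : Hyp A t T) (S : Std (stdSp F) ↥A) (hF : 3 ≤ Nat.card F) (S0 : ShortLayer (B2Conn.base H S))
    (L0 : LongLayer (B2Conn.base H S)) (hne : (S0.e = 1 ∧ L0.e = 0) ∨ (S0.e = 0 ∧ L0.e = 1)) {w : G}
    (hw : w * t = t * w) {ρ : F ≃+* F} (h : Gr S w ρ) : False := by
  have h1 := e_eq_of_gr H S hF S0 L0 hw h
  rcases hne with ⟨h2, h3⟩ | ⟨h2, h3⟩
  · rw [h2, h3, map_one] at h1
    exact one_ne_zero h1
  · rw [h2, h3, map_zero] at h1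
    exact zero_ne_one h1

end G

end Cfsg.Agent.StdSpFour.AdaptC
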