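import Cfsg.Agent.StdSpFour.Comm

/-!
# S1778, type Sp₄(q): elements acting as field automorphisms

`Act B σ f`: `f` centralises `t` and maps `x_r(u)` to `x_r(σ u)` for the four positive root groups.
`IsFld B σ f`: moreover `f h(α,β) f⁻¹ = h(σα,σβ)` and `f` centralises `na`, `nb`.
`Act.exists_fld`: some `z f`, `z ∈ Z_s Z_l`, satisfies `IsFld`.
-/

set_option autoImplicit false
set_option linter.unusedSectionVars false

namespace Cfsg.Agent.StdSpFour.Fld

open Cfsg.Agent.StdSpFour Cfsg.Agent.StdSpFour.Comm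

variable {F G : Type*} [Field F] [Group G]

/-- `f` acts on `U` as the field automorphism `σ` -/
structure Act (B : Base F G) (σ : F ≃+* F) (f : G) : Prop where
  t : f * B.t = B.t * f
  xa : ∀ u, f * B.xa u = B.xa (σ u) * f
  xb : ∀ u, f * B.xb u = B.xb (σ u) * f
  zs : ∀ u, f * B.zs u = B.zs (σ u) * f
  zl : ∀ u, f * B.zl u = B.zl (σ u) * f

/-- the map on the units -/
def um (σ : F ≃+* F) : Fˣ →* Fˣ := Units.map (σ : F →* F)

theorem um_val (σ : F ≃+* F) (x : Fˣ) : ((um σ x : Fˣ) : F) = σ (x : F) := rfl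

theorem um_surj (σ : F ≃+* F) (x : Fˣ) : ∃ y, um σ y = x :=
  ⟨um σ.symm x, by ext; rw [um_val, um_val]; simp⟩

structure IsFld (B : Base F G) (σ : F ≃+* F) (f : G) : Prop extends Act B σ f where
  h : ∀ α β, f * B.h α β = B.h (um σ α) (um σ β) * f
  na : f * B.na = B.na * f
  nb : f * B.nb = B.nb * f

variable {B : Base F G} {σ : F ≃+* F} {f : G}

theorem Act.mul {τ : F ≃+* F} {g : G} (hf : Act B σ f) (hg : Act B τ g) : Act B (σ * τ) (f * g) where
  t := by rw [mul_assoc, hg.t, ← mul_assoc, hf.t, mul_assoc]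
  xa u := by rw [mul_assoc, hg.xa, ← mul_assoc, hf.xa, mul_assoc]; rfl
  xb u := by rw [mul_assoc, hg.xb, ← mul_assoc, hf.xb, mul_assoc]; rfl
  zs u := by rw [mul_assoc, hg.zs, ← mul_assoc, hf.zs, mul_assoc]; rfl
  zl u := by rw [mul_assoc, hg.zl, ← mul_assoc, hf.zl, mul_assoc]; rfl

theorem act_one : Act B (1 : F ≃+* F) (1 : G) where
  t := by group
  xa u := by rw [one_mul, mul_one]; rfl
  xb u := by rw [one_mul, mul_one]; rfl
  zs u := by rw [one_mul, mul_one]; rfl
  zl u := by rw [one_mul, mul_one]; rfl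

/-- an element centralising `t` and `U` -/
theorem act_of_comm {g : G} (h1 : Commute g B.t) (h2 : ∀ u, Commute g (B.xa u)) (h3 : ∀ u, Commute g (B.xb u))
    (h4 : ∀ u, Commute g (B.zs u)) (h5 : ∀ u, Commute g (B.zl u)) : Act B (1 : F ≃+* F) g where
  t := h1.eq
  xa u := (h2 u).eq
  xb u := (h3 u).eq
  zs u := (h4 u).eq
  zl u := (h5 u).eq

theorem act_z (a b : F) : Act B (1 : F ≃+* F) (B.zs a * B.zl b) :=
  act_of_comm ((B.t_zs a).symm.mul_left (B.t_zl b).symm)
    (fun u => (B.xa_zs u a).symm.mul_left (B.xa_zl u b).symm)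
    (fun u => (B.xb_zs u a).symm.mul_left (B.xb_zl u b).symm)
    (fun u => (comm_of_add B.zs_add a u).mul_left (B.zs_zl u b).symm)
    (fun u => (B.zs_zl a u).mul_left (comm_of_add B.zl_add b u))

theorem Act.z_mul (hf : Act B σ f) (a b : F) : Act B σ (B.zs a * B.zl b * f) := by
  have := (act_z (B := B) a b).mul hf
  rwa [one_mul] at this

theorem tau_mul_comm {c : G} (hc : Tau B c) {x : G} (hx : Commute B.t x) : c * x = x * c := (hc.comm hx).eq

variable [CharP F 2]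

/-- an element of `⟨t⟩V₁` centralised by the torus is `1` or `t` -/
theorem eq_tau1 {g c : G} {s m r : F} (hc : Tau B c) (hg : g = c * (B.xb s * B.zs m * B.zl r)) {l : Fˣ} (hl : (l : F) ≠ 1)
    (hh : Commute g (B.h 1 l)) : g = c := by
  have h1 : Commute c (B.h 1 l) := hc.comm (B.t_h 1 l)
  have h2 : Commute (B.xb s * B.zs m * B.zl r) (B.h 1 l) := by
    have := (h1.inv_left).mul_left hh
    rwa [hg, inv_mul_cancel_left] at this
  have h3 : B.xb s * B.zs m * B.zl r = B.xb (l * s) * B.zs (l * m) * B.zl (l * r) := by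
    apply mul_right_cancel (b := B.h 1 l)
    rw [h2.eq]
    have e1 := B.h_xb 1 l s
    have e2 := B.h_zs 1 l m
    have e3 := B.h_zl 1 l r
    rw [wt5] at e2
    rw [wt6] at e3
    calc B.h 1 l * (B.xb s * B.zs m * B.zl r) = (B.h 1 l * B.xb s) * B.zs m * B.zl r := by group
      _ = B.xb (l * s) * (B.h 1 l * B.zs m) * B.zl r := by rw [e1]; group
      _ = B.xb (l * s) * B.zs (l * m) * (B.h 1 l * B.zl r) := by rw [e2]; group
      _ = _ := by rw [e3]; group
  have h4 : B.xb (s + l * s) * B.zs (m + l * m) * B.zl (r + l * r) = 1 := by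
    have i1 := inv_of_add B.xb_add
    have i2 := inv_of_add B.zs_add
    have i3 := inv_of_add B.zl_add
    have c1 := (B.xb_zs (l * s) m).eq
    have c2 := (B.zs_zl (l * m) r).eq
    have c3 := (B.xb_zl (l * s) r).eq
    rw [B.xb_add, B.zs_add, B.zl_add]
    calc B.xb s * B.xb (l * s) * (B.zs m * B.zs (l * m)) * (B.zl r * B.zl (l * r))
        = B.xb s * (B.xb (l * s) * B.zs m) * (B.zs (l * m) * B.zl r) * B.zl (l * r) := by group
      _ = B.xb s * B.zs m * (B.xb (l * s) * B.zl r) * B.zs (l * m) * B.zl (l * r) := by rw [c1, c2]; group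
      _ = (B.xb s * B.zs m * B.zl r) * (B.xb (l * s) * B.zs (l * m) * B.zl (l * r)) := by rw [c3]; group
      _ = (B.xb s * B.zs m * B.zl r) * (B.xb s * B.zs m * B.zl r) := by rw [← h3]
      _ = B.xb s * (B.zs m * (B.zl r * B.xb s)) * B.zs m * B.zl r := by group
      _ = B.xb s * (B.zs m * B.xb s) * (B.zl r * B.zs m) * B.zl r := by rw [← (B.xb_zl s r).eq]; group
      _ = (B.xb s * B.xb s) * (B.zs m * B.zs m) * (B.zl r * B.zl r) := by
          rw [← (B.xb_zs s m).eq, ← (B.zs_zl m r).eq]; group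
      _ = 1 := by rw [sq_of_add B.xb_add, sq_of_add B.zs_add, sq_of_add B.zl_add, one_mul, one_mul]
  have h5 := B.inj 0 _ _ _ (by rw [xa_zero, one_mul]; exact h4)
  have hne : (1 : F) + l ≠ 0 := by
    intro h; apply hl
    linear_combination h - CharTwo.two_eq_zero (R := F)
  have z : ∀ x : F, x + l * x = 0 → x = 0 := by
    intro x hx
    have : (1 + (l : F)) * x = 0 := by rw [← hx]; ring
    exact (mul_eq_zero.1 this).resolve_left hne
  rw [hg, z _ h5.2.1, z _ h5.2.2.1, z _ h5.2.2.2, xb_zero, zs_zero, zl_zero]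
  group

/-- an element of `⟨t⟩V₂` centralised by the torus is `1` or `t` -/
theorem eq_tau2 {g c : G} {u m r : F} (hc : Tau B c) (hg : g = c * (B.xa u * B.zs m * B.zl r)) {l : Fˣ} (hl : (l : F) ≠ 1)
    (hh : Commute g (B.h l 1)) : g = c := by
  have h1 : Commute c (B.h l 1) := hc.comm (B.t_h l 1)
  have h2 : Commute (B.xa u * B.zs m * B.zl r) (B.h l 1) := by
    have := (h1.inv_left).mul_left hh
    rwa [hg, inv_mul_cancel_left] at this
  have h3 : B.xa u * B.zs m * B.zl r = B.xa (l * u) * B.zs (l * m) * B.zl (l ^ 2 * r) := by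
    apply mul_right_cancel (b := B.h l 1)
    rw [h2.eq]
    have e1 := B.h_xa l 1 u
    have e2 := B.h_zs l 1 m
    have e3 := B.h_zl l 1 r
    rw [Units.val_one, mul_one] at e2 e3
    calc B.h l 1 * (B.xa u * B.zs m * B.zl r) = (B.h l 1 * B.xa u) * B.zs m * B.zl r := by group
      _ = B.xa (l * u) * (B.h l 1 * B.zs m) * B.zl r := by rw [e1]; group
      _ = B.xa (l * u) * B.zs (l * m) * (B.h l 1 * B.zl r) := by rw [e2]; group
      _ = _ := by rw [e3]; group
  have h4 : B.xa (u + l * u) * B.zs (m + l * m) * B.zl (r + l ^ 2 * r) = 1 := by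
    have c1 := (B.xa_zs (l * u) m).eq
    have c2 := (B.zs_zl (l * m) r).eq
    have c3 := (B.xa_zl (l * u) r).eq
    rw [B.xa_add, B.zs_add, B.zl_add]
    calc B.xa u * B.xa (l * u) * (B.zs m * B.zs (l * m)) * (B.zl r * B.zl (l ^ 2 * r))
        = B.xa u * (B.xa (l * u) * B.zs m) * (B.zs (l * m) * B.zl r) * B.zl (l ^ 2 * r) := by group
      _ = B.xa u * B.zs m * (B.xa (l * u) * B.zl r) * B.zs (l * m) * B.zl (l ^ 2 * r) := by rw [c1, c2]; group
      _ = (B.xa u * B.zs m * B.zl r) * (B.xa (l * u) * B.zs (l * m) * B.zl (l ^ 2 * r)) := by rw [c3]; group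
      _ = (B.xa u * B.zs m * B.zl r) * (B.xa u * B.zs m * B.zl r) := by rw [← h3]
      _ = B.xa u * (B.zs m * (B.zl r * B.xa u)) * B.zs m * B.zl r := by group
      _ = B.xa u * (B.zs m * B.xa u) * (B.zl r * B.zs m) * B.zl r := by rw [← (B.xa_zl u r).eq]; group
      _ = (B.xa u * B.xa u) * (B.zs m * B.zs m) * (B.zl r * B.zl r) := by
          rw [← (B.xa_zs u m).eq, ← (B.zs_zl m r).eq]; group
      _ = 1 := by rw [sq_of_add B.xa_add, sq_of_add B.zs_add, sq_of_add B.zl_add, one_mul, one_mul]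
  have h5 := B.inj _ 0 _ _ (by rw [xb_zero, mul_one]; exact h4)
  have hne : (1 : F) + l ≠ 0 := by
    intro h; apply hl
    linear_combination h - CharTwo.two_eq_zero (R := F)
  have z : ∀ x : F, x + l * x = 0 → x = 0 := by
    intro x hx
    have : (1 + (l : F)) * x = 0 := by rw [← hx]; ring
    exact (mul_eq_zero.1 this).resolve_left hne
  have z2 : ∀ x : F, x + l ^ 2 * x = 0 → x = 0 := by
    intro x hx
    have : (1 + (l : F)) ^ 2 * x = 0 := by
      rw [← hx]; linear_combination ((l : F) * x) * CharTwo.two_eq_zero (R := F)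
    exact (mul_eq_zero.1 this).resolve_left (pow_ne_zero 2 hne)
  rw [hg, z _ h5.1, z _ h5.2.2.1, z2 _ h5.2.2.2, xa_zero, zs_zero, zl_zero]
  group

theorem exists_ne (hF : 4 ≤ Nat.card F) : ∃ l : Fˣ, (l : F) ≠ 1 := by
  obtain ⟨l, l', h⟩ := exists_units (F := F) hF
  refine ⟨l, fun h1 => l'.ne_zero ?_⟩
  rw [h, h1]
  exact CharTwo.add_self_eq_zero 1

theorem exists_sqrt_unit [Finite F] (x : Fˣ) : ∃ y : Fˣ, x = y * y := by
  obtain ⟨y, hy⟩ := exists_sqrt (F := F) (x : F)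
  have hy0 : y ≠ 0 := by
    rintro rfl
    rw [zero_pow two_ne_zero] at hy
    exact x.ne_zero hy
  exact ⟨Units.mk0 y hy0, by ext; rw [Units.val_mul, Units.val_mk0, hy]; ring⟩

/-- conjugation form -/
theorem Act.semi {x y : G} (h : f * x = y * f) : f * x * f⁻¹ = y := by rw [h, mul_inv_cancel_right]

/-- the torus modulo `⟨t⟩Z` -/
theorem Act.h_tz (hB : B.Self) (hf : Act B σ f) (α β : Fˣ) :
    ∃ c m r, Tau B c ∧ f * B.h α β = c * (B.zs m * B.zl r) * B.h (um σ α) (um σ β) * f := by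
  set k := f * B.h α β * f⁻¹ with hk
  set k' := B.h (um σ α) (um σ β) with hk'
  have ct : Commute (k * k'⁻¹) B.t := by
    have e1 : Commute f B.t := hf.t
    have e2 : Commute k B.t := (e1.mul_left (B.t_h α β).symm).mul_left e1.inv_left
    exact e2.mul_left (B.t_h _ _).symm.inv_left
  have key : ∀ (x y : F → G) (w : F), (∀ u, f * x u = x (σ u) * f) → (∀ u, B.h α β * x u = x (w * u) * B.h α β) →
      (∀ u, k' * x u = x (σ w * u) * k') → ∀ u, Commute (k * k'⁻¹) (x u) := by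
    intro x _ w h1 h2 h3 u
    obtain ⟨v, rfl⟩ := σ.surjective u
    obtain ⟨v', hv'⟩ : ∃ v', v = w * v' ∨ w = 0 := by
      by_cases hw : w = 0
      · exact ⟨0, Or.inr hw⟩
      · exact ⟨w⁻¹ * v, Or.inl (by rw [mul_inv_cancel_left₀ hw])⟩
    rcases hv' with hv' | hw
    · have e1 : k * x (σ v') = x (σ v) * k := by
        rw [hk]
        calc f * B.h α β * f⁻¹ * x (σ v') = f * B.h α β * f⁻¹ * (x (σ v') * f) * f⁻¹ := by group
          _ = f * (B.h α β * x v') * f⁻¹ := by rw [← h1]; group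
          _ = (f * x v) * B.h α β * f⁻¹ := by rw [h2, ← hv']; group
          _ = _ := by rw [h1]; group
      have e2 : k' * x (σ v') = x (σ v) * k' := by rw [h3, ← map_mul, ← hv']
      show k * k'⁻¹ * x (σ v) = x (σ v) * (k * k'⁻¹)
      calc k * k'⁻¹ * x (σ v) = k * k'⁻¹ * (x (σ v) * k') * k'⁻¹ := by group
        _ = (k * x (σ v')) * k'⁻¹ := by rw [← e2]; group
        _ = _ := by rw [e1]; group
    · -- `w = 0`: then `x` is constant, `x u = x 0`
      have e0 : ∀ a b, x a = x b := by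
        intro a b
        have h4 := h2 a
        have h5 := h2 b
        rw [hw, zero_mul] at h4 h5
        exact mul_left_cancel (h4.trans h5.symm)
      have e1 : k * x (σ v) = x (σ v) * k := by
        rw [hk]
        calc f * B.h α β * f⁻¹ * x (σ v) = f * B.h α β * f⁻¹ * (x (σ v) * f) * f⁻¹ := by group
          _ = f * (B.h α β * x v) * f⁻¹ := by rw [← h1]; group
          _ = (f * x v) * B.h α β * f⁻¹ := by rw [h2, e0 (w * v) v]; group
          _ = _ := by rw [h1]; group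
      have e2 : k' * x (σ v) = x (σ v) * k' := by rw [h3, e0 (σ w * σ v) (σ v)]
      exact (show Commute k (x (σ v)) from e1).mul_left (show Commute k' (x (σ v)) from e2).inv_left
  have ca : ∀ u, Commute (k * k'⁻¹) (B.xa u) := key B.xa B.xa α hf.xa (B.h_xa α β) (fun u => B.h_xa _ _ u)
  have cb : ∀ u, Commute (k * k'⁻¹) (B.xb u) := key B.xb B.xb β hf.xb (B.h_xb α β) (fun u => B.h_xb _ _ u)
  have cs : ∀ u, Commute (k * k'⁻¹) (B.zs u) := key B.zs B.zs (α * β) hf.zs (B.h_zs α β)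
    (fun u => by rw [map_mul]; exact B.h_zs _ _ u)
  have cl : ∀ u, Commute (k * k'⁻¹) (B.zl u) := key B.zl B.zl (α ^ 2 * β) hf.zl (B.h_zl α β)
    (fun u => by rw [map_mul, map_pow]; exact B.h_zl _ _ u)
  obtain ⟨c, m, r, hc, hg⟩ := formZ hB ct ca cs cl (cb 1)
  refine ⟨c, m, r, hc, ?_⟩
  rw [← hg, hk]
  group

/-- the `t`-part vanishes -/
theorem Act.h_z [Finite F] (hB : B.Self) (hf : Act B σ f) (α β : Fˣ) :
    ∃ m r, f * B.h α β = B.zs m * B.zl r * B.h (um σ α) (um σ β) * f := by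
  obtain ⟨a, rfl⟩ := exists_sqrt_unit α
  obtain ⟨b, rfl⟩ := exists_sqrt_unit β
  obtain ⟨c, m, r, hc, e⟩ := hf.h_tz hB a b
  set k' := B.h (um σ a) (um σ b) with hk'
  have ek : B.h (um σ (a * a)) (um σ (b * b)) = k' * k' := by rw [map_mul, map_mul, B.h_mul]
  have e1 : c * (B.zs m * B.zl r * k') = B.zs m * B.zl r * k' * c :=
    (hc.comm (((B.t_zs m).mul_right (B.t_zl r)).mul_right (B.t_h (um σ a) (um σ b)))).eq
  have e2 : k' * B.zs m = B.zs (um σ a * um σ b * m) * k' := B.h_zs _ _ _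
  have e3 : k' * B.zl r = B.zl (um σ a ^ 2 * um σ b * r) * k' := B.h_zl _ _ _
  have e4 := (B.zs_zl (um σ a * um σ b * m) r).eq
  refine ⟨m + um σ a * um σ b * m, r + um σ a ^ 2 * um σ b * r, ?_⟩
  rw [ek, B.h_mul, B.zs_add, B.zl_add]
  calc f * (B.h a b * B.h a b) = (f * B.h a b) * B.h a b := by group
    _ = (c * (B.zs m * B.zl r) * k' * f) * B.h a b := by rw [e]
    _ = c * (B.zs m * B.zl r) * k' * (f * B.h a b) := by group
    _ = (c * (B.zs m * B.zl r * k')) * (c * (B.zs m * B.zl r * k')) * f := by rw [e]; group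
    _ = (B.zs m * B.zl r * k' * c) * (c * (B.zs m * B.zl r * k')) * f := by rw [e1]
    _ = (B.zs m * B.zl r * k') * (c * c) * (B.zs m * B.zl r * k') * f := by group
    _ = B.zs m * B.zl r * (k' * B.zs m) * B.zl r * k' * f := by rw [hc.sq]; group
    _ = B.zs m * (B.zl r * B.zs (um σ a * um σ b * m)) * (k' * B.zl r) * k' * f := by rw [e2]; group
    _ = _ := by rw [← e4, e3]; group

/-- **correction by an element of `Z`** -/
theorem Act.exists_h [Finite F] (hF : 4 ≤ Nat.card F) (hB : B.Self) (hf : Act B σ f) :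
    ∃ a b, ∀ α β, (B.zs a * B.zl b * f) * B.h α β = B.h (um σ α) (um σ β) * (B.zs a * B.zl b * f) := by
  obtain ⟨l, hl⟩ := exists_ne (F := F) hF
  obtain ⟨α0, hα0⟩ := um_surj σ l
  obtain ⟨m, r, e⟩ := hf.h_z hB α0 1
  rw [hα0, map_one] at e
  have h2 := CharTwo.two_eq_zero (R := F)
  have hne : (1 : F) + l ≠ 0 := by
    intro h; apply hl
    linear_combination h - h2
  have hne2 : (1 : F) + l ^ 2 ≠ 0 := by
    have : (1 : F) + l ^ 2 = (1 + l) ^ 2 := by linear_combination (-(l : F)) * h2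
    rw [this]; exact pow_ne_zero 2 hne
  obtain ⟨a, ha⟩ : ∃ a : F, a + m + l * a = 0 := ⟨m / (1 + l), by field_simp; linear_combination m * (1 + l) * h2⟩
  obtain ⟨b, hb⟩ : ∃ b : F, b + r + l ^ 2 * b = 0 := ⟨r / (1 + l ^ 2), by field_simp; linear_combination r * (1 + l ^ 2) * h2⟩
  refine ⟨a, b, ?_⟩
  have hf1 := hf.z_mul a b
  set f1 := B.zs a * B.zl b * f with hf1e
  have e2 : B.h l 1 * B.zs a = B.zs (l * a) * B.h l 1 := by
    have := B.h_zs l 1 a
    rwa [Units.val_one, mul_one] at this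
  have e3 : B.h l 1 * B.zl b = B.zl (l ^ 2 * b) * B.h l 1 := by
    have := B.h_zl l 1 b
    rwa [Units.val_one, mul_one] at this
  have e5 : f1 * B.h α0 1 = B.h l 1 * f1 := by
    have c1 := (B.zs_zl m b).eq
    have c2 := (B.zs_zl (l * a) (b + r)).eq
    have ez : B.zs a * B.zs m = B.zs (l * a) := by
      rw [← B.zs_add]; congr 1; linear_combination ha - l * a * h2
    have el : B.zl b * B.zl r = B.zl (l ^ 2 * b) := by
      rw [← B.zl_add]; congr 1; linear_combination hb - l ^ 2 * b * h2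
    symm
    calc B.h l 1 * f1 = (B.h l 1 * B.zs a) * B.zl b * f := by rw [hf1e]; group
      _ = B.zs (l * a) * (B.h l 1 * B.zl b) * f := by rw [e2]; group
      _ = B.zs (l * a) * B.zl (l ^ 2 * b) * B.h l 1 * f := by rw [e3]; group
      _ = B.zs a * (B.zs m * B.zl b) * B.zl r * B.h l 1 * f := by rw [← ez, ← el]; group
      _ = B.zs a * B.zl b * (B.zs m * B.zl r * B.h l 1 * f) := by rw [c1]; group
      _ = _ := by rw [← e, hf1e]; group
  intro α β
  obtain ⟨m', r', e'⟩ := hf1.h_z hB α β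
  -- `zs m' zl r'` commutes with `h l 1`
  have c1 : B.h l 1 * (B.zs m' * B.zl r') = (B.zs m' * B.zl r') * B.h l 1 := by
    have c2 : B.h α0 1 * B.h α β = B.h α β * B.h α0 1 := by
      rw [← B.h_mul, ← B.h_mul, mul_comm, mul_comm 1]
    have c3 : B.h l 1 * B.h (um σ α) (um σ β) = B.h (um σ α) (um σ β) * B.h l 1 := by
      rw [← B.h_mul, ← B.h_mul, mul_comm, mul_comm 1]
    have c4 : f1 * (B.h α0 1 * B.h α β) = f1 * (B.h α β * B.h α0 1) := by rw [c2]
    have c5 : f1 * (B.h α0 1 * B.h α β) = B.h l 1 * (B.zs m' * B.zl r') * B.h (um σ α) (um σ β) * f1 := by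
      rw [← mul_assoc, e5, mul_assoc, e']; group
    have c6 : f1 * (B.h α β * B.h α0 1) = (B.zs m' * B.zl r') * B.h l 1 * B.h (um σ α) (um σ β) * f1 := by
      calc f1 * (B.h α β * B.h α0 1) = (f1 * B.h α β) * B.h α0 1 := by group
        _ = B.zs m' * B.zl r' * B.h (um σ α) (um σ β) * (f1 * B.h α0 1) := by rw [e']; group
        _ = B.zs m' * B.zl r' * (B.h (um σ α) (um σ β) * B.h l 1) * f1 := by rw [e5]; group
        _ = _ := by rw [← c3]; group
    rw [c5, c6] at c4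
    exact mul_right_cancel (mul_right_cancel c4)
  have h6 : B.zs m' * B.zl r' = 1 :=
    eq_tau2 (c := 1) (u := 0) (m := m') (r := r') (Or.inl rfl) (by rw [xa_zero]; group) hl (Eq.symm c1)
  rw [e', h6, one_mul]

/-- **field elements** -/
theorem Act.exists_fld [Finite F] (hF : 4 ≤ Nat.card F) (hB : B.Self) (hna : (B.na * B.xa 1) ^ 3 = 1)
    (hnb : (B.nb * B.xb 1) ^ 3 = 1) (hf : Act B σ f) : ∃ a b, IsFld B σ (B.zs a * B.zl b * f) := by
  obtain ⟨a, b, hh⟩ := hf.exists_h hF hB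
  obtain ⟨l, hl⟩ := exists_ne (F := F) hF
  have hf1 := hf.z_mul a b
  refine ⟨a, b, ?_⟩
  set f1 := B.zs a * B.zl b * f with hf1e
  have com : ∀ (n x y : G) (x' y' : G), f1 * x = x' * f1 → f1 * y = y' * f1 → n * x = y * n → n * x' = y' * n →
      Commute (f1 * n * f1⁻¹ * n⁻¹) y' := by
    intro n x y x' y' h1 h2 h3 h4
    show f1 * n * f1⁻¹ * n⁻¹ * y' = y' * (f1 * n * f1⁻¹ * n⁻¹)
    calc f1 * n * f1⁻¹ * n⁻¹ * y' = f1 * n * f1⁻¹ * n⁻¹ * (y' * n) * n⁻¹ := by group
      _ = f1 * n * f1⁻¹ * (x' * f1) * f1⁻¹ * n⁻¹ := by rw [← h4]; group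
      _ = f1 * (n * x) * f1⁻¹ * n⁻¹ := by rw [← h1]; group
      _ = (f1 * y) * n * f1⁻¹ * n⁻¹ := by rw [h3]; group
      _ = _ := by rw [h2]; group
  have tau3 : ∀ c n x : G, Tau B c → Commute B.t n → Commute B.t x → f1 * n = c * n * f1 → f1 * x = x * f1 →
      (n * x) ^ 3 = 1 → c = 1 := by
    intro c n x hc hn hx e1 e2 e3
    have e4 : f1 * (n * x) * f1⁻¹ = c * (n * x) := by
      calc f1 * (n * x) * f1⁻¹ = (f1 * n) * x * f1⁻¹ := by group
        _ = c * n * (f1 * x) * f1⁻¹ := by rw [e1]; group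
        _ = _ := by rw [e2]; group
    have e5 : (f1 * (n * x) * f1⁻¹) ^ 3 = 1 := by rw [conj_pow, e3]; group
    have e6 : Commute c (n * x) := hc.comm (hn.mul_right hx)
    rw [e4, e6.mul_pow, e3, mul_one, pow_succ, pow_two, hc.sq, one_mul] at e5
    exact e5
  have cn : ∀ n, Commute B.t n → Commute (f1 * n * f1⁻¹ * n⁻¹) B.t := by
    intro n hn
    have h1 : Commute f1 B.t := hf1.t
    exact ((h1.mul_left hn.symm).mul_left h1.inv_left).mul_left hn.symm.inv_left
  refine { hf1 with h := hh, na := ?_, nb := ?_ }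
  · obtain ⟨s, m, r, hg⟩ := hB.cent1 (f1 * B.na * f1⁻¹ * B.na⁻¹) (cn _ B.t_na)
      (fun u => by
        obtain ⟨v, rfl⟩ := σ.surjective u
        exact com B.na _ _ _ _ (hf1.zl v) (hf1.xb v) (B.na_zl v) (B.na_zl (σ v)))
      (fun u => by
        obtain ⟨v, rfl⟩ := σ.surjective u
        exact com B.na _ _ _ _ (hf1.zs v) (hf1.zs v) (B.na_zs v) (B.na_zs (σ v)))
      (fun u => by
        obtain ⟨v, rfl⟩ := σ.surjective u
        exact com B.na _ _ _ _ (hf1.xb v) (hf1.zl v) (B.na_xb v) (B.na_xb (σ v)))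
    have hc : ∃ c, Tau B c ∧ f1 * B.na * f1⁻¹ * B.na⁻¹ = c * (B.xb s * B.zs m * B.zl r) := by
      rcases hg with hg | hg
      · exact ⟨1, Or.inl rfl, by rw [hg, one_mul]⟩
      · exact ⟨B.t, Or.inr rfl, hg⟩
    obtain ⟨c, hc, hg⟩ := hc
    have hcomm : Commute (f1 * B.na * f1⁻¹ * B.na⁻¹) (B.h 1 l) := by
      obtain ⟨β, rfl⟩ := um_surj σ l
      have := com B.na _ _ _ _ (hh 1 β) (hh 1⁻¹ (1 ^ 2 * β)) (B.na_h 1 β)
        (by rw [map_inv, map_mul, map_pow]; exact B.na_h (um σ 1) (um σ β))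
      rwa [inv_one, one_pow, one_mul, map_one] at this
    have h1 := eq_tau1 hc hg hl hcomm
    have h2 : f1 * B.na = c * B.na * f1 := by rw [← h1]; group
    have h3 : c = 1 := tau3 c B.na (B.xa 1) hc B.t_na (B.t_xa 1) h2 (by have := hf1.xa 1; rwa [map_one] at this) hna
    rw [h2, h3, one_mul]
  · obtain ⟨s, m, r, hg⟩ := hB.cent2 (f1 * B.nb * f1⁻¹ * B.nb⁻¹) (cn _ B.t_nb)
      (fun u => by
        obtain ⟨v, rfl⟩ := σ.surjective u
        exact com B.nb _ _ _ _ (hf1.zs v) (hf1.xa v) (B.nb_zs v) (B.nb_zs (σ v)))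
      (fun u => by
        obtain ⟨v, rfl⟩ := σ.surjective u
        exact com B.nb _ _ _ _ (hf1.xa v) (hf1.zs v) (B.nb_xa v) (B.nb_xa (σ v)))
      (fun u => by
        obtain ⟨v, rfl⟩ := σ.surjective u
        exact com B.nb _ _ _ _ (hf1.zl v) (hf1.zl v) (B.nb_zl v) (B.nb_zl (σ v)))
    have hc : ∃ c, Tau B c ∧ f1 * B.nb * f1⁻¹ * B.nb⁻¹ = c * (B.xa s * B.zs m * B.zl r) := by
      rcases hg with hg | hg
      · exact ⟨1, Or.inl rfl, by rw [hg, one_mul]⟩
      · exact ⟨B.t, Or.inr rfl, hg⟩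
    obtain ⟨c, hc, hg⟩ := hc
    have hcomm : Commute (f1 * B.nb * f1⁻¹ * B.nb⁻¹) (B.h l 1) := by
      obtain ⟨β, rfl⟩ := um_surj σ l
      -- `nb h(β, ...) = h(β·.., ..) nb` with second component `1`
      have := com B.nb _ _ _ _ (hh β 1) (hh (β * 1) 1⁻¹) (B.nb_h β 1)
        (by rw [map_inv, map_mul]; exact B.nb_h (um σ β) (um σ 1))
      rwa [inv_one, mul_one, map_one] at this
    have h1 := eq_tau2 hc hg hl hcomm
    have h2 : f1 * B.nb = c * B.nb * f1 := by rw [← h1]; group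
    have h3 : c = 1 := tau3 c B.nb (B.xb 1) hc B.t_nb (B.t_xb 1) h2 (by have := hf1.xb 1; rwa [map_one] at this) hnb
    rw [h2, h3, one_mul]

end Cfsg.Agent.StdSpFour.Fld
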