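import Cfsg.Agent.StdSpFour.EnvFacts
import Cfsg.Agent.StdSpFour.Lift
import Cfsg.Agent.StdSpFour.Fld
import Cfsg.Agent.StdRank2.OutField

/-!
# Type `Sp₄`: the bridge between `T ≤ G` and `B : Base F X`, `X = N_G(O)/O`

`Bridge H B`: `B` is a base of `X` with `B.t` the image of `t`, `U ≤ im (T ⊓ A)`, and every element of `T` acts on `U` as
an element of `U` times a field automorphism.  `hat x`: the unique 2-element of `A` above the 2-element `x` of `im A`.
-/

set_option autoImplicit false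
set_option linter.unusedSectionVars false

namespace Cfsg.Agent.StdSpFour

open Subgroup Env Comm Swap Fld Lift EnvSwap EnvFacts
open Cfsg.Agent.StdEven.CoreQuot Cfsg.Agent.StdEven.Loc
open Cfsg.Agent.StdRank2.OutField

universe u v

variable {F : Type v} {G : Type u} [Field F] [Group G] [Finite G] {A : Subgroup G} {t : G} {T : Subgroup G}

/-- The data connecting `T` and the base in `X`. -/
structure Bridge (H : Hyp A t T) (B : Base F (XQ A t)) : Prop where
  env : Env B (im A t A)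
  hF : 4 ≤ Nat.card F
  t_eq : B.t = H.tX
  UT : ∀ x, IsU B x → ∃ a : G, a ∈ T ∧ ∃ ha : a ∈ A, pr A t ⟨a, H.A_le ha⟩ = x
  act : ∀ (z : G) (hz : z ∈ T), ∃ u, IsU B u ∧ ∃ σ : F ≃+* F, Act B σ (u⁻¹ * pr A t ⟨z, H.T_le hz⟩)

namespace Bridge

section hat

variable (H : Hyp A t T)

theorem two_coe {n : ↥(NO A t)} : Two n ↔ Two (n : G) := by
  constructor
  · rintro ⟨k, hk⟩
    exact ⟨k, congrArg Subtype.val hk⟩
  · rintro ⟨k, hk⟩
    exact ⟨k, Subtype.ext hk⟩

theorem two_pr {n : ↥(NO A t)} (h : Two (n : G)) : Two (pr A t n) := by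
  obtain ⟨k, hk⟩ := two_coe.2 h
  exact ⟨k, by rw [← map_pow, hk, map_one]⟩

include H

/-- 2-elements of `C_G(O)` are determined by their images -/
theorem uniqC {a b : ↥(NO A t)} (ha : a ∈ C (pr A t)) (h2a : Two (a : G)) (h2b : Two (b : G))
    (e : pr A t a = pr A t b) : a = b :=
  unique (pr A t) H.odd_ker ha (two_coe.2 h2a) (two_coe.2 h2b) e

theorem uniqA {a : G} (ha : a ∈ A) {b : ↥(NO A t)} (h2a : Two a) (h2b : Two (b : G))
    (e : pr A t ⟨a, H.A_le ha⟩ = pr A t b) : a = b :=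
  congrArg Subtype.val (uniqC H (A_mem_C H ha) h2a h2b e)

theorem exists_hat (x : XQ A t) : ∃ a : G, (x ∈ im A t A ∧ Two x) →
    ∃ ha : a ∈ A, Two a ∧ pr A t ⟨a, H.A_le ha⟩ = x := by
  by_cases h : x ∈ im A t A ∧ Two x
  · obtain ⟨a, ha, h1, h2⟩ := exists_two_A H h.1 h.2
    exact ⟨a, fun _ => ⟨ha, h1, h2⟩⟩
  · exact ⟨1, fun h' => absurd h' h⟩

/-- the 2-element of `A` above `x` -/
noncomputable def hat (x : XQ A t) : G := (exists_hat H x).choose

theorem hat_spec {x : XQ A t} (hx : x ∈ im A t A) (h2 : Two x) :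
    ∃ ha : hat H x ∈ A, Two (hat H x) ∧ pr A t ⟨hat H x, H.A_le ha⟩ = x := (exists_hat H x).choose_spec ⟨hx, h2⟩

theorem hat_mem {x : XQ A t} (hx : x ∈ im A t A) (h2 : Two x) : hat H x ∈ A := (hat_spec H hx h2).1
theorem hat_two {x : XQ A t} (hx : x ∈ im A t A) (h2 : Two x) : Two (hat H x) := (hat_spec H hx h2).2.1
theorem pr_hat {x : XQ A t} (hx : x ∈ im A t A) (h2 : Two x) :
    pr A t ⟨hat H x, H.A_le (hat_mem H hx h2)⟩ = x := (hat_spec H hx h2).2.2

theorem eq_hat {x : XQ A t} (hx : x ∈ im A t A) (h2 : Two x) {b : ↥(NO A t)} (h2b : Two (b : G))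
    (e : pr A t b = x) : (b : G) = hat H x :=
  (uniqA H (hat_mem H hx h2) (hat_two H hx h2) h2b ((pr_hat H hx h2).trans e.symm)).symm

/-- conjugation of hats -/
theorem conj_hat {x y : XQ A t} (hx : x ∈ im A t A) (h2 : Two x) (hy : y ∈ im A t A)
    (g : ↥(NO A t)) (e : pr A t g * x * (pr A t g)⁻¹ = y) : (g : G) * hat H x * (g : G)⁻¹ = hat H y := by
  have h2y : Two y := by rw [← e]; exact h2.conj _
  have h1 := eq_hat H hy h2y (b := g * ⟨hat H x, H.A_le (hat_mem H hx h2)⟩ * g⁻¹) ((hat_two H hx h2).conj _) (by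
    rw [map_mul, map_mul, map_inv, pr_hat H hx h2, e])
  exact h1

/-- hats of commuting elements commute -/
theorem hat_comm {x y : XQ A t} (hx : x ∈ im A t A) (h2 : Two x) (hy : y ∈ im A t A) (h2y : Two y)
    (e : x * y = y * x) : hat H x * hat H y = hat H y * hat H x := by
  have h1 := conj_hat H hy h2y hy ⟨hat H x, H.A_le (hat_mem H hx h2)⟩ (by
    rw [pr_hat H hx h2, e, mul_inv_cancel_right])
  change hat H x * hat H y * (hat H x)⁻¹ = hat H y at h1
  rwa [mul_inv_eq_iff_eq_mul] at h1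

theorem two_mul {a b : G} (h : a * b = b * a) (ha : Two a) (hb : Two b) : Two (a * b) := by
  obtain ⟨k, hk⟩ := ha
  obtain ⟨l, hl⟩ := hb
  refine ⟨k + l, ?_⟩
  rw [(show Commute a b from h).mul_pow]
  have h5 : a ^ 2 ^ (k + l) = 1 := by rw [pow_add, pow_mul, hk, one_pow]
  have h4 : b ^ 2 ^ (k + l) = 1 := by rw [add_comm, pow_add, pow_mul, hl, one_pow]
  rw [h5, h4, one_mul]

theorem hat_mul {x y : XQ A t} (hx : x ∈ im A t A) (h2 : Two x) (hy : y ∈ im A t A) (h2y : Two y)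
    (h2h : Two (hat H x * hat H y)) : hat H x * hat H y = hat H (x * y) := by
  have h2xy : Two (x * y) := by
    have h3 := two_pr (n := (⟨hat H x, H.A_le (hat_mem H hx h2)⟩ : ↥(NO A t)) * ⟨hat H y, H.A_le (hat_mem H hy h2y)⟩) h2h
    rwa [map_mul, pr_hat H hx h2, pr_hat H hy h2y] at h3
  exact eq_hat H (mul_mem hx hy) h2xy
    (b := (⟨hat H x, H.A_le (hat_mem H hx h2)⟩ : ↥(NO A t)) * ⟨hat H y, H.A_le (hat_mem H hy h2y)⟩) h2h (by
      rw [map_mul, pr_hat H hx h2, pr_hat H hy h2y])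

theorem hat_mul_comm {x y : XQ A t} (hx : x ∈ im A t A) (h2 : Two x) (hy : y ∈ im A t A) (h2y : Two y)
    (e : x * y = y * x) : hat H x * hat H y = hat H (x * y) :=
  hat_mul H hx h2 hy h2y (two_mul H (hat_comm H hx h2 hy h2y e) (hat_two H hx h2) (hat_two H hy h2y))

omit H in
theorem two_one' {N : Type*} [Group N] : Two (1 : N) := ⟨0, by rw [one_pow]⟩

theorem hat_one : hat H (1 : XQ A t) = 1 := by
  have h1 := eq_hat H (one_mem _) two_one' (b := (1 : ↥(NO A t))) two_one' (map_one _)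
  exact h1.symm

omit H in
theorem two_of_sq {N : Type*} [Group N] {x : N} (h : x * x = 1) : Two x := ⟨1, by rw [pow_one, pow_two, h]⟩

theorem hat_sq {x : XQ A t} (hx : x ∈ im A t A) (h : x * x = 1) : hat H x * hat H x = 1 := by
  rw [hat_mul_comm H hx (two_of_sq h) hx (two_of_sq h) rfl, h, hat_one]

theorem two_T {z : G} (hz : z ∈ T) : Two z := by
  obtain ⟨k, hk⟩ := H.isT.syl.two ⟨z, hz⟩
  exact ⟨k, congrArg Subtype.val hk⟩

end hat

/-! ### elements of `X` -/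

section X

variable [CharP F 2] [Finite F] {H : Hyp A t T} {B : Base F (XQ A t)} (b : Bridge H B)
include b

theorem hna : (B.na * B.xa 1) ^ 3 = 1 := b.env.weyl.na_xa
theorem hnb : (B.nb * B.xb 1) ^ 3 = 1 := b.env.weyl.nb_xb

omit [Finite F] in
theorem isU_mem {x : XQ A t} (hx : IsU B x) : x ∈ im A t A := by
  obtain ⟨a, -, ha, rfl⟩ := b.UT x hx
  exact pr_mem_im (n := ⟨a, H.A_le ha⟩) ha

omit [Finite F] in
theorem isU_two {x : XQ A t} (hx : IsU B x) : Two x := by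
  obtain ⟨a, haT, ha, rfl⟩ := b.UT x hx
  exact two_pr (n := ⟨a, H.A_le ha⟩) (two_T H haT)

omit [Finite F] in
/-- the hat of an element of `U` is in `T` -/
theorem hat_mem_T {x : XQ A t} (hx : IsU B x) : hat H x ∈ T := by
  obtain ⟨a, haT, ha, e⟩ := b.UT x hx
  have h1 := eq_hat H (b.isU_mem hx) (b.isU_two hx) (b := ⟨a, H.A_le ha⟩) (two_T H haT) e
  rw [← h1]
  exact haT

/-- elements of `C_X(t)` commuting with the generators of `A` -/
theorem eq_one_or {x : XQ A t} (ht : Commute x B.t) (h1 : ∀ u, Commute x (B.xa u)) (h2 : ∀ u, Commute x (B.xb u))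
    (h3 : ∀ u, Commute x (B.zs u)) (h4 : ∀ u, Commute x (B.zl u)) (h5 : ∀ α β, Commute x (B.h α β))
    (h6 : Commute x B.na) (h7 : Commute x B.nb) : x = 1 ∨ x = B.t := by
  rw [b.t_eq]
  refine H.eq_of_cent (by rw [← b.t_eq]; exact ht.eq) fun a ha => ?_
  obtain ⟨u, hu, α, β, n, hn, u', hu', rfl⟩ := b.env.bruhat a ha
  have hU : ∀ {w}, IsU B w → Commute x w := by
    rintro w ⟨u, s, m, r, rfl⟩
    exact (h1 u).mul_right (((h2 s).mul_right (h3 m)).mul_right (h4 r))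
  have hN : Commute x n := by
    rcases hn with rfl | rfl | rfl | rfl | rfl | rfl | rfl | rfl
    · exact Commute.one_right _
    · exact h6
    · exact h7
    · exact h6.mul_right h7
    · exact h7.mul_right h6
    · exact (h6.mul_right h7).mul_right h6
    · exact (h7.mul_right h6).mul_right h7
    · exact ((h6.mul_right h7).mul_right h6).mul_right h7
  exact ((((hU hu).mul_right (h5 α β)).mul_right hN).mul_right (hU hu')).eq

theorem eq_one_or_of_fld {x : XQ A t} (h : IsFld B (1 : F ≃+* F) x) : x = 1 ∨ x = B.t := by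
  refine b.eq_one_or h.t h.xa h.xb h.zs h.zl (fun α β => ?_) h.na h.nb
  have e : ∀ α : Fˣ, um (1 : F ≃+* F) α = α := fun α => by ext; rfl
  have := h.h α β
  rw [e, e] at this
  exact this

theorem exists_fld {z : G} (hz : z ∈ T) : ∃ u, IsU B u ∧ ∃ σ : F ≃+* F, IsFld B σ (u⁻¹ * pr A t ⟨z, H.T_le hz⟩) := by
  obtain ⟨u, hu, σ, h⟩ := b.act z hz
  obtain ⟨m, r, h1⟩ := h.exists_fld b.hF b.env.self b.hna b.hnb
  refine ⟨u * (B.zs m * B.zl r)⁻¹, hu.mul ?_, σ, ?_⟩
  · rw [zz_v1]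
    exact (IsU.v1 _ _ _).inv
  · rwa [mul_inv_rev, inv_inv, mul_assoc]

omit b [Finite G] in
/-- the product of two elements of `U` -/
theorem nf_mul (u s m r u' s' m' r' : F) : B.xa u * B.v1 s m r * (B.xa u' * B.v1 s' m' r') =
    B.xa (u + u') * B.v1 (s + s') (m + u' * s + m') (r + u' ^ 2 * s + r') := by
  rw [B.xa_add, ← B.v1_mul]
  calc B.xa u * B.v1 s m r * (B.xa u' * B.v1 s' m' r') = B.xa u * (B.v1 s m r * B.xa u') * B.v1 s' m' r' := by group
    _ = _ := by rw [v1_xa]; group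

omit b [Finite G] [Finite F] [CharP F 2] in
theorem fld_v1 {σ : F ≃+* F} {x : XQ A t} (h : Act B σ x) (s m r : F) :
    x * B.v1 s m r = B.v1 (σ s) (σ m) (σ r) * x := by
  rw [Base.v1, Base.v1]
  calc x * (B.xb s * B.zs m * B.zl r) = (x * B.xb s) * B.zs m * B.zl r := by group
    _ = B.xb (σ s) * (x * B.zs m) * B.zl r := by rw [h.xb]; group
    _ = B.xb (σ s) * B.zs (σ m) * (x * B.zl r) := by rw [h.zs]; group
    _ = _ := by rw [h.zl]; group

omit b [Finite G] [Finite F] [CharP F 2] in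
theorem fld_nf {σ : F ≃+* F} {x : XQ A t} (h : Act B σ x) (u s m r : F) :
    x * (B.xa u * B.v1 s m r) * x⁻¹ = B.xa (σ u) * B.v1 (σ s) (σ m) (σ r) := by
  rw [mul_inv_eq_iff_eq_mul]
  calc x * (B.xa u * B.v1 s m r) = (x * B.xa u) * B.v1 s m r := by group
    _ = B.xa (σ u) * (x * B.v1 s m r) := by rw [h.xa]; group
    _ = _ := by rw [fld_v1 h]; group

omit b [Finite G] in
/-- **Hilbert 90 for `U`** -/
theorem h90U {σ : F ≃+* F} (h2 : σ * σ = 1) (h1 : σ ≠ 1) {x w : XQ A t} (h : Act B σ x) (hw : IsU B w)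
    (e : w * (x * w * x⁻¹) = 1) : ∃ y, IsU B y ∧ y * w = x * y * x⁻¹ := by
  have c2 := CharTwo.two_eq_zero (R := F)
  obtain ⟨u, s, m, r, rfl⟩ := hw
  rw [fld_nf h, nf_mul] at e
  have e0 : B.xa (u + σ u) * B.v1 (s + σ s) (m + σ u * s + σ m) (r + σ u ^ 2 * s + σ r) = B.xa 0 * B.v1 0 0 0 := by
    rw [e, B.xa_zero, B.v1_zero, one_mul]
  obtain ⟨e1, e2, e3, e4⟩ := nf_inj e0
  have hu : σ u = u := (CharTwo.add_eq_zero.1 e1).symm
  have hs : σ s = s := (CharTwo.add_eq_zero.1 e2).symm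
  rw [hu] at e3 e4
  obtain ⟨U, hU⟩ := exists_trace h2 h1 hu
  obtain ⟨S, hS⟩ := exists_trace h2 h1 hs
  obtain ⟨M, hM⟩ := exists_trace h2 h1 (a := u * S + m) (by
    rw [map_add, map_mul, hu]
    linear_combination u * hS + e3 + (-(m + u * S)) * c2)
  obtain ⟨R, hR⟩ := exists_trace h2 h1 (a := u ^ 2 * S + r) (by
    rw [map_add, map_mul, map_pow, hu]
    linear_combination u ^ 2 * hS + e4 + (-(r + u ^ 2 * S)) * c2)
  refine ⟨B.xa U * B.v1 S M R, ⟨_, _, _, _, rfl⟩, ?_⟩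
  rw [fld_nf h, nf_mul]
  have g1 : U + u = σ U := by linear_combination (-1) * hU + U * c2
  have g2 : S + s = σ S := by linear_combination (-1) * hS + S * c2
  have g3 : M + u * S + m = σ M := by linear_combination (-1) * hM + M * c2
  have g4 : R + u ^ 2 * S + r = σ R := by linear_combination (-1) * hR + R * c2
  rw [g1, g2, g3, g4]

/-- **Involutions of `T`**: in `U ∪ tU` or conjugate under `U` to an involutory field automorphism. -/
theorem exists_invol {z : G} (hz : z ∈ T) (hzz : z * z = 1) :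
    (IsU B (pr A t ⟨z, H.T_le hz⟩) ∨ IsU B (B.t * pr A t ⟨z, H.T_le hz⟩)) ∨
      ∃ w, IsU B w ∧ ∃ σ : F ≃+* F, σ * σ = 1 ∧ σ ≠ 1 ∧ IsFld B σ (w * pr A t ⟨z, H.T_le hz⟩ * w⁻¹) := by
  obtain ⟨u, hu, σ, h⟩ := b.exists_fld hz
  set Z := pr A t ⟨z, H.T_le hz⟩ with hZ
  set φ := u⁻¹ * Z with hφ
  have hZZ : Z * Z = 1 := by
    rw [hZ, ← map_mul]
    have : (⟨z, H.T_le hz⟩ : ↥(NO A t)) * ⟨z, H.T_le hz⟩ = 1 := Subtype.ext hzz
    rw [this, map_one]
  have hZe : Z = u * φ := by rw [hφ]; group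
  have hU' : IsU B (φ * u * φ⁻¹) := by
    obtain ⟨a, s, m, r, rfl⟩ := hu
    exact ⟨_, _, _, _, fld_nf h.toAct a s m r⟩
  have h1 : φ * φ = (u * (φ * u * φ⁻¹))⁻¹ := by
    rw [eq_inv_iff_mul_eq_one]
    have e1 : u * φ * (u * φ) = 1 := by rw [← hZe]; exact hZZ
    calc φ * φ * (u * (φ * u * φ⁻¹)) = (φ * φ) * (u * φ * (u * φ)) * (φ * φ)⁻¹ := by group
      _ = 1 := by rw [e1]; group
  have hφφU : IsU B (φ * φ) := by rw [h1]; exact (hu.mul hU').inv
  have hσ2 : σ * σ = 1 := by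
    have h3 := h.toAct.mul h.toAct
    ext m
    have h4 := h3.zs m
    have h5 := (hφφU.comm_z m 0).eq
    rw [Base.v1_zs, h4] at h5
    exact zs_inj B (mul_right_cancel h5)
  have hf2 : IsFld B (σ * σ) (φ * φ) :=
    { toAct := h.toAct.mul h.toAct
      h := fun α β => by
        rw [mul_assoc, h.h, ← mul_assoc, h.h, mul_assoc]
        rfl
      na := by rw [mul_assoc, h.na, ← mul_assoc, h.na, mul_assoc]
      nb := by rw [mul_assoc, h.nb, ← mul_assoc, h.nb, mul_assoc] }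
  rw [hσ2] at hf2
  have htU : ¬ IsU B B.t := by
    rintro ⟨u, s, m, r, e⟩
    exact B.t_ne u s m r (by rw [e, Base.v1]; group)
  have hφ2 : φ * φ = 1 := by
    rcases b.eq_one_or_of_fld hf2 with h3 | h3
    · exact h3
    · rw [h3] at hφφU
      exact absurd hφφU htU
  by_cases hσ : σ = 1
  · left
    subst hσ
    rcases b.eq_one_or_of_fld h with h3 | h3
    · left
      rw [hZe, h3, mul_one]
      exact hu
    · right
      rw [hZe, h3, show B.t * (u * B.t) = u by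
        have h4 : Commute u B.t := b.env.comm u (b.isU_mem hu)
        rw [h4.eq, ← mul_assoc, B.tt, one_mul]]
      exact hu
  · right
    have h3 : u * (φ * u * φ⁻¹) = 1 := by
      rw [hφ2] at h1
      exact inv_eq_one.1 h1.symm
    obtain ⟨y, hy, h4⟩ := h90U hσ2 hσ h.toAct hu h3
    refine ⟨y, hy, σ, hσ2, hσ, ?_⟩
    have h5 : y * Z * y⁻¹ = φ := by
      rw [hZe]
      calc y * (u * φ) * y⁻¹ = (y * u) * φ * y⁻¹ := by group
        _ = φ := by rw [h4]; group
    rw [h5]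
    exact h

/-- `T ∩ A` maps into `U` -/
theorem TU {a : G} (haT : a ∈ T) (ha : a ∈ A) : IsU B (pr A t ⟨a, H.A_le ha⟩) := by
  refine b.env.syl (im A t (T ⊓ A)) (im_mono inf_le_right) ?_ ?_ _ (pr_mem_im (n := ⟨a, H.A_le ha⟩) (mem_inf.2 ⟨haT, ha⟩))
  · intro x hx
    obtain ⟨n, hn, rfl⟩ := mem_im.1 hx
    exact two_pr (two_T H (mem_inf.1 hn).1)
  · intro x hx
    obtain ⟨a, haT, ha, rfl⟩ := b.UT x hx
    exact pr_mem_im (n := ⟨a, H.A_le ha⟩) (mem_inf.2 ⟨haT, ha⟩)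

omit b [Finite G] in
theorem act_swap {σ : F ≃+* F} {x : XQ A t} (h : Act B σ x) : Act (swap B) σ x := by
  have hr : ∀ a, σ (rt a) = rt (σ a) := by
    intro a
    have h1 : (σ (rt a)) ^ 2 = σ a := by rw [← map_pow, sq_rt]
    rw [← h1, rt_sq]
  refine ⟨h.t, h.xb, fun u => ?_, h.zl, fun u => ?_⟩
  · show x * B.xa (rt u) = B.xa (rt (σ u)) * x
    rw [h.xa, hr]
  · show x * B.zs (rt u) = B.zs (rt (σ u)) * x
    rw [h.zs, hr]

/-- the bridge for the graph twist -/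
theorem swap : Bridge H (swap B) where
  env := env_swap b.env
  hF := b.hF
  t_eq := b.t_eq
  UT := fun x hx => b.UT x (isU_swap.1 hx)
  act := by
    intro z hz
    obtain ⟨u, hu, σ, h⟩ := b.act z hz
    exact ⟨u, isU_swap.2 hu, σ, act_swap h⟩

end X

/-! ### membership in a normal subgroup `L ≥ A` -/

section L

variable {L : Subgroup G}

/-- a 2-element of `C_G(O)` whose image is in the image of `L` is in `L` -/
theorem mem_L (H : Hyp A t T) {x : ↥(NO A t)} (h2 : Two (x : G)) (hc : ∀ o ∈ core A t, o * (x : G) = x * o)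
    (h : pr A t x ∈ im A t L) : (x : G) ∈ L := by
  obtain ⟨n, hn, e⟩ := mem_im.1 h
  have ho : (n : G)⁻¹ * x ∈ core A t := by
    have h1 : pr A t (n⁻¹ * x) = 1 := by rw [map_mul, map_inv, e, inv_mul_cancel]
    exact pr_eq_one.1 h1
  set o := (n : G)⁻¹ * x with hoe
  have hne : (n : G) = x * o⁻¹ := by rw [hoe]; group
  have hcx : Commute (x : G) o⁻¹ := (show Commute (x : G) o from (hc o ho).symm).inv_right
  have hk : Odd (orderOf o) := by
    have h1 := H.odd_core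
    have h3 : orderOf o ∣ Nat.card (core A t) := Subgroup.orderOf_dvd_natCard _ ho
    exact Odd.of_dvd_nat h1 h3
  have h4 : (n : G) ^ orderOf o = (x : G) ^ orderOf o := by
    rw [hne, hcx.mul_pow, inv_pow, pow_orderOf_eq_one, inv_one, mul_one]
  obtain ⟨k, hk2⟩ := h2
  have h5 : orderOf (x : G) ∣ 2 ^ k := orderOf_dvd_of_pow_eq_one hk2
  have h6 : (orderOf o).Coprime (orderOf (x : G)) :=
    Nat.Coprime.coprime_dvd_right h5 (Nat.Coprime.pow_right k (Nat.coprime_two_right.2 hk))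
  obtain ⟨m, hm⟩ := exists_pow_eq_self_of_coprime h6
  rw [← hm, ← h4]
  exact pow_mem (pow_mem hn _) _

theorem im_normal [L.Normal] : (im A t L).Normal := by
  refine ⟨fun x hx g => ?_⟩
  obtain ⟨n, hn, rfl⟩ := mem_im.1 hx
  obtain ⟨g, rfl⟩ := pr_surjective A t g
  rw [← map_inv, ← map_mul, ← map_mul]
  exact pr_mem_im (n := g * n * g⁻¹) (Subgroup.Normal.conj_mem inferInstance _ hn _)

end L

end Bridge

end Cfsg.Agent.StdSpFour
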