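import Cfsg.Agent.StdSpFour.CaseBHom
import Cfsg.Agent.StdSpFour.Weyl

/-!
# S1778, type Sp₄(q): normalisation by the Weyl relations (bb #8700, (0) and (1))
-/

set_option autoImplicit false
set_option linter.unusedSectionVars false
set_option linter.unnecessarySeqFocus false

namespace Cfsg.Agent.StdSpFour.Norm

open Cfsg.Agent.StdSpFour Cfsg.Agent.StdSpFour.Comm Cfsg.Agent.StdSpFour.Prime
open Cfsg.Agent.StdSpFour.CaseBModel Cfsg.Agent.StdSpFour.CaseBRel Cfsg.Agent.StdSpFour.CaseBHom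

/-- ring identities in characteristic two -/
local macro "ch2" : tactic =>
  `(tactic| first | ring1 | (rw [← sub_eq_zero]; ring_nf; simp [CharTwo.two_eq_zero]))

variable {F G : Type*} [Field F] [Group G]

theorem conj_three {g : G} (hg : g ^ 3 = 1) (x : G) : MulAut.conj g (MulAut.conj g (MulAut.conj g x)) = x := by
  rw [← MulAut.mul_apply, ← MulAut.mul_apply, ← map_mul, ← map_mul, ← pow_two, ← pow_succ, hg, map_one,
    MulAut.one_apply]

theorem conj_two {g : G} (hg : g * g = 1) (x : G) : MulAut.conj g (MulAut.conj g x) = x := by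
  rw [← MulAut.mul_apply, ← map_mul, hg, map_one, MulAut.one_apply]

variable {B : Base F G}

theorem cj_nb_p' (W : Weyl B) (S : ShortLayer B) (m : F) : MulAut.conj B.nb (p' S m) = S.p m :=
  conj_two W.nb_sq _

theorem cj_nb_p (S : ShortLayer B) (m : F) : MulAut.conj B.nb (S.p m) = p' S m := rfl

theorem cj_na_q' (W : Weyl B) (L : LongLayer B) (m : F) : MulAut.conj B.na (q' L m) = L.q m :=
  conj_two W.na_sq _

theorem cj_na_q (L : LongLayer B) (m : F) : MulAut.conj B.na (L.q m) = q' L m := rfl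

section eps

variable [CharP F 2]

/-- **(0a)** `ε = 0` -/
theorem eps_zero (W : Weyl B) (S : ShortLayer B) {ε c : F}
    (R : Rels B (p' S) (fun n => S.p n * B.zs (ε * n)) c) : ε = 0 := by
  have h2 : (2 : F) = 0 := CharTwo.two_eq_zero
  have hP : ∀ m, S.p m = hom R ⟨0, 0, 0, ε * m, m, 0⟩ := by
    intro m
    rw [hom_apply]
    simp only [xa_zero, p'_zero, xb_zero, zl_zero, one_mul, mul_one]
    rw [(S.p_zs m _).eq, ← mul_assoc, sq_of_add B.zs_add, one_mul]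
  have c1 : ∀ m, MulAut.conj (B.nb * B.xb 1) (S.p m) = p' S m := by
    intro m
    rw [map_mul, MulAut.mul_apply]
    congr 1
    rw [MulAut.conj_apply, ← (S.p_xb m 1).eq, mul_inv_cancel_right]
  have c4 : ∀ m, MulAut.conj (B.nb * B.xb 1) (B.zl m) = B.zl m := by
    intro m
    rw [map_mul, MulAut.mul_apply, MulAut.conj_apply (B.xb 1), (B.xb_zl 1 m).eq, mul_inv_cancel_right, cj_nb_zl]
  have cx : ∀ x : TB c, MulAut.conj (B.xb 1) (hom R x) = hom R (⟨0, 0, 1, 0, 0, 0⟩ * x * ⟨0, 0, 1, 0, 0, 0⟩) := by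
    intro x
    rw [MulAut.conj_apply, map_mul, map_mul, hom_xb, inv_of_add B.xb_add]
  have c3 : ∀ u, MulAut.conj (B.nb * B.xb 1) (B.xa u) = B.zs u * B.xa u * B.zl (u ^ 2) := by
    intro u
    have e : MulAut.conj (B.xb 1) (B.xa u) = B.xa u * B.zs u * B.zl (u ^ 2) := by
      rw [← hom_xa R, cx, ← hom_zs R, ← hom_zl R, ← map_mul, ← map_mul]
      congr 1
      ext <;> simp <;> ch2
    rw [map_mul, MulAut.mul_apply, e, map_mul, map_mul, cj_nb_xa, cj_nb_zs, cj_nb_zl]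
  have c2 : MulAut.conj (B.nb * B.xb 1) (p' S 1) = S.p 1 * p' S 1 * B.xa ε * B.zl c := by
    have e : MulAut.conj (B.xb 1) (p' S 1) = p' S 1 * S.p 1 * B.zs ε * B.zl c := by
      rw [← hom_Q R, cx, hP, ← hom_zs R, ← hom_zl R, ← map_mul, ← map_mul, ← map_mul]
      congr 1
      ext <;> simp <;> ch2
    rw [map_mul, MulAut.mul_apply, e, map_mul, map_mul, map_mul, cj_nb_p' W, cj_nb_p, cj_nb_zs, cj_nb_zl]
  have h3 := conj_three W.nb_xb (S.p 1)
  rw [c1, c2, map_mul, map_mul, map_mul, c1, c2, c3, c4] at h3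
  rw [← hom_Q R, hP, ← hom_xa R, ← hom_zl R, ← hom_zl R, ← hom_zs R] at h3
  simp only [← map_mul] at h3
  have h4 := congrArg TB.m (hom_injective R h3)
  simp at h4
  linear_combination h4

/-- **the relations with `ε = 0`** -/
theorem exists_rels0 [Finite F] (hF : 4 ≤ Nat.card F) (hB : B.Self) (W : Weyl B) (S : ShortLayer B) (he : S.e = 1) :
    ∃ c, Rels B (p' S) S.p c := by
  obtain ⟨ε, c, R⟩ := exists_rels hF hB S he
  have h0 := eps_zero W S R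
  subst h0
  refine ⟨c, ?_⟩
  have e : (fun n => S.p n * B.zs (0 * n)) = S.p := by
    funext n
    rw [zero_mul, zs_zero, mul_one]
  rwa [e] at R

end eps

section one

variable [CharP F 2] [Finite F] {S : ShortLayer B} {c : F}

/-- change of the long layer by `z_l(k r)` -/
def shift (L : LongLayer B) (k : F) : LongLayer B where
  q := fun r => L.q r * B.zl (k * r)
  e := L.e
  c := L.c
  q_zero := by rw [L.q_zero, mul_zero, zl_zero, one_mul]
  t_q := by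
    intro r
    calc B.t * (L.q r * B.zl (k * r)) = (B.t * L.q r) * B.zl (k * r) := by group
      _ = L.q r * B.t * (B.zl r * B.zl (k * r)) := by rw [L.t_q]; group
      _ = L.q r * (B.t * B.zl (k * r)) * B.zl r := by rw [(comm_of_add B.zl_add r (k * r)).eq]; group
      _ = _ := by rw [(B.t_zl _).eq]; group
  q_xa := fun m s => (L.q_xa m s).mul_left (B.xa_zl s _).symm
  q_zs := fun m s => (L.q_zs m s).mul_left (B.zs_zl s _).symm
  q_zl := fun m s => (L.q_zl m s).mul_left (comm_of_add B.zl_add _ _)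
  q_q := fun m m' => ((L.q_q m m').mul_right (L.q_zl m _)).mul_left
    (((L.q_zl m' _).symm).mul_right (comm_of_add B.zl_add _ _))
  q_add := by
    intro m m'
    obtain ⟨j, hj⟩ := L.q_add m m'
    refine ⟨j, ?_⟩
    rw [mul_add, B.zl_add]
    calc L.q m * B.zl (k * m) * (L.q m' * B.zl (k * m'))
        = L.q m * (B.zl (k * m) * L.q m') * B.zl (k * m') := by group
      _ = (L.q m * L.q m') * B.zl (k * m) * B.zl (k * m') := by rw [← (L.q_zl m' (k * m)).eq]; group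
      _ = L.q (m + m') * (B.zl j * (B.zl (k * m) * B.zl (k * m'))) := by rw [hj]; group
      _ = _ := by rw [← B.zl_add, (comm_of_add B.zl_add j _).eq]; group
  q_sq := by
    intro r
    calc L.q r * B.zl (k * r) * (L.q r * B.zl (k * r)) = L.q r * (B.zl (k * r) * L.q r) * B.zl (k * r) := by group
      _ = (L.q r * L.q r) * (B.zl (k * r) * B.zl (k * r)) := by rw [← (L.q_zl r (k * r)).eq]; group
      _ = _ := by rw [sq_of_add B.zl_add, mul_one, L.q_sq]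
  xb_q := by
    intro s r
    have h1 := L.xb_q s r
    have h2 := (B.xb_zl (s ^ 2) (k * r ^ 2)).eq
    have h3 := (B.zs_zl (L.e * (s * r)) (k * r ^ 2)).eq
    calc B.xb (s ^ 2) * (L.q (r ^ 2) * B.zl (k * r ^ 2)) = (B.xb (s ^ 2) * L.q (r ^ 2)) * B.zl (k * r ^ 2) := by group
      _ = L.q (r ^ 2) * B.xb (s ^ 2) * (B.zs (L.e * (s * r)) * B.zl (k * r ^ 2)) := by rw [h1]; group
      _ = L.q (r ^ 2) * (B.xb (s ^ 2) * B.zl (k * r ^ 2)) * B.zs (L.e * (s * r)) := by rw [h3]; group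
      _ = _ := by rw [h2]; group
  h_q := by
    intro α β r
    have h1 := L.h_q α β r
    have h2 := B.h_zl α β (k * r)
    have e : (α : F) ^ 2 * β * (k * r) = k * (α ^ 2 * β * r) := by ring
    rw [e] at h2
    calc B.h α β * (L.q r * B.zl (k * r)) = (B.h α β * L.q r) * B.zl (k * r) := by group
      _ = L.q (α ^ 2 * β * r) * (B.h α β * B.zl (k * r)) := by rw [h1]; group
      _ = _ := by rw [h2]; group

omit [CharP F 2] [Finite F] in
theorem q'_shift [CharP F 2] (L : LongLayer B) (k s : F) : q' (shift L k) s = q' L s * B.xb (k * s) := by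
  show MulAut.conj B.na (L.q s * B.zl (k * s)) = _
  rw [map_mul, cj_na_zl]; rfl

variable (R : Rels B (p' S) S.p c) {L : LongLayer B}

/-- `q` commutes with the model group -/
theorem q_hom (hF : 4 ≤ Nat.card F) (hB : B.Self) (hLe : L.e = 0) (r : F) (x : TB c) :
    Commute (L.q r) (hom R x) := by
  have hxb : ∀ s, Commute (L.q r) (B.xb s) := by
    intro s
    obtain ⟨s, rfl⟩ := exists_sqrt s
    obtain ⟨r, rfl⟩ := exists_sqrt r
    have := L.xb_q s r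
    rw [hLe, zero_mul, zs_zero, mul_one] at this
    exact this.symm
  rw [hom_apply]
  exact ((L.q_xa _ _).mul_right (p'_q hF hB S L _ _).symm).mul_right
    ((((hxb _).mul_right (L.q_zs _ _)).mul_right (p_q hF hB S L _ _).symm).mul_right (L.q_zl _ _))

/-- `q'` commutes with `V₄` -/
theorem q'_v4 (hF : 4 ≤ Nat.card F) (hB : B.Self) (hLe : L.e = 0) (k s m n r : F) :
    Commute (q' L k) (hom R ⟨0, 0, s, m, n, r⟩) := by
  have hzl : ∀ s, Commute (q' L k) (B.zl s) := by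
    intro s
    obtain ⟨s, rfl⟩ := exists_sqrt s
    obtain ⟨k, rfl⟩ := exists_sqrt k
    have := zl_q' L s k
    rw [hLe, zero_mul, zs_zero, mul_one] at this
    exact this.symm
  rw [hom_apply]
  simp only [xa_zero, p'_zero, one_mul]
  exact (((q'_xb L _ _).mul_right (q'_zs L _ _)).mul_right (q'_p hF hB S L _ _)).mul_right (hzl _)

theorem v4_comm (s m n r s' m' n' r' : F) :
    Commute (hom R ⟨0, 0, s, m, n, r⟩) (hom R ⟨0, 0, s', m', n', r'⟩) := by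
  show hom R _ * hom R _ = hom R _ * hom R _
  rw [← map_mul, ← map_mul]
  congr 1
  ext <;> simp <;> ch2

theorem v4_sq (s m n r : F) : hom R ⟨0, 0, s, m, n, r⟩ * hom R ⟨0, 0, s, m, n, r⟩ = 1 := by
  rw [← map_mul, ← map_one (hom R)]
  congr 1
  ext <;> simp <;> ch2

include R in
/-- `κ' = 1` -/
theorem kappa_one (hF : 4 ≤ Nat.card F) (hB : B.Self) (hLe : L.e = 0) (hLc : L.c = 1) {κ : F}
    (hκ : ∀ s r, q' L (s ^ 2) * L.q (r ^ 2) = B.zs (κ * (s * r)) * (L.q (r ^ 2) * q' L (s ^ 2))) : κ = 1 := by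
  obtain ⟨β, η, h⟩ := q'_xa hF hB S L
  have h1 := h 1 1
  have h2 := hκ 1 1
  simp only [one_pow, mul_one, hLe, add_zero] at h1 h2
  rw [← hom_zs R] at h2
  have eY : S.p 1 * (B.zl β * B.zs η) = hom R ⟨0, 0, 0, η, 1, β⟩ := by
    rw [← hom_P R, ← hom_zs R, ← hom_zl R, ← map_mul, ← map_mul]
    congr 1
    ext <;> simp
  rw [mul_assoc (L.q 1), eY] at h1
  have h3 : (B.xa 1)⁻¹ * (q' L 1 * q' L 1) * B.xa 1 = hom R ⟨0, 0, 1, 1, 0, 1⟩ := by
    rw [q'_sq, hLc, mul_one, inv_of_add B.xa_add, ← hom_xa R, ← hom_xb R, ← map_mul, ← map_mul]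
    congr 1
    ext <;> simp <;> ch2
  have cY := (q'_v4 R hF hB hLe 1 0 η 1 β).eq
  have cY2 := (q_hom R hF hB hLe 1 ⟨0, 0, 0, η, 1, β⟩).eq
  have cK := (q'_v4 R hF hB hLe 1 0 κ 0 0).eq
  have h4 : (B.xa 1)⁻¹ * (q' L 1 * q' L 1) * B.xa 1 = hom R ⟨0, 0, 1, κ, 0, 1⟩ := by
    calc (B.xa 1)⁻¹ * (q' L 1 * q' L 1) * B.xa 1
        = ((B.xa 1)⁻¹ * q' L 1 * B.xa 1) * ((B.xa 1)⁻¹ * q' L 1 * B.xa 1) := by group
      _ = q' L 1 * (L.q 1 * hom R ⟨0, 0, 0, η, 1, β⟩) * (q' L 1 * (L.q 1 * hom R ⟨0, 0, 0, η, 1, β⟩)) := by rw [h1]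
      _ = q' L 1 * L.q 1 * (hom R ⟨0, 0, 0, η, 1, β⟩ * q' L 1) * (L.q 1 * hom R ⟨0, 0, 0, η, 1, β⟩) := by group
      _ = q' L 1 * L.q 1 * q' L 1 * (hom R ⟨0, 0, 0, η, 1, β⟩ * L.q 1) * hom R ⟨0, 0, 0, η, 1, β⟩ := by
          rw [← cY]; group
      _ = (q' L 1 * L.q 1) * q' L 1 * L.q 1 * (hom R ⟨0, 0, 0, η, 1, β⟩ * hom R ⟨0, 0, 0, η, 1, β⟩) := by
          rw [← cY2]; group
      _ = hom R ⟨0, 0, 0, κ, 0, 0⟩ * L.q 1 * (q' L 1 * q' L 1) * L.q 1 := by rw [h2, v4_sq]; group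
      _ = hom R ⟨0, 0, 0, κ, 0, 0⟩ * L.q 1 * (B.xb 1 * L.q 1) := by rw [q'_sq, hLc, mul_one]; group
      _ = hom R ⟨0, 0, 0, κ, 0, 0⟩ * (L.q 1 * L.q 1) * B.xb 1 := by
          rw [← hom_xb R, ← (q_hom R hF hB hLe 1 ⟨0, 0, 1, 0, 0, 0⟩).eq]; group
      _ = _ := by
          rw [L.q_sq, hLc, mul_one, ← hom_xb R, ← hom_zl R, ← map_mul, ← map_mul]
          congr 1
          ext <;> simp
  rw [h3] at h4
  have h5 := congrArg TB.m (hom_injective R h4)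
  simpa using h5.symm


/-- the relation `q'(s)^{x_a(u)} = q'(s) q(u²s) p(us) z_l(β u²s) z_s(η us)` -/
def XaRel (S : ShortLayer B) (L : LongLayer B) (β η : F) : Prop :=
  ∀ s u, (B.xa u)⁻¹ * q' L s * B.xa u = q' L s * (L.q (u ^ 2 * s) * (S.p (u * s) *
    (B.zl (β * (u ^ 2 * s)) * B.zs (η * (u * s)))))

theorem exists_xaRel (hF : 4 ≤ Nat.card F) (hB : B.Self) (S : ShortLayer B) (hLe : L.e = 0) :
    ∃ β η, XaRel S L β η := by
  obtain ⟨β, η, h⟩ := q'_xa hF hB S L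
  refine ⟨β, η, fun s u => ?_⟩
  have := h s u
  rw [hLe, add_zero, one_mul] at this
  rw [this]
  group

include R in
/-- normalisation of `q` -/
theorem xaRel_shift (hF : 4 ≤ Nat.card F) (hB : B.Self) (hLe : L.e = 0) {β η : F} (h : XaRel S L β η) :
    XaRel S (shift L η) β 0 := by
  intro s u
  have h1 := h s u
  have e1 : B.xa u = hom R ⟨u, 0, 0, 0, 0, 0⟩ := (hom_xa R u).symm
  have e2 : (B.xa u)⁻¹ * B.xb (η * s) * B.xa u = hom R ⟨0, 0, η * s, u * (η * s), 0, u ^ 2 * (η * s)⟩ := by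
    rw [e1, ← map_inv, ← hom_xb R, ← map_mul, ← map_mul]
    congr 1
    ext <;> simp <;> ch2
  have e3 : S.p (u * s) * (B.zl (β * (u ^ 2 * s)) * B.zs (η * (u * s))) =
      hom R ⟨0, 0, 0, η * (u * s), u * s, β * (u ^ 2 * s)⟩ := by
    rw [← hom_P R, ← hom_zl R, ← hom_zs R, ← map_mul, ← map_mul]
    congr 1
    ext <;> simp
  rw [q'_shift]
  show (B.xa u)⁻¹ * (q' L s * B.xb (η * s)) * B.xa u = q' L s * B.xb (η * s) *
    (L.q (u ^ 2 * s) * B.zl (η * (u ^ 2 * s)) * (S.p (u * s) * (B.zl (β * (u ^ 2 * s)) * B.zs (0 * (u * s)))))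
  rw [e3] at h1
  have e4 : B.zl (η * (u ^ 2 * s)) * (S.p (u * s) * (B.zl (β * (u ^ 2 * s)) * B.zs (0 * (u * s)))) =
      hom R ⟨0, 0, η * s, 0, 0, 0⟩ * (hom R ⟨0, 0, 0, η * (u * s), u * s, β * (u ^ 2 * s)⟩ *
        hom R ⟨0, 0, η * s, u * (η * s), 0, u ^ 2 * (η * s)⟩) := by
    rw [← hom_P R, ← hom_zl R, ← hom_zl R, ← hom_zs R, ← map_mul, ← map_mul, ← map_mul, ← map_mul, ← map_mul]
    congr 1
    ext <;> simp <;> ch2
  have c1 := (q_hom R hF hB hLe (u ^ 2 * s) ⟨0, 0, η * s, 0, 0, 0⟩).eq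
  calc (B.xa u)⁻¹ * (q' L s * B.xb (η * s)) * B.xa u
      = ((B.xa u)⁻¹ * q' L s * B.xa u) * ((B.xa u)⁻¹ * B.xb (η * s) * B.xa u) := by group
    _ = q' L s * (hom R ⟨0, 0, η * s, 0, 0, 0⟩ * hom R ⟨0, 0, η * s, 0, 0, 0⟩) * L.q (u ^ 2 * s) *
          (hom R ⟨0, 0, 0, η * (u * s), u * s, β * (u ^ 2 * s)⟩ *
          hom R ⟨0, 0, η * s, u * (η * s), 0, u ^ 2 * (η * s)⟩) := by rw [h1, e2, v4_sq]; group
    _ = q' L s * hom R ⟨0, 0, η * s, 0, 0, 0⟩ * (L.q (u ^ 2 * s) * hom R ⟨0, 0, η * s, 0, 0, 0⟩) *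
          (hom R ⟨0, 0, 0, η * (u * s), u * s, β * (u ^ 2 * s)⟩ *
          hom R ⟨0, 0, η * s, u * (η * s), 0, u ^ 2 * (η * s)⟩) := by rw [c1]; group
    _ = q' L s * hom R ⟨0, 0, η * s, 0, 0, 0⟩ * (L.q (u ^ 2 * s) * (hom R ⟨0, 0, η * s, 0, 0, 0⟩ *
          (hom R ⟨0, 0, 0, η * (u * s), u * s, β * (u ^ 2 * s)⟩ *
          hom R ⟨0, 0, η * s, u * (η * s), 0, u ^ 2 * (η * s)⟩))) := by group
    _ = _ := by rw [← e4, hom_xb]; group

include R in
/-- `q(x²) q(y²) = q((x+y)²) z_l(xy)` -/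
theorem q_add_sq (hF : 4 ≤ Nat.card F) (hB : B.Self) (hLe : L.e = 0) {β : F} (h : XaRel S L β 0) (x y : F) :
    L.q (x ^ 2) * L.q (y ^ 2) = L.q ((x + y) ^ 2) * B.zl (x * y) := by
  have e3 : ∀ u, S.p (u * 1) * (B.zl (β * (u ^ 2 * 1)) * B.zs (0 * (u * 1))) =
      hom R ⟨0, 0, 0, 0, u, β * u ^ 2⟩ := by
    intro u
    rw [← hom_P R, ← hom_zl R, ← hom_zs R, ← map_mul, ← map_mul]
    congr 1
    ext <;> simp
  have h1 : ∀ u, (B.xa u)⁻¹ * q' L 1 * B.xa u = q' L 1 * (L.q (u ^ 2) * hom R ⟨0, 0, 0, 0, u, β * u ^ 2⟩) := by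
    intro u
    have := h 1 u
    rw [e3, mul_one] at this
    exact this
  have e4 : (B.xa x)⁻¹ * hom R ⟨0, 0, 0, 0, y, β * y ^ 2⟩ * B.xa x = hom R ⟨0, 0, 0, 0, y, β * y ^ 2 + x * y⟩ := by
    rw [← hom_xa R, ← map_inv, ← map_mul, ← map_mul]
    congr 1
    ext <;> simp <;> ch2
  have c1 : (B.xa x)⁻¹ * L.q (y ^ 2) * B.xa x = L.q (y ^ 2) := by
    rw [mul_assoc, (L.q_xa _ _).eq, inv_mul_cancel_left]
  have c2 := (q_hom R hF hB hLe (y ^ 2) ⟨0, 0, 0, 0, x, β * x ^ 2⟩).eq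
  have h5 : (B.xa (x + y))⁻¹ * q' L 1 * B.xa (x + y) =
      q' L 1 * (L.q (x ^ 2) * L.q (y ^ 2)) * (hom R ⟨0, 0, 0, 0, x, β * x ^ 2⟩ *
        hom R ⟨0, 0, 0, 0, y, β * y ^ 2 + x * y⟩) := by
    calc (B.xa (x + y))⁻¹ * q' L 1 * B.xa (x + y)
        = (B.xa x)⁻¹ * ((B.xa y)⁻¹ * q' L 1 * B.xa y) * B.xa x := by rw [add_comm, B.xa_add]; group
      _ = ((B.xa x)⁻¹ * q' L 1 * B.xa x) * ((B.xa x)⁻¹ * L.q (y ^ 2) * B.xa x) *
            ((B.xa x)⁻¹ * hom R ⟨0, 0, 0, 0, y, β * y ^ 2⟩ * B.xa x) := by rw [h1]; group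
      _ = q' L 1 * L.q (x ^ 2) * (hom R ⟨0, 0, 0, 0, x, β * x ^ 2⟩ * L.q (y ^ 2)) *
            hom R ⟨0, 0, 0, 0, y, β * y ^ 2 + x * y⟩ := by rw [h1, c1, e4]; group
      _ = _ := by rw [← c2]; group
  rw [h1, mul_assoc, mul_assoc] at h5
  have h6 := mul_left_cancel h5
  have e5 : (hom R ⟨0, 0, 0, 0, x, β * x ^ 2⟩ * hom R ⟨0, 0, 0, 0, y, β * y ^ 2 + x * y⟩) =
      hom R ⟨0, 0, 0, 0, 0, x * y⟩ * hom R ⟨0, 0, 0, 0, x + y, β * (x + y) ^ 2⟩ := by
    rw [← map_mul, ← map_mul]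
    congr 1
    ext <;> simp <;> ch2
  rw [e5, ← mul_assoc, ← mul_assoc] at h6
  have h7 := mul_right_cancel h6
  rw [hom_zl] at h7
  have h8 : B.zl (x * y) * B.zl (x * y) = 1 := sq_of_add B.zl_add _
  rw [h7]
  calc L.q (x ^ 2) * L.q (y ^ 2) = L.q (x ^ 2) * L.q (y ^ 2) * (B.zl (x * y) * B.zl (x * y)) := by rw [h8, mul_one]
    _ = _ := by group


/-- `na p na⁻¹ = z_s(k) p` -/
theorem exists_na_p (hF : 4 ≤ Nat.card F) (hB : B.Self) (S : ShortLayer B) (m : F) :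
    ∃ k, MulAut.conj B.na (S.p m) = B.zs k * S.p m := by
  obtain ⟨k, hk⟩ := nb_q hF (Swap.swap_self B hB) (Swap.swapL S) (m ^ 2)
  refine ⟨Swap.rt k, ?_⟩
  have e : (Swap.swapL S).q (m ^ 2) = S.p m := by
    show S.p (Swap.rt (m ^ 2)) = _
    rw [Swap.rt_sq]
  rw [e] at hk
  exact hk

include R in
/-- `(na x_a(1))³ = 1` on `q(s)`: `β = 0` and `na p(s) na⁻¹ = z_s(s) p(s)` -/
theorem cube_na (hF : 4 ≤ Nat.card F) (hB : B.Self) (W : Weyl B) (hLe : L.e = 0) (hLc : L.c = 1) {β : F}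
    (h : XaRel S L β 0) (s : F) : β * s = 0 ∧ MulAut.conj B.na (S.p s) = B.zs s * S.p s := by
  obtain ⟨κ, hκ⟩ := q'_q hF hB L
  have hκ1 := kappa_one R hF hB hLe hLc hκ
  subst hκ1
  obtain ⟨k, hk⟩ := exists_na_p hF hB S s
  have h1 : MulAut.conj (B.xa 1) (q' L s) = q' L s * (L.q s * (S.p s * B.zl (β * s))) := by
    have := h s 1
    simp only [inv_of_add B.xa_add, one_pow, one_mul, zero_mul, zs_zero, mul_one] at this
    rw [MulAut.conj_apply, inv_of_add B.xa_add, this]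
  obtain ⟨Φ, hΦ⟩ : ∃ Φ : MulAut G, Φ = MulAut.conj (B.na * B.xa 1) := ⟨_, rfl⟩
  have g1 : ∀ x, Φ x = MulAut.conj B.na (MulAut.conj (B.xa 1) x) := by
    intro x
    rw [hΦ, map_mul, MulAut.mul_apply]
  have cx : ∀ x : TB c, MulAut.conj (B.xa 1) (hom R x) = hom R (⟨1, 0, 0, 0, 0, 0⟩ * x * ⟨1, 0, 0, 0, 0, 0⟩) := by
    intro x
    rw [MulAut.conj_apply, map_mul, map_mul, hom_xa, inv_of_add B.xa_add]
  have g2 : Φ (L.q s) = q' L s := by
    rw [g1]
    congr 1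
    rw [MulAut.conj_apply, ← (L.q_xa s 1).eq, mul_inv_cancel_right]
  have g3 : Φ (q' L s) = L.q s * (q' L s * (B.zs k * S.p s * B.xb (β * s))) := by
    rw [g1, h1, map_mul, map_mul, map_mul, cj_na_q' W, cj_na_q, hk, cj_na_zl]
  have g4 : Φ (B.zs k) = B.zs k := by
    rw [g1, MulAut.conj_apply (B.xa 1), (B.xa_zs 1 k).eq, mul_inv_cancel_right, cj_na_zs]
  have g5 : Φ (S.p s) = B.zs k * S.p s * B.xb s := by
    have e : MulAut.conj (B.xa 1) (S.p s) = S.p s * B.zl s := by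
      rw [← hom_P R, cx, ← hom_zl R, ← map_mul]
      congr 1
      ext <;> simp <;> ch2
    rw [g1, e, map_mul, hk, cj_na_zl]
  have g6 : ∀ y, Φ (B.xb y) = B.zl y * B.zs y * B.xb y := by
    intro y
    have e : MulAut.conj (B.xa 1) (B.xb y) = B.xb y * B.zs y * B.zl y := by
      rw [← hom_xb R, cx, ← hom_zs R, ← hom_zl R, ← map_mul, ← map_mul]
      congr 1
      ext <;> simp <;> ch2
    rw [g1, e, map_mul, map_mul, cj_na_xb, cj_na_zs, cj_na_zl]
  have h3 := conj_three W.na_xa (L.q s)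
  rw [← hΦ] at h3
  rw [g2, g3, map_mul, map_mul, map_mul, map_mul, g2, g3, g4, g5, g6] at h3
  have hqq : q' L s * L.q s = B.zs s * (L.q s * q' L s) := by
    obtain ⟨s, rfl⟩ := exists_sqrt s
    have := hκ s s
    rw [one_mul, ← pow_two] at this
    exact this
  have e5 : q' L s * (L.q s * (q' L s * (B.zs k * S.p s * B.xb (β * s))) *
      (B.zs k * (B.zs k * S.p s * B.xb s) * (B.zl (β * s) * B.zs (β * s) * B.xb (β * s)))) =
      L.q s * hom R ⟨0, 0, 0, s + k + β * s, 0, β * s⟩ := by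
    have c1 := (q_hom R hF hB hLe s ⟨0, 0, 0, s, 0, 0⟩).eq
    calc _ = (q' L s * L.q s) * q' L s * (B.zs k * S.p s * B.xb (β * s) *
        (B.zs k * (B.zs k * S.p s * B.xb s) * (B.zl (β * s) * B.zs (β * s) * B.xb (β * s)))) := by group
      _ = hom R ⟨0, 0, 0, s, 0, 0⟩ * L.q s * (q' L s * q' L s) * (B.zs k * S.p s * B.xb (β * s) *
        (B.zs k * (B.zs k * S.p s * B.xb s) * (B.zl (β * s) * B.zs (β * s) * B.xb (β * s)))) := by
          rw [hqq, hom_zs]; group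
      _ = L.q s * (hom R ⟨0, 0, 0, s, 0, 0⟩ * (hom R ⟨0, 0, s, 0, 0, 0⟩ * (B.zs k * S.p s * B.xb (β * s) *
        (B.zs k * (B.zs k * S.p s * B.xb s) * (B.zl (β * s) * B.zs (β * s) * B.xb (β * s)))))) := by
          rw [q'_sq, hLc, one_mul, ← c1, hom_xb]; group
      _ = _ := by
          congr 1
          simp only [← hom_zs R, ← hom_xb R, ← hom_zl R, ← hom_P R, ← map_mul]
          congr 1
          ext <;> simp <;> ch2
  have h4 := e5.symm.trans h3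
  have h5 := hom_injective R ((mul_eq_left.1 h4).trans (map_one (hom R)).symm)
  have h6 : β * s = 0 := by simpa using congrArg TB.r h5
  have h7 : s + k + β * s = 0 := by simpa using congrArg TB.m h5
  rw [h6, add_zero] at h7
  have h8 : s = k := CharTwo.add_eq_zero.1 h7
  refine ⟨h6, ?_⟩
  rw [hk, ← h8]

include R in
/-- `nb` commutes with `q` -/
theorem nb_q' (hF : 4 ≤ Nat.card F) (hB : B.Self) (W : Weyl B) (hLe : L.e = 0) (r : F) :
    Commute B.nb (L.q r) := by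
  obtain ⟨k, hk⟩ := nb_q hF hB L r
  obtain ⟨Φ, hΦ⟩ : ∃ Φ : MulAut G, Φ = MulAut.conj (B.nb * B.xb 1) := ⟨_, rfl⟩
  have g1 : ∀ x, Φ x = MulAut.conj B.nb (MulAut.conj (B.xb 1) x) := by
    intro x
    rw [hΦ, map_mul, MulAut.mul_apply]
  have g2 : Φ (L.q r) = B.zl k * L.q r := by
    rw [g1, MulAut.conj_apply (B.xb 1), ← hom_xb R, ← (q_hom R hF hB hLe r _).eq, mul_inv_cancel_right, hk]
  have g3 : Φ (B.zl k) = B.zl k := by
    rw [g1, MulAut.conj_apply (B.xb 1), (B.xb_zl 1 k).eq, mul_inv_cancel_right, cj_nb_zl]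
  have h3 := conj_three W.nb_xb (L.q r)
  rw [← hΦ] at h3
  have h8 : B.zl k * B.zl k = 1 := sq_of_add B.zl_add _
  rw [g2, map_mul, g3, g2, ← mul_assoc, h8, one_mul, g2] at h3
  have h4 : B.zl k = 1 := mul_eq_right.1 h3
  rw [h4, one_mul] at hk
  rw [MulAut.conj_apply] at hk
  show B.nb * L.q r = L.q r * B.nb
  nth_rewrite 2 [← hk]
  group

end one

/-- **second level, case (C), normalised** -/
structure Lev [CharP F 2] (B : Base F G) (P Q q q' : F → G) (c : F) : Prop where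
  rels : Rels B Q P c
  nb_P : ∀ m, B.nb * P m = Q m * B.nb
  nb_Q : ∀ m, B.nb * Q m = P m * B.nb
  na_P : ∀ m, B.na * P m = P m * B.zs m * B.na
  h_P : ∀ (α β : Fˣ) m, B.h α β * P m = P (α * β * m) * B.h α β
  h_Q : ∀ (α β : Fˣ) m, B.h α β * Q m = Q (α * m) * B.h α β
  q_hom : ∀ r (x : TB c), Commute (q r) (hom rels x)
  q'_v4 : ∀ k s m n r, Commute (q' k) (hom rels ⟨0, 0, s, m, n, r⟩)
  q_add : ∀ x y, q (x ^ 2) * q (y ^ 2) = q ((x + y) ^ 2) * B.zl (x * y)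
  q'_add : ∀ x y, q' (x ^ 2) * q' (y ^ 2) = q' ((x + y) ^ 2) * B.xb (x * y)
  q_q : ∀ r s, Commute (q r) (q s)
  q'_q' : ∀ r s, Commute (q' r) (q' s)
  q'_q : ∀ x y, q' (x ^ 2) * q (y ^ 2) = q (y ^ 2) * q' (x ^ 2) * B.zs (x * y)
  q'_xa : ∀ s u, q' s * B.xa u = B.xa u * (q' s * (q (u ^ 2 * s) * P (u * s)))
  t_q : ∀ r, B.t * q r = q r * B.t * B.zl r
  t_q' : ∀ r, B.t * q' r = q' r * B.t * B.xb r
  na_q : ∀ r, B.na * q r = q' r * B.na
  na_q' : ∀ r, B.na * q' r = q r * B.na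
  nb_q : ∀ r, Commute B.nb (q r)
  h_q : ∀ (α β : Fˣ) r, B.h α β * q r = q (α ^ 2 * β * r) * B.h α β
  h_q' : ∀ (α β : Fˣ) r, B.h α β * q' r = q' (β * r) * B.h α β

/-- **existence** -/
theorem exists_lev [CharP F 2] [Finite F] (hF : 4 ≤ Nat.card F) (hB : B.Self) (W : Weyl B) (S : ShortLayer B)
    (L : LongLayer B) (he : S.e = 1) (hLe : L.e = 0) (hLc : L.c = 1) :
    ∃ (c : F) (P Q q q' : F → G), Lev B P Q q q' c := by
  obtain ⟨c, R⟩ := exists_rels0 hF hB W S he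
  obtain ⟨β, η, hx⟩ := exists_xaRel hF hB S hLe
  have hx' := xaRel_shift R hF hB hLe hx
  set M := shift L η with hM
  have hMe : M.e = 0 := hLe
  have hMc : M.c = 1 := hLc
  have hcube := cube_na R hF hB W hMe hMc hx'
  have hβ : β = 0 := by simpa using (hcube 1).1
  subst hβ
  obtain ⟨κ, hκ⟩ := Prime.q'_q hF hB M
  have hκ1 := kappa_one R hF hB hMe hMc hκ
  subst hκ1
  have qadd := q_add_sq R hF hB hMe hx'
  refine ⟨c, S.p, p' S, M.q, q' M, R, ?_, ?_, ?_, S.h_p, h_p' S, q_hom R hF hB hMe, q'_v4 R hF hB hMe, qadd,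
    ?_, M.q_q, Prime.q'_q' M, ?_, ?_, M.t_q, Prime.t_q' M, ?_, ?_, nb_q' R hF hB W hMe, M.h_q, Prime.h_q' M⟩
  · intro m
    rw [← cj_nb_p S m, MulAut.conj_apply]; group
  · intro m
    rw [← cj_nb_p' W S m, MulAut.conj_apply]; group
  · intro m
    have := (hcube m).2
    rw [MulAut.conj_apply] at this
    rw [(S.p_zs m m).eq, ← this]; group
  · intro x y
    have := congrArg (MulAut.conj B.na) (qadd x y)
    simpa only [map_mul, cj_na_q, cj_na_zl] using this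
  · intro x y
    have h1 := hκ x y
    rw [one_mul] at h1
    have c1 : Commute (B.zs (x * y)) (M.q (y ^ 2) * q' M (x ^ 2)) :=
      ((M.q_zs _ _).symm).mul_right (Prime.q'_zs M _ _).symm
    rw [h1, c1.eq]
  · intro s u
    have h1 := hx' s u
    rw [zero_mul, zero_mul, zl_zero, zs_zero, mul_one, mul_one] at h1
    rw [← h1]; group
  · intro r
    rw [← cj_na_q M r, MulAut.conj_apply]; group
  · intro r
    rw [← cj_na_q' W M r, MulAut.conj_apply]; group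

end Cfsg.Agent.StdSpFour.Norm
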