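import Cfsg.Agent.StdSpFour.CaseBLift
import Cfsg.Agent.StdSpFour.CaseBFld
import Cfsg.Agent.StdSpFour.CaseBSplit
import Cfsg.Agent.StdSpFour.BOut
import Cfsg.Agent.StdSpFour.Norm
import Cfsg.Agent.StdEven.Red
import Cfsg.Agent.StdL2.Setup

/-!
# S1778, type Sp₄(q), case (B): the end in `G`

`env`: from `Bridge H B`, the short layer (`e = 1`), the lift `BLift` and `NoLong` to `CaseBEnv.Env D.f t T`.
`main`: `t ∉ L`, `range D.f` is a Sylow 2-subgroup of `L`.
`exists_main`: the whole statement.  `concl_split`: the conclusion of S1778 when `θ² + θ + c = 0` is solvable.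
-/

set_option autoImplicit false
set_option linter.unusedSectionVars false

namespace Cfsg.Agent.StdSpFour.CaseBGlue

open Subgroup Cfsg Cfsg.Agent.StdSpFour Cfsg.Agent.StdSpFour.Comm Cfsg.Agent.StdSpFour.CaseBModel
  Cfsg.Agent.StdSpFour.CaseBRel Cfsg.Agent.StdSpFour.CaseBInv
  Cfsg.Agent.StdSpFour.CaseBHom Cfsg.Agent.StdSpFour.Lift Cfsg.Agent.StdSpFour.Env Cfsg.Agent.StdSpFour.Bridge
  Cfsg.Agent.StdSpFour.CaseBLift Cfsg.Agent.StdSpFour.CaseBFld Cfsg.Agent.StdSpFour.BOut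
  Cfsg.Agent.StdSpFour.CaseBEnv Cfsg.Agent.StdSpFour.Prime
open Cfsg.Agent.StdEven.CoreQuot Cfsg.Agent.StdEven.Loc Cfsg.Agent.StdEven.Syl Cfsg.Agent.StdL2.Setup
open scoped commutatorElement

universe u v

variable {F : Type v} {G : Type u} [Field F] [CharP F 2] [Finite F] [Group G] [Finite G] {A : Subgroup G} {t : G}
  {T : Subgroup G} {H : Hyp A t T} {B : Base F (XQ A t)}

/-- elements of `U` in the model -/
theorem isU_hom {Q P : F → XQ A t} {c : F} (R : Rels B Q P c) {x : TB c} (hx : x ∈ U c) : IsU B (hom R x) := by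
  obtain ⟨u, v, s, m, n, r⟩ := x
  obtain ⟨h1, h2⟩ := hx
  change v = 0 at h1
  change n = 0 at h2
  subst h1 h2
  refine ⟨u, s, m, r, ?_⟩
  rw [hom_U, Base.v1]
  simp only [mul_assoc]

theorem exists_hom {Q P : F → XQ A t} {c : F} (R : Rels B Q P c) {w : XQ A t} (hw : IsU B w) :
    ∃ x ∈ U c, w = hom R x := by
  obtain ⟨u, s, m, r, rfl⟩ := hw
  refine ⟨⟨u, 0, s, m, 0, r⟩, ⟨rfl, rfl⟩, ?_⟩
  rw [hom_U, Base.v1]
  simp only [mul_assoc]

variable (b : Bridge H B) (S : ShortLayer B) {c : F} (R : Rels B (p' S) S.p c) (D : BLift H B R)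

include b in
theorem f_eq_hat {x : TB c} (hx : x ∈ U c) : D.f x = hat H (hom R x) :=
  eq_hat H (b.isU_mem (isU_hom R hx)) (b.isU_two (isU_hom R hx)) (b := ⟨D.f x, D.f_mem x⟩) (D.f_two x) (D.f_pr x)

include b in
theorem f_T {x : TB c} (hx : x ∈ U c) : D.f x ∈ T := by
  rw [f_eq_hat b S R D hx]
  exact b.hat_mem_T (isU_hom R hx)

include b in
theorem f_A {x : TB c} (hx : x ∈ U c) : D.f x ∈ A := by
  rw [f_eq_hat b S R D hx]
  exact hat_mem H (b.isU_mem (isU_hom R hx)) (b.isU_two (isU_hom R hx))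

include b in
/-- elements of `T` are determined by their images -/
theorem eq_of_pr {z : G} (hz : z ∈ T) {x : TB c} (hx : x ∈ U c) (h : pr A t ⟨z, H.T_le hz⟩ = hom R x) : z = D.f x := by
  have h1 := H.pr_inj H.isT.syl.two (x := ⟨z, H.T_le hz⟩) (y := ⟨D.f x, D.f_mem x⟩) hz (f_T b S R D hx)
    (by rw [h, D.f_pr])
  exact congrArg Subtype.val h1

include b in
theorem eq_of_pr_t {z : G} (hz : z ∈ T) {x : TB c} (hx : x ∈ U c) (h : pr A t ⟨z, H.T_le hz⟩ = B.t * hom R x) :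
    z = t * D.f x := by
  have htz : t * z ∈ T := mul_mem H.isT.mem hz
  have h1 : t * z = D.f x := by
    apply eq_of_pr b S R D htz hx
    have e : (⟨t * z, H.T_le htz⟩ : ↥(NO A t)) = ⟨t, H.t_mem⟩ * ⟨z, H.T_le hz⟩ := rfl
    rw [e, map_mul, h]
    change H.tX * (B.t * hom R x) = hom R x
    rw [b.t_eq, ← mul_assoc, H.tX_sq, one_mul]
  rw [← h1, ← mul_assoc, H.tt, one_mul]

variable (nl : NoLong H B)

omit b nl D in
theorem nb_hom (hE : Weyl B) (u v r : F) : B.nb * hom R ⟨u, v, 0, 0, 0, r⟩ = hom R ⟨0, 0, 0, u, v, r⟩ * B.nb := by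
  have hnb : B.nb⁻¹ = B.nb := inv_eq_of_mul_eq_one_right hE.nb_sq
  have e1 : B.nb * p' S v = S.p v * B.nb := by
    have h1 : p' S v = B.nb * S.p v * B.nb⁻¹ := rfl
    rw [h1, hnb]
    calc B.nb * (B.nb * S.p v * B.nb) = (B.nb * B.nb) * S.p v * B.nb := by group
      _ = _ := by rw [hE.nb_sq, one_mul]
  rw [hom_apply, hom_apply]
  simp only [xa_zero, xb_zero, zs_zero, P_zero R, Q_zero R, one_mul]
  calc B.nb * (B.xa u * p' S v * B.zl r) = (B.nb * B.xa u) * p' S v * B.zl r := by group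
    _ = B.zs u * (B.nb * p' S v) * B.zl r := by rw [B.nb_xa]; group
    _ = B.zs u * S.p v * (B.nb * B.zl r) := by rw [e1]; group
    _ = _ := by rw [B.nb_zl]; group

include b nl in
/-- **the environment in `G`** -/
theorem env : CaseBEnv.Env D.f t T where
  inj := D.f_inj
  tt := H.tt
  t_i := D.t_f b.t_eq
  t_ne := D.t_ne_f b.t_eq
  two := H.isT.syl.two
  mem_t := H.isT.mem
  mem_U := fun x hx => f_T b S R D hx
  comm := H.isT.cent
  syl := by
    intro Q hQ hQt hle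
    have h1 := (H.isT.syl_cent H.std H.ht H.htA).max Q hQ (fun z hz => by
      rw [mem_centralizer_singleton_iff]; exact hQt z hz) hle
    exact h1.le
  typ := by
    intro z hz
    obtain ⟨u, hu, σ, h⟩ := b.act z hz
    obtain ⟨x, hx, rfl⟩ := exists_hom R hu
    obtain ⟨y, hy, δ, hδ, h1⟩ := typ_of R b.hF b.env.self b.hna b.hnb S.h_p (h_p' S) hx h
    exact ⟨σ, y, hy, δ, hδ, fun w => D.conj_f (H.T_le hz) (h1 w)⟩
  one := by
    rintro z hz ⟨y, hy, δ, hδ, h1⟩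
    have h2 : Typ ⊤ (hom R) (pr A t ⟨z, H.T_le hz⟩) 1 := by
      refine ⟨y, hy, δ, hδ, fun w => ?_⟩
      have h3 := congrArg (pr A t) (Subtype.ext (h1 w) :
        (⟨z, H.T_le hz⟩ : ↥(NO A t)) * ⟨D.f w, D.f_mem w⟩ =
          ⟨D.f (y * phi 1 δ hδ w * y⁻¹), D.f_mem _⟩ * ⟨z, H.T_le hz⟩)
      rwa [map_mul, map_mul, D.f_pr, D.f_pr] at h3
    have h3 : pr A t ⟨z, H.T_le hz⟩ * B.t = B.t * pr A t ⟨z, H.T_le hz⟩ := by
      rw [b.t_eq]
      exact H.pr_comm_iff.2 (H.isT.cent z hz)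
    obtain ⟨x, hx, h4 | h4⟩ := one_of R b.env.self h3 h2
    · exact ⟨x, hx, Or.inl (eq_of_pr b S R D hz hx h4)⟩
    · exact ⟨x, hx, Or.inr (eq_of_pr_t b S R D hz hx h4)⟩
  fus := by
    intro u v r
    refine ⟨⟨0, 0, 0, u, v, r⟩, ⟨rfl, rfl⟩, isConj_iff.2 ⟨D.nb, ?_⟩⟩
    have h1 := D.conj_f (H.A_le D.nb_mem) (x := ⟨u, v, 0, 0, 0, r⟩) (y := ⟨0, 0, 0, u, v, r⟩) (by
      rw [D.nb_pr]; exact nb_hom S R b.env.weyl u v r)
    rw [h1, mul_inv_cancel_right]
  nzl := by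
    intro r hr hc
    obtain ⟨g, hg⟩ := isConj_iff.1 hc
    have hx : (⟨0, 0, 0, 0, 0, r⟩ : TB c) ∈ U c := ⟨rfl, rfl⟩
    refine nl _ (f_A b S R D hx) 0 r (D.f_two _) hr ?_ g hg
    rw [Base.v1_zl, ← hom_zl R]
    exact D.f_pr _
  nxb := by
    intro s hs hc
    obtain ⟨g, hg⟩ := isConj_iff.1 hc
    have hx : (⟨0, 0, 0, 0, 0, s⟩ : TB c) ∈ U c := ⟨rfl, rfl⟩
    have h1 := D.conj_f (H.A_le D.na_mem) (x := ⟨0, 0, s, 0, 0, 0⟩) (y := ⟨0, 0, 0, 0, 0, s⟩) (by
      rw [D.na_pr, hom_xb, hom_zl, B.na_xb])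
    have hnat : D.na * t = t * D.na := (comm_of_centralizer H.htA D.na_mem).symm
    refine nl _ (f_A b S R D hx) 0 s (D.f_two _) hs ?_ (D.na * g) ?_
    · rw [Base.v1_zl, ← hom_zl R]
      exact D.f_pr _
    · calc D.na * g * t * (D.na * g)⁻¹ = D.na * (g * t * g⁻¹) * D.na⁻¹ := by group
        _ = (D.na * t) * D.f ⟨0, 0, s, 0, 0, 0⟩ * D.na⁻¹ := by rw [hg]; group
        _ = t * (D.na * D.f ⟨0, 0, s, 0, 0, 0⟩) * D.na⁻¹ := by rw [hnat]; group
        _ = _ := by rw [h1]; group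
  nout := by
    intro z hz hc
    obtain ⟨g, hg⟩ := isConj_iff.1 hc
    rcases BOut.nout b nl hz hg with h | h
    · obtain ⟨x, hx, e⟩ := exists_hom R h
      exact ⟨x, hx, Or.inl (eq_of_pr b S R D hz hx e)⟩
    · obtain ⟨x, hx, e⟩ := exists_hom R h
      refine ⟨x, hx, Or.inr (eq_of_pr_t b S R D hz hx ?_)⟩
      rw [← e, ← mul_assoc, B.tt, one_mul]

include b nl in
theorem main {L : Subgroup G} (C : Conf L A t) :
    t ∉ L ∧ (∀ x, D.f x ∈ L) ∧ ∃ P : Sylow 2 L, (P : Subgroup L).map L.subtype = D.f.range := by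
  have hLn := C.normal
  have hperf : _root_.commutator L = ⊤ := by
    have hs := C.simple
    have hn : (_root_.commutator L).Normal := inferInstance
    rcases hs.eq_bot_or_eq_top_of_normal _ hn with h | h
    · exfalso
      apply C.not_comm
      refine ⟨⟨fun x y => ?_⟩⟩
      have h1 : ⁅x, y⁆ ∈ _root_.commutator L := commutator_mem_commutator (mem_top x) (mem_top y)
      rw [h, mem_bot, commutatorElement_eq_one_iff_mul_comm] at h1
      exact h1
    · exact h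
  have hTL : ∀ x, D.f x ∈ L := D.f_mem_L C.le b.env b.hF S.h_p (h_p' S)
  obtain ⟨h1, h2⟩ := (env b S R D nl).main b.hF hperf hTL (by
    intro y z hy hz hyz
    obtain ⟨w, hw⟩ := hyz
    have hwt : D.f w * t = t * D.f w := by
      rw [hw]
      have h2 := H.isT.cent z hz
      have hy' : y⁻¹ * t = t * y⁻¹ := by
        calc y⁻¹ * t = y⁻¹ * (t * y) * y⁻¹ := by group
          _ = y⁻¹ * (y * t) * y⁻¹ := by rw [hy]
          _ = t * y⁻¹ := by group
      calc y * z * y⁻¹ * t = y * z * (y⁻¹ * t) := by group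
        _ = y * (z * t) * y⁻¹ := by rw [hy']; group
        _ = (y * t) * z * y⁻¹ := by rw [h2]; group
        _ = _ := by rw [hy]; group
    have hwU : w ∈ U c := by
      rw [mem_U_iff_tau]
      apply D.f_inj
      have h3 := D.t_f b.t_eq w
      rw [← hwt] at h3
      exact (mul_right_cancel h3).symm
    have hzA : z ∈ A := by
      have h4 := f_A b S R D hwU
      rw [hw] at h4
      have h5 := conj_inv_mem_of_mem_normalizer (H.mem_normalizer hy) h4
      have h6 : y⁻¹ * (y * z * y⁻¹) * y = z := by group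
      rwa [h6] at h5
    obtain ⟨x, hx, e⟩ := exists_hom R (b.TU hz hzA)
    exact ⟨x, hx, eq_of_pr b S R D hz hx e⟩)
  refine ⟨h1, hTL, ?_⟩
  obtain ⟨P, hP⟩ := h2
  exact ⟨P, hP⟩

omit R D in
include b nl in
/-- **case (B)**: `t ∉ L` and `TB c` is a Sylow 2-subgroup of `L`. -/
theorem exists_main (he : S.e = 1) {L : Subgroup G} (C : Conf L A t) :
    t ∉ L ∧ ∃ (c : F) (R : Rels B (p' S) S.p c) (D : BLift H B R), (∀ x, D.f x ∈ L) ∧
      ∃ P : Sylow 2 L, (P : Subgroup L).map L.subtype = D.f.range := by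
  obtain ⟨c, R⟩ := Cfsg.Agent.StdSpFour.Norm.exists_rels0 b.hF b.env.self b.env.weyl S he
  obtain ⟨D⟩ := exists_BLift H b.env R b.hF S.h_p (h_p' S)
  obtain ⟨h1, h2, h3⟩ := main b S R D nl C
  exact ⟨h1, c, R, D, h2, h3⟩

/-- the Sylow 2-subgroup is isomorphic to the model -/
theorem nonempty_equiv {L : Subgroup G} {P : Sylow 2 L} (hP : (P : Subgroup L).map L.subtype = D.f.range) :
    Nonempty (TB c ≃* ↥(P : Subgroup L)) := by
  have e1 : TB c ≃* D.f.range := MonoidHom.ofInjective D.f_inj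
  have e2 : ↥(P : Subgroup L) ≃* ↥((P : Subgroup L).map L.subtype) :=
    (P : Subgroup L).equivMapOfInjective L.subtype L.subtype_injective
  exact ⟨e1.trans ((MulEquiv.subgroupCongr hP.symm).trans e2.symm)⟩

end Cfsg.Agent.StdSpFour.CaseBGlue

namespace Cfsg.Agent.StdSpFour.CaseBGlue

open Subgroup Cfsg Cfsg.Agent.StdSpFour Cfsg.Agent.StdSpFour.Comm Cfsg.Agent.StdSpFour.CaseBModel
  Cfsg.Agent.StdSpFour.CaseBRel Cfsg.Agent.StdSpFour.CaseBHom Cfsg.Agent.StdSpFour.CaseBLift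
open Cfsg.Agent.StdEven.CoreQuot Cfsg.Agent.StdL2.Setup

universe u

variable {F : Type} {G : Type u} [Field F] [CharP F 2] [Finite F] [Group G] [Finite G] {A : Subgroup G} {t : G}
  {T : Subgroup G} {H : Hyp A t T} {B : Base F (XQ A t)}

/-- the split case: `L ≅ L₄(q)` -/
theorem concl_split {c : F} {Q P : F → XQ A t} {R : Rels B Q P c} {D : BLift H B R} (hF : 4 ≤ Nat.card F)
    {θ : F} (hθ : θ ^ 2 + θ + c = 0) {L : Subgroup G} (htL : t ∉ L) (h1769 : CaseBSplit.LinSylow.{u, 0} L)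
    {P2 : Sylow 2 L} (hP : (P2 : Subgroup L).map L.subtype = D.f.range) : Cfsg.Agent.StdEven.Red.Concl L t := by
  have := Fintype.ofFinite F
  obtain ⟨n, -, hn⟩ := FiniteField.card F 2
  have hr : 2 ≤ (n : ℕ) := by
    rw [Nat.card_eq_fintype_card, hn] at hF
    by_contra h
    have h1 : (n : ℕ) ≤ 1 := by omega
    have h2 : 2 ^ (n : ℕ) ≤ 2 ^ 1 := Nat.pow_le_pow_right (by norm_num) h1
    omega
  have e1 : TB c ≃* D.f.range := MonoidHom.ofInjective D.f_inj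
  have e2 : ↥(P2 : Subgroup L) ≃* ↥((P2 : Subgroup L).map L.subtype) :=
    (P2 : Subgroup L).equivMapOfInjective L.subtype L.subtype_injective
  exact ⟨Or.inl (CaseBSplit.isLie hr hn hθ h1769 P2
    (e1.trans ((MulEquiv.subgroupCongr hP.symm).trans e2.symm))), htL⟩

end Cfsg.Agent.StdSpFour.CaseBGlue
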