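import Cfsg.Agent.StdSpFour.UFourEnd
import Cfsg.Agent.StdSpFour.CaseBGlue

/-!
# S1778, type Sp₄(q): the end of case (B)

`concl`: `Bridge`, a short layer with `e = 1`, `NoLong`, and the external theorems (S1769 for `L`; the four inputs of the
closing) give the conclusion of S1778.
-/

set_option autoImplicit false
set_option linter.unusedSectionVars false

namespace Cfsg.Agent.StdSpFour.CaseBEnd

open Subgroup Cfsg Cfsg.Agent.StdSpFour Cfsg.Agent.StdSpFour.Comm Cfsg.Agent.StdSpFour.CaseBModel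
  Cfsg.Agent.StdSpFour.CaseBRel Cfsg.Agent.StdSpFour.CaseBHom Cfsg.Agent.StdSpFour.CaseBLift
  Cfsg.Agent.StdSpFour.BOut Cfsg.Agent.StdSpFour.CaseBGlue
open Cfsg.Agent.StdEven.CoreQuot Cfsg.Agent.StdL2.Setup
open Cfsg.Agent.Lib Cfsg.Agent.Lib.GoldschmidtFusion
open Cfsg.Agent.TwoFusion.Gold (TProp)
open Cfsg.Agent.StdSpFour.CloseComp Cfsg.Agent.StdSpFour.CloseLoc
open Cfsg.Agent.StdSpFour.CloseSyl (S0506Stmt)

universe u v

section general

variable {F : Type v} {G : Type u} [Field F] [CharP F 2] [Finite F] [Group G] [Finite G] {A : Subgroup G} {t : G}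
  {T : Subgroup G} {H : Hyp A t T} {B : Base F (XQ A t)}

/-- a Sylow 2-subgroup of `L` has odd index -/
theorem not_two_dvd {L T0 : Subgroup G} {P : Sylow 2 L} (hP : (P : Subgroup L).map L.subtype = T0) :
    ¬ 2 ∣ T0.relIndex L := by
  have h1 : T0.subgroupOf L = P := by
    rw [← hP]
    exact comap_map_eq_self_of_injective L.subtype_injective _
  rw [relIndex, h1]
  have : Fact (Nat.Prime 2) := ⟨Nat.prime_two⟩
  exact P.not_dvd_index

/-- the position of the lifted environment in `L` -/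
theorem inE (b : Bridge H B) (S : ShortLayer B) (he : S.e = 1) {L : Subgroup G} (C : Conf L A t) {c : F}
    {R : Rels B (p' S) S.p c} (D : BLift H B R) (hL : ∀ x, D.f x ∈ L) {P : Sylow 2 L}
    (hP : (P : Subgroup L).map L.subtype = D.f.range) :
    ∃ V : UFour.Env c G, UFour.InE V L ∧ V.na * V.nb * V.na * V.nb = V.nb * V.na * V.nb * V.na := by
  obtain ⟨V, W, hV⟩ := UFour.lifted_of H b.hF b.env b.t_eq S he R
  have two_f : ∀ x, Lift.Two (V.f x) := by
    intro x
    obtain ⟨n, hn⟩ := UFour.isPGroup_TB c x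
    exact ⟨n, by rw [← map_pow, hn, map_one]⟩
  have hf : V.f = D.f := by
    ext x
    exact (D.f_uni x ⟨V.f x, W.f_NO x⟩ (two_f x) (hV x)).symm
  have hn := C.normal
  refine ⟨V, W.inE b.env C.le (fun x hx => hn.conj_mem x hx t) (fun x => by rw [hf]; exact hL x) ?_, W.braid b.env.weyl⟩
  have h1 : V.T = D.f.range := by
    rw [← hf]
    rfl
  rw [h1]
  exact not_two_dvd hP

/-- **the field case of (B)** -/
theorem concl_field (h0506 : S0506Stmt.{u}) (hZS : ZStarStmt.{u})
    (hT : ∀ (G : Type u) [Group G] [Finite G], IsSimpleGroup G → (∃ a b : G, a * b ≠ b * a) → TProp G)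
    (h1173 : S1173Stmt.{u}) (b : Bridge H B) (S : ShortLayer B) (he : S.e = 1) {L : Subgroup G} (C : Conf L A t)
    (htL : t ∉ L) {c : F} (hc : UFour.Irr c) {R : Rels B (p' S) S.p c} (D : BLift H B R) (hL : ∀ x, D.f x ∈ L)
    {P : Sylow 2 L} (hP : (P : Subgroup L).map L.subtype = D.f.range) : Cfsg.Agent.StdEven.Red.Concl L t := by
  obtain ⟨V, hV, hbr⟩ := inE b S he C D hL hP
  exact ⟨Or.inl (UFour.isLie h0506 hZS hT h1173 hc b.hF C.simple hV hbr), htL⟩

end general

section final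

variable {F : Type} {G : Type u} [Field F] [CharP F 2] [Finite F] [Group G] [Finite G] {A : Subgroup G} {t : G}
  {T : Subgroup G} {H : Hyp A t T} {B : Base F (XQ A t)}

/-- **case (B)** -/
theorem concl (h0506 : S0506Stmt.{u}) (hZS : ZStarStmt.{u})
    (hT : ∀ (G : Type u) [Group G] [Finite G], IsSimpleGroup G → (∃ a b : G, a * b ≠ b * a) → TProp G)
    (h1173 : S1173Stmt.{u}) (b : Bridge H B) (S : ShortLayer B) (nl : NoLong H B) (he : S.e = 1) {L : Subgroup G}
    (C : Conf L A t) (h1769 : CaseBSplit.LinSylow.{u, 0} L) : Cfsg.Agent.StdEven.Red.Concl L t := by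
  obtain ⟨htL, c, R, D, hL, P, hP⟩ := exists_main b S nl he C
  rcases UFour.irr_or c with hc | ⟨θ, hθ⟩
  · exact concl_field h0506 hZS hT h1173 b S he C htL hc D hL hP
  · exact concl_split b.hF hθ htL h1769 hP

end final

end Cfsg.Agent.StdSpFour.CaseBEnd
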