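import Cfsg.Agent.StdSpFour.CaseBModel
import Cfsg.Agent.StdRank2.OutField

/-!
# S1778, type Sp₄(q), case (B): involutions of the model, counting
-/

set_option autoImplicit false
set_option linter.unusedSectionVars false

namespace Cfsg.Agent.StdSpFour.CaseBInv

open Cfsg.Agent.StdSpFour.CaseBModel Cfsg.Agent.StdRank2.OutField

variable {F : Type*} [Field F] [CharP F 2] {c : F}

theorem tau_tau (x : TB c) : tau (tau x) = x := by
  have h2 := two_eq (F := F)
  rw [tau_apply, tau_apply]
  ext
  · show x.u + x.v + x.v = x.u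
    linear_combination x.v * h2
  · rfl
  · rfl
  · show x.m + x.n + x.n = x.m
    linear_combination x.n * h2
  · rfl
  · rfl

theorem mul_self_eq_one {x : TB c} : x * x = 1 ↔ x.u * x.s = 0 ∧ x.v * x.s = 0 ∧
    (x.u * x.n + x.v * x.m) + (x.u ^ 2 + x.u * x.v + c * x.v ^ 2) * x.s = 0 := by
  have h2 := two_eq (F := F)
  constructor
  · intro h
    have h3 := congrArg TB.m h
    have h4 := congrArg TB.n h
    have h5 := congrArg TB.r h
    simp only [mul_m, mul_n, mul_r, one_m, one_n, one_r] at h3 h4 h5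
    refine ⟨by linear_combination h3 - x.m * h2, by linear_combination h4 - x.n * h2,
      by linear_combination h5 - x.r * h2⟩
  · rintro ⟨h3, h4, h5⟩
    ext
    · simp only [mul_u, one_u]; exact add_self _
    · simp only [mul_v, one_v]; exact add_self _
    · simp only [mul_s, one_s]; exact add_self _
    · simp only [mul_m, one_m]; linear_combination h3 + x.m * h2
    · simp only [mul_n, one_n]; linear_combination h4 + x.n * h2
    · simp only [mul_r, one_r]; linear_combination h5 + x.r * h2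

/-- the involutions outside `V4` -/
theorem inv_normal {x : TB c} (hx : x * x = 1) : (x.u = 0 ∧ x.v = 0) ∨
    ∃ (y : TB c) (r : F), x * y = y * ⟨x.u, x.v, 0, 0, 0, r⟩ := by
  have h2 := two_eq (F := F)
  obtain ⟨h3, h4, h5⟩ := mul_self_eq_one.1 hx
  by_cases hu : x.u = 0
  · by_cases hv : x.v = 0
    · exact Or.inl ⟨hu, hv⟩
    · right
      have hs : x.s = 0 := (mul_eq_zero.1 h4).resolve_left hv
      rw [hs, hu] at h5
      have hm : x.m = 0 := by
        have : x.v * x.m = 0 := by linear_combination h5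
        exact (mul_eq_zero.1 this).resolve_left hv
      refine ⟨⟨0, 0, x.n / x.v, 0, 0, 0⟩, x.r + c * x.v ^ 2 * (x.n / x.v), ?_⟩
      have hn : x.v * (x.n / x.v) = x.n := mul_div_cancel₀ _ hv
      ext
      · simp
      · simp
      · simp only [mul_s]; rw [hs]; ring
      · simp only [mul_m]; rw [hs, hu, hm]; ring
      · simp only [mul_n]; rw [hs]; linear_combination (-1) * hn
      · simp only [mul_r]; rw [hs, hu, hm]
        linear_combination (-(c * x.v ^ 2 * (x.n / x.v))) * h2
  · right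
    have hs : x.s = 0 := (mul_eq_zero.1 h3).resolve_left hu
    rw [hs] at h5
    have hm : x.u * (x.m / x.u) = x.m := mul_div_cancel₀ _ hu
    have hn : x.v * (x.m / x.u) = x.n := by
      apply mul_left_cancel₀ hu
      linear_combination h5 + x.v * hm - x.u * x.n * h2
    refine ⟨⟨0, 0, x.m / x.u, 0, 0, 0⟩, x.r + (x.u ^ 2 + x.u * x.v + c * x.v ^ 2) * (x.m / x.u), ?_⟩
    ext
    · simp
    · simp
    · simp only [mul_s]; rw [hs]; ring
    · simp only [mul_m]; rw [hs]; linear_combination (-1) * hm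
    · simp only [mul_n]; rw [hs]; linear_combination (-1) * hn
    · simp only [mul_r]; rw [hs]
      linear_combination (-((x.u ^ 2 + x.u * x.v + c * x.v ^ 2) * (x.m / x.u))) * h2

/-- the involutions of `t T` -/
theorem tau_normal [Finite F] {x : TB c} (hx : tau x * x = 1) :
    (∃ (y : TB c) (r : F), tau y * x = ⟨0, 0, 0, 0, 0, r⟩ * y) ∨
    ∃ (y : TB c) (s : F), s ≠ 0 ∧ tau y * x = ⟨0, 0, s, 0, 0, 0⟩ * y := by
  have h2 := two_eq (F := F)
  obtain ⟨u, v, s, m, n, r⟩ := x
  have h3 := congrArg TB.u hx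
  have h4 := congrArg TB.m hx
  simp only [tau_apply, mul_u, mul_m, one_u, one_m] at h3 h4
  have hv : v = 0 := by linear_combination h3 - u * h2
  subst hv
  have hn : n = u * s := by linear_combination h4 - (u * s + m) * h2
  subst hn
  by_cases hs : s = 0
  · left
    subst hs
    refine ⟨⟨0, u, 0, 0, m, 0⟩, r + u * m, ?_⟩
    rw [tau_apply]
    ext
    · simp only [mul_u]; linear_combination u * h2
    · simp
    · simp
    · simp only [mul_m]; linear_combination m * h2
    · simp
    · simp only [mul_r]; ring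
  · right
    obtain ⟨a, ha⟩ := exists_sqrt (F := F) ((r + u * m) / s + c * u ^ 2)
    have ha' : a * a * s = r + u * m + c * u ^ 2 * s := by
      rw [ha]; field_simp
    refine ⟨⟨a, u, 0, 0, a * s + m, 0⟩, s, hs, ?_⟩
    rw [tau_apply]
    ext
    · simp only [mul_u]; linear_combination u * h2
    · simp
    · simp
    · simp only [mul_m]; linear_combination m * h2
    · simp only [mul_n]; ring
    · simp only [mul_r]
      linear_combination (-1) * ha' - (c * u ^ 2 * s) * h2

/-! ### counting -/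

/-- `V4` -/
def V4 (c : F) : Subgroup (TB c) where
  carrier := {x | x.u = 0 ∧ x.v = 0}
  one_mem' := ⟨rfl, rfl⟩
  mul_mem' := by
    rintro x y ⟨h1, h2⟩ ⟨h3, h4⟩
    exact ⟨by rw [mul_u, h1, h3, add_zero], by rw [mul_v, h2, h4, add_zero]⟩
  inv_mem' := by
    rintro x ⟨h1, h2⟩
    exact ⟨by rw [inv_u, h1], by rw [inv_v, h2]⟩

theorem mem_V4 {x : TB c} : x ∈ V4 c ↔ x.u = 0 ∧ x.v = 0 := Iff.rfl

theorem V4_sq {x : TB c} (hx : x ∈ V4 c) : x * x = 1 := by
  rw [mul_self_eq_one, hx.1, hx.2]
  exact ⟨by ring, by ring, by ring⟩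

theorem V4_comm {x y : TB c} (hx : x ∈ V4 c) (hy : y ∈ V4 c) : x * y = y * x := by
  obtain ⟨h1, h2⟩ := hx
  obtain ⟨h3, h4⟩ := hy
  ext
  · simp only [mul_u]; ring
  · simp only [mul_v]; ring
  · simp only [mul_s]; ring
  · simp only [mul_m, h1, h3]; ring
  · simp only [mul_n, h2, h4]; ring
  · simp only [mul_r, h1, h2, h3, h4]; ring

theorem card_V4 : Nat.card (V4 c) = Nat.card F ^ 4 := by
  have e : V4 c ≃ F × F × F × F :=
    { toFun := fun x => (x.1.s, x.1.m, x.1.n, x.1.r)
      invFun := fun y => ⟨⟨0, 0, y.1, y.2.1, y.2.2.1, y.2.2.2⟩, ⟨rfl, rfl⟩⟩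
      left_inv := by
        rintro ⟨x, h1, h2⟩
        apply Subtype.ext
        ext
        · exact h1.symm
        · exact h2.symm
        · rfl
        · rfl
        · rfl
        · rfl
      right_inv := fun _ => rfl }
  rw [Nat.card_congr e]
  simp only [Nat.card_prod]
  ring

/-- `U` -/
def U (c : F) : Subgroup (TB c) where
  carrier := {x | x.v = 0 ∧ x.n = 0}
  one_mem' := ⟨rfl, rfl⟩
  mul_mem' := by
    rintro x y ⟨h1, h2⟩ ⟨h3, h4⟩
    exact ⟨by rw [mul_v, h1, h3, add_zero], by rw [mul_n, h2, h3, h4]; ring⟩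
  inv_mem' := by
    rintro x ⟨h1, h2⟩
    exact ⟨by rw [inv_v, h1], by rw [inv_n, h1, h2]; ring⟩

theorem mem_U {x : TB c} : x ∈ U c ↔ x.v = 0 ∧ x.n = 0 := Iff.rfl

theorem mem_U_iff_tau {x : TB c} : x ∈ U c ↔ tau x = x := by
  rw [tau_apply, mem_U]
  constructor
  · rintro ⟨h1, h2⟩
    ext
    · show x.u + x.v = x.u
      rw [h1, add_zero]
    · rfl
    · rfl
    · show x.m + x.n = x.m
      rw [h2, add_zero]
    · rfl
    · rfl
  · intro h
    have h1 := congrArg TB.u h
    have h2 := congrArg TB.m h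
    simp only at h1 h2
    exact ⟨by linear_combination h1, by linear_combination h2⟩

/-- elementary abelian subgroups of `U` have order at most `q³` -/
theorem card_elem_U [Finite F] {E : Subgroup (TB c)} (hEU : E ≤ U c) (hsq : ∀ x ∈ E, x * x = 1)
    (hc : ∀ x ∈ E, ∀ y ∈ E, x * y = y * x) : Nat.card E ≤ Nat.card F ^ 3 := by
  have key : (∀ x ∈ E, x.u = 0) ∨ (∀ x ∈ E, x.s = 0) := by
    by_contra hcon
    push Not at hcon
    obtain ⟨⟨x, hx, hxu⟩, ⟨y, hy, hys⟩⟩ := hcon
    have h1 : x.s = 0 := (mul_eq_zero.1 (mul_self_eq_one.1 (hsq x hx)).1).resolve_left hxu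
    have h2 := congrArg TB.m (hc x hx y hy)
    simp only [mul_m] at h2
    rw [h1] at h2
    have h3 : x.u * y.s = 0 := by linear_combination (-1) * h2
    rcases mul_eq_zero.1 h3 with h | h
    · exact hxu h
    · exact hys h
  have hcard : Nat.card (F × F × F) = Nat.card F ^ 3 := by
    simp only [Nat.card_prod]; ring
  rw [← hcard]
  rcases key with h | h
  · refine Nat.card_le_card_of_injective (fun x : E => (x.1.s, x.1.m, x.1.r)) ?_
    rintro ⟨x, hx⟩ ⟨y, hy⟩ hxy
    have h1 := Prod.mk.inj hxy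
    have h2 := Prod.mk.inj h1.2
    apply Subtype.ext
    ext
    · rw [h x hx, h y hy]
    · rw [(hEU hx).1, (hEU hy).1]
    · exact h1.1
    · exact h2.1
    · rw [(hEU hx).2, (hEU hy).2]
    · exact h2.2
  · refine Nat.card_le_card_of_injective (fun x : E => (x.1.u, x.1.m, x.1.r)) ?_
    rintro ⟨x, hx⟩ ⟨y, hy⟩ hxy
    have h1 := Prod.mk.inj hxy
    have h2 := Prod.mk.inj h1.2
    apply Subtype.ext
    ext
    · exact h1.1
    · rw [(hEU hx).1, (hEU hy).1]
    · rw [h x hx, h y hy]
    · exact h2.1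
    · rw [(hEU hx).2, (hEU hy).2]
    · exact h2.2

/-- fixed points on `U` of a semilinear involution times an inner automorphism -/
theorem card_fix_U [Finite F] {σ : F ≃+* F} (h2 : σ * σ = 1) (h1 : σ ≠ 1) {δ : F} (h : σ c = c + δ + δ ^ 2)
    {y : TB c} (hy : y ∈ U c) {E : Subgroup (TB c)} (hEU : E ≤ U c)
    (hE : ∀ x ∈ E, y * phi σ δ h x * y⁻¹ = x) : Nat.card E ≤ Nat.card F ^ 2 := by
  set K := {x : F // σ x = x} with hK
  have hKc : Nat.card K * Nat.card K = Nat.card F := card_fix h2 h1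
  -- coordinates `u`, `s`
  have hcoord : ∀ x ∈ E, σ x.u = x.u ∧ σ x.s = x.s := by
    intro x hx
    have h3 := hE x hx
    have h4 := congrArg TB.u h3
    have h5 := congrArg TB.s h3
    simp only [mul_u, mul_s, inv_u, inv_s, phi_apply] at h4 h5
    have h6 := (hEU hx).1
    rw [h6, map_zero, mul_zero, add_zero] at h4
    have h7 := two_eq (F := F)
    exact ⟨by linear_combination h4 - y.u * h7, by linear_combination h5 - y.s * h7⟩
  let f : E →* Multiplicative (F × F) :=
    { toFun := fun x => Multiplicative.ofAdd (x.1.u, x.1.s)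
      map_one' := rfl
      map_mul' := fun _ _ => rfl }
  have hrange : Nat.card f.range ≤ Nat.card K * Nat.card K := by
    rw [← Nat.card_prod]
    have : ∀ z : f.range, σ (Multiplicative.toAdd z.1).1 = (Multiplicative.toAdd z.1).1 ∧
        σ (Multiplicative.toAdd z.1).2 = (Multiplicative.toAdd z.1).2 := by
      rintro ⟨_, ⟨x, hx⟩, rfl⟩
      exact hcoord x hx
    refine Nat.card_le_card_of_injective (fun z : f.range =>
      ((⟨_, (this z).1⟩, ⟨_, (this z).2⟩) : K × K)) ?_
    rintro z w hzw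
    have h3 := Prod.mk.inj hzw
    apply Subtype.ext
    apply Multiplicative.toAdd.injective
    exact Prod.ext (congrArg Subtype.val h3.1) (congrArg Subtype.val h3.2)
  have hker : Nat.card f.ker ≤ Nat.card K * Nat.card K := by
    rw [← Nat.card_prod]
    have hz : ∀ x : f.ker, x.1.1.u = 0 ∧ x.1.1.s = 0 := by
      rintro ⟨x, hx⟩
      have h3 : Multiplicative.ofAdd (x.1.u, x.1.s) = 1 := hx
      have h4 : (x.1.u, x.1.s) = (0, 0) := h3
      exact Prod.mk.inj h4
    have : ∀ x : f.ker, σ x.1.1.m = x.1.1.m ∧ σ x.1.1.r = x.1.1.r := by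
      intro x
      have h3 := hE x.1.1 x.1.2
      have h4 := congrArg TB.m h3
      have h5 := congrArg TB.r h3
      obtain ⟨hu, hs⟩ := hz x
      obtain ⟨hv, hn⟩ := hEU x.1.2
      simp only [mul_m, mul_r, mul_u, mul_s, mul_n, inv_u, inv_s, inv_m, inv_r, inv_v, phi_apply, hu, hs, hv, hn,
        map_zero, mul_zero, add_zero, zero_mul] at h4 h5
      have h7 := two_eq (F := F)
      have hyv := hy.1
      have hyn := hy.2
      rw [hyv, hyn] at h5
      exact ⟨by linear_combination h4 - (y.m + y.u * y.s) * h7,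
        by linear_combination h5 - (y.r + y.u ^ 2 * y.s) * h7⟩
    refine Nat.card_le_card_of_injective (fun x : f.ker =>
      ((⟨_, (this x).1⟩, ⟨_, (this x).2⟩) : K × K)) ?_
    rintro x x' hxx
    have h3 := Prod.mk.inj hxx
    have h4 := hz x
    have h5 := hz x'
    apply Subtype.ext
    apply Subtype.ext
    ext
    · rw [h4.1, h5.1]
    · rw [(hEU x.1.2).1, (hEU x'.1.2).1]
    · rw [h4.2, h5.2]
    · exact congrArg Subtype.val h3.1
    · rw [(hEU x.1.2).2, (hEU x'.1.2).2]
    · exact congrArg Subtype.val h3.2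
  have hmul : Nat.card E = Nat.card f.ker * Nat.card f.range := by
    have h3 := f.ker.card_mul_index
    rw [Subgroup.index_ker] at h3
    exact h3.symm
  rw [hmul, pow_two]
  rw [hKc] at hrange hker
  exact Nat.mul_le_mul hker hrange

end Cfsg.Agent.StdSpFour.CaseBInv
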