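import Cfsg.Agent.StdSpFour.CaseBHom
import Cfsg.Agent.StdSpFour.Bridge

/-!
# S1778, type Sp₄(q), case (B): lifting `TB c` from `X = N_G(O)/O` to `G`
-/

set_option autoImplicit false
set_option linter.unusedSectionVars false

namespace Cfsg.Agent.StdSpFour.CaseBLift

open Subgroup Cfsg.Agent.StdSpFour Cfsg.Agent.StdSpFour.Comm Cfsg.Agent.StdSpFour.CaseBModel Cfsg.Agent.StdSpFour.CaseBRel
  Cfsg.Agent.StdSpFour.CaseBHom Cfsg.Agent.StdSpFour.Lift Cfsg.Agent.StdSpFour.Env Cfsg.Agent.StdSpFour.Bridge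

section mem

variable {F G : Type*} [Field F] [Finite F] [Group G] {B : Base F G} {Q P : F → G} {c : F} [CharP F 2]

/-- `l - 1 ≠ 0` -/
theorem exists_unit (hF : 4 ≤ Nat.card F) : ∃ l : Fˣ, (l : F) + 1 ≠ 0 := by
  obtain ⟨l, hl⟩ := Fld.exists_ne (F := F) hF
  exact ⟨l, fun h => hl (CharTwo.add_eq_zero.1 h)⟩

/-- the image of the model is contained in every normal subgroup containing `U` and the torus -/
theorem hom_mem (R : Rels B Q P c) (hF : 4 ≤ Nat.card F) (hP : ∀ (α β : Fˣ) m, B.h α β * P m = P (α * β * m) * B.h α β)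
    (hQ : ∀ (α β : Fˣ) m, B.h α β * Q m = Q (α * m) * B.h α β)
    (N : Subgroup G) [hN : N.Normal] (hh : ∀ α β, B.h α β ∈ N)
    (hU : ∀ x, IsU B x → x ∈ N) (x : TB c) : hom R x ∈ N := by
  obtain ⟨l, hl⟩ := exists_unit hF
  have com : ∀ (k y y' : G), k ∈ N → k * y = y' * k → y' * y⁻¹ ∈ N := by
    intro k y y' hk e
    have e1 : y' = k * y * k⁻¹ := by rw [e, mul_inv_cancel_right]
    rw [e1]
    have h1 : y * k⁻¹ * y⁻¹ ∈ N := hN.conj_mem _ (inv_mem hk) y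
    have h2 := mul_mem hk h1
    rwa [show k * (y * k⁻¹ * y⁻¹) = k * y * k⁻¹ * y⁻¹ by group] at h2
  have hPm : ∀ m, P m ∈ N := by
    intro m
    have h1 := com _ _ _ (hh l 1) (hP l 1 ((l + 1 : F)⁻¹ * m))
    rw [inv_eq_of_mul_eq_one_right (P_sq R _), ← R.P_add] at h1
    have e : (l : F) * ((1 : Fˣ) : F) * ((l + 1 : F)⁻¹ * m) + (l + 1 : F)⁻¹ * m = m := by
      rw [Units.val_one, mul_one, ← add_one_mul, mul_inv_cancel_left₀ hl]
    rwa [e] at h1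
  have hQm : ∀ m, Q m ∈ N := by
    intro m
    have h1 := com _ _ _ (hh l 1) (hQ l 1 ((l + 1 : F)⁻¹ * m))
    rw [inv_eq_of_mul_eq_one_right (Q_sq R _), ← R.Q_add] at h1
    have e : (l : F) * ((l + 1 : F)⁻¹ * m) + (l + 1 : F)⁻¹ * m = m := by
      rw [← add_one_mul, mul_inv_cancel_left₀ hl]
    rwa [e] at h1
  rw [hom_apply]
  have h1 : B.xa x.u ∈ N := hU _ (IsU.xa _)
  have h2 : B.xb x.s ∈ N := hU _ (by rw [← Base.v1_xb]; exact IsU.v1 _ _ _)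
  have h3 : B.zs x.m ∈ N := hU _ (by rw [← Base.v1_zs]; exact IsU.v1 _ _ _)
  have h4 : B.zl x.r ∈ N := hU _ (by rw [← Base.v1_zl]; exact IsU.v1 _ _ _)
  exact mul_mem (mul_mem h1 (hQm _)) (mul_mem (mul_mem (mul_mem h2 h3) (hPm _)) h4)

end mem

theorem isPGroup_TB {F : Type*} [Field F] [Finite F] [CharP F 2] (c : F) : IsPGroup 2 (TB c) := by
  have := Fintype.ofFinite F
  obtain ⟨n, -, hn⟩ := FiniteField.card F 2
  refine IsPGroup.of_card (n := n * 6) ?_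
  rw [card_TB, Nat.card_eq_fintype_card, hn, pow_mul]

open Cfsg Cfsg.Agent.StdEven.CoreQuot Cfsg.Agent.StdEven.Loc

universe u v

variable {F : Type v} {G : Type u} [Field F] [CharP F 2] [Finite F] [Group G] [Finite G] {A : Subgroup G} {t : G}
  {T : Subgroup G}

/-- The data lifted to `G`. -/
structure BLift (H : Hyp A t T) (B : Base F (XQ A t)) {Q P : F → XQ A t} {c : F} (R : Rels B Q P c) where
  f : TB c →* G
  f_mem : ∀ x, f x ∈ NO A t
  f_pr : ∀ x, pr A t ⟨f x, f_mem x⟩ = hom R x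
  f_core : ∀ x, ∀ o ∈ core A t, o * f x = f x * o
  f_two : ∀ x, Lift.Two (f x)
  f_rel : ∀ (g : ↥(NO A t)) x y, pr A t g * hom R x * (pr A t g)⁻¹ = hom R y → (g : G) * f x * (g : G)⁻¹ = f y
  f_uni : ∀ x (n : ↥(NO A t)), Lift.Two (n : G) → pr A t n = hom R x → f x = n
  na : G
  nb : G
  na_mem : na ∈ A
  nb_mem : nb ∈ A
  na_two : Lift.Two na
  nb_two : Lift.Two nb
  na_pr : pr A t ⟨na, H.A_le na_mem⟩ = B.na
  nb_pr : pr A t ⟨nb, H.A_le nb_mem⟩ = B.nb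
  h : Fˣ → Fˣ → G
  h_mem : ∀ α γ, h α γ ∈ A
  h_pr : ∀ α γ, pr A t ⟨h α γ, H.A_le (h_mem α γ)⟩ = B.h α γ

theorem exists_BLift (H : Hyp A t T) {B : Base F (XQ A t)} (hE : Env B (im A t A)) {Q P : F → XQ A t} {c : F}
    (R : Rels B Q P c) (hF : 4 ≤ Nat.card F) (hP : ∀ (α β : Fˣ) m, B.h α β * P m = P (α * β * m) * B.h α β)
    (hQ : ∀ (α β : Fˣ) m, B.h α β * Q m = Q (α * m) * B.h α β) : Nonempty (BLift H B R) := by
  have hle := im_A_le H
  have hU : ∀ x, IsU B x → x ∈ im A t A := by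
    rintro x ⟨u, s, m, r, rfl⟩
    exact mul_mem (hE.xa_mem _) (mul_mem (mul_mem (hE.xb_mem _) (hE.zs_mem _)) (hE.zl_mem _))
  obtain ⟨f, hf, h1, h2, h3, h4, h5⟩ := exists_lift_core H (isPGroup_TB c) (hom R)
    (fun x => hom_mem R hF hP hQ (Cb A t) (fun α β => hle (hE.h_mem α β)) (fun x hx => hle (hU x hx)) x)
  obtain ⟨a, ha, ha2, hap⟩ := exists_two_A H hE.na_mem ⟨1, by rw [pow_one, pow_two, hE.weyl.na_sq]⟩
  obtain ⟨b, hb, hb2, hbp⟩ := exists_two_A H hE.nb_mem ⟨1, by rw [pow_one, pow_two, hE.weyl.nb_sq]⟩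
  have h6 : ∀ α γ, ∃ (n : G) (hn : n ∈ A), pr A t ⟨n, H.A_le hn⟩ = B.h α γ := by
    intro α γ
    obtain ⟨n, hn, e⟩ := mem_im.mp (hE.h_mem α γ)
    exact ⟨n, hn, e⟩
  choose h hh hhp using h6
  exact ⟨⟨f, hf, h1, h2, h3, h4, h5, a, b, ha, hb, ha2, hb2, hap, hbp, h, hh, hhp⟩⟩

namespace BLift

variable {H : Hyp A t T} {B : Base F (XQ A t)} {Q P : F → XQ A t} {c : F} {R : Rels B Q P c} (D : BLift H B R)

theorem f_inj : Function.Injective D.f := by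
  intro x y hxy
  apply hom_injective R
  rw [← D.f_pr, ← D.f_pr]
  congr 1
  exact Subtype.ext hxy

/-- values in `L` -/
theorem f_mem_L {L : Subgroup G} [L.Normal] (hAL : A ≤ L) (hE : Env B (im A t A)) (hF : 4 ≤ Nat.card F)
    (hP : ∀ (α β : Fˣ) m, B.h α β * P m = P (α * β * m) * B.h α β)
    (hQ : ∀ (α β : Fˣ) m, B.h α β * Q m = Q (α * m) * B.h α β) (x : TB c) : D.f x ∈ L := by
  have hN := im_normal (A := A) (t := t) (L := L)
  have hle : im A t A ≤ im A t L := im_mono hAL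
  have hU : ∀ x, IsU B x → x ∈ im A t A := by
    rintro x ⟨u, s, m, r, rfl⟩
    exact mul_mem (hE.xa_mem _) (mul_mem (mul_mem (hE.xb_mem _) (hE.zs_mem _)) (hE.zl_mem _))
  refine mem_L H (x := ⟨D.f x, D.f_mem x⟩) (D.f_two x) (D.f_core x) ?_
  rw [D.f_pr]
  exact hom_mem R hF hP hQ (im A t L) (fun α β => hle (hE.h_mem α β)) (fun x hx => hle (hU x hx)) x

/-- `t` acts by `tau` -/
theorem t_f (hBt : B.t = H.tX) (x : TB c) : t * D.f x = D.f (tau x) * t := by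
  have h1 := D.f_rel ⟨t, H.t_mem⟩ x (tau x) (by
    rw [← H.tX_eq, ← hBt, t_hom R, mul_inv_cancel_right])
  change t * D.f x * t⁻¹ = D.f (tau x) at h1
  rwa [mul_inv_eq_iff_eq_mul] at h1

theorem t_ne_f (hBt : B.t = H.tX) (x : TB c) : D.f x ≠ t := by
  intro h
  apply t_ne_hom R x
  rw [hBt, H.tX_eq, ← D.f_pr]
  congr 1
  exact Subtype.ext h

/-- conjugation by an element of `N(O)` -/
theorem conj_f {g : G} (hg : g ∈ NO A t) {x y : TB c} (h : pr A t ⟨g, hg⟩ * hom R x = hom R y * pr A t ⟨g, hg⟩) :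
    g * D.f x = D.f y * g := by
  have h1 := D.f_rel ⟨g, hg⟩ x y (by rw [h, mul_inv_cancel_right])
  change g * D.f x * g⁻¹ = D.f y at h1
  rwa [mul_inv_eq_iff_eq_mul] at h1

end BLift

end Cfsg.Agent.StdSpFour.CaseBLift
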