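import Mathlib.Algebra.CharP.Two
import Mathlib.FieldTheory.Finite.Basic
import Mathlib.Algebra.Group.MinimalAxioms
import Mathlib.Tactic.LinearCombination
import Mathlib.Tactic.FieldSimp
import Mathlib.Algebra.Group.Equiv.TypeTags
import Mathlib.GroupTheory.Index
import Mathlib.SetTheory.Cardinal.NatCard

/-!
# S1778, type Sp₄(q), case (B): the 2-group of order q⁶ in coordinates

`TB c`: the group of the tuples `(u,v;s,m,n,r)` = `x_a(u) p'(v) · x_b(s) z_s(m) P(n) z_l(r)`; `(u,v)` = `λ ∈ R = F[e]/(e²+e+c)`,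
`(m,n) = ρ ∈ R`; `λ` acts by `(s,ρ,r) ↦ (s, ρ+λs, r+B(λ,ρ)+N(λ)s)`.
It is the Sylow 2-subgroup of `L₄(q)` or `U₄(q)`.
-/

set_option autoImplicit false
set_option linter.unusedSectionVars false

namespace Cfsg.Agent.StdSpFour.CaseBModel

/-- coordinates `(u,v;s,m,n,r)` -/
@[ext] structure TB {F : Type*} (c : F) where
  u : F
  v : F
  s : F
  m : F
  n : F
  r : F

variable {F : Type*} [Field F]

section basic

variable {c : F}

instance : One (TB c) := ⟨⟨0, 0, 0, 0, 0, 0⟩⟩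

instance : Mul (TB c) := ⟨fun x y => ⟨x.u + y.u, x.v + y.v, x.s + y.s, x.m + y.u * x.s + y.m,
  x.n + y.v * x.s + y.n,
  x.r + (y.u * x.n + y.v * x.m) + (y.u ^ 2 + y.u * y.v + c * y.v ^ 2) * x.s + y.r⟩⟩

instance : Inv (TB c) := ⟨fun x => ⟨x.u, x.v, x.s, x.m + x.u * x.s, x.n + x.v * x.s,
  x.r + (x.u * x.n + x.v * x.m) + (x.u ^ 2 + x.u * x.v + c * x.v ^ 2) * x.s⟩⟩

@[simp] theorem one_u : (1 : TB c).u = 0 := rfl
@[simp] theorem one_v : (1 : TB c).v = 0 := rfl
@[simp] theorem one_s : (1 : TB c).s = 0 := rfl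
@[simp] theorem one_m : (1 : TB c).m = 0 := rfl
@[simp] theorem one_n : (1 : TB c).n = 0 := rfl
@[simp] theorem one_r : (1 : TB c).r = 0 := rfl
@[simp] theorem mul_u (x y : TB c) : (x * y).u = x.u + y.u := rfl
@[simp] theorem mul_v (x y : TB c) : (x * y).v = x.v + y.v := rfl
@[simp] theorem mul_s (x y : TB c) : (x * y).s = x.s + y.s := rfl
@[simp] theorem mul_m (x y : TB c) : (x * y).m = x.m + y.u * x.s + y.m := rfl
@[simp] theorem mul_n (x y : TB c) : (x * y).n = x.n + y.v * x.s + y.n := rfl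
@[simp] theorem mul_r (x y : TB c) : (x * y).r =
  x.r + (y.u * x.n + y.v * x.m) + (y.u ^ 2 + y.u * y.v + c * y.v ^ 2) * x.s + y.r := rfl
@[simp] theorem inv_u (x : TB c) : (x⁻¹).u = x.u := rfl
@[simp] theorem inv_v (x : TB c) : (x⁻¹).v = x.v := rfl
@[simp] theorem inv_s (x : TB c) : (x⁻¹).s = x.s := rfl
@[simp] theorem inv_m (x : TB c) : (x⁻¹).m = x.m + x.u * x.s := rfl
@[simp] theorem inv_n (x : TB c) : (x⁻¹).n = x.n + x.v * x.s := rfl
@[simp] theorem inv_r (x : TB c) : (x⁻¹).r =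
  x.r + (x.u * x.n + x.v * x.m) + (x.u ^ 2 + x.u * x.v + c * x.v ^ 2) * x.s := rfl

/-- the coordinates as a tuple -/
def equivProd : TB c ≃ F × F × F × F × F × F where
  toFun x := (x.u, x.v, x.s, x.m, x.n, x.r)
  invFun y := ⟨y.1, y.2.1, y.2.2.1, y.2.2.2.1, y.2.2.2.2.1, y.2.2.2.2.2⟩
  left_inv _ := rfl
  right_inv _ := rfl

instance [Finite F] : Finite (TB c) := Finite.of_equiv _ (equivProd (c := c)).symm

theorem card_TB : Nat.card (TB c) = Nat.card F ^ 6 := by
  rw [Nat.card_congr (equivProd (c := c))]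
  simp only [Nat.card_prod]
  ring

end basic

variable [CharP F 2]

theorem add_self (x : F) : x + x = 0 := CharTwo.add_self_eq_zero x

theorem two_eq : (2 : F) = 0 := CharTwo.two_eq_zero

theorem eq_of_add {x y : F} (h : x + y = 0) : x = y := by
  linear_combination h - y * two_eq (F := F)

variable {c : F}

instance : Group (TB c) :=
  Group.ofLeftAxioms
    (by
      intro x y z
      have h2 := two_eq (F := F)
      ext
      · simp only [mul_u]; ring
      · simp only [mul_v]; ring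
      · simp only [mul_s]; ring
      · simp only [mul_m, mul_s, mul_u]; ring
      · simp only [mul_n, mul_s, mul_v]; ring
      · simp only [mul_r, mul_n, mul_m, mul_s, mul_u, mul_v]
        linear_combination (-(x.s * y.u * z.u) - c * y.v * z.v * x.s) * h2)
    (by
      intro x
      ext <;> simp)
    (by
      intro x
      have h2 := two_eq (F := F)
      ext
      · simp only [mul_u, inv_u, one_u]; exact add_self _
      · simp only [mul_v, inv_v, one_v]; exact add_self _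
      · simp only [mul_s, inv_s, one_s]; exact add_self _
      · simp only [mul_m, inv_m, inv_s, one_m]; linear_combination (x.m + x.u * x.s) * h2
      · simp only [mul_n, inv_n, inv_s, one_n]; linear_combination (x.n + x.v * x.s) * h2
      · simp only [mul_r, inv_r, inv_n, inv_m, inv_s, one_r]
        linear_combination (x.r + (x.u * x.n + x.v * x.m) + 2 * x.u * x.v * x.s + x.u ^ 2 * x.s + c * x.v ^ 2 * x.s) * h2)

/-! ### semilinear automorphisms -/

/-- the automorphism `(u,v;s,m,n,r) ↦ (σu+δσv, σv; σs, σm+δσn, σn, σr)` -/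
def phi (σ : F ≃+* F) (δ : F) (h : σ c = c + δ + δ ^ 2) : TB c →* TB c where
  toFun x := ⟨σ x.u + δ * σ x.v, σ x.v, σ x.s, σ x.m + δ * σ x.n, σ x.n, σ x.r⟩
  map_one' := by ext <;> simp
  map_mul' x y := by
    have h2 := two_eq (F := F)
    ext
    · simp only [mul_u, mul_v, map_add]; ring
    · simp only [mul_v, map_add]
    · simp only [mul_s, map_add]
    · simp only [mul_m, mul_n, map_add, map_mul]; ring
    · simp only [mul_n, map_add, map_mul]
    · simp only [mul_r, map_add, map_mul, map_pow]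
      rw [h]
      linear_combination (-(δ * σ y.v * σ x.n) - δ * σ y.u * σ y.v * σ x.s) * h2

theorem phi_apply (σ : F ≃+* F) (δ : F) (h : σ c = c + δ + δ ^ 2) (x : TB c) :
    phi σ δ h x = ⟨σ x.u + δ * σ x.v, σ x.v, σ x.s, σ x.m + δ * σ x.n, σ x.n, σ x.r⟩ := rfl

/-- the action of `t` -/
def tau : TB c →* TB c := phi (RingEquiv.refl F) 1 (by
  show c = c + 1 + 1 ^ 2
  linear_combination (-1) * two_eq (F := F))

theorem tau_apply (x : TB c) : tau x = ⟨x.u + x.v, x.v, x.s, x.m + x.n, x.n, x.r⟩ := by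
  show phi _ _ _ x = _
  rw [phi_apply]
  simp

/-- **Hilbert 90** for the group `TB c` and a semilinear involution -/
theorem h90 {σ : F ≃+* F} {δ : F} (h : σ c = c + δ + δ ^ 2) (hσ2 : ∀ x, σ (σ x) = x) (hδ : σ δ = δ)
    (hH : ∀ a, σ a = a → ∃ b, b + σ b = a) {x : TB c} (hx : phi σ δ h x * x = 1) :
    ∃ y, phi σ δ h y * x = y := by
  have h2 := two_eq (F := F)
  obtain ⟨u, v, s, m, n, r⟩ := x
  have cu := congrArg TB.u hx
  have cv := congrArg TB.v hx
  have cs := congrArg TB.s hx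
  have cm := congrArg TB.m hx
  have cn := congrArg TB.n hx
  have cr := congrArg TB.r hx
  simp only [phi_apply, mul_u, mul_v, mul_s, mul_m, mul_n, mul_r, one_u, one_v, one_s, one_m, one_n, one_r]
    at cu cv cs cm cn cr
  have hv : σ v = v := eq_of_add cv
  have hs : σ s = s := eq_of_add cs
  obtain ⟨V, hV⟩ := hH v hv
  obtain ⟨S, hS⟩ := hH s hs
  obtain ⟨U, hU⟩ := hH (u + δ * σ V) (by
    simp only [map_add, map_mul, hσ2, hδ]
    linear_combination (δ) * hV + (1) * cu + (-δ) * hv + (-(σ V)*δ - u) * h2)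
  obtain ⟨N, hN⟩ := hH (n + v * σ S) (by
    simp only [map_add, map_mul, hσ2]
    linear_combination ((σ v)) * hS + (1) * cn + (-v) * hs + (s - (σ S)) * hv + (-n - (σ S)*v) * h2)
  obtain ⟨M, hM⟩ := hH (m + u * σ S + δ * σ N) (by
    simp only [map_add, map_mul, hσ2, hδ]
    linear_combination (δ) * hN + ((σ u)) * hS + (1) * cm + (-δ) * cn + (s - (σ S)) * cu + (-u + v*δ) * hs + (-s*δ + (σ S)*δ) * hv + (-m + n*δ - s*u - (σ N)*δ + (σ S)*v*δ) * h2)
  obtain ⟨R, hR⟩ := hH (r + (u * σ N + v * (σ M + δ * σ N)) + (u ^ 2 + u * v + c * v ^ 2) * σ S) (by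
    simp only [map_add, map_mul, map_pow, hσ2, hδ]
    rw [h]
    linear_combination (1) * cr + ((σ v)) * hM + ((σ u) + (σ v)*δ) * hN + (c*(σ v)^2 + (σ u)*(σ v) + (σ u)^2 + (σ v)^2*δ + (σ v)^2*δ^2) * hS + (-v) * cm + (-u) * cn + (n + s*(σ u) + s*(σ v) - s*(σ v)*δ - s*u - (σ N) - (σ S)*(σ u) - (σ S)*(σ v) + (σ S)*(σ v)*δ + (σ S)*u + (σ S)*v) * cu + (-c*v^2 + u*v - u^2) * hs + (c*s*(σ v) + c*s*v - c*(σ S)*(σ v) - c*(σ S)*v + m + 2*s*(σ v)*δ^2 - s*u + 2*s*u*δ + 2*s*v*δ^2 - (σ M) + (σ N)*δ - 2*(σ S)*(σ v)*δ^2 + 2*(σ S)*u - 2*(σ S)*u*δ - 2*(σ S)*v*δ^2) * hv + (-c*(σ S)*v^2 + m*v - r + s*u*v*δ + s*v^2*δ^2 - (σ M)*v - (σ S)*u*v*δ - (σ S)*u^2 - (σ S)*v^2*δ^2) * h2)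
  refine ⟨⟨U, V, S, M, N, R⟩, ?_⟩
  ext
  · simp only [phi_apply, mul_u]
    linear_combination (-1) * hU + ((σ U)) * h2
  · simp only [phi_apply, mul_v]
    linear_combination (-1) * hV + ((σ V)) * h2
  · simp only [phi_apply, mul_s]
    linear_combination (-1) * hS + ((σ S)) * h2
  · simp only [phi_apply, mul_m]
    linear_combination (-1) * hM + ((σ M)) * h2
  · simp only [phi_apply, mul_n]
    linear_combination (-1) * hN + ((σ N)) * h2
  · simp only [phi_apply, mul_r]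
    linear_combination (-1) * hR + ((σ R)) * h2

end Cfsg.Agent.StdSpFour.CaseBModel
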