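import Mathlib
import Cfsg.Agent.StdSpFour.Base

/-!
S1778, type Sp₄(q): commutator relations of the second layer (bb S1778, helper68 #5604, (4) and (5)).

`p' u := nb (p u) nb⁻¹` lies over `xa u`.  Main results: `p'` commutes with `q`, `p` commutes with `q`,
`[p', p] = zl`, and `exists_D`: `[p' u, xb s] = p (u s) w (u² s) zs (ε u s) zl (ε' u² s)`.
-/

set_option autoImplicit false

namespace Cfsg.Agent.StdSpFour.Comm

open Cfsg.Agent.StdSpFour Subgroup

variable {F G : Type*} [Field F] [Group G]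

/-! ### Generalities -/

section cj

/-- `x ^ g` -/
def cj (g x : G) : G := g⁻¹ * x * g

theorem cj_mul (g x y : G) : cj g (x * y) = cj g x * cj g y := by simp [cj, mul_assoc]

theorem cj_one (g : G) : cj g 1 = 1 := by simp [cj]

theorem cj_mul_left (g h x : G) : cj (g * h) x = cj h (cj g x) := by simp [cj, mul_assoc]

theorem cj_of_comm {g x : G} (h : Commute x g) : cj g x = x := by
  rw [cj, mul_assoc, h.eq, inv_mul_cancel_left]

theorem cj_of_eq {g x y : G} (h : x * g = g * y) : cj g x = y := by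
  rw [cj, mul_assoc, h, inv_mul_cancel_left]

theorem cj_inv {g x y : G} (h : cj g x = y) : cj g⁻¹ y = x := by
  rw [← h]; simp [cj, mul_assoc]

theorem comm_of_cj {g x : G} (h : cj g x = x) : Commute g x := by
  have h1 : g * cj g x = x * g := by simp [cj, mul_assoc]
  rw [h] at h1
  exact h1

theorem comm_of_cj_eq {g h x : G} (e : cj g x = cj h x) : Commute (g * h⁻¹) x := by
  apply comm_of_cj
  rw [cj_mul_left, e]
  exact cj_inv rfl

end cj

/-- `exists l, l' = 1 + l`, all nonzero -/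
theorem exists_units [CharP F 2] (hF : 4 ≤ Nat.card F) : ∃ l l' : Fˣ, (l' : F) = 1 + l := by
  have : Finite F := (Nat.card_pos_iff.1 (by omega)).2
  have hex : ∃ x : F, x ≠ 0 ∧ x ≠ 1 := by
    by_contra hcon
    push Not at hcon
    have : Nat.card F ≤ 2 := by
      have h1 : Set.univ ⊆ ({0, 1} : Set F) := by
        intro x _
        by_cases hx : x = 0
        · exact Or.inl hx
        · exact Or.inr (hcon x hx)
      have h2 := Set.ncard_le_ncard h1 (Set.toFinite _)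
      rw [Set.ncard_univ] at h2
      exact h2.trans (Set.ncard_insert_le _ _ |>.trans (by simp))
    omega
  obtain ⟨x, hx0, hx1⟩ := hex
  refine ⟨Units.mk0 x hx0, Units.mk0 (1 + x) ?_, rfl⟩
  intro h
  apply hx1
  have h2 : x = -1 := by linear_combination h
  rw [h2]
  exact CharTwo.neg_eq 1

/-- the elimination lemma -/
theorem kill {W : Subgroup G} {K : F → G} (hF : ∃ l l' : Fˣ, (l' : F) = 1 + l)
    (ha : ∀ (l : Fˣ) x, (K x)⁻¹ * K (l * x) ∈ W) (hc : ∀ x y, (K x * K y)⁻¹ * K (x + y) ∈ W) (x : F) :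
    K x ∈ W := by
  obtain ⟨l, l', hl⟩ := hF
  have a1 := ha l x
  have a2 := ha l' x
  have a3 := hc x (l * x)
  have e : x + l * x = l' * x := by rw [hl]; ring
  rw [e] at a3
  have h1 : (K (l * x))⁻¹ ∈ W := by
    have := mul_mem a3 (inv_mem a2)
    convert this using 1
    group
  have h2 := mul_mem (inv_mem h1) (inv_mem a1)
  convert h2 using 1
  group

/-! ### The base -/

section base

variable (B : Base F G)

theorem zero_of_add {f : F → G} (h : ∀ a b, f (a + b) = f a * f b) : f 0 = 1 := by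
  have := h 0 0
  rw [add_zero] at this
  exact left_eq_mul.1 this

theorem sq_of_add [CharP F 2] {f : F → G} (h : ∀ a b, f (a + b) = f a * f b) (a : F) : f a * f a = 1 := by
  rw [← h, CharTwo.add_self_eq_zero, zero_of_add h]

theorem inv_of_add [CharP F 2] {f : F → G} (h : ∀ a b, f (a + b) = f a * f b) (a : F) : (f a)⁻¹ = f a :=
  inv_eq_of_mul_eq_one_left (sq_of_add h a)

theorem comm_of_add {f : F → G} (h : ∀ a b, f (a + b) = f a * f b) (a b : F) : Commute (f a) (f b) := by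
  show f a * f b = f b * f a
  rw [← h, ← h, add_comm]

theorem t_inv : B.t⁻¹ = B.t := inv_eq_of_mul_eq_one_left B.tt

theorem xa_zero : B.xa 0 = 1 := zero_of_add B.xa_add
theorem xb_zero : B.xb 0 = 1 := zero_of_add B.xb_add
theorem zs_zero : B.zs 0 = 1 := zero_of_add B.zs_add
theorem zl_zero : B.zl 0 = 1 := zero_of_add B.zl_add

/-- `Z` -/
def Z : Subgroup G where
  carrier := {g | ∃ m r, g = B.zs m * B.zl r}
  mul_mem' := by
    rintro _ _ ⟨m, r, rfl⟩ ⟨m', r', rfl⟩
    refine ⟨m + m', r + r', ?_⟩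
    rw [B.zs_add, B.zl_add]
    have := (B.zs_zl m' r).eq
    calc B.zs m * B.zl r * (B.zs m' * B.zl r') = B.zs m * (B.zl r * B.zs m') * B.zl r' := by group
      _ = _ := by rw [← this]; group
  one_mem' := ⟨0, 0, by rw [zs_zero, zl_zero, one_mul]⟩
  inv_mem' := by
    rintro _ ⟨m, r, rfl⟩
    refine ⟨-m, -r, ?_⟩
    have h1 : B.zs (-m) * B.zs m = 1 := by rw [← B.zs_add, neg_add_cancel, zs_zero]
    have h2 : B.zl (-r) * B.zl r = 1 := by rw [← B.zl_add, neg_add_cancel, zl_zero]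
    rw [mul_inv_rev, ← eq_inv_of_mul_eq_one_left h1, ← eq_inv_of_mul_eq_one_left h2, (B.zs_zl _ _).eq]

theorem mem_Z {g : G} : g ∈ Z B ↔ ∃ m r, g = B.zs m * B.zl r := Iff.rfl

theorem zs_mem (m : F) : B.zs m ∈ Z B := ⟨m, 0, by rw [zl_zero, mul_one]⟩
theorem zl_mem (m : F) : B.zl m ∈ Z B := ⟨0, m, by rw [zs_zero, one_mul]⟩

/-- `Z_l` -/
def Zl : Subgroup G where
  carrier := {g | ∃ r, g = B.zl r}
  mul_mem' := by
    rintro _ _ ⟨r, rfl⟩ ⟨r', rfl⟩
    exact ⟨r + r', (B.zl_add _ _).symm⟩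
  one_mem' := ⟨0, (zl_zero B).symm⟩
  inv_mem' := by
    rintro _ ⟨r, rfl⟩
    refine ⟨-r, ?_⟩
    have h2 : B.zl (-r) * B.zl r = 1 := by rw [← B.zl_add, neg_add_cancel, zl_zero]
    rw [← eq_inv_of_mul_eq_one_left h2]

/-- `Z_s` -/
def Zs : Subgroup G where
  carrier := {g | ∃ r, g = B.zs r}
  mul_mem' := by
    rintro _ _ ⟨r, rfl⟩ ⟨r', rfl⟩
    exact ⟨r + r', (B.zs_add _ _).symm⟩
  one_mem' := ⟨0, (zs_zero B).symm⟩
  inv_mem' := by
    rintro _ ⟨r, rfl⟩
    refine ⟨-r, ?_⟩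
    have h2 : B.zs (-r) * B.zs r = 1 := by rw [← B.zs_add, neg_add_cancel, zs_zero]
    rw [← eq_inv_of_mul_eq_one_left h2]

/-- uniqueness in `Z` -/
theorem zz_inj {m r m' r' : F} (h : B.zs m * B.zl r = B.zs m' * B.zl r') : m = m' ∧ r = r' := by
  have h1 : B.zs (m - m') * B.zl (r - r') = 1 := by
    have e1 : B.zs m = B.zs (m - m') * B.zs m' := by rw [← B.zs_add, sub_add_cancel]
    have e2 : B.zl r = B.zl (r - r') * B.zl r' := by rw [← B.zl_add, sub_add_cancel]
    have h3 := (B.zs_zl m' (r - r')).eq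
    have h4 : B.zs (m - m') * B.zl (r - r') * (B.zs m' * B.zl r') = B.zs m' * B.zl r' := by
      calc B.zs (m - m') * B.zl (r - r') * (B.zs m' * B.zl r')
          = B.zs (m - m') * (B.zl (r - r') * B.zs m') * B.zl r' := by group
        _ = (B.zs (m - m') * B.zs m') * (B.zl (r - r') * B.zl r') := by rw [← h3]; group
        _ = _ := by rw [← e1, ← e2, h]
    exact mul_eq_right.1 h4
  have h2 := B.inj 0 0 (m - m') (r - r') (by rw [xa_zero, xb_zero, one_mul, one_mul]; exact h1)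
  exact ⟨sub_eq_zero.1 h2.2.2.1, sub_eq_zero.1 h2.2.2.2⟩

theorem zl_inj {r r' : F} (h : B.zl r = B.zl r') : r = r' :=
  (zz_inj B (m := 0) (m' := 0) (by rw [h])).2

theorem zs_inj {r r' : F} (h : B.zs r = B.zs r') : r = r' :=
  (zz_inj B (r := 0) (r' := 0) (by rw [h])).1

/-- `t z ∉ Z`, etc. -/
theorem t_xa_not_mem_Z {u : F} (h : B.xa u ∈ Z B) : u = 0 := by
  obtain ⟨m, r, e⟩ := h
  have h1 : B.zs m * B.zl r * (B.zs m * B.zl r)⁻¹ = 1 := mul_inv_cancel _
  obtain ⟨m', r', e'⟩ := inv_mem (show B.zs m * B.zl r ∈ Z B from ⟨m, r, rfl⟩)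
  have h2 := B.inj u 0 m' r' (by
    rw [xb_zero, mul_one, mul_assoc, ← e', e, mul_inv_cancel])
  exact h2.1

theorem t_mul_xa_not_mem {u : F} (h : B.t * B.xa u ∈ Z B) : False := by
  obtain ⟨m', r', e'⟩ := inv_mem h
  have h1 : B.xa u * (B.zs m' * B.zl r') = B.t := by
    rw [← e']
    have : (B.t * B.xa u)⁻¹ = (B.xa u)⁻¹ * B.t := by rw [mul_inv_rev, t_inv]
    rw [this, mul_inv_cancel_left]
  refine B.t_ne u 0 m' r' ?_
  rw [xb_zero, mul_one, mul_assoc]
  exact h1

theorem cj_nb_t : MulAut.conj B.nb B.t = B.t := by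
  rw [MulAut.conj_apply, ← B.t_nb.eq, mul_inv_cancel_right]
theorem cj_nb_xa (u : F) : MulAut.conj B.nb (B.xa u) = B.zs u := by
  rw [MulAut.conj_apply, B.nb_xa, mul_inv_cancel_right]
theorem cj_nb_zs (u : F) : MulAut.conj B.nb (B.zs u) = B.xa u := by
  rw [MulAut.conj_apply, B.nb_zs, mul_inv_cancel_right]
theorem cj_nb_zl (u : F) : MulAut.conj B.nb (B.zl u) = B.zl u := by
  rw [MulAut.conj_apply, B.nb_zl, mul_inv_cancel_right]
theorem cj_nb_h (α β : Fˣ) : MulAut.conj B.nb (B.h α β) = B.h (α * β) β⁻¹ := by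
  rw [MulAut.conj_apply, B.nb_h, mul_inv_cancel_right]

theorem cj_h_t (α β : Fˣ) : MulAut.conj (B.h α β) B.t = B.t := by
  rw [MulAut.conj_apply, ← (B.t_h α β).eq, mul_inv_cancel_right]
theorem cj_h_xa (α β : Fˣ) (u : F) : MulAut.conj (B.h α β) (B.xa u) = B.xa (α * u) := by
  rw [MulAut.conj_apply, B.h_xa, mul_inv_cancel_right]
theorem cj_h_xb (α β : Fˣ) (u : F) : MulAut.conj (B.h α β) (B.xb u) = B.xb (β * u) := by
  rw [MulAut.conj_apply, B.h_xb, mul_inv_cancel_right]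
theorem cj_h_zs (α β : Fˣ) (u : F) : MulAut.conj (B.h α β) (B.zs u) = B.zs (α * β * u) := by
  rw [MulAut.conj_apply, B.h_zs, mul_inv_cancel_right]
theorem cj_h_zl (α β : Fˣ) (u : F) : MulAut.conj (B.h α β) (B.zl u) = B.zl (α ^ 2 * β * u) := by
  rw [MulAut.conj_apply, B.h_zl, mul_inv_cancel_right]

end base

/-! ### The short layer -/

section short

variable {B : Base F G} (S : ShortLayer B)

/-- the elements over `xa` -/
def p' (u : F) : G := MulAut.conj B.nb (S.p u)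

theorem p'_fold (u : F) : MulAut.conj B.nb (S.p u) = p' S u := rfl

theorem p'_eq (u : F) : p' S u = B.nb * S.p u * B.nb⁻¹ := rfl

theorem p'_zero : p' S 0 = 1 := by rw [p', S.p_zero, map_one]

theorem t_p' (m : F) : B.t * p' S m = p' S m * B.t * B.xa m := by
  have := congrArg (MulAut.conj B.nb) (S.t_p m)
  simpa only [map_mul, cj_nb_t, cj_nb_zs, p'_fold] using this

theorem p'_xa (m s : F) : Commute (p' S m) (B.xa s) := by
  have := (S.p_zs m s).map (MulAut.conj B.nb)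
  simpa only [cj_nb_zs, p'_fold] using this

theorem p'_zl (m s : F) : Commute (p' S m) (B.zl s) := by
  have := (S.p_zl m s).map (MulAut.conj B.nb)
  simpa only [cj_nb_zl, p'_fold] using this

theorem p'_p' (m s : F) : Commute (p' S m) (p' S s) := by
  have := (S.p_p m s).map (MulAut.conj B.nb)
  simpa only [p'_fold] using this

theorem p'_add (m m' : F) : ∃ k, p' S m * p' S m' = p' S (m + m') * B.xa k := by
  obtain ⟨k, hk⟩ := S.p_add m m'
  refine ⟨k, ?_⟩
  have := congrArg (MulAut.conj B.nb) hk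
  simpa only [map_mul, cj_nb_zs, p'_fold] using this

theorem p'_sq (m : F) : p' S m * p' S m = B.xa (S.c * m) := by
  have := congrArg (MulAut.conj B.nb) (S.p_sq m)
  simpa only [map_mul, cj_nb_zs, p'_fold] using this

theorem zs_p' (u m : F) : B.zs u * p' S m = p' S m * B.zs u * B.zl (S.e * u * m) := by
  have := congrArg (MulAut.conj B.nb) (S.xa_p u m)
  simpa only [map_mul, cj_nb_xa, cj_nb_zl, p'_fold] using this

theorem h_p' (α β : Fˣ) (m : F) : B.h α β * p' S m = p' S (α * m) * B.h α β := by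
  have := congrArg (MulAut.conj B.nb) (S.h_p (α * β) β⁻¹ m)
  simp only [map_mul, cj_nb_h, p'_fold] at this
  have e1 : α * β * β⁻¹ = α := by group
  have e2 : ((α * β : Fˣ) : F) * ((β⁻¹ : Fˣ) : F) * m = α * m := by
    rw [← Units.val_mul, e1]
  rw [e1, inv_inv, e2] at this
  exact this

theorem cj_h_p (α β : Fˣ) (m : F) : MulAut.conj (B.h α β) (S.p m) = S.p (α * β * m) := by
  rw [MulAut.conj_apply, S.h_p, mul_inv_cancel_right]

theorem cj_h_p' (α β : Fˣ) (m : F) : MulAut.conj (B.h α β) (p' S m) = p' S (α * m) := by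
  rw [MulAut.conj_apply, h_p', mul_inv_cancel_right]

/-! conjugation by `p`, `p'` -/

theorem cp_t (m : F) : cj (S.p m) B.t = B.t * B.zs m := cj_of_eq (by rw [S.t_p, mul_assoc])
theorem cp_xa (m u : F) : cj (S.p m) (B.xa u) = B.xa u * B.zl (S.e * u * m) :=
  cj_of_eq (by rw [S.xa_p, mul_assoc])
theorem cp_xb (m u : F) : cj (S.p m) (B.xb u) = B.xb u := cj_of_comm (S.p_xb m u).symm
theorem cp_zs (m u : F) : cj (S.p m) (B.zs u) = B.zs u := cj_of_comm (S.p_zs m u).symm
theorem cp_zl (m u : F) : cj (S.p m) (B.zl u) = B.zl u := cj_of_comm (S.p_zl m u).symm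

theorem cp'_t (m : F) : cj (p' S m) B.t = B.t * B.xa m := cj_of_eq (by rw [t_p', mul_assoc])
theorem cp'_zs (m u : F) : cj (p' S m) (B.zs u) = B.zs u * B.zl (S.e * u * m) :=
  cj_of_eq (by rw [zs_p', mul_assoc])
theorem cp'_xa (m u : F) : cj (p' S m) (B.xa u) = B.xa u := cj_of_comm (p'_xa S m u).symm
theorem cp'_zl (m u : F) : cj (p' S m) (B.zl u) = B.zl u := cj_of_comm (p'_zl S m u).symm

theorem cpi_zs (m u : F) : cj (S.p m)⁻¹ (B.zs u) = B.zs u := cj_inv (cp_zs S m u)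
theorem cpi_zl (m u : F) : cj (S.p m)⁻¹ (B.zl u) = B.zl u := cj_inv (cp_zl S m u)
theorem cpi_xb (m u : F) : cj (S.p m)⁻¹ (B.xb u) = B.xb u := cj_inv (cp_xb S m u)
theorem cp'i_xa (m u : F) : cj (p' S m)⁻¹ (B.xa u) = B.xa u := cj_inv (cp'_xa S m u)
theorem cp'i_zl (m u : F) : cj (p' S m)⁻¹ (B.zl u) = B.zl u := cj_inv (cp'_zl S m u)

section two

variable [CharP F 2]

theorem cpi_t (m : F) : cj (S.p m)⁻¹ B.t = B.t * B.zs m := by
  apply cj_inv
  rw [cj_mul, cp_t, cp_zs, mul_assoc, sq_of_add B.zs_add, mul_one]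
theorem cpi_xa (m u : F) : cj (S.p m)⁻¹ (B.xa u) = B.xa u * B.zl (S.e * u * m) := by
  apply cj_inv
  rw [cj_mul, cp_xa, cp_zl, mul_assoc, sq_of_add B.zl_add, mul_one]

theorem cp'i_t (m : F) : cj (p' S m)⁻¹ B.t = B.t * B.xa m := by
  apply cj_inv
  rw [cj_mul, cp'_t, cp'_xa, mul_assoc, sq_of_add B.xa_add, mul_one]
theorem cp'i_zs (m u : F) : cj (p' S m)⁻¹ (B.zs u) = B.zs u * B.zl (S.e * u * m) := by
  apply cj_inv
  rw [cj_mul, cp'_zs, cp'_zl, mul_assoc, sq_of_add B.zl_add, mul_one]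

end two

end short

/-! ### The long layer -/

section long

variable {B : Base F G} (L : LongLayer B)

theorem cj_h_q (α β : Fˣ) (r : F) : MulAut.conj (B.h α β) (L.q r) = L.q (α ^ 2 * β * r) := by
  rw [MulAut.conj_apply, L.h_q, mul_inv_cancel_right]

theorem cq_t (r : F) : cj (L.q r) B.t = B.t * B.zl r := cj_of_eq (by rw [L.t_q, mul_assoc])
theorem cq_xa (r u : F) : cj (L.q r) (B.xa u) = B.xa u := cj_of_comm (L.q_xa r u).symm
theorem cq_zs (r u : F) : cj (L.q r) (B.zs u) = B.zs u := cj_of_comm (L.q_zs r u).symm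
theorem cq_zl (r u : F) : cj (L.q r) (B.zl u) = B.zl u := cj_of_comm (L.q_zl r u).symm
theorem cq_xb (r s : F) : cj (L.q (r ^ 2)) (B.xb (s ^ 2)) = B.xb (s ^ 2) * B.zs (L.e * (s * r)) :=
  cj_of_eq (by rw [L.xb_q, mul_assoc])

theorem exists_sqrt [CharP F 2] [Finite F] (x : F) : ∃ y, x = y ^ 2 := by
  obtain ⟨y, hy⟩ := (frobeniusEquiv F 2).surjective x
  exact ⟨y, by rw [← hy, frobeniusEquiv_def]⟩

theorem cq_xb' [CharP F 2] [Finite F] (r s : F) : ∃ k, cj (L.q r) (B.xb s) = B.xb s * B.zs k := by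
  obtain ⟨r, rfl⟩ := exists_sqrt r
  obtain ⟨s, rfl⟩ := exists_sqrt s
  exact ⟨_, cq_xb L r s⟩

end long

/-! ### Elements of `⟨t⟩ V₂` -/

section form

variable {B : Base F G}

/-- `c = 1` or `c = t` -/
def Tau (B : Base F G) (c : G) : Prop := c = 1 ∨ c = B.t

theorem Tau.comm {c x : G} (h : Tau B c) (hx : Commute B.t x) : Commute c x := by
  rcases h with rfl | rfl
  · exact Commute.one_left x
  · exact hx

theorem Tau.sq {c : G} (h : Tau B c) : c * c = 1 := by
  rcases h with rfl | rfl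
  · exact mul_one 1
  · exact B.tt

theorem form2 (hB : B.Self) {g : G} (h1 : Commute g B.t) (h2 : ∀ u, Commute g (B.xa u))
    (h3 : ∀ u, Commute g (B.zs u)) (h4 : ∀ u, Commute g (B.zl u)) :
    ∃ c u m r, Tau B c ∧ g = c * (B.xa u * B.zs m * B.zl r) := by
  obtain ⟨u, m, r, h | h⟩ := hB.cent2 g h1 h2 h3 h4
  · exact ⟨1, u, m, r, Or.inl rfl, by rw [h, one_mul]⟩
  · exact ⟨B.t, u, m, r, Or.inr rfl, h⟩

theorem xa_mul_xb (B : Base F G) (u s : F) : B.xa u * B.xb s = B.xb s * B.xa u * B.zs (u * s) * B.zl (u ^ 2 * s) :=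
  B.xa_xb u s

/-- an element of `⟨t⟩V₂` commuting with `xb 1` lies in `⟨t⟩Z` -/
theorem formZ (hB : B.Self) {g : G} (h1 : Commute g B.t) (h2 : ∀ u, Commute g (B.xa u))
    (h3 : ∀ u, Commute g (B.zs u)) (h4 : ∀ u, Commute g (B.zl u)) (h5 : Commute g (B.xb 1)) :
    ∃ c m r, Tau B c ∧ g = c * (B.zs m * B.zl r) := by
  obtain ⟨c, u, m, r, hc, rfl⟩ := form2 hB h1 h2 h3 h4
  have h6 : Commute c (B.xb 1) := hc.comm (B.t_xb 1)
  have h7 : Commute (B.xa u * B.zs m * B.zl r) (B.xb 1) := by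
    have := (h6.inv_left).mul_left h5
    rwa [inv_mul_cancel_left] at this
  have h8 : Commute (B.xa u) (B.xb 1) := by
    have h9 : Commute (B.zs m * B.zl r) (B.xb 1) := ((B.xb_zs 1 m).symm).mul_left ((B.xb_zl 1 r).symm)
    have := h7.mul_left h9.inv_left
    rw [mul_assoc (B.xa u), mul_assoc, mul_inv_cancel, mul_one] at this
    exact this
  have h9 := B.xa_xb u 1
  rw [h8.eq] at h9
  have h10 : B.zs (u * 1) * B.zl (u ^ 2 * 1) = 1 := by
    have : B.xb 1 * B.xa u * (B.zs (u * 1) * B.zl (u ^ 2 * 1)) = B.xb 1 * B.xa u := by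
      rw [← mul_assoc]; exact h9.symm
    exact mul_eq_left.1 this
  have h11 := B.inj 0 0 (u * 1) (u ^ 2 * 1) (by rw [xa_zero, xb_zero, one_mul, one_mul]; exact h10)
  have hu : u = 0 := by simpa using h11.2.2.1
  subst hu
  exact ⟨c, m, r, hc, by rw [xa_zero, one_mul]⟩

end form

/-! ### calculus in `⟨t⟩V₂` -/

section calc2

variable {B : Base F G}

/-- elements of `⟨t⟩V₂` -/
def TV (B : Base F G) (g : G) : Prop := ∃ c u a b, Tau B c ∧ g = c * (B.xa u * B.zs a * B.zl b)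

/-- elements of `⟨t⟩Z` -/
def TZ (B : Base F G) (g : G) : Prop := ∃ c a b, Tau B c ∧ g = c * (B.zs a * B.zl b)

theorem TZ.TV {g : G} (h : TZ B g) : TV B g := by
  obtain ⟨c, a, b, hc, rfl⟩ := h
  exact ⟨c, 0, a, b, hc, by rw [xa_zero, one_mul]⟩

theorem TZ.of_mem {g : G} (h : g ∈ Z B) : TZ B g := by
  obtain ⟨a, b, rfl⟩ := h
  exact ⟨1, a, b, Or.inl rfl, by rw [one_mul]⟩

theorem TV.comm_gen {g x : G} (h : TV B g) (h1 : Commute B.t x) (h2 : ∀ u, Commute (B.xa u) x)
    (h3 : ∀ u, Commute (B.zs u) x) (h4 : ∀ u, Commute (B.zl u) x) : Commute g x := by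
  obtain ⟨c, u, a, b, hc, rfl⟩ := h
  exact (hc.comm h1).mul_left (((h2 u).mul_left (h3 a)).mul_left (h4 b))

theorem TV.comm_t {g : G} (h : TV B g) : Commute g B.t :=
  h.comm_gen (Commute.refl _) (fun u => (B.t_xa u).symm) (fun u => (B.t_zs u).symm) (fun u => (B.t_zl u).symm)
theorem TV.comm_xa {g : G} (h : TV B g) (v : F) : Commute g (B.xa v) :=
  h.comm_gen (B.t_xa v) (fun u => comm_of_add B.xa_add _ _) (fun u => (B.xa_zs v u).symm)
    (fun u => (B.xa_zl v u).symm)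
theorem TV.comm_zs {g : G} (h : TV B g) (v : F) : Commute g (B.zs v) :=
  h.comm_gen (B.t_zs v) (fun u => B.xa_zs u v) (fun u => comm_of_add B.zs_add _ _) (fun u => (B.zs_zl v u).symm)
theorem TV.comm_zl {g : G} (h : TV B g) (v : F) : Commute g (B.zl v) :=
  h.comm_gen (B.t_zl v) (fun u => B.xa_zl u v) (fun u => B.zs_zl u v) (fun u => comm_of_add B.zl_add _ _)

theorem TV.comm {g h : G} (hg : TV B g) (hh : TV B h) : Commute g h := by
  obtain ⟨c, u, a, b, hc, rfl⟩ := hh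
  exact ((hc.comm hg.comm_t.symm).symm).mul_right (((hg.comm_xa u).mul_right (hg.comm_zs a)).mul_right (hg.comm_zl b))

theorem TV.comm_Z {g h : G} (hg : TV B g) (hh : h ∈ Z B) : Commute g h := hg.comm (TZ.of_mem hh).TV

theorem diff2 (c : G) (u a b a' b' : F) :
    (c * (B.xa u * B.zs a * B.zl b))⁻¹ * (c * (B.xa u * B.zs a' * B.zl b')) = B.zs (a' - a) * B.zl (b' - b) := by
  have e1 : B.zs a' = B.zs a * B.zs (a' - a) := by rw [← B.zs_add]; congr 1; ring
  have e2 : B.zl b' = B.zl b * B.zl (b' - b) := by rw [← B.zl_add]; congr 1; ring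
  have h3 := (B.zs_zl (a' - a) b).eq
  rw [e1, e2]
  calc (c * (B.xa u * B.zs a * B.zl b))⁻¹ * (c * (B.xa u * (B.zs a * B.zs (a' - a)) * (B.zl b * B.zl (b' - b))))
      = (B.zl b)⁻¹ * (B.zs (a' - a) * B.zl b) * B.zl (b' - b) := by group
    _ = B.zs (a' - a) * B.zl (b' - b) := by rw [h3]; group

theorem diffZ (c : G) (a b a' b' : F) :
    (c * (B.zs a * B.zl b))⁻¹ * (c * (B.zs a' * B.zl b')) = B.zs (a' - a) * B.zl (b' - b) := by
  have := diff2 (B := B) c 0 a b a' b'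
  simpa only [xa_zero, one_mul] using this

/-- conjugation with `g` which moves `t` by an element of `W` and also `V₂` -/
theorem TV.conj {g h : G} {W : Subgroup G} (hW : W ≤ Z B) (hg : TV B g) (h1 : ∃ w ∈ W, h * B.t * h⁻¹ = B.t * w)
    (h2 : ∀ u, ∃ w ∈ W, h * B.xa u * h⁻¹ = B.xa u * w) (h3 : ∀ u, ∃ w ∈ W, h * B.zs u * h⁻¹ = B.zs u * w)
    (h4 : ∀ u, ∃ w ∈ W, h * B.zl u * h⁻¹ = B.zl u * w) : ∃ w ∈ W, h * g * h⁻¹ = g * w := by
  obtain ⟨c, u, a, b, hc, rfl⟩ := hg
  obtain ⟨w1, hw1, e1⟩ : ∃ w ∈ W, h * c * h⁻¹ = c * w := by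
    rcases hc with rfl | rfl
    · exact ⟨1, one_mem _, by group⟩
    · exact h1
  obtain ⟨w2, hw2, e2⟩ := h2 u
  obtain ⟨w3, hw3, e3⟩ := h3 a
  obtain ⟨w4, hw4, e4⟩ := h4 b
  refine ⟨w1 * w2 * w3 * w4, mul_mem (mul_mem (mul_mem hw1 hw2) hw3) hw4, ?_⟩
  have f1 : ∀ x, TV B x → x * w1 = w1 * x := fun x hx => (hx.comm_Z (hW hw1)).eq
  have f2 : ∀ x, TV B x → x * w2 = w2 * x := fun x hx => (hx.comm_Z (hW hw2)).eq
  have f3 : ∀ x, TV B x → x * w3 = w3 * x := fun x hx => (hx.comm_Z (hW hw3)).eq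
  have gx : TV B (B.xa u) := ⟨1, u, 0, 0, Or.inl rfl, by rw [zs_zero, zl_zero]; group⟩
  have gz : TV B (B.zs a) := ⟨1, 0, a, 0, Or.inl rfl, by rw [xa_zero, zl_zero]; group⟩
  have gl : TV B (B.zl b) := ⟨1, 0, 0, b, Or.inl rfl, by rw [xa_zero, zs_zero]; group⟩
  calc h * (c * (B.xa u * B.zs a * B.zl b)) * h⁻¹
      = (h * c * h⁻¹) * ((h * B.xa u * h⁻¹) * (h * B.zs a * h⁻¹) * (h * B.zl b * h⁻¹)) := by group
    _ = c * (w1 * B.xa u) * (w2 * B.zs a) * (w3 * B.zl b) * w4 := by rw [e1, e2, e3, e4]; group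
    _ = c * B.xa u * (w1 * B.zs a) * (w2 * B.zl b) * w3 * w4 := by
        rw [← f1 _ gx, ← f2 _ gz, ← f3 _ gl]; group
    _ = c * B.xa u * B.zs a * (w1 * B.zl b) * w2 * w3 * w4 := by
        rw [← f1 _ gz, ← f2 _ gl]; group
    _ = _ := by rw [← f1 _ gl]; group

theorem comm_left (g g' h : G) :
    g * g' * h * (h * (g * g'))⁻¹ = g * (g' * h * (h * g')⁻¹) * g⁻¹ * (g * h * (h * g)⁻¹) := by group
theorem comm_right (g h h' : G) :
    g * (h * h') * (h * h' * g)⁻¹ = (g * h * (h * g)⁻¹) * (h * (g * h' * (h' * g)⁻¹) * h⁻¹) := by group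
theorem absorb_left {g h z : G} (hz : Commute z h) : g * z * h * (h * (g * z))⁻¹ = g * h * (h * g)⁻¹ := by
  have h1 : z * h * z⁻¹ = h := by rw [hz.eq]; group
  calc g * z * h * (h * (g * z))⁻¹ = g * (z * h * z⁻¹) * g⁻¹ * h⁻¹ := by group
    _ = _ := by rw [h1]; group
theorem absorb_right {g h z : G} (hz : Commute g z) : g * (h * z) * (h * z * g)⁻¹ = g * h * (h * g)⁻¹ := by
  have h1 : z * g⁻¹ * z⁻¹ = g⁻¹ := by
    rw [← hz.inv_left.eq]; group
  calc g * (h * z) * (h * z * g)⁻¹ = g * h * (z * g⁻¹ * z⁻¹) * h⁻¹ := by group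
    _ = _ := by rw [h1]; group

theorem Zs_le : Zs B ≤ Z B := by
  rintro _ ⟨r, rfl⟩
  exact zs_mem B r
theorem Zl_le : Zl B ≤ Z B := by
  rintro _ ⟨r, rfl⟩
  exact zl_mem B r

theorem conj_of_cj {h x y : G} (e : cj h⁻¹ x = y) : h * x * h⁻¹ = y := by
  rw [cj, inv_inv] at e
  exact e

theorem TV.conj_p [CharP F 2] (S : ShortLayer B) {g : G} (hg : TV B g) (m : F) :
    ∃ w ∈ Z B, S.p m * g * (S.p m)⁻¹ = g * w :=
  hg.conj le_rfl ⟨_, zs_mem B m, conj_of_cj (cpi_t S m)⟩ (fun _ => ⟨_, zl_mem B _, conj_of_cj (cpi_xa S m _)⟩)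
    (fun u => ⟨1, one_mem _, by rw [mul_one]; exact conj_of_cj (cpi_zs S m u)⟩)
    (fun u => ⟨1, one_mem _, by rw [mul_one]; exact conj_of_cj (cpi_zl S m u)⟩)

theorem TZ.conj_p [CharP F 2] (S : ShortLayer B) {g : G} (hg : TZ B g) (m : F) :
    ∃ w ∈ Zs B, S.p m * g * (S.p m)⁻¹ = g * w := by
  obtain ⟨c, a, b, hc, rfl⟩ := hg
  have h1 : ∀ x : G, Commute (S.p m) x → S.p m * (c * x) * (S.p m)⁻¹ = S.p m * c * (S.p m)⁻¹ * x := by
    intro x hx
    have h2 : S.p m * x * (S.p m)⁻¹ = x := by rw [hx.eq]; group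
    calc S.p m * (c * x) * (S.p m)⁻¹ = S.p m * c * (S.p m)⁻¹ * (S.p m * x * (S.p m)⁻¹) := by group
      _ = _ := by rw [h2]
  have h3 : Commute (S.p m) (B.zs a * B.zl b) := (S.p_zs m a).mul_right (S.p_zl m b)
  rw [h1 _ h3]
  rcases hc with rfl | rfl
  · exact ⟨1, one_mem _, by group⟩
  · rw [conj_of_cj (cpi_t S m)]
    refine ⟨B.zs m, ⟨m, rfl⟩, ?_⟩
    have h4 : Commute (B.zs m) (B.zs a * B.zl b) := (comm_of_add B.zs_add _ _).mul_right (B.zs_zl m b)
    rw [mul_assoc, h4.eq]; group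

theorem TV.conj_q [CharP F 2] (L : LongLayer B) {g : G} (hg : TV B g) (m : F) :
    ∃ w ∈ Zl B, L.q m * g * (L.q m)⁻¹ = g * w := by
  have h0 : cj (L.q m)⁻¹ B.t = B.t * B.zl m := by
    apply cj_inv
    rw [cj_mul, cq_t, cq_zl, mul_assoc, sq_of_add B.zl_add, mul_one]
  exact hg.conj Zl_le ⟨_, ⟨m, rfl⟩, conj_of_cj h0⟩
    (fun u => ⟨1, one_mem _, by rw [mul_one]; exact conj_of_cj (cj_inv (cq_xa L m u))⟩)
    (fun u => ⟨1, one_mem _, by rw [mul_one]; exact conj_of_cj (cj_inv (cq_zs L m u))⟩)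
    (fun u => ⟨1, one_mem _, by rw [mul_one]; exact conj_of_cj (cj_inv (cq_zl L m u))⟩)

theorem Tau.cj_h {c : G} (hc : Tau B c) (α β : Fˣ) : MulAut.conj (B.h α β) c = c := by
  rcases hc with rfl | rfl
  · exact map_one _
  · exact cj_h_t B _ _

/-- weights of the torus elements used -/
theorem wt1 (l : Fˣ) (x : F) : ((l⁻¹ : Fˣ) : F) * ((l ^ 2 : Fˣ) : F) * x = l * x := by
  rw [← Units.val_mul]; congr 2; group
theorem wt2 (l : Fˣ) (x : F) : ((l⁻¹ : Fˣ) : F) ^ 2 * ((l ^ 2 : Fˣ) : F) * x = x := by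
  rw [← Units.val_pow_eq_pow_val, ← Units.val_mul]
  have : (l⁻¹) ^ 2 * l ^ 2 = 1 := by group
  rw [this, Units.val_one, one_mul]
theorem wt3 (l : Fˣ) (x : F) : (l : F) * ((l⁻¹ : Fˣ) : F) * x = x := by
  rw [← Units.val_mul, mul_inv_cancel, Units.val_one, one_mul]
theorem wt4 (l : Fˣ) (x : F) : (l : F) ^ 2 * ((l⁻¹ : Fˣ) : F) * x = l * x := by
  rw [pow_two, mul_assoc (l : F), ← Units.val_mul, mul_inv_cancel, Units.val_one, mul_one]
theorem wt5 (l : Fˣ) (x : F) : ((1 : Fˣ) : F) * (l : F) * x = l * x := by rw [Units.val_one, one_mul]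
theorem wt6 (l : Fˣ) (x : F) : ((1 : Fˣ) : F) ^ 2 * (l : F) * x = l * x := by rw [Units.val_one]; ring

end calc2

/-! ### `p` and `q` commute -/

section both

variable {B : Base F G} [CharP F 2] [Finite F]

theorem comm_p_q (hF : 4 ≤ Nat.card F) (hB : B.Self) (S : ShortLayer B) (L : LongLayer B) (m r : F) :
    Commute (S.p m) (L.q r) := by
  have hl := exists_units hF
  -- the commutator
  let K : F → F → G := fun m r => S.p m * L.q r * (L.q r * S.p m)⁻¹
  have hK : ∀ m r, TZ B (K m r) := by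
    intro m r
    apply formZ hB
    · apply comm_of_cj_eq
      rw [cj_mul_left, cj_mul_left, cp_t, cq_t, cj_mul, cj_mul, cq_t, cq_zs, cp_t, cp_zl, mul_assoc, mul_assoc,
        (B.zs_zl m r).eq]
    · intro u
      apply comm_of_cj_eq
      rw [cj_mul_left, cj_mul_left, cp_xa, cq_xa, cj_mul, cq_xa, cq_zl, cp_xa]
    · intro u
      apply comm_of_cj_eq
      rw [cj_mul_left, cj_mul_left, cp_zs, cq_zs, cp_zs]
    · intro u
      apply comm_of_cj_eq
      rw [cj_mul_left, cj_mul_left, cp_zl, cq_zl, cp_zl]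
    · apply comm_of_cj_eq
      obtain ⟨k, hk⟩ := cq_xb' L r 1
      rw [cj_mul_left, cj_mul_left, cp_xb, hk, cj_mul, cp_xb, cp_zs]
  have hh : ∀ (α β : Fˣ) m r, MulAut.conj (B.h α β) (K m r) = K (α * β * m) (α ^ 2 * β * r) := by
    intro α β m r
    simp only [K, map_mul, map_inv, cj_h_p, cj_h_q]
  -- first step
  have h1 : ∀ m r, K m r ∈ Zs B := by
    intro m r
    refine kill (W := Zs B) (K := fun m => K m r) hl ?_ ?_ m
    · intro l x
      obtain ⟨c, a, b, hc, e⟩ := hK x r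
      have h2 := hh l⁻¹ (l ^ 2) x r
      rw [wt1, wt2] at h2
      show (K x r)⁻¹ * K (l * x) r ∈ Zs B
      rw [← h2, e, map_mul, map_mul, hc.cj_h, cj_h_zs, cj_h_zl, wt2, diffZ, sub_self, zl_zero, mul_one]
      exact ⟨_, rfl⟩
    · intro x y
      obtain ⟨k, hk⟩ := S.p_add x y
      obtain ⟨w, hw, e⟩ := (hK y r).conj_p S x
      show (K x r * K y r)⁻¹ * K (x + y) r ∈ Zs B
      have e1 : K (x + y) r = K y r * w * K x r := by
        show S.p (x + y) * L.q r * (L.q r * S.p (x + y))⁻¹ = _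
        rw [← absorb_left ((L.q_zs r k).symm), ← hk, comm_left]
        show S.p x * K y r * (S.p x)⁻¹ * K x r = _
        rw [e]
      have e2 : w * K x r = K x r * w := ((hK x r).TV.comm_Z (Zs_le hw)).symm.eq
      have e3 : K x r * K y r = K y r * K x r := ((hK x r).TV.comm (hK y r).TV).eq
      rw [e1, e3, mul_assoc (K y r), e2]
      have : (K y r * K x r)⁻¹ * (K y r * (K x r * w)) = w := by group
      rw [this]
      exact hw
  -- second step
  have h2 : K m r ∈ (⊥ : Subgroup G) := by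
    refine kill (W := ⊥) (K := fun r => K m r) hl ?_ ?_ r
    · intro l x
      obtain ⟨a, e⟩ := h1 m x
      have h3 := hh l l⁻¹ m x
      rw [wt3, wt4] at h3
      show (K m x)⁻¹ * K m (l * x) ∈ (⊥ : Subgroup G)
      rw [← h3, e, cj_h_zs, wt3, inv_mul_cancel]
      exact one_mem _
    · intro x y
      obtain ⟨k, hk⟩ := L.q_add x y
      obtain ⟨a, e⟩ := h1 m y
      show (K m x * K m y)⁻¹ * K m (x + y) ∈ (⊥ : Subgroup G)
      have e1 : K m (x + y) = K m x * K m y := by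
        show S.p m * L.q (x + y) * (L.q (x + y) * S.p m)⁻¹ = _
        rw [← absorb_right (S.p_zl m k), ← hk, comm_right]
        show K m x * (L.q x * K m y * (L.q x)⁻¹) = _
        rw [e, (L.q_zs x a).eq]; group
      rw [e1, inv_mul_cancel]
      exact one_mem _
  rw [mem_bot] at h2
  exact mul_inv_eq_one.1 h2

/-- `nb` normalises `q r` modulo `Z_l` -/
theorem nb_q (hF : 4 ≤ Nat.card F) (hB : B.Self) (L : LongLayer B) (r : F) :
    ∃ k, MulAut.conj B.nb (L.q r) = B.zl k * L.q r := by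
  have hl := exists_units hF
  let K : F → G := fun r => MulAut.conj B.nb (L.q r) * (L.q r)⁻¹
  have hK0 : ∀ r, TV B (K r) := by
    intro r
    have f1 : B.t * MulAut.conj B.nb (L.q r) = MulAut.conj B.nb (L.q r) * B.t * B.zl r := by
      have := congrArg (MulAut.conj B.nb) (L.t_q r)
      simpa only [map_mul, cj_nb_t, cj_nb_zl] using this
    have f2 : ∀ u, Commute (MulAut.conj B.nb (L.q r)) (B.xa u) := by
      intro u
      have := (L.q_zs r u).map (MulAut.conj B.nb)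
      simpa only [cj_nb_zs] using this
    have f3 : ∀ u, Commute (MulAut.conj B.nb (L.q r)) (B.zs u) := by
      intro u
      have := (L.q_xa r u).map (MulAut.conj B.nb)
      simpa only [cj_nb_xa] using this
    have f4 : ∀ u, Commute (MulAut.conj B.nb (L.q r)) (B.zl u) := by
      intro u
      have := (L.q_zl r u).map (MulAut.conj B.nb)
      simpa only [cj_nb_zl] using this
    apply form2 hB
    · apply comm_of_cj_eq
      rw [cq_t, cj_of_eq (show B.t * MulAut.conj B.nb (L.q r) = MulAut.conj B.nb (L.q r) * (B.t * B.zl r) by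
        rw [f1, mul_assoc])]
    · intro u
      exact (f2 u).mul_left (L.q_xa r u).inv_left
    · intro u
      exact (f3 u).mul_left (L.q_zs r u).inv_left
    · intro u
      exact (f4 u).mul_left (L.q_zl r u).inv_left
  have hh : ∀ (α β : Fˣ) r, MulAut.conj (B.h α β) (K r) = K (α ^ 2 * β * r) := by
    intro α β r
    simp only [K, map_mul, map_inv, cj_h_q]
    congr 1
    have e1 : B.h α β * B.nb = B.nb * B.h (α * β) β⁻¹ := by
      have := B.nb_h (α * β) β⁻¹
      rw [inv_inv, mul_inv_cancel_right] at this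
      exact this.symm
    have e2 : MulAut.conj (B.h α β) (MulAut.conj B.nb (L.q r)) =
        MulAut.conj B.nb (MulAut.conj (B.h (α * β) β⁻¹) (L.q r)) := by
      rw [← MulAut.mul_apply, ← MulAut.mul_apply, ← map_mul, ← map_mul, e1]
    rw [e2, cj_h_q]
    congr 2
    have : ((α * β : Fˣ) : F) ^ 2 * ((β⁻¹ : Fˣ) : F) = α ^ 2 * β := by
      have h1 : (α * β) ^ 2 * β⁻¹ = α ^ 2 * β := by
        rw [mul_pow, pow_two β]; group
      have := congrArg (fun x : Fˣ => (x : F)) h1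
      simpa using this
    rw [this]
  -- components
  have hK : ∀ r, ∃ c b, Tau B c ∧ K r = c * B.zl b := by
    intro r
    obtain ⟨c, u, a, b, hc, e⟩ := hK0 r
    obtain ⟨l, l', hl'⟩ := exists_units hF
    have h1 := hh l'⁻¹ (l' ^ 2) r
    rw [wt2, e, map_mul, map_mul, map_mul, hc.cj_h, cj_h_xa, cj_h_zs, cj_h_zl, wt1, wt2] at h1
    have h2 := mul_left_cancel h1
    have h3 := mul_right_cancel h2
    have e3 : B.xa (((l'⁻¹ : Fˣ) : F) * u - u) * B.zs ((l' : F) * a - a) = 1 := by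
      have g1 : B.xa (((l'⁻¹ : Fˣ) : F) * u) = B.xa (((l'⁻¹ : Fˣ) : F) * u - u) * B.xa u := by
        rw [← B.xa_add, sub_add_cancel]
      have g2 : B.zs ((l' : F) * a) = B.zs ((l' : F) * a - a) * B.zs a := by
        rw [← B.zs_add, sub_add_cancel]
      rw [g1, g2] at h3
      have g3 := (B.xa_zs u ((l' : F) * a - a)).eq
      have g4 : B.xa (((l'⁻¹ : Fˣ) : F) * u - u) * B.zs ((l' : F) * a - a) * (B.xa u * B.zs a) = B.xa u * B.zs a := by
        calc B.xa (((l'⁻¹ : Fˣ) : F) * u - u) * B.zs ((l' : F) * a - a) * (B.xa u * B.zs a)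
            = B.xa (((l'⁻¹ : Fˣ) : F) * u - u) * (B.zs ((l' : F) * a - a) * B.xa u) * B.zs a := by group
          _ = B.xa (((l'⁻¹ : Fˣ) : F) * u - u) * B.xa u * (B.zs ((l' : F) * a - a) * B.zs a) := by
              rw [← g3]; group
          _ = _ := h3
      exact mul_eq_right.1 g4
    have h4 := B.inj (((l'⁻¹ : Fˣ) : F) * u - u) 0 ((l' : F) * a - a) 0 (by
      rw [xb_zero, zl_zero, mul_one, mul_one]; exact e3)
    have hl1 : (l' : F) ≠ 1 := by
      rw [hl']
      intro h5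
      exact l.ne_zero (by linear_combination h5)
    have ha : a = 0 := by
      have h5 : ((l' : F) - 1) * a = 0 := by linear_combination h4.2.2.1
      rcases mul_eq_zero.1 h5 with h6 | h6
      · exact absurd (sub_eq_zero.1 h6) hl1
      · exact h6
    have hu : u = 0 := by
      have h5 : (l' : F) * (((l'⁻¹ : Fˣ) : F) * u - u) = 0 := by rw [h4.1, mul_zero]
      rw [mul_sub, ← mul_assoc, ← Units.val_mul, mul_inv_cancel, Units.val_one, one_mul] at h5
      have h6 : (1 - (l' : F)) * u = 0 := by linear_combination h5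
      rcases mul_eq_zero.1 h6 with h7 | h7
      · exact absurd (sub_eq_zero.1 h7).symm hl1
      · exact h7
    exact ⟨c, b, hc, by rw [e, ha, hu, xa_zero, zs_zero, one_mul, one_mul]⟩
  have h1 : K r ∈ Zl B := by
    refine kill (W := Zl B) (K := K) hl ?_ ?_ r
    · intro l x
      obtain ⟨c, b, hc, e⟩ := hK x
      have h2 := hh 1 l x
      rw [wt6] at h2
      rw [← h2, e, map_mul, hc.cj_h, cj_h_zl]
      have := diffZ (B := B) c 0 b 0 (((1 : Fˣ) : F) ^ 2 * l * b)
      rw [zs_zero, one_mul, one_mul, sub_self, zs_zero, one_mul] at this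
      rw [this]
      exact ⟨_, rfl⟩
    · intro x y
      obtain ⟨k, hk⟩ := L.q_add x y
      obtain ⟨w, hw, e⟩ := (hK0 y).conj_q L x
      have e1 : K (x + y) = K x * (L.q x * K y * (L.q x)⁻¹) := by
        have g1 := congrArg (MulAut.conj B.nb) hk
        rw [map_mul, map_mul, cj_nb_zl] at g1
        have g2 : MulAut.conj B.nb (L.q (x + y)) = MulAut.conj B.nb (L.q x) * MulAut.conj B.nb (L.q y) * (B.zl k)⁻¹ := by
          rw [g1]; group
        have g3 : L.q (x + y) = L.q x * L.q y * (B.zl k)⁻¹ := by rw [hk]; group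
        show MulAut.conj B.nb (L.q (x + y)) * (L.q (x + y))⁻¹ = _
        rw [g2, g3]
        simp only [K]
        group
      rw [e1, e]
      have : (K x * K y)⁻¹ * (K x * (K y * w)) = w := by group
      rw [this]
      exact hw
  obtain ⟨k, hk⟩ := h1
  exact ⟨k, by rw [← hk]; simp only [K]; group⟩

/-- `p'` and `q` commute -/
theorem comm_p'_q (hF : 4 ≤ Nat.card F) (hB : B.Self) (S : ShortLayer B) (L : LongLayer B) (m r : F) :
    Commute (p' S m) (L.q r) := by
  obtain ⟨k, hk⟩ := nb_q hF hB L r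
  have h1 := (comm_p_q hF hB S L m r).map (MulAut.conj B.nb)
  rw [p'_fold, hk] at h1
  have h2 := ((p'_zl S m k).inv_right).mul_right h1
  rwa [inv_mul_cancel_left] at h2

/-- `[p', p] = z_l` -/
theorem exists_comm_p'_p (hF : 4 ≤ Nat.card F) (hB : B.Self) (S : ShortLayer B) :
    ∃ κ, ∀ u m, p' S u * S.p m = B.zl (κ * (u * m)) * (S.p m * p' S u) := by
  have hl := exists_units hF
  let K : F → F → G := fun u m => p' S u * S.p m * (S.p m * p' S u)⁻¹
  have hK : ∀ u m, TV B (K u m) := by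
    intro u m
    apply form2 hB
    · apply comm_of_cj_eq
      rw [cj_mul_left, cj_mul_left, cp_t, cp'_t, cj_mul, cj_mul, cp_t, cp_xa, cp'_t, cp'_zs]
      have g1 := (B.xa_zs u m).eq
      have g2 : S.e * u * m = S.e * m * u := by ring
      rw [g2]
      calc B.t * B.zs m * (B.xa u * B.zl (S.e * m * u)) = B.t * (B.zs m * B.xa u) * B.zl (S.e * m * u) := by group
        _ = _ := by rw [← g1]; group
    · intro v
      apply comm_of_cj_eq
      rw [cj_mul_left, cj_mul_left, cp_xa, cp'_xa, cj_mul, cp'_xa, cp'_zl, cp_xa]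
    · intro v
      apply comm_of_cj_eq
      rw [cj_mul_left, cj_mul_left, cp_zs, cp'_zs, cj_mul, cp_zs, cp_zl]
    · intro v
      apply comm_of_cj_eq
      rw [cj_mul_left, cj_mul_left, cp_zl, cp'_zl, cp_zl]
  have hh : ∀ (α β : Fˣ) u m, MulAut.conj (B.h α β) (K u m) = K (α * u) (α * β * m) := by
    intro α β u m
    simp only [K, map_mul, map_inv, cj_h_p, cj_h_p']
  have h1 : ∀ u m, K u m ∈ Z B := by
    intro u m
    refine kill (W := Z B) (K := fun m => K u m) hl ?_ ?_ m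
    · intro l x
      obtain ⟨c, v, a, b, hc, e⟩ := hK u x
      have h2 := hh 1 l u x
      rw [wt5, Units.val_one, one_mul] at h2
      show (K u x)⁻¹ * K u (l * x) ∈ Z B
      rw [← h2, e, map_mul, map_mul, map_mul, hc.cj_h, cj_h_xa, Units.val_one, one_mul, cj_h_zs, cj_h_zl, diff2]
      exact ⟨_, _, rfl⟩
    · intro x y
      obtain ⟨k, hk⟩ := S.p_add x y
      obtain ⟨w, hw, e⟩ := (hK u y).conj_p S x
      show (K u x * K u y)⁻¹ * K u (x + y) ∈ Z B
      -- `[p', p(x+y)] = [p', p(x+y) zs k] z`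
      have e1 : K u (x + y) * B.zl (S.e * k * u) = K u x * (S.p x * K u y * (S.p x)⁻¹) := by
        have g0 : p' S u * (S.p x * S.p y) * (S.p x * S.p y * p' S u)⁻¹ =
            K u x * (S.p x * K u y * (S.p x)⁻¹) := comm_right _ _ _
        rw [← g0, hk]
        have g1 := zs_p' S k u
        have g2 : B.zs k * (p' S u)⁻¹ * (B.zs k)⁻¹ = (p' S u)⁻¹ * B.zl (S.e * k * u) := by
          have g3 : (p' S u)⁻¹ * B.zs k * p' S u = B.zs k * B.zl (S.e * k * u) := by
            rw [mul_assoc, g1]; group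
          have g4 : (B.zs k)⁻¹ * (p' S u)⁻¹ * B.zs k = B.zl (S.e * k * u) * (p' S u)⁻¹ := by
            calc (B.zs k)⁻¹ * (p' S u)⁻¹ * B.zs k
                = (B.zs k)⁻¹ * ((p' S u)⁻¹ * B.zs k * p' S u) * (p' S u)⁻¹ := by group
              _ = _ := by rw [g3]; group
          rw [inv_of_add B.zs_add] at g4 ⊢
          rw [g4, ((p'_zl S u _).inv_left).eq]
        show p' S u * S.p (x + y) * (S.p (x + y) * p' S u)⁻¹ * B.zl (S.e * k * u) = _
        have g5 : ∀ z ∈ Z B, Commute (S.p (x + y)) z := by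
          rintro _ ⟨m, r, rfl⟩
          exact (S.p_zs _ m).mul_right (S.p_zl _ r)
        have g6 := (g5 _ (zl_mem B (S.e * k * u))).inv_left.eq
        calc p' S u * S.p (x + y) * (S.p (x + y) * p' S u)⁻¹ * B.zl (S.e * k * u)
            = p' S u * S.p (x + y) * (p' S u)⁻¹ * ((S.p (x + y))⁻¹ * B.zl (S.e * k * u)) := by group
          _ = p' S u * S.p (x + y) * ((p' S u)⁻¹ * B.zl (S.e * k * u)) * (S.p (x + y))⁻¹ := by rw [g6]; group
          _ = _ := by rw [← g2]; group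
      have e2 : K u (x + y) = K u x * K u y * (w * (B.zl (S.e * k * u))⁻¹) := by
        rw [eq_comm, ← mul_inv_eq_iff_eq_mul] at e1
        rw [← e1, e]; group
      rw [e2]
      have : (K u x * K u y)⁻¹ * (K u x * K u y * (w * (B.zl (S.e * k * u))⁻¹)) = w * (B.zl (S.e * k * u))⁻¹ := by
        group
      rw [this]
      exact mul_mem hw (inv_mem (zl_mem B _))
  have h2 : ∀ u m, K u m ∈ Zl B := by
    intro u m
    refine kill (W := Zl B) (K := fun u => K u m) hl ?_ ?_ u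
    · intro l x
      obtain ⟨a, b, e⟩ := h1 x m
      have h2 := hh l l⁻¹ x m
      rw [wt3] at h2
      show (K x m)⁻¹ * K (l * x) m ∈ Zl B
      have h3 := diffZ (B := B) 1 a b a (l * b)
      rw [one_mul, one_mul, sub_self, zs_zero, one_mul] at h3
      rw [← h2, e, map_mul, cj_h_zs, cj_h_zl, wt3, wt4, h3]
      exact ⟨_, rfl⟩
    · intro x y
      obtain ⟨k, hk⟩ := p'_add S x y
      obtain ⟨a, b, ey⟩ := h1 y m
      obtain ⟨a', b', ex⟩ := h1 x m
      show (K x m * K y m)⁻¹ * K (x + y) m ∈ Zl B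
      have g0 : p' S x * p' S y * S.p m * (S.p m * (p' S x * p' S y))⁻¹ = p' S x * K y m * (p' S x)⁻¹ * K x m :=
        comm_left _ _ _
      have g1 : p' S x * K y m * (p' S x)⁻¹ = K y m * B.zl (S.e * a * x) := by
        rw [ey]
        have f1 := conj_of_cj (cp'i_zs S x a)
        have f2 := conj_of_cj (cp'i_zl S x b)
        calc p' S x * (B.zs a * B.zl b) * (p' S x)⁻¹ = (p' S x * B.zs a * (p' S x)⁻¹) * (p' S x * B.zl b * (p' S x)⁻¹) := by
              group
          _ = B.zs a * (B.zl (S.e * a * x) * B.zl b) := by rw [f1, f2]; group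
          _ = _ := by rw [(comm_of_add B.zl_add _ _).eq]; group
      have g2 : p' S (x + y) * B.xa k * S.p m * (S.p m * (p' S (x + y) * B.xa k))⁻¹ =
          K (x + y) m * B.zl (S.e * k * m) := by
        have f1 : B.xa k * S.p m * (B.xa k)⁻¹ = S.p m * B.zl (S.e * k * m) := by
          rw [S.xa_p k m, mul_assoc (S.p m), (B.xa_zl k _).eq]; group
        have f2 : ∀ r, Commute (B.zl r) ((p' S (x + y))⁻¹) := fun r => ((p'_zl S (x + y) r).inv_left).symm
        have f3 : ∀ r, Commute (B.zl r) ((S.p m)⁻¹) := fun r => ((S.p_zl m r).inv_left).symm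
        calc p' S (x + y) * B.xa k * S.p m * (S.p m * (p' S (x + y) * B.xa k))⁻¹
            = p' S (x + y) * (B.xa k * S.p m * (B.xa k)⁻¹) * (p' S (x + y))⁻¹ * (S.p m)⁻¹ := by group
          _ = p' S (x + y) * S.p m * (B.zl (S.e * k * m) * (p' S (x + y))⁻¹) * (S.p m)⁻¹ := by rw [f1]; group
          _ = p' S (x + y) * S.p m * (p' S (x + y))⁻¹ * (B.zl (S.e * k * m) * (S.p m)⁻¹) := by
              rw [(f2 _).eq]; group
          _ = K (x + y) m * B.zl (S.e * k * m) := by rw [(f3 _).eq]; simp only [K]; group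
      rw [← hk, g0, g1] at g2
      have e3 : B.zl (S.e * a * x) * K x m = K x m * B.zl (S.e * a * x) :=
        (((hK x m).comm_zl _).symm).eq
      have e4 : K y m * K x m = K x m * K y m := ((hK y m).comm (hK x m)).eq
      have e5 : K (x + y) m = K x m * K y m * (B.zl (S.e * a * x) * (B.zl (S.e * k * m))⁻¹) := by
        rw [← mul_inv_eq_iff_eq_mul] at g2
        rw [← g2, mul_assoc (K y m), e3, ← mul_assoc (K y m), e4]; group
      rw [e5]
      have : (K x m * K y m)⁻¹ * (K x m * K y m * (B.zl (S.e * a * x) * (B.zl (S.e * k * m))⁻¹)) =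
        B.zl (S.e * a * x) * (B.zl (S.e * k * m))⁻¹ := by group
      rw [this]
      exact mul_mem ⟨_, rfl⟩ (inv_mem ⟨_, rfl⟩)
  obtain ⟨κ, hκ⟩ := h2 1 1
  refine ⟨κ, fun u m => ?_⟩
  by_cases hu : u = 0
  · rw [hu, p'_zero, zero_mul, mul_zero, zl_zero, one_mul, one_mul, mul_one]
  by_cases hm : m = 0
  · rw [hm, S.p_zero, mul_zero, mul_zero, zl_zero, one_mul, one_mul, mul_one]
  have h3 := hh (Units.mk0 u hu) (Units.mk0 (m / u) (div_ne_zero hm hu)) 1 1
  rw [hκ, cj_h_zl] at h3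
  simp only [Units.val_mk0, mul_one] at h3
  have e1 : u * (m / u) = m := by field_simp
  have e2 : u ^ 2 * (m / u) * κ = κ * (u * m) := by field_simp
  rw [e1, e2] at h3
  rw [h3]
  simp only [K]
  group

end both

end Cfsg.Agent.StdSpFour.Comm
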