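import Mathlib
import Cfsg.Agent.StdSpFour.Comm

/-!
S1778, type Sp₄(q): the relation `[p' u, xb s]` of the second layer (bb S1778, helper68 #5604, (5)).
-/

set_option autoImplicit false

namespace Cfsg.Agent.StdSpFour.Rel

open Cfsg.Agent.StdSpFour Cfsg.Agent.StdSpFour.Comm Subgroup

variable {F G : Type*} [Field F] [Group G]

section V

variable (B : Base F G)

/-- elements of `V₂` -/
def V (u a b : F) : G := B.xa u * B.zs a * B.zl b

theorem V_mul (u a b u' a' b' : F) : V B u a b * V B u' a' b' = V B (u + u') (a + a') (b + b') := by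
  have h1 := (B.xa_zl u' b).eq
  have h2 := (B.zs_zl a' b).eq
  have h3 := (B.xa_zs u' a).eq
  unfold V
  rw [B.xa_add, B.zs_add, B.zl_add]
  calc B.xa u * B.zs a * B.zl b * (B.xa u' * B.zs a' * B.zl b')
      = B.xa u * B.zs a * (B.zl b * B.xa u') * B.zs a' * B.zl b' := by group
    _ = B.xa u * (B.zs a * B.xa u') * (B.zl b * B.zs a') * B.zl b' := by rw [← h1]; group
    _ = _ := by rw [← h2, ← h3]; group

theorem xa_V (u : F) : B.xa u = V B u 0 0 := by simp [V, zs_zero, zl_zero]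
theorem zs_V (u : F) : B.zs u = V B 0 u 0 := by simp [V, xa_zero, zl_zero]
theorem zl_V (u : F) : B.zl u = V B 0 0 u := by simp [V, xa_zero, zs_zero]
theorem V_zero : V B 0 0 0 = 1 := by simp [V, xa_zero, zs_zero, zl_zero]
theorem z_V (a b : F) : B.zs a * B.zl b = V B 0 a b := by simp [V, xa_zero]

theorem V_inv [CharP F 2] (u a b : F) : (V B u a b)⁻¹ = V B u a b := by
  apply inv_eq_of_mul_eq_one_left
  rw [V_mul, CharTwo.add_self_eq_zero, CharTwo.add_self_eq_zero, CharTwo.add_self_eq_zero, V_zero]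

theorem V_inj {u a b u' a' b' : F} (h : V B u a b = V B u' a' b') : u = u' ∧ a = a' ∧ b = b' := by
  have h1 : V B (u - u') (a - a') (b - b') * V B u' a' b' = V B u' a' b' := by
    rw [V_mul, sub_add_cancel, sub_add_cancel, sub_add_cancel, h]
  have h2 := mul_eq_right.1 h1
  have h3 := B.inj (u - u') 0 (a - a') (b - b') (by rw [xb_zero, mul_one]; exact h2)
  exact ⟨sub_eq_zero.1 h3.1, sub_eq_zero.1 h3.2.2.1, sub_eq_zero.1 h3.2.2.2⟩

theorem t_V (u a b : F) : Commute B.t (V B u a b) := ((B.t_xa u).mul_right (B.t_zs a)).mul_right (B.t_zl b)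

theorem V_comm (u a b u' a' b' : F) : Commute (V B u a b) (V B u' a' b') := by
  show V B u a b * V B u' a' b' = V B u' a' b' * V B u a b
  rw [V_mul, V_mul, add_comm u, add_comm a, add_comm b]

/-- conjugation by `xb` -/
theorem cxb_V (s u a b : F) : cj (B.xb s) (V B u a b) = V B u (a + u * s) (b + u ^ 2 * s) := by
  have h1 : cj (B.xb s) (B.xa u) = V B u (u * s) (u ^ 2 * s) := cj_of_eq (by
    rw [B.xa_xb, V]; group)
  have h2 : cj (B.xb s) (B.zs a) = V B 0 a 0 := by rw [← zs_V]; exact cj_of_comm (B.xb_zs s a).symm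
  have h3 : cj (B.xb s) (B.zl b) = V B 0 0 b := by rw [← zl_V]; exact cj_of_comm (B.xb_zl s b).symm
  nth_rewrite 1 [V]
  rw [cj_mul, cj_mul, h1, h2, h3, V_mul, V_mul]
  congr 1 <;> ring

theorem cxb_t (s : F) : cj (B.xb s) B.t = B.t := cj_of_comm (B.t_xb s)

end V

section cjV

variable {B : Base F G} (S : ShortLayer B)

theorem cp_V (m u a b : F) : cj (S.p m) (V B u a b) = V B u a (b + S.e * u * m) := by
  nth_rewrite 1 [V]
  rw [cj_mul, cj_mul, cp_xa, cp_zs, cp_zl, xa_V, zs_V, zl_V, zl_V, V_mul, V_mul, V_mul]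
  congr 1 <;> ring

theorem cp'_V (m u a b : F) : cj (p' S m) (V B u a b) = V B u a (b + S.e * a * m) := by
  nth_rewrite 1 [V]
  rw [cj_mul, cj_mul, cp'_xa, cp'_zs, cp'_zl, xa_V, zs_V, zl_V, zl_V, V_mul, V_mul, V_mul]
  congr 1 <;> ring

theorem cp'i_V [CharP F 2] (m u a b : F) : cj (p' S m)⁻¹ (V B u a b) = V B u a (b + S.e * a * m) := by
  apply cj_inv
  rw [cp'_V, add_assoc, CharTwo.add_self_eq_zero, add_zero]

end cjV

/-- the part over the long root group: either `w r = q ((1 + e) r)` or `w = 1` (if `e = 1`) -/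
structure LongPart {B : Base F G} (S : ShortLayer B) (w : F → G) : Prop where
  t_w : ∀ r, B.t * w r = w r * B.t * B.zl ((1 + S.e) * r)
  w_xa : ∀ r u, Commute (w r) (B.xa u)
  w_zs : ∀ r u, Commute (w r) (B.zs u)
  w_zl : ∀ r u, Commute (w r) (B.zl u)
  w_p : ∀ r m, Commute (w r) (S.p m)
  w_w : ∀ r r', Commute (w r) (w r')
  w_add : ∀ r r', ∃ k, w r * w r' = w (r + r') * B.zl k
  w_xb : ∀ r s, ∃ k, cj (B.xb s) (w r) = w r * B.zs k
  cj_h_w : ∀ (α β : Fˣ) r, MulAut.conj (B.h α β) (w r) = w (α ^ 2 * β * r)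
  w_zero : ∀ r, (1 + S.e) * r = 0 → w r = 1

namespace LongPart

variable {B : Base F G} {S : ShortLayer B} {w : F → G}

theorem zero (P : LongPart S w) : w 0 = 1 := P.w_zero 0 (mul_zero _)

theorem w_Z (P : LongPart S w) (r : F) {z : G} (hz : z ∈ Z B) : Commute (w r) z := by
  obtain ⟨a, b, rfl⟩ := hz
  exact (P.w_zs r a).mul_right (P.w_zl r b)

theorem cw_V (P : LongPart S w) (r u a b : F) : cj (w r) (V B u a b) = V B u a b :=
  cj_of_comm ((((P.w_xa r u).mul_right (P.w_zs r a)).mul_right (P.w_zl r b)).symm)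

theorem cw_t (P : LongPart S w) (r : F) : cj (w r) B.t = B.t * B.zl ((1 + S.e) * r) :=
  cj_of_eq (by rw [P.t_w, mul_assoc])

end LongPart

theorem p_Z {B : Base F G} (S : ShortLayer B) (m : F) {z : G} (hz : z ∈ Z B) : Commute (S.p m) z := by
  obtain ⟨a, b, rfl⟩ := hz
  exact (S.p_zs m a).mul_right (S.p_zl m b)

/-- `X^_{a+b} X^_{2a+b}` -/
def W {B : Base F G} {S : ShortLayer B} {w : F → G} (P : LongPart S w) : Subgroup G where
  carrier := {g | ∃ m r z, z ∈ Z B ∧ g = S.p m * w r * z}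
  mul_mem' := by
    rintro _ _ ⟨m, r, z, hz, rfl⟩ ⟨m', r', z', hz', rfl⟩
    obtain ⟨k, hk⟩ := S.p_add m m'
    obtain ⟨k', hk'⟩ := P.w_add r r'
    refine ⟨m + m', r + r', B.zs k * (B.zl k' * (z * z')), mul_mem (zs_mem B k) (mul_mem (zl_mem B k') (mul_mem hz hz')), ?_⟩
    have h1 := (p_Z S m' hz).eq
    have h2 := (P.w_Z r' hz).eq
    have h3 := (P.w_p r m').eq
    have h4 := (P.w_Z (r + r') (zs_mem B k)).eq
    calc S.p m * w r * z * (S.p m' * w r' * z') = S.p m * w r * (z * S.p m') * w r' * z' := by group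
      _ = S.p m * (w r * S.p m') * (z * w r') * z' := by rw [← h1]; group
      _ = (S.p m * S.p m') * (w r * w r') * (z * z') := by rw [h3, ← h2]; group
      _ = S.p (m + m') * (B.zs k * w (r + r')) * (B.zl k' * (z * z')) := by rw [hk, hk']; group
      _ = _ := by rw [← h4]; group
  one_mem' := ⟨0, 0, 1, one_mem _, by rw [S.p_zero, P.zero]; group⟩
  inv_mem' := by
    rintro _ ⟨m, r, z, hz, rfl⟩
    obtain ⟨k, hk⟩ := S.p_add m (-m)
    obtain ⟨k', hk'⟩ := P.w_add r (-r)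
    rw [add_neg_cancel, S.p_zero, one_mul] at hk
    rw [add_neg_cancel, P.zero, one_mul] at hk'
    have e1 : (S.p m)⁻¹ = S.p (-m) * (B.zs k)⁻¹ := by
      rw [← hk]; group
    have e2 : (w r)⁻¹ = w (-r) * (B.zl k')⁻¹ := by
      rw [← hk']; group
    refine ⟨-m, -r, (B.zs k)⁻¹ * ((B.zl k')⁻¹ * z⁻¹),
      mul_mem (inv_mem (zs_mem B k)) (mul_mem (inv_mem (zl_mem B k')) (inv_mem hz)), ?_⟩
    have h0 : z⁻¹ ∈ Z B := inv_mem hz
    have h1 := (P.w_Z (-r) h0).eq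
    have h2 := (p_Z S (-m) h0).eq
    have h3 := (P.w_p (-r) (-m)).eq
    have h4 := (p_Z S (-m) (inv_mem (zl_mem B k'))).eq
    have h5 := (P.w_Z (-r) (inv_mem (zs_mem B k))).eq
    have h6 : Commute ((B.zs k)⁻¹) ((B.zl k')⁻¹) := (B.zs_zl k k').inv_inv
    have h7 : Commute (z⁻¹) ((B.zs k)⁻¹) := (TZ.of_mem h0).TV.comm_Z (inv_mem (zs_mem B k))
    have h8 : Commute (z⁻¹) ((B.zl k')⁻¹) := (TZ.of_mem h0).TV.comm_Z (inv_mem (zl_mem B k'))
    calc (S.p m * w r * z)⁻¹ = z⁻¹ * (w r)⁻¹ * (S.p m)⁻¹ := by group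
      _ = (z⁻¹ * w (-r)) * (B.zl k')⁻¹ * S.p (-m) * (B.zs k)⁻¹ := by rw [e1, e2]; group
      _ = w (-r) * (z⁻¹ * (B.zl k')⁻¹) * S.p (-m) * (B.zs k)⁻¹ := by rw [← h1]; group
      _ = w (-r) * (B.zl k')⁻¹ * (z⁻¹ * S.p (-m)) * (B.zs k)⁻¹ := by rw [h8.eq]; group
      _ = w (-r) * ((B.zl k')⁻¹ * S.p (-m)) * z⁻¹ * (B.zs k)⁻¹ := by rw [← h2]; group
      _ = (w (-r) * S.p (-m)) * (B.zl k')⁻¹ * (z⁻¹ * (B.zs k)⁻¹) := by rw [← h4]; group
      _ = S.p (-m) * w (-r) * (((B.zl k')⁻¹ * (B.zs k)⁻¹) * z⁻¹) := by rw [h3, h7.eq]; group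
      _ = _ := by rw [← h6.eq]; group

theorem Z_le_W {B : Base F G} {S : ShortLayer B} {w : F → G} (P : LongPart S w) : Z B ≤ W P := by
  intro z hz
  exact ⟨0, 0, z, hz, by rw [S.p_zero, P.zero]; group⟩

theorem mem_W {B : Base F G} {S : ShortLayer B} {w : F → G} (P : LongPart S w) (m r : F) :
    S.p m * w r ∈ W P := ⟨m, r, 1, one_mem _, by group⟩

section D

variable {B : Base F G} [CharP F 2]

/-- `[p' u, xb s]` -/
def D (S : ShortLayer B) (u s : F) : G := (p' S u)⁻¹ * (B.xb s)⁻¹ * p' S u * B.xb s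

omit [CharP F 2] in
theorem D_add (S : ShortLayer B) (u x y : F) : D S u (x + y) = D S u x * cj (B.xb x) (D S u y) := by
  have e : B.xb (x + y) = B.xb y * B.xb x := by rw [← B.xb_add, add_comm]
  unfold D cj
  rw [e]
  group

omit [CharP F 2] in
theorem conj_D (S : ShortLayer B) (α β : Fˣ) (u s : F) :
    MulAut.conj (B.h α β) (D S u s) = D S (α * u) (β * s) := by
  unfold D
  rw [map_mul, map_mul, map_mul, map_inv, map_inv, cj_h_p', cj_h_xb]

theorem xb_inv (s : F) : (B.xb s)⁻¹ = B.xb s := inv_of_add B.xb_add s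

theorem cD_V (S : ShortLayer B) (u s v a b : F) : cj (D S u s) (V B v a b) = V B v a (b + S.e * v * (u * s)) := by
  unfold D
  rw [xb_inv, cj_mul_left, cj_mul_left, cj_mul_left, cp'i_V, cxb_V, cp'_V, cxb_V]
  have h2 : (2 : F) = 0 := CharTwo.two_eq_zero
  congr 1
  · linear_combination (v * s) * h2
  · linear_combination (v ^ 2 * s + S.e * a * u) * h2

theorem cD_t (S : ShortLayer B) (u s : F) : cj (D S u s) B.t = B.t * V B 0 (u * s) ((1 + S.e) * (u ^ 2 * s)) := by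
  unfold D
  rw [xb_inv, cj_mul_left, cj_mul_left, cj_mul_left, cp'i_t, xa_V, cj_mul, cxb_V, cxb_t, cj_mul, cp'_V, cp'_t, xa_V,
    mul_assoc, V_mul, cj_mul, cxb_V, cxb_t]
  have h2 : (2 : F) = 0 := CharTwo.two_eq_zero
  have h3 : u + u = 0 := CharTwo.add_self_eq_zero u
  rw [h3]
  congr 2 <;> ring

theorem TV_D {S : ShortLayer B} {w : F → G} (P : LongPart S w) (hB : B.Self) (u s : F) :
    TV B (D S u s * (S.p (u * s) * w (u ^ 2 * s))⁻¹) := by
  have hV : ∀ v a b, Commute (D S u s * (S.p (u * s) * w (u ^ 2 * s))⁻¹) (V B v a b) := by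
    intro v a b
    apply comm_of_cj_eq
    rw [cD_V, cj_mul_left, cp_V, P.cw_V]
  apply form2 hB
  · apply comm_of_cj_eq
    rw [cD_t, cj_mul_left, cp_t, cj_mul, P.cw_t, zs_V, P.cw_V, zl_V, mul_assoc, V_mul]
    congr 2 <;> ring
  · intro v; rw [xa_V]; exact hV _ _ _
  · intro v; rw [zs_V]; exact hV _ _ _
  · intro v; rw [zl_V]; exact hV _ _ _

theorem D_mem {S : ShortLayer B} {w : F → G} (P : LongPart S w) (hF : 4 ≤ Nat.card F) (hB : B.Self) (u s : F) :
    D S u s ∈ W P := by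
  refine kill (W := W P) (K := fun s => D S u s) (exists_units hF) ?_ ?_ s
  · intro l x
    obtain ⟨c, v, a, b, hc, e⟩ := TV_D P hB u x
    have e1 : D S u x = c * V B v a b * (S.p (u * x) * w (u ^ 2 * x)) := by
      rw [V, ← e]; group
    have h1 := conj_D S 1 l u x
    rw [Units.val_one, one_mul] at h1
    show (D S u x)⁻¹ * D S u (l * x) ∈ W P
    have e2 : D S u (l * x) = c * V B v (l * a) (l * b) * (S.p (l * (u * x)) * w (l * (u ^ 2 * x))) := by
      rw [← h1, e1, map_mul, map_mul, hc.cj_h, map_mul, cj_h_p, P.cj_h_w, wt5, wt6]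
      congr 2
      unfold V
      rw [map_mul, map_mul, cj_h_xa, cj_h_zs, cj_h_zl, wt5, wt6, Units.val_one, one_mul]
    have e3 := diff2 (B := B) c v a b (l * a) (l * b)
    have e4 : (D S u x)⁻¹ * D S u (l * x) = (S.p (u * x) * w (u ^ 2 * x))⁻¹ *
        (B.zs (l * a - a) * B.zl (l * b - b)) * (S.p (l * (u * x)) * w (l * (u ^ 2 * x))) := by
      rw [← e3, e1, e2, V, V]; group
    rw [e4]
    exact mul_mem (mul_mem (inv_mem (mem_W P _ _)) (Z_le_W P ⟨_, _, rfl⟩)) (mem_W P _ _)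
  · intro x y
    obtain ⟨c, v, a, b, hc, e⟩ := TV_D P hB u y
    have e1 : D S u y = c * V B v a b * (S.p (u * y) * w (u ^ 2 * y)) := by
      rw [V, ← e]; group
    show (D S u x * D S u y)⁻¹ * D S u (x + y) ∈ W P
    have hcc : cj (B.xb x) c = c := cj_of_comm (hc.comm (B.t_xb x))
    have hpp : cj (B.xb x) (S.p (u * y)) = S.p (u * y) := cj_of_comm (S.p_xb _ _)
    obtain ⟨k, hk⟩ := P.w_xb (u ^ 2 * y) x
    have e2 : cj (B.xb x) (D S u y) = D S u y * (B.zs (v * x) * B.zl (v ^ 2 * x) * B.zs k) := by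
      have f1 : V B v (a + v * x) (b + v ^ 2 * x) = V B v a b * (B.zs (v * x) * B.zl (v ^ 2 * x)) := by
        rw [z_V, V_mul, add_zero]
      have f2 := (p_Z S (u * y) (mul_mem (zs_mem B (v * x)) (zl_mem B (v ^ 2 * x)))).eq
      have f3 := (P.w_Z (u ^ 2 * y) (mul_mem (zs_mem B (v * x)) (zl_mem B (v ^ 2 * x)))).eq
      rw [e1, cj_mul, cj_mul, cj_mul, hcc, hpp, hk, cxb_V, f1]
      calc c * (V B v a b * (B.zs (v * x) * B.zl (v ^ 2 * x))) * (S.p (u * y) * (w (u ^ 2 * y) * B.zs k))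
          = c * V B v a b * ((B.zs (v * x) * B.zl (v ^ 2 * x)) * S.p (u * y)) * w (u ^ 2 * y) * B.zs k := by group
        _ = c * V B v a b * S.p (u * y) * ((B.zs (v * x) * B.zl (v ^ 2 * x)) * w (u ^ 2 * y)) * B.zs k := by
            rw [← f2]; group
        _ = _ := by rw [← f3]; group
    rw [D_add, e2]
    have e5 : (D S u x * D S u y)⁻¹ * (D S u x * (D S u y * (B.zs (v * x) * B.zl (v ^ 2 * x) * B.zs k))) =
      B.zs (v * x) * B.zl (v ^ 2 * x) * B.zs k := by group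
    rw [e5]
    exact Z_le_W P (mul_mem (mul_mem (zs_mem B _) (zl_mem B _)) (zs_mem B _))

theorem exists_z {S : ShortLayer B} {w : F → G} (P : LongPart S w) (hF : 4 ≤ Nat.card F) (hB : B.Self) (u s : F) :
    ∃ a b, D S u s = S.p (u * s) * w (u ^ 2 * s) * (B.zs a * B.zl b) := by
  obtain ⟨m, r, z, ⟨a, b, hz⟩, e⟩ := D_mem P hF hB u s
  have h1 := cD_t S u s
  have h2 : cj z B.t = B.t := by rw [hz]; exact cj_of_comm ((B.t_zs a).mul_right (B.t_zl b))
  have h3 : cj z (V B 0 m ((1 + S.e) * r)) = V B 0 m ((1 + S.e) * r) := by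
    rw [hz, z_V]; exact cj_of_comm (V_comm B _ _ _ _ _ _)
  rw [e, cj_mul_left, cj_mul_left, cp_t, cj_mul, P.cw_t, zs_V, P.cw_V, zl_V, mul_assoc, V_mul, add_zero, zero_add,
    add_zero, cj_mul, h2, h3] at h1
  obtain ⟨-, h4, h5⟩ := V_inj B (mul_left_cancel h1)
  have h6 : w (r - u ^ 2 * s) = 1 := P.w_zero _ (by linear_combination h5)
  obtain ⟨k, hk⟩ := P.w_add (r - u ^ 2 * s) (u ^ 2 * s)
  rw [h6, one_mul, sub_add_cancel] at hk
  have e7 : w r = w (u ^ 2 * s) * B.zl k := by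
    have : w r = w (u ^ 2 * s) * (B.zl k)⁻¹ := by rw [hk]; group
    rw [this, inv_of_add B.zl_add]
  refine ⟨a, k + b, ?_⟩
  rw [e, h4, e7, hz, B.zl_add]
  have h8 := (B.zs_zl a k).eq
  calc S.p (u * s) * (w (u ^ 2 * s) * B.zl k) * (B.zs a * B.zl b)
      = S.p (u * s) * w (u ^ 2 * s) * ((B.zl k * B.zs a) * B.zl b) := by group
    _ = _ := by rw [← h8]; group

/-- **the relation** `[p' u, xb s] = p (u s) w (u² s) z_s(ε u s) z_l(ε' u² s)` -/
theorem exists_D {S : ShortLayer B} {w : F → G} (P : LongPart S w) (hF : 4 ≤ Nat.card F) (hB : B.Self) :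
    ∃ ε ε' : F, ∀ u s, D S u s = S.p (u * s) * w (u ^ 2 * s) * (B.zs (ε * (u * s)) * B.zl (ε' * (u ^ 2 * s))) := by
  obtain ⟨ε, ε', h⟩ := exists_z P hF hB 1 1
  refine ⟨ε, ε', fun u s => ?_⟩
  by_cases hu : u = 0
  · rw [D, hu, p'_zero, zero_mul, S.p_zero, zero_pow two_ne_zero, zero_mul, P.zero, mul_zero, mul_zero, zs_zero, zl_zero]
    group
  by_cases hs : s = 0
  · rw [D, hs, xb_zero, mul_zero, S.p_zero, mul_zero, P.zero, mul_zero, mul_zero, zs_zero, zl_zero]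
    group
  have h1 := conj_D S (Units.mk0 u hu) (Units.mk0 s hs) 1 1
  rw [h] at h1
  simp only [map_mul, cj_h_p, P.cj_h_w, cj_h_zs, cj_h_zl, Units.val_mk0, mul_one, one_pow] at h1
  rw [← h1]
  congr 3 <;> ring

end D

end Cfsg.Agent.StdSpFour.Rel
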