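import Mathlib
import Cfsg.Agent.StdSpFour.Comm

/-!
S1778, type Sp₄(q), characteristic two: the graph symmetry of `Base`, `ShortLayer`, `LongLayer`.
-/

set_option autoImplicit false

namespace Cfsg.Agent.StdSpFour.Swap

open Cfsg.Agent.StdSpFour Cfsg.Agent.StdSpFour.Comm Subgroup

variable {F G : Type*} [Field F] [Group G] [CharP F 2] [Finite F]

/-- square root -/
noncomputable def rt (x : F) : F := (frobeniusEquiv F 2).symm x

theorem rt_add (x y : F) : rt (x + y) = rt x + rt y := map_add _ _ _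
theorem rt_mul (x y : F) : rt (x * y) = rt x * rt y := map_mul _ _ _
theorem rt_sq (x : F) : rt (x ^ 2) = x := by
  rw [rt, RingEquiv.symm_apply_eq, frobeniusEquiv_def]
theorem sq_rt (x : F) : (rt x) ^ 2 = x := by
  have := (frobeniusEquiv F 2).apply_symm_apply x
  rwa [frobeniusEquiv_def] at this
theorem rt_zero : rt (0 : F) = 0 := map_zero _
theorem rt_one : rt (1 : F) = 1 := map_one _
theorem rt_eq_zero {x : F} (h : rt x = 0) : x = 0 := by
  rw [← sq_rt x, h, zero_pow two_ne_zero]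

/-- square root on units -/
noncomputable def rtU : Fˣ →* Fˣ := Units.map ((frobeniusEquiv F 2).symm : F →* F)

theorem rtU_val (x : Fˣ) : ((rtU x : Fˣ) : F) = rt (x : F) := rfl

theorem sq_rtU (x : Fˣ) : (rtU x) ^ 2 = x := by
  apply Units.ext
  rw [Units.val_pow_eq_pow_val, rtU_val, sq_rt]

theorem rtU_sq (x : Fˣ) : rtU (x ^ 2) = x := by
  apply Units.ext
  rw [rtU_val, Units.val_pow_eq_pow_val, rt_sq]

variable (B : Base F G)

omit [Finite F] in
theorem xb_xa (u s : F) : B.xb u * B.xa s = B.xa s * B.xb u * (B.zs (s * u) * B.zl (s ^ 2 * u)) := by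
  have h1 := B.xa_xb s u
  have h2 : B.zs (s * u) * B.zl (s ^ 2 * u) * (B.zs (s * u) * B.zl (s ^ 2 * u)) = 1 := by
    have h3 := (B.zs_zl (s * u) (s ^ 2 * u)).eq
    calc B.zs (s * u) * B.zl (s ^ 2 * u) * (B.zs (s * u) * B.zl (s ^ 2 * u))
        = (B.zs (s * u) * B.zl (s ^ 2 * u)) * B.zs (s * u) * B.zl (s ^ 2 * u) := by group
      _ = B.zl (s ^ 2 * u) * (B.zs (s * u) * B.zs (s * u)) * B.zl (s ^ 2 * u) := by rw [h3]; group
      _ = 1 := by rw [sq_of_add B.zs_add, mul_one, sq_of_add B.zl_add]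
  calc B.xb u * B.xa s = B.xb u * B.xa s * (B.zs (s * u) * B.zl (s ^ 2 * u) *
        (B.zs (s * u) * B.zl (s ^ 2 * u))) := by rw [h2, mul_one]
    _ = B.xb u * B.xa s * B.zs (s * u) * B.zl (s ^ 2 * u) * (B.zs (s * u) * B.zl (s ^ 2 * u)) := by group
    _ = _ := by rw [← h1]

omit [Finite F] in
theorem norm_eq (u s m r : F) : B.xb u * B.xa s * B.zl m * B.zs r =
    B.xa s * B.xb u * B.zs (s * u + r) * B.zl (s ^ 2 * u + m) := by
  have h1 := (B.zs_zl r m).eq
  have h2 := (B.zs_zl r (s ^ 2 * u)).eq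
  rw [xb_xa, B.zs_add, B.zl_add]
  calc B.xa s * B.xb u * (B.zs (s * u) * B.zl (s ^ 2 * u)) * B.zl m * B.zs r
      = B.xa s * B.xb u * B.zs (s * u) * B.zl (s ^ 2 * u) * (B.zl m * B.zs r) := by group
    _ = B.xa s * B.xb u * B.zs (s * u) * (B.zl (s ^ 2 * u) * B.zs r) * B.zl m := by rw [← h1]; group
    _ = _ := by rw [← h2]; group

/-- the graph symmetry -/
noncomputable def swap : Base F G where
  t := B.t
  xa := B.xb
  xb := fun w => B.xa (rt w)
  zs := B.zl
  zl := fun r => B.zs (rt r)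
  h := fun α β => B.h (rtU β) α
  na := B.nb
  nb := B.na
  tt := B.tt
  xa_add := B.xb_add
  xb_add := fun u v => by rw [rt_add, B.xa_add]
  zs_add := B.zl_add
  zl_add := fun u v => by rw [rt_add, B.zs_add]
  t_xa := B.t_xb
  t_xb := fun u => B.t_xa _
  t_zs := B.t_zl
  t_zl := fun u => B.t_zs _
  t_h := fun α β => B.t_h _ _
  t_na := B.t_nb
  t_nb := B.t_na
  xa_zs := fun u m => B.xb_zl u m
  xa_zl := fun u m => B.xb_zs u _
  xb_zs := fun u m => B.xa_zl _ m
  xb_zl := fun u m => B.xa_zs _ _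
  zs_zl := fun u m => (B.zs_zl _ _).symm
  xa_xb := by
    intro u s
    rw [xb_xa, sq_rt, rt_mul (u ^ 2), rt_sq, mul_comm (rt s), (B.zs_zl _ _).eq, mul_comm s u]
    simp only [mul_assoc]
  h_mul := by
    intro α β α' β'
    rw [map_mul, B.h_mul]
  h_xa := fun α β u => B.h_xb _ _ u
  h_xb := by
    intro α β u
    rw [rt_mul]
    exact B.h_xa _ _ _
  h_zs := by
    intro α β u
    rw [B.h_zl, rtU_val, sq_rt, mul_comm (β : F)]
  h_zl := by
    intro α β u
    rw [B.h_zs, rtU_val, rt_mul, rt_mul, rt_sq, mul_comm (rt (β : F))]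
  na_h := by
    intro α β
    rw [B.nb_h, map_mul, rtU_sq, mul_comm α]
  nb_h := by
    intro α β
    rw [B.na_h, sq_rtU, map_inv, mul_comm β]
  na_xb := fun u => B.nb_xa _
  na_zl := fun u => B.nb_zs _
  na_zs := fun u => B.nb_zl _
  nb_xa := fun u => B.na_xb _
  nb_zs := fun u => B.na_zl _
  nb_zl := fun u => B.na_zs _
  inj := by
    intro u s m r h
    rw [norm_eq] at h
    obtain ⟨h1, h2, h3, h4⟩ := B.inj _ _ _ _ h
    have hs : s = 0 := rt_eq_zero h1
    subst hs h2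
    rw [rt_zero, zero_mul, zero_add] at h3
    rw [mul_zero, zero_add] at h4
    exact ⟨rfl, rfl, h4, rt_eq_zero h3⟩
  t_ne := by
    intro u s m r h
    rw [norm_eq] at h
    exact B.t_ne _ _ _ _ h

theorem swap_self (hB : B.Self) : (swap B).Self where
  cent1 := by
    intro g h1 h2 h3 h4
    obtain ⟨s, m, r, h⟩ := hB.cent2 g h1 (fun u => by
      have := h2 (u ^ 2)
      simp only [swap, rt_sq] at this
      exact this) (fun u => by
      have := h4 (u ^ 2)
      simp only [swap, rt_sq] at this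
      exact this) h3
    refine ⟨s ^ 2, r, m ^ 2, ?_⟩
    show g = B.xa (rt (s ^ 2)) * B.zl r * B.zs (rt (m ^ 2)) ∨ g = B.t * (B.xa (rt (s ^ 2)) * B.zl r * B.zs (rt (m ^ 2)))
    rw [rt_sq, rt_sq, mul_assoc (B.xa s), ← (B.zs_zl m r).eq, ← mul_assoc]
    exact h
  cent2 := by
    intro g h1 h2 h3 h4
    obtain ⟨s, m, r, h⟩ := hB.cent1 g h1 h2 (fun u => by
      have := h4 (u ^ 2)
      simp only [swap, rt_sq] at this
      exact this) h3
    refine ⟨s, r, m ^ 2, ?_⟩
    show g = B.xb s * B.zl r * B.zs (rt (m ^ 2)) ∨ g = B.t * (B.xb s * B.zl r * B.zs (rt (m ^ 2)))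
    rw [rt_sq, mul_assoc (B.xb s), ← (B.zs_zl m r).eq, ← mul_assoc]
    exact h
  centZ := by
    intro g h1 h2 h3
    obtain ⟨u, s, m, r, h⟩ := hB.centZ g h1 (fun u => by
      have := h3 (u ^ 2)
      simp only [swap, rt_sq] at this
      exact this) h2
    refine ⟨s, u ^ 2, u ^ 2 * s + r, (u * s + m) ^ 2, ?_⟩
    show g = B.xb s * B.xa (rt (u ^ 2)) * B.zl (u ^ 2 * s + r) * B.zs (rt ((u * s + m) ^ 2)) ∨
      g = B.t * (B.xb s * B.xa (rt (u ^ 2)) * B.zl (u ^ 2 * s + r) * B.zs (rt ((u * s + m) ^ 2)))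
    rw [rt_sq, rt_sq, norm_eq]
    have e1 : u * s + (u * s + m) = m := by
      rw [← add_assoc, CharTwo.add_self_eq_zero, zero_add]
    have e2 : u ^ 2 * s + (u ^ 2 * s + r) = r := by
      rw [← add_assoc, CharTwo.add_self_eq_zero, zero_add]
    rw [e1, e2]
    exact h

variable {B}

/-- the long layer as short layer of `swap B` -/
noncomputable def swapS (L : LongLayer B) : ShortLayer (swap B) where
  p := L.q
  e := L.e ^ 2
  c := L.c
  p_zero := L.q_zero
  t_p := L.t_q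
  p_xb := fun m s => L.q_xa m _
  p_zs := L.q_zl
  p_zl := fun m s => L.q_zs m _
  p_p := L.q_q
  p_add := L.q_add
  p_sq := L.q_sq
  xa_p := by
    intro u m
    have h := L.xb_q (rt u) (rt m)
    rw [sq_rt, sq_rt] at h
    show B.xb u * L.q m = L.q m * B.xb u * B.zs (rt (L.e ^ 2 * u * m))
    rw [h, rt_mul, rt_mul, rt_sq, mul_assoc L.e (rt u) (rt m)]
  h_p := by
    intro α β m
    show B.h (rtU β) α * L.q m = L.q (α * β * m) * B.h (rtU β) α
    rw [L.h_q, rtU_val, sq_rt, mul_comm (β : F)]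

/-- the short layer as long layer of `swap B` -/
noncomputable def swapL (S : ShortLayer B) : LongLayer (swap B) where
  q := fun r => S.p (rt r)
  e := S.e
  c := S.c ^ 2
  q_zero := by rw [rt_zero]; exact S.p_zero
  t_q := fun r => S.t_p _
  q_xa := fun m s => S.p_xb _ s
  q_zs := fun m s => S.p_zl _ s
  q_zl := fun m s => S.p_zs _ _
  q_q := fun m m' => S.p_p _ _
  q_add := by
    intro m m'
    obtain ⟨k, hk⟩ := S.p_add (rt m) (rt m')
    refine ⟨k ^ 2, ?_⟩
    show S.p (rt m) * S.p (rt m') = S.p (rt (m + m')) * B.zs (rt (k ^ 2))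
    rw [rt_sq, rt_add]
    exact hk
  q_sq := by
    intro r
    show S.p (rt r) * S.p (rt r) = B.zs (rt (S.c ^ 2 * r))
    rw [rt_mul, rt_sq]
    exact S.p_sq _
  xb_q := by
    intro s r
    show B.xa (rt (s ^ 2)) * S.p (rt (r ^ 2)) = S.p (rt (r ^ 2)) * B.xa (rt (s ^ 2)) * B.zl (S.e * (s * r))
    rw [rt_sq, rt_sq, S.xa_p, mul_assoc S.e]
  h_q := by
    intro α β r
    show B.h (rtU β) α * S.p (rt r) = S.p (rt (α ^ 2 * β * r)) * B.h (rtU β) α
    rw [S.h_p, rtU_val, rt_mul, rt_mul, rt_sq, mul_comm (rt (β : F))]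

end Cfsg.Agent.StdSpFour.Swap
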