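import Mathlib
import Cfsg.Agent.StdSpFour.Rel
import Cfsg.Agent.StdSpFour.Swap

/-!
S1778, type Sp₄(q): the three cases (bb S1778, helper68 #5604, (5)).
-/

set_option autoImplicit false

namespace Cfsg.Agent.StdSpFour.Cases

open Cfsg.Agent.StdSpFour Cfsg.Agent.StdSpFour.Comm Cfsg.Agent.StdSpFour.Rel Cfsg.Agent.StdSpFour.Swap Subgroup

variable {F G : Type*} [Field F] [Group G] [CharP F 2]

section one

variable {B : Base F G}

/-- no long layer: `w = 1` -/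
theorem longPart_one {S : ShortLayer B} (he : S.e = 1) : LongPart S (fun _ => (1 : G)) where
  t_w := by
    intro r
    rw [he, CharTwo.add_self_eq_zero, zero_mul, zl_zero]; group
  w_xa := fun r u => Commute.one_left _
  w_zs := fun r u => Commute.one_left _
  w_zl := fun r u => Commute.one_left _
  w_p := fun r u => Commute.one_left _
  w_w := fun r u => Commute.one_left _
  w_add := fun r r' => ⟨0, by rw [zl_zero]⟩
  w_xb := fun r s => ⟨0, by rw [zs_zero, cj_one, one_mul]⟩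
  cj_h_w := fun α β r => map_one _
  w_zero := fun _ _ => rfl

theorem cxb_q [Finite F] (L : LongLayer B) (s r : F) :
    cj (B.xb (s ^ 2)) (L.q (r ^ 2)) = L.q (r ^ 2) * B.zs (L.e * (s * r)) := by
  apply cj_of_eq
  have h1 := L.xb_q s r
  have h2 := (B.xb_zs (s ^ 2) (L.e * (s * r))).eq
  have h3 : B.zs (L.e * (s * r)) * B.zs (L.e * (s * r)) = 1 := sq_of_add B.zs_add _
  have h4 := (L.q_zs (r ^ 2) (L.e * (s * r))).eq
  calc L.q (r ^ 2) * B.xb (s ^ 2)
      = L.q (r ^ 2) * B.xb (s ^ 2) * (B.zs (L.e * (s * r)) * B.zs (L.e * (s * r))) := by rw [h3, mul_one]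
    _ = (L.q (r ^ 2) * B.xb (s ^ 2) * B.zs (L.e * (s * r))) * B.zs (L.e * (s * r)) := by group
    _ = _ := by rw [← h1]; group

/-- with a long layer: `w r = q ((1 + e) r)` -/
theorem longPart [Finite F] (hF : 4 ≤ Nat.card F) (hB : B.Self) (S : ShortLayer B) (L : LongLayer B) :
    LongPart S (fun r => L.q ((1 + S.e) * r)) where
  t_w := fun r => L.t_q _
  w_xa := fun r u => L.q_xa _ u
  w_zs := fun r u => L.q_zs _ u
  w_zl := fun r u => L.q_zl _ u
  w_p := fun r m => (comm_p_q hF hB S L m _).symm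
  w_w := fun r r' => L.q_q _ _
  w_add := by
    intro r r'
    obtain ⟨k, hk⟩ := L.q_add ((1 + S.e) * r) ((1 + S.e) * r')
    exact ⟨k, by rw [hk, mul_add]⟩
  w_xb := by
    intro r s
    have h := cxb_q L (rt s) (rt ((1 + S.e) * r))
    rw [sq_rt, sq_rt] at h
    exact ⟨_, h⟩
  cj_h_w := by
    intro α β r
    rw [cj_h_q]
    congr 1
    ring
  w_zero := fun r h => by
    show L.q ((1 + S.e) * r) = 1
    rw [h, L.q_zero]

/-- (R1) `e c = 0` -/
theorem e_mul_c (hF : 4 ≤ Nat.card F) [Finite F] (hB : B.Self) (S : ShortLayer B) : S.e * S.c = 0 := by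
  obtain ⟨κ, hκ⟩ := exists_comm_p'_p hF hB S
  have h1 := hκ 1 1
  have h2 : B.zl (κ * (1 * 1)) * B.zl (κ * (1 * 1)) = 1 := sq_of_add B.zl_add _
  have h3 := (S.p_zl 1 (κ * (1 * 1))).eq
  have h4 := (p'_zl S 1 (κ * (1 * 1))).eq
  -- `p 1 * p 1` commutes with `p' 1`
  have h5 : p' S 1 * (S.p 1 * S.p 1) = S.p 1 * S.p 1 * p' S 1 := by
    calc p' S 1 * (S.p 1 * S.p 1) = (p' S 1 * S.p 1) * S.p 1 := by group
      _ = B.zl (κ * (1 * 1)) * S.p 1 * (p' S 1 * S.p 1) := by nth_rewrite 1 [h1]; group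
      _ = B.zl (κ * (1 * 1)) * (S.p 1 * B.zl (κ * (1 * 1))) * S.p 1 * p' S 1 := by rw [h1]; group
      _ = (B.zl (κ * (1 * 1)) * B.zl (κ * (1 * 1))) * S.p 1 * S.p 1 * p' S 1 := by rw [h3]; group
      _ = _ := by rw [h2]; group
  rw [S.p_sq] at h5
  have h6 := zs_p' S (S.c * 1) 1
  rw [← h5] at h6
  have h7 : B.zl (S.e * (S.c * 1) * 1) = 1 := by
    have : p' S 1 * B.zs (S.c * 1) * B.zl (S.e * (S.c * 1) * 1) = p' S 1 * B.zs (S.c * 1) := h6.symm
    exact mul_eq_left.1 this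
  have h8 := zl_inj B (h7.trans (zl_zero B).symm)
  linear_combination h8

end one

section two

variable [Finite F] {B : Base F G}

/-- (R2) `e' e = 0` -/
theorem e_mul_e (hF : 4 ≤ Nat.card F) (hB : B.Self) (S : ShortLayer B) (L : LongLayer B) : S.e * L.e = 0 := by
  have P := longPart hF hB S L
  obtain ⟨ε, ε', h⟩ := exists_D P hF hB
  have h1 := h 1 1
  -- `q 1` centralises the right hand side
  have h2 : cj (L.q 1) (D S 1 1) = D S 1 1 := by
    apply cj_of_comm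
    rw [h1]
    exact (((comm_p_q hF hB S L _ _)).mul_left (L.q_q _ _)).mul_left (((L.q_zs _ _).symm).mul_left ((L.q_zl _ _).symm))
  have h3 : cj (L.q 1) (B.xb 1) = B.xb 1 * B.zs L.e := by
    have := cq_xb L 1 1
    rw [one_pow, mul_one, mul_one] at this
    exact this
  have h4 : cj (L.q 1) (p' S 1) = p' S 1 := cj_of_comm (comm_p'_q hF hB S L 1 1)
  have h4' : cj (L.q 1) (p' S 1)⁻¹ = (p' S 1)⁻¹ := cj_of_comm (comm_p'_q hF hB S L 1 1).inv_left
  have h5 : (p' S 1)⁻¹ * B.zs L.e * p' S 1 = B.zs L.e * B.zl (S.e * L.e * 1) := by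
    rw [mul_assoc, zs_p']; group
  have h6 : cj (L.q 1) (D S 1 1) = B.zl (S.e * L.e * 1) * D S 1 1 := by
    have g1 : D S 1 1 = (p' S 1)⁻¹ * B.xb 1 * p' S 1 * B.xb 1 := by rw [D, xb_inv]
    have g2 := (B.xb_zs 1 L.e).eq
    have g3 : B.zs L.e * B.zs L.e = 1 := sq_of_add B.zs_add _
    have g4 : ∀ z ∈ Z B, ∀ m, S.p m * z = z * S.p m := fun z hz m => (p_Z S m hz).eq
    -- `D` centralises `Z`
    have g5 : Commute (D S 1 1) (B.zs L.e) := by
      rw [h1]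
      exact (((p_Z S _ (zs_mem B _)).mul_left (L.q_zs _ _))).mul_left
        ((comm_of_add B.zs_add _ _).mul_left ((B.zs_zl _ _).symm))
    calc cj (L.q 1) (D S 1 1) = (p' S 1)⁻¹ * (B.xb 1 * B.zs L.e) * p' S 1 * (B.xb 1 * B.zs L.e) := by
          rw [g1, cj_mul, cj_mul, cj_mul, h3, h4, h4']
      _ = ((p' S 1)⁻¹ * B.zs L.e * p' S 1) * ((p' S 1)⁻¹ * B.xb 1 * p' S 1 * B.xb 1) * B.zs L.e := by
          nth_rewrite 1 [g2]; group
      _ = B.zs L.e * B.zl (S.e * L.e * 1) * (D S 1 1 * B.zs L.e) := by rw [h5, ← g1]; group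
      _ = (B.zs L.e * B.zl (S.e * L.e * 1)) * B.zs L.e * D S 1 1 := by rw [g5.eq]; group
      _ = B.zl (S.e * L.e * 1) * (B.zs L.e * B.zs L.e) * D S 1 1 := by rw [(B.zs_zl _ _).eq]; group
      _ = _ := by rw [g3, mul_one]
  rw [h2] at h6
  have h7 : B.zl (S.e * L.e * 1) = 1 := by
    have : B.zl (S.e * L.e * 1) * D S 1 1 = D S 1 1 := h6.symm
    exact mul_eq_right.1 this
  have h8 := zl_inj B (h7.trans (zl_zero B).symm)
  linear_combination h8

/-- (R3), (R4): applying `xb 1` twice to `p' 1` -/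
theorem twice (hF : 4 ≤ Nat.card F) (hB : B.Self) (S : ShortLayer B) (L : LongLayer B) :
    S.c = L.e * rt (1 + S.e) ∧ L.c * (1 + S.e) = 0 := by
  have P := longPart hF hB S L
  obtain ⟨ε, ε', h⟩ := exists_D P hF hB
  have h1 := h 1 1
  have h0 := D_add S 1 1 1
  rw [CharTwo.add_self_eq_zero] at h0
  have h2 : D S 1 0 = 1 := by rw [D, xb_zero]; group
  rw [h2] at h0
  simp only [one_pow, mul_one] at h1
  have hp : cj (B.xb 1) (S.p 1) = S.p 1 := cj_of_comm (S.p_xb 1 1)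
  have hq : cj (B.xb 1) (L.q (1 + S.e)) = L.q (1 + S.e) * B.zs (L.e * rt (1 + S.e)) := by
    have := cxb_q L 1 (rt (1 + S.e))
    rw [sq_rt, one_pow, one_mul] at this
    exact this
  have hz : cj (B.xb 1) (B.zs ε * B.zl ε') = B.zs ε * B.zl ε' :=
    cj_of_comm ((B.xb_zs 1 _).symm.mul_left (B.xb_zl 1 _).symm)
  rw [h1, cj_mul, cj_mul, hp, hq, hz] at h0
  set z := B.zs ε * B.zl ε' with hzdef
  have hzZ : z ∈ Z B := ⟨_, _, rfl⟩
  have hzz : z * z = 1 := by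
    rw [hzdef, z_V, V_mul, CharTwo.add_self_eq_zero, CharTwo.add_self_eq_zero, CharTwo.add_self_eq_zero, V_zero]
  have c1 := (p_Z S 1 hzZ).eq
  have c2 := (P.w_Z 1 hzZ).eq
  have c3 := (P.w_p 1 1).eq
  rw [mul_one] at c2 c3
  have c4 := (P.w_Z 1 (zs_mem B (L.e * rt (1 + S.e)))).eq
  rw [mul_one] at c4
  have e1 : S.p 1 * S.p 1 * (L.q (1 + S.e) * L.q (1 + S.e)) * B.zs (L.e * rt (1 + S.e)) = 1 := by
    calc S.p 1 * S.p 1 * (L.q (1 + S.e) * L.q (1 + S.e)) * B.zs (L.e * rt (1 + S.e))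
        = S.p 1 * S.p 1 * (L.q (1 + S.e) * L.q (1 + S.e)) * B.zs (L.e * rt (1 + S.e)) * (z * z) := by
          rw [hzz, mul_one]
      _ = S.p 1 * (S.p 1 * L.q (1 + S.e)) * (L.q (1 + S.e) * B.zs (L.e * rt (1 + S.e))) * (z * z) := by group
      _ = S.p 1 * (L.q (1 + S.e) * S.p 1) * (L.q (1 + S.e) * B.zs (L.e * rt (1 + S.e))) * (z * z) := by
          rw [c3]
      _ = S.p 1 * L.q (1 + S.e) * (S.p 1 * (L.q (1 + S.e) * (B.zs (L.e * rt (1 + S.e)) * z))) * z := by group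
      _ = S.p 1 * L.q (1 + S.e) * (S.p 1 * (L.q (1 + S.e) * (z * B.zs (L.e * rt (1 + S.e))))) * z := by
          rw [((TZ.of_mem hzZ).TV.comm_zs _).eq]
      _ = S.p 1 * L.q (1 + S.e) * (S.p 1 * ((L.q (1 + S.e) * z) * B.zs (L.e * rt (1 + S.e)))) * z := by group
      _ = S.p 1 * L.q (1 + S.e) * ((S.p 1 * z) * L.q (1 + S.e) * B.zs (L.e * rt (1 + S.e))) * z := by
          rw [c2]; group
      _ = S.p 1 * L.q (1 + S.e) * z * (S.p 1 * (L.q (1 + S.e) * B.zs (L.e * rt (1 + S.e))) * z) := by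
          rw [c1]; group
      _ = 1 := h0.symm
  rw [S.p_sq, L.q_sq, zs_V, zl_V, zs_V, V_mul, V_mul, ← V_zero B] at e1
  obtain ⟨-, h5, h6⟩ := V_inj B e1
  refine ⟨?_, by linear_combination h6⟩
  have h7 : S.c + L.e * rt (1 + S.e) = 0 := by linear_combination h5
  exact CharTwo.add_eq_zero.1 h7

/-- **the three cases** -/
theorem trichotomy (hF : 4 ≤ Nat.card F) (hB : B.Self) (S : ShortLayer B) (L : LongLayer B) :
    (S.e = 0 ∧ L.e = 0 ∧ S.c = 0 ∧ L.c = 0) ∨ (S.e = 1 ∧ L.e = 0 ∧ S.c = 0 ∧ L.c = 1) ∨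
      (L.e = 1 ∧ S.e = 0 ∧ L.c = 0 ∧ S.c = 1) := by
  have h1 := e_mul_e hF hB S L
  obtain ⟨h2, h3⟩ := twice hF hB S L
  obtain ⟨h4, h5⟩ := twice hF (swap_self B hB) (swapS L) (swapL S)
  have h4' : L.c = S.e * (1 + L.e) := by
    have : rt (1 + L.e ^ 2) = 1 + L.e := by rw [rt_add, rt_sq, rt_one]
    rw [← this]
    exact h4
  rcases mul_eq_zero.1 h1 with he | he
  · rw [he, add_zero, rt_one, mul_one] at h2
    rw [he, zero_mul] at h4'
    have h6 : S.c ^ 2 * (1 + L.e ^ 2) = 0 := h5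
    rw [h2] at h6
    rcases mul_eq_zero.1 h6 with h7 | h7
    · have h8 : L.e = 0 := pow_eq_zero_iff two_ne_zero |>.1 h7
      exact Or.inl ⟨he, h8, by rw [h2, h8], h4'⟩
    · have h8 : L.e ^ 2 = 1 := (CharTwo.add_eq_zero.1 h7).symm
      have h9 : L.e = 1 := by rw [← rt_sq L.e, h8, rt_one]
      exact Or.inr (Or.inr ⟨h9, he, h4', by rw [h2, h9]⟩)
  · rw [he, zero_mul] at h2
    rw [he, add_zero, mul_one] at h4'
    rw [h4'] at h3
    rcases mul_eq_zero.1 h3 with h7 | h7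
    · exact Or.inl ⟨h7, he, h2, by rw [h4', h7]⟩
    · have h8 : S.e = 1 := (CharTwo.add_eq_zero.1 h7).symm
      exact Or.inr (Or.inl ⟨h8, he, h2, by rw [h4', h8]⟩)

end two

end Cfsg.Agent.StdSpFour.Cases
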