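import Mathlib
import Cfsg.Agent.StdSpFour.Cases

/-!
S1778, type Sp₄(q): final forms of the relations of the second layer.

`p' u = nb (p u) nb⁻¹` over `xa u`, `q' s = na (q s) na⁻¹` over `xb s`.
-/

set_option autoImplicit false

namespace Cfsg.Agent.StdSpFour.Prime

open Cfsg.Agent.StdSpFour Cfsg.Agent.StdSpFour.Comm Cfsg.Agent.StdSpFour.Rel Cfsg.Agent.StdSpFour.Swap
open Cfsg.Agent.StdSpFour.Cases Subgroup

variable {F G : Type*} [Field F] [Group G] {B : Base F G}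

/-- the elements over `xb` -/
def q' (L : LongLayer B) (s : F) : G := MulAut.conj B.na (L.q s)

section basic

variable (L : LongLayer B)

theorem q'_zero : q' L 0 = 1 := by rw [q', L.q_zero, map_one]

theorem cj_na_t : MulAut.conj B.na B.t = B.t := by
  rw [MulAut.conj_apply, ← B.t_na.eq, mul_inv_cancel_right]
theorem cj_na_xb (u : F) : MulAut.conj B.na (B.xb u) = B.zl u := by
  rw [MulAut.conj_apply, B.na_xb, mul_inv_cancel_right]
theorem cj_na_zl (u : F) : MulAut.conj B.na (B.zl u) = B.xb u := by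
  rw [MulAut.conj_apply, B.na_zl, mul_inv_cancel_right]
theorem cj_na_zs (u : F) : MulAut.conj B.na (B.zs u) = B.zs u := by
  rw [MulAut.conj_apply, B.na_zs, mul_inv_cancel_right]

theorem t_q' (m : F) : B.t * q' L m = q' L m * B.t * B.xb m := by
  have := congrArg (MulAut.conj B.na) (L.t_q m)
  simpa only [map_mul, cj_na_t, cj_na_zl, ← q'.eq_1] using this

theorem q'_xb (m s : F) : Commute (q' L m) (B.xb s) := by
  have := (L.q_zl m s).map (MulAut.conj B.na)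
  simpa only [cj_na_zl, ← q'.eq_1] using this

theorem q'_zs (m s : F) : Commute (q' L m) (B.zs s) := by
  have := (L.q_zs m s).map (MulAut.conj B.na)
  simpa only [cj_na_zs, ← q'.eq_1] using this

theorem q'_q' (m s : F) : Commute (q' L m) (q' L s) := by
  have := (L.q_q m s).map (MulAut.conj B.na)
  simpa only [← q'.eq_1] using this

theorem q'_add (m m' : F) : ∃ k, q' L m * q' L m' = q' L (m + m') * B.xb k := by
  obtain ⟨k, hk⟩ := L.q_add m m'
  refine ⟨k, ?_⟩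
  have := congrArg (MulAut.conj B.na) hk
  simpa only [map_mul, cj_na_zl, ← q'.eq_1] using this

theorem q'_sq (m : F) : q' L m * q' L m = B.xb (L.c * m) := by
  have := congrArg (MulAut.conj B.na) (L.q_sq m)
  simpa only [map_mul, cj_na_zl, ← q'.eq_1] using this

/-- `[z_l(s²), q' (r²)] = z_s(e s r)` -/
theorem zl_q' (s r : F) : B.zl (s ^ 2) * q' L (r ^ 2) = q' L (r ^ 2) * B.zl (s ^ 2) * B.zs (L.e * (s * r)) := by
  have := congrArg (MulAut.conj B.na) (L.xb_q s r)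
  simpa only [map_mul, cj_na_xb, cj_na_zs, ← q'.eq_1] using this

theorem cj_na_h (α β : Fˣ) : MulAut.conj B.na (B.h α β) = B.h α⁻¹ (α ^ 2 * β) := by
  rw [MulAut.conj_apply, B.na_h, mul_inv_cancel_right]

theorem h_q' (α β : Fˣ) (m : F) : B.h α β * q' L m = q' L (β * m) * B.h α β := by
  have := congrArg (MulAut.conj B.na) (L.h_q α⁻¹ (α ^ 2 * β) m)
  simp only [map_mul, cj_na_h, ← q'.eq_1] at this
  have e0 : (α⁻¹) ^ 2 * (α ^ 2 * β) = β := by rw [← mul_assoc, ← mul_pow, inv_mul_cancel, one_pow, one_mul]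
  have e2 : ((α⁻¹ : Fˣ) : F) ^ 2 * ((α ^ 2 * β : Fˣ) : F) * m = β * m := by
    rw [← Units.val_pow_eq_pow_val, ← Units.val_mul, e0]
  rw [inv_inv, e0, e2] at this
  exact this

end basic

variable [CharP F 2] [Finite F]

/-- `[p' u, q r] = 1` -/
theorem p'_q (hF : 4 ≤ Nat.card F) (hB : B.Self) (S : ShortLayer B) (L : LongLayer B) (u r : F) :
    Commute (p' S u) (L.q r) := comm_p'_q hF hB S L u r

/-- `[p m, q r] = 1` -/
theorem p_q (hF : 4 ≤ Nat.card F) (hB : B.Self) (S : ShortLayer B) (L : LongLayer B) (m r : F) :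
    Commute (S.p m) (L.q r) := comm_p_q hF hB S L m r

/-- `[q' s, p m] = 1` -/
theorem q'_p (hF : 4 ≤ Nat.card F) (hB : B.Self) (S : ShortLayer B) (L : LongLayer B) (s m : F) :
    Commute (q' L s) (S.p m) := by
  have h := comm_p'_q hF (swap_self B hB) (swapS L) (swapL S) s (m ^ 2)
  have e : (swapL S).q (m ^ 2) = S.p m := by
    show S.p (rt (m ^ 2)) = _
    rw [rt_sq]
  rw [e] at h
  exact h

/-- `[p' u, p m] = z_l(κ u m)` -/
theorem p'_p (hF : 4 ≤ Nat.card F) (hB : B.Self) (S : ShortLayer B) :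
    ∃ κ, ∀ u m, p' S u * S.p m = B.zl (κ * (u * m)) * (S.p m * p' S u) := exists_comm_p'_p hF hB S

/-- `[q' s, q r] = z_s(κ √(s r))` -/
theorem q'_q (hF : 4 ≤ Nat.card F) (hB : B.Self) (L : LongLayer B) :
    ∃ κ, ∀ s r, q' L (s ^ 2) * L.q (r ^ 2) = B.zs (κ * (s * r)) * (L.q (r ^ 2) * q' L (s ^ 2)) := by
  obtain ⟨κ, h⟩ := exists_comm_p'_p hF (swap_self B hB) (swapS L)
  refine ⟨rt κ, fun s r => ?_⟩
  have := h (s ^ 2) (r ^ 2)
  have e : (swap B).zl (κ * (s ^ 2 * r ^ 2)) = B.zs (rt κ * (s * r)) := by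
    show B.zs (rt (κ * (s ^ 2 * r ^ 2))) = _
    rw [rt_mul, rt_mul, rt_sq, rt_sq]
  rw [e] at this
  exact this

/-- `p'(u)^{x_b(s)} = p'(u) p(us) q((1+e)u²s) z_s(ε us) z_l(ε' u²s)` (both layers) -/
theorem p'_xb (hF : 4 ≤ Nat.card F) (hB : B.Self) (S : ShortLayer B) (L : LongLayer B) :
    ∃ ε ε' : F, ∀ u s, (B.xb s)⁻¹ * p' S u * B.xb s = p' S u * (S.p (u * s) * L.q ((1 + S.e) * (u ^ 2 * s)) *
      (B.zs (ε * (u * s)) * B.zl (ε' * (u ^ 2 * s)))) := by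
  obtain ⟨ε, ε', h⟩ := exists_D (longPart hF hB S L) hF hB
  refine ⟨ε, ε', fun u s => ?_⟩
  rw [← h u s, D]
  group

/-- `p'(u)^{x_b(s)} = p'(u) p(us) z_s(ε us) z_l(ε' u²s)` (`e = 1`) -/
theorem p'_xb_one (hF : 4 ≤ Nat.card F) (hB : B.Self) (S : ShortLayer B) (he : S.e = 1) :
    ∃ ε ε' : F, ∀ u s, (B.xb s)⁻¹ * p' S u * B.xb s = p' S u * (S.p (u * s) *
      (B.zs (ε * (u * s)) * B.zl (ε' * (u ^ 2 * s)))) := by
  obtain ⟨ε, ε', h⟩ := exists_D (longPart_one he) hF hB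
  refine ⟨ε, ε', fun u s => ?_⟩
  have := h u s
  rw [mul_one] at this
  rw [← this, D]
  group

/-- `q'(s)^{x_a(u)} = q'(s) q(u²s) p((1+e)us) z_l(ε u²s) z_s(η us)` -/
theorem q'_xa (hF : 4 ≤ Nat.card F) (hB : B.Self) (S : ShortLayer B) (L : LongLayer B) :
    ∃ ε η : F, ∀ s u, (B.xa u)⁻¹ * q' L s * B.xa u = q' L s * (L.q (u ^ 2 * s) * S.p ((1 + L.e) * (u * s)) *
      (B.zl (ε * (u ^ 2 * s)) * B.zs (η * (u * s)))) := by
  obtain ⟨ε, ε', h⟩ := exists_D (longPart hF (swap_self B hB) (swapS L) (swapL S)) hF (swap_self B hB)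
  refine ⟨ε, rt ε', fun s u => ?_⟩
  have h1 := h s (u ^ 2)
  have e1 : D (swapS L) s (u ^ 2) = (q' L s)⁻¹ * (B.xa u)⁻¹ * q' L s * B.xa u := by
    show (q' L s)⁻¹ * (B.xa (rt (u ^ 2)))⁻¹ * q' L s * B.xa (rt (u ^ 2)) = _
    rw [rt_sq]
  have e2 : (swapL S).q ((1 + (swapS L).e) * (s ^ 2 * u ^ 2)) = S.p ((1 + L.e) * (u * s)) := by
    show S.p (rt ((1 + L.e ^ 2) * (s ^ 2 * u ^ 2))) = _
    rw [rt_mul, rt_mul, rt_add, rt_sq, rt_sq, rt_sq, rt_one, mul_comm s]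
  have e3 : (swap B).zl (ε' * (s ^ 2 * u ^ 2)) = B.zs (rt ε' * (u * s)) := by
    show B.zs (rt (ε' * (s ^ 2 * u ^ 2))) = _
    rw [rt_mul, rt_mul, rt_sq, rt_sq, mul_comm s]
  have e4 : (swap B).zs (ε * (s * u ^ 2)) = B.zl (ε * (u ^ 2 * s)) := by
    show B.zl (ε * (s * u ^ 2)) = _
    rw [mul_comm s]
  have e5 : (swapS L).p (s * u ^ 2) = L.q (u ^ 2 * s) := by
    show L.q (s * u ^ 2) = _
    rw [mul_comm s]
  rw [e1, e2, e3, e4, e5] at h1
  rw [← h1]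
  group

end Cfsg.Agent.StdSpFour.Prime
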