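import Cfsg.Agent.StdSpFour.Cases
import Cfsg.Agent.StdSpFour.Prime
import Cfsg.Agent.StdSpFour.CaseBModel

/-!
# S1778, type Sp₄(q), case (B): the relations and the homomorphism from the model

`Rels B Q P c`: `Q v = p'(v)`, `P n = p(n) z_s(εn)`.  `exists_rels`: from a `ShortLayer` with `e = 1`.
`Rels.hom : TB c →* G`, injective; `t` acts by `tau`.
-/

set_option autoImplicit false

namespace Cfsg.Agent.StdSpFour.CaseBRel

open Cfsg.Agent.StdSpFour Cfsg.Agent.StdSpFour.Comm Cfsg.Agent.StdSpFour.Prime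
open Cfsg.Agent.StdSpFour.CaseBModel

variable {F G : Type*} [Field F] [Group G]

/-- the relations of case (B) -/
structure Rels (B : Base F G) (Q P : F → G) (c : F) : Prop where
  P_add : ∀ m n, P (m + n) = P m * P n
  Q_add : ∀ m n, Q (m + n) = Q m * Q n
  t_P : ∀ n, B.t * P n = P n * B.t * B.zs n
  t_Q : ∀ v, B.t * Q v = Q v * B.t * B.xa v
  P_xb : ∀ n s, Commute (P n) (B.xb s)
  P_zs : ∀ n s, Commute (P n) (B.zs s)
  P_zl : ∀ n s, Commute (P n) (B.zl s)
  Q_xa : ∀ v s, Commute (Q v) (B.xa s)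
  Q_zl : ∀ v s, Commute (Q v) (B.zl s)
  Q_P : ∀ v n, Commute (Q v) (P n)
  xa_P : ∀ u n, B.xa u * P n = P n * B.xa u * B.zl (u * n)
  zs_Q : ∀ m v, B.zs m * Q v = Q v * B.zs m * B.zl (m * v)
  Q_xb : ∀ v s, Q v * B.xb s = B.xb s * Q v * (P (v * s) * B.zl (c * v ^ 2 * s))

section exists_

variable [CharP F 2] [Finite F] {B : Base F G}

/-- `p` is additive. -/
theorem p_add (hF : 4 ≤ Nat.card F) (hB : B.Self) (S : ShortLayer B) (he : S.e = 1) (m n : F) :
    S.p (m + n) = S.p m * S.p n := by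
  obtain ⟨ε, ε', h⟩ := p'_xb_one hF hB S he
  have h1 := h 1 (m + n)
  have h2 : (B.xb (m + n))⁻¹ * p' S 1 * B.xb (m + n) =
      (B.xb n)⁻¹ * ((B.xb m)⁻¹ * p' S 1 * B.xb m) * B.xb n := by
    rw [B.xb_add]; group
  have c1 : ∀ x s : F, Commute (S.p x * (B.zs (ε * x) * B.zl (ε' * x))) (B.xb s) := fun x s =>
    (S.p_xb x s).mul_left ((B.xb_zs s _).symm.mul_left (B.xb_zl s _).symm)
  have h3 : (B.xb n)⁻¹ * ((B.xb m)⁻¹ * p' S 1 * B.xb m) * B.xb n =
      p' S 1 * (S.p n * (B.zs (ε * n) * B.zl (ε' * n)) * (S.p m * (B.zs (ε * m) * B.zl (ε' * m)))) := by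
    have h4 := h 1 m
    have h5 := h 1 n
    simp only [one_mul, one_pow] at h4 h5
    rw [h4]
    calc (B.xb n)⁻¹ * (p' S 1 * (S.p m * (B.zs (ε * m) * B.zl (ε' * m)))) * B.xb n
        = (B.xb n)⁻¹ * p' S 1 * ((S.p m * (B.zs (ε * m) * B.zl (ε' * m))) * B.xb n) := by group
      _ = ((B.xb n)⁻¹ * p' S 1 * B.xb n) * (S.p m * (B.zs (ε * m) * B.zl (ε' * m))) := by
          rw [(c1 m n).eq]; group
      _ = _ := by rw [h5]; group
  simp only [one_mul, one_pow] at h1
  rw [h2, h3] at h1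
  have h4 := mul_left_cancel h1
  -- collect
  have h5 : S.p n * (B.zs (ε * n) * B.zl (ε' * n)) * (S.p m * (B.zs (ε * m) * B.zl (ε' * m))) =
      (S.p n * S.p m) * (B.zs (ε * (m + n)) * B.zl (ε' * (m + n))) := by
    have c2 : Commute (B.zs (ε * n) * B.zl (ε' * n)) (S.p m) :=
      ((S.p_zs m _).symm).mul_left (S.p_zl m _).symm
    have c3 : Commute (B.zl (ε' * n)) (B.zs (ε * m)) := (B.zs_zl _ _).symm
    calc _ = S.p n * ((B.zs (ε * n) * B.zl (ε' * n)) * S.p m) * (B.zs (ε * m) * B.zl (ε' * m)) := by group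
      _ = S.p n * S.p m * B.zs (ε * n) * (B.zl (ε' * n) * B.zs (ε * m)) * B.zl (ε' * m) := by
          rw [c2.eq]; group
      _ = S.p n * S.p m * (B.zs (ε * m) * B.zs (ε * n)) * (B.zl (ε' * m) * B.zl (ε' * n)) := by
          rw [c3.eq, (comm_of_add B.zs_add (ε * m) (ε * n)).eq, (comm_of_add B.zl_add (ε' * m) (ε' * n)).eq]
          group
      _ = _ := by rw [mul_add, mul_add, B.zs_add, B.zl_add]; group
  rw [h5] at h4
  have h6 := mul_right_cancel h4
  rw [← h6, (S.p_p n m).eq]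

theorem p'_add' (hF : 4 ≤ Nat.card F) (hB : B.Self) (S : ShortLayer B) (he : S.e = 1) (m n : F) :
    p' S (m + n) = p' S m * p' S n := by
  rw [p', p_add hF hB S he, map_mul]; rfl

theorem c_eq_zero (hF : 4 ≤ Nat.card F) (hB : B.Self) (S : ShortLayer B) (he : S.e = 1) : S.c = 0 := by
  have := Cases.e_mul_c hF hB S
  rwa [he, one_mul] at this

/-- **existence of the relations** -/
theorem exists_rels (hF : 4 ≤ Nat.card F) (hB : B.Self) (S : ShortLayer B) (he : S.e = 1) :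
    ∃ (ε c : F), Rels B (p' S) (fun n => S.p n * B.zs (ε * n)) c := by
  obtain ⟨ε, c, h⟩ := p'_xb_one hF hB S he
  obtain ⟨κ, hκ⟩ := p'_p hF hB S
  have padd := p_add hF hB S he
  have p'add := p'_add' hF hB S he
  have zsp : ∀ u m, B.zs u * p' S m = p' S m * B.zs u * B.zl (u * m) := by
    intro u m
    have := zs_p' S u m
    rwa [he, one_mul] at this
  have pp' : ∀ m v, S.p m * p' S v = p' S v * S.p m * B.zl (κ * (v * m)) := by
    intro m v
    have h1 := hκ v m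
    have h2 : B.zl (κ * (v * m)) * B.zl (κ * (v * m)) = 1 := sq_of_add B.zl_add _
    have c1 : Commute (B.zl (κ * (v * m))) (p' S v * S.p m) :=
      ((p'_zl S v _).symm).mul_right (S.p_zl m _).symm
    calc S.p m * p' S v = (B.zl (κ * (v * m)) * B.zl (κ * (v * m))) * (S.p m * p' S v) := by rw [h2, one_mul]
      _ = B.zl (κ * (v * m)) * (p' S v * S.p m) := by rw [h1]; group
      _ = _ := c1.eq
  -- `κ = ε`
  have hke : κ = ε := by
    have h1 := h (1 + 1) 1
    have hD : ∀ u s : F, ∀ v : F, S.p (u * s) * (B.zs (ε * (u * s)) * B.zl (c * (u ^ 2 * s))) * p' S v =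
        p' S v * (S.p (u * s) * (B.zs (ε * (u * s)) * B.zl (c * (u ^ 2 * s)))) *
          B.zl ((κ + ε) * (u * s * v)) := by
      intro u s v
      have c1 := (p'_zl S v (c * (u ^ 2 * s))).eq
      have c2 := (p'_zl S v (ε * (u * s) * v)).eq
      have c3 := (B.zs_zl (ε * (u * s)) (κ * (v * (u * s)))).eq
      have c4 : ∀ x y : F, B.zl x * B.zl y = B.zl y * B.zl x := fun x y => (comm_of_add B.zl_add x y).eq
      calc S.p (u * s) * (B.zs (ε * (u * s)) * B.zl (c * (u ^ 2 * s))) * p' S v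
          = S.p (u * s) * B.zs (ε * (u * s)) * (B.zl (c * (u ^ 2 * s)) * p' S v) := by group
        _ = S.p (u * s) * (B.zs (ε * (u * s)) * p' S v) * B.zl (c * (u ^ 2 * s)) := by rw [← c1]; group
        _ = (S.p (u * s) * p' S v) * B.zs (ε * (u * s)) * B.zl (ε * (u * s) * v) * B.zl (c * (u ^ 2 * s)) := by
            rw [zsp]; group
        _ = p' S v * S.p (u * s) * (B.zl (κ * (v * (u * s))) * B.zs (ε * (u * s))) * B.zl (ε * (u * s) * v) *
              B.zl (c * (u ^ 2 * s)) := by rw [pp']; group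
        _ = p' S v * S.p (u * s) * B.zs (ε * (u * s)) * ((B.zl (κ * (v * (u * s))) * B.zl (ε * (u * s) * v)) *
              B.zl (c * (u ^ 2 * s))) := by rw [← c3]; group
        _ = _ := by
            have : κ * (v * (u * s)) + ε * (u * s) * v = (κ + ε) * (u * s * v) := by ring
            rw [← B.zl_add, this, c4 _ (c * (u ^ 2 * s))]; group
    have h2 : (B.xb 1)⁻¹ * p' S (1 + 1) * B.xb 1 = ((B.xb 1)⁻¹ * p' S 1 * B.xb 1) * ((B.xb 1)⁻¹ * p' S 1 * B.xb 1) := by
      rw [p'add]; group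
    rw [h2, h 1 1] at h1
    have h3 : p' S 1 * (S.p (1 * 1) * (B.zs (ε * (1 * 1)) * B.zl (c * (1 ^ 2 * 1)))) *
        (p' S 1 * (S.p (1 * 1) * (B.zs (ε * (1 * 1)) * B.zl (c * (1 ^ 2 * 1))))) =
        p' S 1 * p' S 1 * ((S.p (1 * 1) * (B.zs (ε * (1 * 1)) * B.zl (c * (1 ^ 2 * 1)))) *
          B.zl ((κ + ε) * (1 * 1 * 1)) * (S.p (1 * 1) * (B.zs (ε * (1 * 1)) * B.zl (c * (1 ^ 2 * 1))))) := by
      calc _ = p' S 1 * ((S.p (1 * 1) * (B.zs (ε * (1 * 1)) * B.zl (c * (1 ^ 2 * 1)))) * p' S 1) *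
            (S.p (1 * 1) * (B.zs (ε * (1 * 1)) * B.zl (c * (1 ^ 2 * 1)))) := by group
        _ = _ := by rw [hD 1 1 1]; group
    rw [h3] at h1
    have e2 : (1 : F) + 1 = 0 := CharTwo.add_self_eq_zero 1
    have e3 : p' S 1 * p' S 1 = 1 := sq_of_add p'add 1
    have e4 : p' S (1 + 1) = 1 := by rw [e2, p'_zero]
    rw [e3, e4] at h1
    simp only [e2, one_mul, mul_one, one_pow, mul_zero, ne_eq, OfNat.ofNat_ne_zero,
      not_false_eq_true, zero_pow, S.p_zero, zs_zero, zl_zero] at h1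
    have cz : Commute (B.zl (κ + ε)) (S.p 1 * (B.zs ε * B.zl c)) :=
      ((S.p_zl 1 _).symm).mul_right (((B.zs_zl _ _).symm).mul_right (comm_of_add B.zl_add _ _))
    have e5 : (S.p 1 * (B.zs ε * B.zl c)) * (S.p 1 * (B.zs ε * B.zl c)) = 1 := by
      have c5 : Commute (B.zs ε * B.zl c) (S.p 1) := ((S.p_zs 1 _).symm).mul_left (S.p_zl 1 _).symm
      have c6 : Commute (B.zl c) (B.zs ε) := (B.zs_zl _ _).symm
      have e6 : S.p 1 * S.p 1 = 1 := sq_of_add padd 1
      have e7 : B.zs ε * B.zs ε = 1 := sq_of_add B.zs_add _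
      have e8 : B.zl c * B.zl c = 1 := sq_of_add B.zl_add _
      calc _ = S.p 1 * ((B.zs ε * B.zl c) * S.p 1) * (B.zs ε * B.zl c) := by group
        _ = (S.p 1 * S.p 1) * (B.zs ε * (B.zl c * B.zs ε) * B.zl c) := by rw [c5.eq]; group
        _ = (B.zs ε * B.zs ε) * (B.zl c * B.zl c) := by rw [e6, c6.eq]; group
        _ = 1 := by rw [e7, e8, one_mul]
    rw [mul_assoc, cz.eq, ← mul_assoc, e5, one_mul] at h1
    have h9 := zl_inj B (h1.trans (zl_zero B).symm)
    exact CharTwo.add_eq_zero.1 h9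
  subst hke
  refine ⟨κ, c, ?_⟩
  have Pcomm : ∀ m n, Commute (S.p m * B.zs (κ * m)) (S.p n * B.zs (κ * n)) := fun m n =>
    ((S.p_p m n).mul_right (S.p_zs m _)).mul_left (((S.p_zs n _).symm).mul_right (comm_of_add B.zs_add _ _))
  refine ⟨?_, p'add, ?_, t_p' S, ?_, ?_, ?_, p'_xa S, p'_zl S, ?_, ?_, ?_, ?_⟩
  · intro m n
    rw [padd, mul_add, B.zs_add]
    calc S.p m * S.p n * (B.zs (κ * m) * B.zs (κ * n)) = S.p m * (S.p n * B.zs (κ * m)) * B.zs (κ * n) := by group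
      _ = _ := by rw [(S.p_zs n _).eq]; group
  · intro n
    calc B.t * (S.p n * B.zs (κ * n)) = (B.t * S.p n) * B.zs (κ * n) := by group
      _ = S.p n * B.t * (B.zs n * B.zs (κ * n)) := by rw [S.t_p]; group
      _ = S.p n * (B.t * B.zs (κ * n)) * B.zs n := by rw [(comm_of_add B.zs_add n (κ * n)).eq]; group
      _ = _ := by rw [(B.t_zs _).eq]; group
  · exact fun n s => (S.p_xb n s).mul_left (B.xb_zs s _).symm
  · exact fun n s => (S.p_zs n s).mul_left (comm_of_add B.zs_add _ _)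
  · exact fun n s => (S.p_zl n s).mul_left (B.zs_zl _ _)
  · intro v n
    show p' S v * (S.p n * B.zs (κ * n)) = (S.p n * B.zs (κ * n)) * p' S v
    have h1 := zsp (κ * n) v
    have h2 := pp' n v
    have e8 : B.zl (κ * (v * n)) * B.zl (κ * n * v) = 1 := by
      have : κ * n * v = κ * (v * n) := by ring
      rw [this]; exact sq_of_add B.zl_add _
    have c3 := (B.zs_zl (κ * n) (κ * (v * n))).eq
    symm
    calc S.p n * B.zs (κ * n) * p' S v = S.p n * (B.zs (κ * n) * p' S v) := by group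
      _ = (S.p n * p' S v) * B.zs (κ * n) * B.zl (κ * n * v) := by rw [h1]; group
      _ = p' S v * S.p n * (B.zl (κ * (v * n)) * B.zs (κ * n)) * B.zl (κ * n * v) := by rw [h2]; group
      _ = p' S v * S.p n * B.zs (κ * n) * (B.zl (κ * (v * n)) * B.zl (κ * n * v)) := by rw [← c3]; group
      _ = _ := by rw [e8]; group
  · intro u n
    have h1 := S.xa_p u n
    rw [he, one_mul] at h1
    calc B.xa u * (S.p n * B.zs (κ * n)) = (B.xa u * S.p n) * B.zs (κ * n) := by group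
      _ = S.p n * B.xa u * (B.zl (u * n) * B.zs (κ * n)) := by rw [h1]; group
      _ = S.p n * (B.xa u * B.zs (κ * n)) * B.zl (u * n) := by rw [← (B.zs_zl _ _).eq]; group
      _ = _ := by rw [(B.xa_zs _ _).eq]; group
  · exact fun m v => zsp m v
  · intro v s
    have h1 := h v s
    calc p' S v * B.xb s = B.xb s * ((B.xb s)⁻¹ * p' S v * B.xb s) := by group
      _ = B.xb s * p' S v * (S.p (v * s) * B.zs (κ * (v * s)) * B.zl (c * (v ^ 2 * s))) := by rw [h1]; group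
      _ = _ := by rw [show c * (v ^ 2 * s) = c * v ^ 2 * s by ring]

end exists_

end Cfsg.Agent.StdSpFour.CaseBRel
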