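import Cfsg.Agent.StdSpFour.UFiveP

/-!
# S1778, type Sp₄(q), case (C), `R` a field: `LiftedF` from `CLift`
-/
set_option autoImplicit false
set_option linter.unusedSectionVars false
set_option linter.unusedSimpArgs false
set_option linter.style.haveILetI false

namespace Cfsg.Agent.StdSpFour.CaseC

open Cfsg Cfsg.Agent.StdEven.CoreQuot Cfsg.Agent.StdSpFour.Lift
open Cfsg.Agent.StdSpFour Cfsg.Agent.StdSpFour.Comm QuadraticAlgebra Cfsg.Agent.StdSpFour.UFiveModel
open Cfsg.Agent.StdSpFour.UFiveModel.T5 Cfsg.Agent.StdSpFour.StarField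

section fld

variable {F : Type*} [Field F] {E : F} [Hab : Fact (∀ r : F, r ^ 2 ≠ E + 1 * r)]

variable (E) in
/-- the embedding of `F` into `F[θ]` -/
noncomputable def iE : F →+* Rg E := algebraMap F (Rg E)

theorem iE_apply (a : F) : iE E a = ⟨a, 0⟩ := rfl

theorem iE_re (a : F) : (iE E a).re = a := rfl

theorem star_iE (a : F) : star (iE E a) = iE E a := by
  rw [iE_apply]
  ext <;> simp

theorem star_th_ne : star (th : Rg E) ≠ th := by
  intro h
  have h1 := congrArg QuadraticAlgebra.re h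
  rw [re_star] at h1
  change (0 : F) + 1 * 1 = 0 at h1
  simp at h1

variable (E) in
theorem exists_star_ne : ∃ x : Rg E, star x ≠ x := ⟨th, star_th_ne⟩

variable (E) in
/-- the fixed elements are `F` -/
def equivFx : Fx (Rg E) ≃ F where
  toFun x := x.1.re
  invFun a := ⟨⟨a, 0⟩, by
    show star (⟨a, 0⟩ : Rg E) = ⟨a, 0⟩
    ext <;> simp⟩
  left_inv x := Subtype.ext (eq_re_of_mem x.2).symm
  right_inv a := rfl

variable (E) in
theorem card_Fx : Nat.card (Fx (Rg E)) = Nat.card F :=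
  Nat.card_congr (equivFx E)

end fld

section hom

variable {F : Type*} [Field F] [CharP F 2] {G : Type*} [Group G] {B : Base F G} {E : F} {D : Three B E}

theorem nm_zero : nm (0 : Rg E) = 0 := by cmp; ring

/-- `hom` on the elements of `V₂` -/
theorem hom_V2 {x : T5 (Rg E)} (h1 : x.w1.im = 0) (h2 : x.w2 = 0) (h3 : x.w3.im = 0) (h4 : x.y = 0) (h5 : x.d = 0) :
    D.hom x = B.xa x.w1.re * B.zs x.w3.re * B.zl (x.c + x.w1 * star x.w3).re := by
  rw [Three.hom_apply, h2, h4, h5, nm_zero, re_zero, add_zero, Two.sg_zero, Two.sg'_zero, one_mul, one_mul]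
  have e1 : x.w1 = ⟨x.w1.re, 0⟩ := by
    ext
    · rfl
    · exact h1
  have e3 : x.w3 = ⟨x.w3.re, 0⟩ := by
    ext
    · rfl
    · exact h3
  have e4 : D.A x.w1 = B.xa x.w1.re := by
    conv_lhs => rw [e1]
    exact D.A_re _
  have e5 : D.X x.w3 = B.zs x.w3.re := by
    conv_lhs => rw [e3]
    exact D.X_re _
  rw [e4]
  unfold Two.v4
  rw [e5, xb_zero, one_mul, mul_assoc]

/-- `hom` on the elements of `X_b` -/
theorem hom_Xb {x : T5 (Rg E)} (h1 : x.w1 = 0) (h2 : x.w2 = 0) (h3 : x.w3 = 0) (h4 : x.y = 0) (h5 : x.c = 0) :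
    D.hom x = B.xb x.d.re := by
  rw [Three.hom_apply, h1, h2, h3, h4, h5, nm_zero, zero_mul, add_zero, add_zero, re_zero, Two.sg_zero, Two.sg'_zero,
    Two.A_zero, one_mul, one_mul, one_mul, ← Two.xb_eq]

end hom

section main

variable {F : Type*} [Field F] [CharP F 2] [Finite F] {G : Type*} [Group G] [Finite G] {A : Subgroup G} {t : G}
  {T : Subgroup G} {H : Hyp A t T} {B : Base F (XQ A t)} {E : F} {D : Three B E} (L : CLift H B D)
  [Hab : Fact (∀ r : F, r ^ 2 ≠ E + 1 * r)]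

theorem hK_iE (α γ : Fˣ) : L.hK (iE E (α : F)) (iE E (γ : F)) = L.h α (γ ^ 2) := by
  have h1 : (iE E (α : F)).re ≠ 0 := α.ne_zero
  have h2 : (iE E (γ : F)).re ≠ 0 := γ.ne_zero
  rw [L.hK_eq h1 h2]
  congr 1
  · exact Units.ext rfl
  · congr 1
    exact Units.ext rfl

theorem lifted (hE : Env B (im A t A)) (hBt : B.t = H.tX) : LiftedF H B (iE E) (L.toEnv hE hBt) where
  st := star_iE
  sur x h := ⟨x.re, eq_re_of_mem h⟩
  f_NO x := L.f_mem x
  two x := L.f_two x
  pr_xa u := by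
    refine (L.f_pr (T5.e1 (iE E u))).trans ?_
    refine (hom_V2 (D := D) rfl rfl rfl rfl rfl).trans ?_
    show B.xa u * B.zs 0 * B.zl ((0 : Rg E) + (iE E u) * star 0).re = B.xa u
    rw [star_zero, mul_zero, add_zero, re_zero, zs_zero, zl_zero, mul_one, mul_one]
  pr_xb u := by
    refine (L.f_pr (bE (iE E u) (star_iE u))).trans ?_
    exact hom_Xb (D := D) rfl rfl rfl rfl rfl
  pr_zs u := by
    refine (L.f_pr (T5.em (iE E u))).trans ?_
    refine (hom_V2 (D := D) rfl rfl rfl rfl rfl).trans ?_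
    show B.xa 0 * B.zs u * B.zl ((0 : Rg E) + 0 * star (iE E u)).re = B.zs u
    rw [zero_mul, add_zero, re_zero, xa_zero, zl_zero, mul_one, one_mul]
  pr_zl u := by
    refine (L.f_pr (cE (iE E u) (star_iE u))).trans ?_
    refine (hom_V2 (D := D) rfl rfl rfl rfl rfl).trans ?_
    show B.xa 0 * B.zs 0 * B.zl ((iE E u) + 0 * star 0).re = B.zl u
    rw [zero_mul, add_zero, iE_re, xa_zero, zs_zero, one_mul, one_mul]
  V2_A x hx := by
    apply L.f_mem_A
    obtain ⟨h1, h3, h2, h4, h5⟩ := hx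
    have e := hom_V2 (D := D) (im_of_mem h1) h2 (im_of_mem h3) h4 h5
    rw [e]
    exact mul_mem (mul_mem (hE.xa_mem _) (hE.zs_mem _)) (hE.zl_mem _)
  Xb_A x hx := by
    apply L.f_mem_A
    obtain ⟨h1, h2, h3, h4, h5⟩ := hx
    have e := hom_Xb (D := D) h1 h2 h3 h5 h4
    rw [e]
    exact hE.xb_mem _
  t_eq := rfl
  na_A := L.na_mem
  pr_na := L.na_pr
  nb_A := L.nb_mem
  pr_nb := L.nb_pr
  h_A α γ := by
    show L.hK (iE E (α : F)) (iE E (γ : F)) ∈ A
    rw [hK_iE]
    exact L.h_mem _ _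
  pr_h α γ := by
    have e : L.hK (iE E (α : F)) (iE E (γ : F)) = L.h α (γ ^ 2) := hK_iE L α γ
    rw [← L.h_pr]
    congr 1
    exact Subtype.ext e
  Cn_eq := rfl

end main

/-! ### the braid relation -/

namespace UEnv

variable {K : Type*} [Field K] [StarRing K] [CharP K 2] {G : Type*} [Group G] (V : UFive.Env K G)

/-- the braid relation from the braid relation modulo `Cn` -/
theorem braid_of {k : G} (hk : k ∈ V.Cn)
    (h : V.na * V.nb * V.na * V.nb = V.nb * V.na * V.nb * V.na * k) :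
    V.na * V.nb * V.na * V.nb = V.nb * V.na * V.nb * V.na := by
  have ha : V.na * k = k * V.na := (V.Cn_na k hk).symm
  have hb : V.nb * k = k * V.nb := (V.Cn_nb k hk).symm
  have aa := V.na_na
  have bb := V.nb_nb
  -- conjugate by `na`
  have h1 : V.nb * V.na * V.nb * V.na = V.na * V.nb * V.na * V.nb * k := by
    calc V.nb * V.na * V.nb * V.na = (V.na * V.na) * V.nb * V.na * V.nb * V.na := by rw [aa, one_mul]
      _ = V.na * (V.na * V.nb * V.na * V.nb) * V.na := by group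
      _ = V.na * (V.nb * V.na * V.nb * V.na * k) * V.na := by rw [h]
      _ = V.na * V.nb * V.na * V.nb * (V.na * k) * V.na := by group
      _ = V.na * V.nb * V.na * V.nb * k * (V.na * V.na) := by rw [ha]; group
      _ = _ := by rw [aa, mul_one]
  have h2 : k * k = 1 := by
    rw [h1] at h
    have h3 : V.na * V.nb * V.na * V.nb = V.na * V.nb * V.na * V.nb * (k * k) := by
      rw [← mul_assoc]; exact h
    exact mul_eq_left.1 h3.symm
  rw [h, V.Cn_odd k hk h2, mul_one]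

end UEnv

section braid

variable {F : Type*} [Field F] [CharP F 2] [Finite F] {K : Type*} [Field K] [StarRing K] [CharP K 2]
  {G : Type*} [Group G] [Finite G] {A : Subgroup G} {t : G} {T : Subgroup G} {H : Hyp A t T} {B : Base F (XQ A t)}
  {ι : F →+* K} {V : UFive.Env K G}

/-- the braid relation for the lifted environment -/
theorem LiftedF.braid (L : LiftedF H B ι V) (W : Weyl B) : V.na * V.nb * V.na * V.nb = V.nb * V.na * V.nb * V.na := by
  set x := V.nb * V.na * V.nb * V.na with hx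
  set y := V.na * V.nb * V.na * V.nb with hy
  have hxA : x ∈ A := mul_mem (mul_mem (mul_mem L.nb_A L.na_A) L.nb_A) L.na_A
  have hyA : y ∈ A := mul_mem (mul_mem (mul_mem L.na_A L.nb_A) L.na_A) L.nb_A
  refine UEnv.braid_of V (k := x⁻¹ * y) (L.mem_Cn (A.mul_mem (A.inv_mem hxA) hyA) ?_) (by rw [mul_inv_cancel_left])
  have h1 : pr A t ((⟨V.nb, H.A_le L.nb_A⟩ * ⟨V.na, H.A_le L.na_A⟩ * ⟨V.nb, H.A_le L.nb_A⟩ * ⟨V.na, H.A_le L.na_A⟩)⁻¹ *
      (⟨V.na, H.A_le L.na_A⟩ * ⟨V.nb, H.A_le L.nb_A⟩ * ⟨V.na, H.A_le L.na_A⟩ * ⟨V.nb, H.A_le L.nb_A⟩)) = 1 := by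
    simp only [map_mul, map_inv, L.pr_na, L.pr_nb]
    rw [EnvSwap.braid' W, inv_mul_cancel]
  exact h1

end braid

end Cfsg.Agent.StdSpFour.CaseC
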