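import Cfsg.Agent.StdSpFour.CaseCInv
import Cfsg.Agent.StdEven.OuterKill
import Cfsg.Agent.Lib.GoldschmidtFusion

/-!
# S1778, type Sp₄(q), case (C): the end, from an abstract environment

`Env i t S0`: `i : T5 (Rg E) →* G` injective, `t` acts by `tau`, `S0` a Sylow 2-subgroup of `C_G(t)` acting on
`T = range i` by semilinear automorphisms.  `star`: `t^G ∩ (T S0) = t^T`.  `main`: `t ∉ L` and `T` is a Sylow
2-subgroup of `L`.
-/

set_option autoImplicit false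
set_option linter.unusedSectionVars false

namespace Cfsg.Agent.StdSpFour.CaseCEnv

open Subgroup Cfsg.Agent.StdSpFour.CaseC Cfsg.Agent.StdSpFour.CaseCInv Cfsg.Agent.StdSpFour.UFiveModel
open Cfsg.Agent.StdRank2.OutField

universe u v

variable {F : Type v} {G : Type u} [Field F] [CharP F 2] [Group G] {E : F}

/-- `z` acts on `T` as `inn(y) ∘ s`, `y ∈ Y`, `s` semilinear over `σ` -/
def Typ (Y : Subgroup (T5 (Rg E))) (i : T5 (Rg E) →* G) (z : G) (σ : F ≃+* F) : Prop :=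
  ∃ y ∈ Y, ∃ s : Sem E σ, ∀ x, z * i x = i (y * s.m x * y⁻¹) * z

theorem Typ.top {Y : Subgroup (T5 (Rg E))} {i : T5 (Rg E) →* G} {z : G} {σ : F ≃+* F} (h : Typ Y i z σ) :
    Typ ⊤ i z σ := by
  obtain ⟨y, -, s, hz⟩ := h
  exact ⟨y, mem_top _, s, hz⟩

theorem conj_d (y : T5 (Rg E)) (a : F) : (y * mkT 0 0 0 0 0 a * y⁻¹).d.re = a := by
  have h1 : (mkT 0 0 0 0 0 a : T5 (Rg E)).d = ⟨a, 0⟩ := by
    ext
    · rfl
    · show (0 * star (0 : Rg E)).re = 0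
      rw [zero_mul]; rfl
  have h2 : (mkT 0 0 0 0 0 a : T5 (Rg E)).y = 0 := rfl
  rw [T5.mul_d, T5.mul_d, T5.mul_y, T5.inv_y, T5.inv_d, h1, h2]
  have h3 := congrArg QuadraticAlgebra.re y.hd
  simp only [mul_zero, add_zero, QuadraticAlgebra.re_add, QuadraticAlgebra.re_mul, QuadraticAlgebra.re_star,
    QuadraticAlgebra.im_star] at h3 ⊢
  linear_combination (norm := c2n) h3

theorem Typ.unique {i : T5 (Rg E) →* G} (inj : Function.Injective i) {Y Y' : Subgroup (T5 (Rg E))} {z : G}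
    {σ σ' : F ≃+* F} (h : Typ Y i z σ) (h' : Typ Y' i z σ') : σ = σ' := by
  obtain ⟨y, -, s, hz⟩ := h
  obtain ⟨y', -, s', hz'⟩ := h'
  ext a
  have h1 := inj (mul_right_cancel ((hz (mkT 0 0 0 0 0 a)).symm.trans (hz' (mkT 0 0 0 0 0 a))))
  have k : ∀ (σ : F ≃+* F) (s : Sem E σ), s.m (mkT 0 0 0 0 0 a) = mkT 0 0 0 0 0 (σ a) := by
    intro σ s
    refine ext' (map_zero s.s) (map_zero s.s) (map_zero s.s) (map_zero s.s) ?_ ?_
    · show (s.s ⟨0, _⟩).re = 0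
      have : (⟨0, ((0 : Rg E) * star 0 + 0 * star 0 + 0 * star 0).re⟩ : Rg E) = 0 := by
        simp only [zero_mul, add_zero]; rfl
      rw [this, map_zero]; rfl
    · show (s.s ⟨a, _⟩).re = σ a
      have : (⟨a, ((0 : Rg E) * star 0).re⟩ : Rg E) = ⟨a, 0⟩ := by
        simp only [zero_mul]; rfl
      rw [this, s.hC]
  rw [k, k] at h1
  have h2 := congrArg (fun x : T5 (Rg E) => x.d.re) h1
  rw [conj_d, conj_d] at h2
  exact h2

theorem Typ.mul {i : T5 (Rg E) →* G} {z z' : G} {σ σ' : F ≃+* F} {Y : Subgroup (T5 (Rg E))} (hY : Y = ⊤ ∨ Y = U E)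
    (h : Typ Y i z σ) (h' : Typ Y i z' σ') : Typ Y i (z * z') (σ * σ') := by
  obtain ⟨y, hy, s, hz⟩ := h
  obtain ⟨y', hy', s', hz'⟩ := h'
  refine ⟨y * s.m y', ?_, s.comp s', fun x => ?_⟩
  · rcases hY with rfl | rfl
    · exact mem_top _
    · exact mul_mem hy (s.m_mem_U hy')
  · rw [mul_assoc, hz', ← mul_assoc, hz, Sem.comp_m, map_mul s.m, map_mul s.m, map_inv, mul_assoc]
    congr 2
    group

theorem Typ.of_act {i : T5 (Rg E) →* G} {z : G} {σ : F ≃+* F} (s : Sem E σ)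
    (hz : ∀ x, z * i x = i (s.m x) * z) {Y : Subgroup (T5 (Rg E))} : Typ Y i z σ :=
  ⟨1, one_mem _, s, fun x => by rw [one_mul, inv_one, mul_one]; exact hz x⟩

theorem Typ.i {i : T5 (Rg E) →* G} (y : T5 (Rg E)) {Y : Subgroup (T5 (Rg E))} (hy : y ∈ Y) : Typ Y i (i y) 1 :=
  ⟨y, hy, Sem.one, fun x => by
    rw [Sem.one_m, ← map_mul, ← map_mul]
    congr 1
    group⟩

/-- `z_l(r)` -/
def eZ (r : F) : T5 (Rg E) := mkT 0 0 0 0 r 0

theorem eZ_c (r : F) : (eZ r : T5 (Rg E)).c = ⟨r, 0⟩ := by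
  ext
  · rfl
  · show ((0 : Rg E) * star 0 + 0 * star 0 + 0 * star 0).re = 0
    simp only [zero_mul, add_zero]; rfl

theorem eZ_d (r : F) : (eZ r : T5 (Rg E)).d = 0 := by
  ext
  · rfl
  · show ((0 : Rg E) * star 0).re = 0
    simp only [zero_mul]; rfl

theorem eZ_w1 (r : F) : (eZ r : T5 (Rg E)).w1 = 0 := rfl
theorem eZ_w2 (r : F) : (eZ r : T5 (Rg E)).w2 = 0 := rfl
theorem eZ_w3 (r : F) : (eZ r : T5 (Rg E)).w3 = 0 := rfl
theorem eZ_y (r : F) : (eZ r : T5 (Rg E)).y = 0 := rfl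

theorem eZ_zero : (eZ 0 : T5 (Rg E)) = 1 := by
  refine ext' rfl rfl rfl rfl rfl rfl

theorem eZ_mul (r r' : F) : (eZ r : T5 (Rg E)) * eZ r' = eZ (r + r') := by
  ext1
  · t5; rw [eZ_w1, eZ_w1, eZ_w1, add_zero]
  · t5; rw [eZ_w2, eZ_w2, eZ_w2, eZ_w1, eZ_y]; t5
  · t5; rw [eZ_w2, eZ_w3, eZ_w3, eZ_w3, eZ_w1, eZ_y]; t5
  · t5; rw [eZ_w2, eZ_w3, eZ_w3, eZ_w1, eZ_w1, eZ_w2, eZ_y, eZ_c, eZ_c, eZ_c]; t5
    ext
    · rfl
    · show (0 : F) + 0 = 0
      ring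
  · t5; rw [eZ_y, eZ_y, eZ_y, add_zero]
  · t5; rw [eZ_y, eZ_y, eZ_d, eZ_d, eZ_d]; t5

theorem eZ_comm (r : F) (x : T5 (Rg E)) : eZ r * x = x * eZ r := by
  ext1
  · t5; rw [eZ_w1]; ring
  · t5; rw [eZ_w2, eZ_w1, eZ_y]; ring
  · t5; rw [eZ_w2, eZ_w3, eZ_w1, eZ_y, eZ_d]; t5
  · t5; rw [eZ_w2, eZ_w3, eZ_w1, eZ_y]; t5; ring
  · t5; ring
  · t5; rw [eZ_y, eZ_d]; t5

theorem eZ_U (r : F) : (eZ r : T5 (Rg E)) ∈ U E := by
  rw [mem_U_iff]
  exact ⟨rfl, rfl, rfl, by rw [eZ_c], rfl, by rw [eZ_d]; rfl⟩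

theorem eZ_m {σ : F ≃+* F} (s : Sem E σ) (r : F) : s.m (eZ r) = eZ (σ r) := by
  ext1
  · exact map_zero s.s
  · exact map_zero s.s
  · exact map_zero s.s
  · show s.s (eZ r : T5 (Rg E)).c = _
    rw [eZ_c, eZ_c, s.hC]
  · exact map_zero s.s
  · show s.s (eZ r : T5 (Rg E)).d = _
    rw [eZ_d, eZ_d, map_zero]

theorem eq_eZ {x : T5 (Rg E)} (hx : x ∈ U E) (hc : ∀ z, x * z = z * x) : x = eZ x.c.re := by
  obtain ⟨a1, a2, a3, a4, a5, a6⟩ := mem_U_iff.1 hx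
  have h1 := congrArg T5.w3 (hc ⟨0, 0, 0, 0, 0, 1, by simp, by rw [star_one, CharTwo.add_self_eq_zero]; simp⟩)
  have h2 := congrArg T5.w3 (hc (eA 1))
  have h3 := congrArg T5.c (hc (eA th))
  simp only [T5.mul_w3, T5.mul_c, eA, star_zero, mul_zero, zero_mul, add_zero, zero_add, mul_one, one_mul] at h1 h2 h3
  have e1 : x.w1 = 0 := left_eq_add.1 h1
  have e2 : x.d = 0 := add_eq_left.1 h2
  rw [e1, a2] at h3
  simp only [zero_mul, zero_add] at h3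
  have h4 := congrArg QuadraticAlgebra.re (add_left_cancel h3)
  have e3 : x.w3 = 0 := by
    ext
    · simp only [th, QuadraticAlgebra.re_mul, QuadraticAlgebra.re_star, QuadraticAlgebra.im_star, a3] at h4
      show x.w3.re = 0
      linear_combination h4
    · exact a3
  refine ext' e1 a2 e3 a5 rfl ?_
  rw [e2]; rfl

/-- the environment -/
structure Env (i : T5 (Rg E) →* G) (t : G) (S0 : Subgroup G) : Prop where
  inj : Function.Injective i
  tt : t * t = 1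
  t_i : ∀ x, t * i x = i (tau x) * t
  t_ne : ∀ x, i x ≠ t
  two : IsPGroup 2 S0
  mem_t : t ∈ S0
  mem_U : ∀ x ∈ U E, i x ∈ S0
  comm : ∀ z ∈ S0, z * t = t * z
  syl : ∀ Q : Subgroup G, IsPGroup 2 Q → (∀ z ∈ Q, z * t = t * z) → S0 ≤ Q → Q ≤ S0
  typ : ∀ z ∈ S0, ∃ σ, Typ (U E) i z σ
  one : ∀ z ∈ S0, Typ ⊤ i z 1 → ∃ x ∈ U E, z = i x ∨ z = t * i x
  fus : ∀ w c, IsConj (i (mkT w 0 0 0 c 0)) (i (mkT 0 0 w 0 c 0))

namespace Env

variable {i : T5 (Rg E) →* G} {t : G} {S0 : Subgroup G} (E0 : Env i t S0)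
include E0
theorem t_inv : t⁻¹ = t := inv_eq_of_mul_eq_one_right E0.tt

theorem i_t (x : T5 (Rg E)) : i x * t = t * i (tau x) := by
  rw [E0.t_i, tau_tau]

theorem mem_U_of_comm {x : T5 (Rg E)} (h : i x * t = t * i x) : x ∈ U E := by
  rw [CaseCInv.mem_U]
  rw [E0.i_t] at h
  exact E0.inj (mul_left_cancel h)

/-- `T` -/
def TT (_ : Env i t S0) : Subgroup G := i.range

theorem mem_TT {g : G} : g ∈ E0.TT ↔ ∃ x, i x = g := Iff.rfl

/-- `S0` normalises `T` -/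
theorem conj_TT {z : G} (hz : z ∈ S0) {g : G} (hg : g ∈ E0.TT) : z * g * z⁻¹ ∈ E0.TT := by
  obtain ⟨x, rfl⟩ := hg
  obtain ⟨σ, y, -, s, hz'⟩ := E0.typ z hz
  exact ⟨y * s.m x * y⁻¹, by rw [hz' x, mul_inv_cancel_right]⟩

/-- `S = T S0` -/
def SS (E0 : Env i t S0) : Subgroup G where
  carrier := {g | ∃ x, ∃ z ∈ S0, g = i x * z}
  one_mem' := ⟨1, 1, one_mem _, by simp⟩
  mul_mem' := by
    rintro _ _ ⟨x, z, hz, rfl⟩ ⟨x', z', hz', rfl⟩
    obtain ⟨x'', hx''⟩ := E0.conj_TT hz (E0.mem_TT.2 ⟨x', rfl⟩)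
    refine ⟨x * x'', z * z', mul_mem hz hz', ?_⟩
    rw [map_mul, hx'']
    group
  inv_mem' := by
    rintro _ ⟨x, z, hz, rfl⟩
    obtain ⟨x'', hx''⟩ := E0.conj_TT (inv_mem hz) (E0.mem_TT.2 ⟨x⁻¹, rfl⟩)
    refine ⟨x'', z⁻¹, inv_mem hz, ?_⟩
    rw [hx'', map_inv]
    group

theorem mem_SS {g : G} : g ∈ E0.SS ↔ ∃ x, ∃ z ∈ S0, g = i x * z := Iff.rfl

theorem TT_le : E0.TT ≤ E0.SS := by
  rintro _ ⟨x, rfl⟩
  exact ⟨x, 1, one_mem _, by simp⟩

theorem S0_le : S0 ≤ E0.SS := fun z hz => ⟨1, z, hz, by simp⟩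

theorem S0_le_normalizer : S0 ≤ normalizer (E0.TT : Set G) := by
  intro z hz
  rw [mem_normalizer_iff]
  intro g
  refine ⟨fun hg => E0.conj_TT hz hg, fun hg => ?_⟩
  have := E0.conj_TT (inv_mem hz) hg
  have e : z⁻¹ * (z * g * z⁻¹) * z⁻¹⁻¹ = g := by group
  rwa [e] at this

theorem isPGroup_TT [Finite F] : IsPGroup 2 E0.TT := by
  have h1 : IsPGroup 2 (T5 (Rg E)) := by
    rw [IsPGroup.iff_card]
    obtain ⟨n, hn⟩ : ∃ n, Nat.card F = 2 ^ n := by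
      have := Fintype.ofFinite F
      obtain ⟨n, -, hn⟩ := FiniteField.card F 2
      exact ⟨n, by rw [Nat.card_eq_fintype_card, hn]⟩
    exact ⟨n * 10, by rw [card_T, hn, ← pow_mul]⟩
  exact IsPGroup.of_surjective h1 i.rangeRestrict i.rangeRestrict_surjective

theorem isPGroup_SS [Finite F] : IsPGroup 2 E0.SS := by
  have h1 : IsPGroup 2 (E0.TT ⊔ S0 : Subgroup G) :=
    IsPGroup.to_sup_of_normal_left' E0.isPGroup_TT E0.two E0.S0_le_normalizer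
  refine h1.to_le ?_
  rintro _ ⟨x, z, hz, rfl⟩
  exact mul_mem (mem_sup_left ⟨x, rfl⟩) (mem_sup_right hz)

theorem conj_SS_TT {s g : G} (hs : s ∈ E0.SS) (hg : g ∈ E0.TT) : s * g * s⁻¹ ∈ E0.TT := by
  obtain ⟨x, z, hz, rfl⟩ := hs
  obtain ⟨w, hw⟩ := E0.conj_TT hz hg
  refine ⟨x * w * x⁻¹, ?_⟩
  rw [map_mul, map_mul, map_inv, hw]
  group

theorem typ_SS {g : G} (hg : g ∈ E0.SS) : ∃ σ, Typ ⊤ i g σ := by
  obtain ⟨x, z, hz, rfl⟩ := hg
  obtain ⟨σ, hσ⟩ := E0.typ z hz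
  exact ⟨1 * σ, (Typ.i x (mem_top _)).mul (Or.inl rfl) hσ.top⟩

theorem typ_t : Typ (U E) i t 1 := Typ.of_act Sem.conj E0.t_i

/-- the field automorphism induced by an element of `S` -/
noncomputable def chi : E0.SS →* (F ≃+* F) where
  toFun g := (E0.typ_SS g.2).choose
  map_one' := by
    have h1 := (E0.typ_SS (one_mem E0.SS)).choose_spec
    have h2 : Typ ⊤ i (1 : G) (1 : F ≃+* F) := by
      have := Typ.i (i := i) (1 : T5 (Rg E)) (mem_top _)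
      rwa [map_one] at this
    exact h1.unique E0.inj h2
  map_mul' g g' := by
    have h1 := (E0.typ_SS g.2).choose_spec
    have h2 := (E0.typ_SS g'.2).choose_spec
    have h3 := (E0.typ_SS (g * g').2).choose_spec
    exact h3.unique E0.inj (h1.mul (Or.inl rfl) h2)

theorem chi_spec (g : E0.SS) : Typ ⊤ i (g : G) (E0.chi g) := (E0.typ_SS g.2).choose_spec

theorem chi_eq {g : E0.SS} {σ : F ≃+* F} {Y : Subgroup (T5 (Rg E))} (h : Typ Y i (g : G) σ) : E0.chi g = σ :=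
  (E0.chi_spec g).unique E0.inj h

theorem chi_i (x : T5 (Rg E)) : E0.chi ⟨i x, E0.TT_le ⟨x, rfl⟩⟩ = 1 := E0.chi_eq (Typ.i x (mem_top _))

theorem chi_t : E0.chi ⟨t, E0.S0_le E0.mem_t⟩ = 1 := E0.chi_eq E0.typ_t

theorem of_chi_one {g : G} (hg : g ∈ E0.SS) (h : E0.chi ⟨g, hg⟩ = 1) : (∃ x, g = i x) ∨ ∃ x, g = t * i x := by
  obtain ⟨x, z, hz, rfl⟩ := hg
  have h1 := E0.chi_spec ⟨i x * z, ⟨x, z, hz, rfl⟩⟩
  rw [h] at h1
  have h2 : Typ ⊤ i z 1 := by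
    have h3 := (Typ.i (i := i) x⁻¹ (mem_top _)).mul (Or.inl rfl) h1
    have e : i x⁻¹ * (i x * z) = z := by rw [map_inv]; group
    rw [one_mul] at h3
    change Typ ⊤ i (i x⁻¹ * (i x * z)) 1 at h3
    rwa [e] at h3
  obtain ⟨x', -, h3 | h3⟩ := E0.one z hz h2
  · left
    exact ⟨x * x', by rw [h3, map_mul]⟩
  · right
    refine ⟨tau x * x', ?_⟩
    rw [h3, ← mul_assoc, E0.i_t, map_mul, mul_assoc]

/-- `[S, S] ≤ T` modulo the central element `t` -/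
theorem t_comm_mod {g : G} (hg : g ∈ E0.SS) : g⁻¹ * t⁻¹ * g * t ∈ E0.TT := by
  obtain ⟨x, z, hz, rfl⟩ := hg
  have h1 : t⁻¹ * i x = i (tau x) * t⁻¹ := by rw [E0.t_inv, E0.t_i]
  have h2 : (z⁻¹ * i (x⁻¹ * tau x) * z⁻¹⁻¹) ∈ E0.TT := E0.conj_TT (inv_mem hz) ⟨_, rfl⟩
  have h3 : (i x * z)⁻¹ * t⁻¹ * (i x * z) * t = z⁻¹ * i (x⁻¹ * tau x) * z⁻¹⁻¹ := by
    have h4 : t⁻¹ * z * t = z := by
      rw [mul_assoc, E0.comm z hz]; group
    calc (i x * z)⁻¹ * t⁻¹ * (i x * z) * t = z⁻¹ * (i x)⁻¹ * (t⁻¹ * i x) * z * t := by group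
      _ = z⁻¹ * (i x)⁻¹ * i (tau x) * (t⁻¹ * z * t) := by rw [h1]; group
      _ = _ := by rw [h4, map_mul, map_inv]; group
  rw [h3]; exact h2

theorem comm_TT [Finite F] {g h : G} (hg : g ∈ E0.SS) (hh : h ∈ E0.SS) : (h * g)⁻¹ * (g * h) ∈ E0.TT := by
  let N : Subgroup E0.SS := E0.TT.subgroupOf E0.SS
  have hN : N.Normal := ⟨fun n hn g => by
    rw [mem_subgroupOf] at hn ⊢
    exact E0.conj_SS_TT g.2 hn⟩
  let f : E0.SS ⧸ N →* (F ≃+* F) := QuotientGroup.lift N E0.chi (by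
    rintro ⟨g, hg⟩ hgN
    obtain ⟨x, rfl⟩ := mem_subgroupOf.1 hgN
    exact E0.chi_i x)
  have hcyc : IsCyclic (F ≃+* F) := isCyclic
  have hker : f.ker ≤ center (E0.SS ⧸ N) := by
    intro q hq
    obtain ⟨⟨g, hg⟩, rfl⟩ := QuotientGroup.mk_surjective q
    have h1 : E0.chi ⟨g, hg⟩ = 1 := hq
    rw [mem_center_iff]
    intro r
    obtain ⟨⟨h, hh⟩, rfl⟩ := QuotientGroup.mk_surjective r
    rcases E0.of_chi_one hg h1 with ⟨x, rfl⟩ | ⟨x, rfl⟩
    · have : ((⟨i x, hg⟩ : E0.SS) : E0.SS ⧸ N) = 1 := (QuotientGroup.eq_one_iff _).2 (mem_subgroupOf.2 ⟨x, rfl⟩)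
      rw [this, mul_one, one_mul]
    · have h2 : ((⟨t * i x, hg⟩ : E0.SS) : E0.SS ⧸ N) = ((⟨t, E0.S0_le E0.mem_t⟩ : E0.SS) : E0.SS ⧸ N) := by
        rw [eq_comm, QuotientGroup.eq, mem_subgroupOf]
        show t⁻¹ * (t * i x) ∈ E0.TT
        exact ⟨x, by group⟩
      rw [h2, ← QuotientGroup.mk_mul, ← QuotientGroup.mk_mul, eq_comm, QuotientGroup.eq, mem_subgroupOf]
      show (t * h)⁻¹ * (h * t) ∈ E0.TT
      have e : (t * h)⁻¹ * (h * t) = h⁻¹ * t⁻¹ * h * t := by group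
      rw [e]
      exact E0.t_comm_mod hh
  have hc := (f.isMulCommutative_of_isCyclic_of_ker_le_center hker).is_comm.comm
  have h1 := hc ((⟨h, hh⟩ : E0.SS) : E0.SS ⧸ N) ((⟨g, hg⟩ : E0.SS) : E0.SS ⧸ N)
  rw [← QuotientGroup.mk_mul, ← QuotientGroup.mk_mul, QuotientGroup.eq, mem_subgroupOf] at h1
  exact h1

theorem TT_normal : (E0.TT.subgroupOf E0.SS).Normal := ⟨fun n hn g => by
    rw [mem_subgroupOf] at hn ⊢
    exact E0.conj_SS_TT g.2 hn⟩

theorem exists_phi [Finite F] : ∃ (A : Type u) (_ : CommGroup A) (φ : E0.SS →* A),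
    φ ⟨t, E0.S0_le E0.mem_t⟩ ≠ 1 := by
  let N : Subgroup E0.SS := E0.TT.subgroupOf E0.SS
  have hN : N.Normal := E0.TT_normal
  let I : CommGroup (E0.SS ⧸ N) :=
    { (inferInstance : Group (E0.SS ⧸ N)) with
      mul_comm := by
        intro a b
        obtain ⟨⟨g, hg⟩, rfl⟩ := QuotientGroup.mk_surjective a
        obtain ⟨⟨h, hh⟩, rfl⟩ := QuotientGroup.mk_surjective b
        rw [← QuotientGroup.mk_mul, ← QuotientGroup.mk_mul, QuotientGroup.eq, mem_subgroupOf]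
        exact E0.comm_TT hh hg }
  refine ⟨E0.SS ⧸ N, I, QuotientGroup.mk' N, ?_⟩
  intro h
  have h1 : (⟨t, E0.S0_le E0.mem_t⟩ : E0.SS) ∈ N := (QuotientGroup.eq_one_iff _).1 h
  obtain ⟨x, hx⟩ := mem_subgroupOf.1 h1
  exact E0.t_ne x hx

/-- involutions in the cosets of involutory type -/
theorem exists_invol [Finite F] {g : G} (hg : g ∈ E0.SS) {σ : F ≃+* F} (hσ : E0.chi ⟨g, hg⟩ = σ) (hσ2 : σ * σ = 1)
    (hσ1 : σ ≠ 1) (hgg : g * g ∈ E0.TT) :
    ∃ f ∈ S0, ∃ s : Sem E σ, f * f = 1 ∧ (∀ w, s.s (s.s w) = w) ∧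
      (∀ x, f * i x = i (s.m x) * f) ∧ ∃ x, g = i x * f := by
  obtain ⟨x, z, hz, rfl⟩ := hg
  obtain ⟨σ', hT⟩ := E0.typ z hz
  have hσσ : σ' = σ := by
    have h1 := E0.chi_eq (g := ⟨i x * z, ⟨x, z, hz, rfl⟩⟩) ((Typ.i x (mem_top _)).mul (Or.inl rfl) hT.top)
    rw [hσ, one_mul] at h1
    exact h1.symm
  subst hσσ
  obtain ⟨y, hy, s, hz'⟩ := hT
  set g1 : G := (i y)⁻¹ * z with hg1
  have hg1S : g1 ∈ S0 := mul_mem (inv_mem (E0.mem_U y hy)) hz
  have act : ∀ x, g1 * i x = i (s.m x) * g1 := by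
    intro x
    rw [hg1, mul_assoc, hz', map_mul, map_mul, map_inv]
    group
  have hT1 : Typ ⊤ i (g1 * g1) 1 := by
    have := (Typ.of_act s act (Y := ⊤)).mul (Or.inl rfl) (Typ.of_act s act (Y := ⊤))
    rwa [hσ2] at this
  -- `g1 g1 ∈ T`
  have hzz : (i x * z) * (i x * z) = i (x * y * s.m (x * y)) * (g1 * g1) := by
    have e : z = i y * g1 := by rw [hg1]; group
    have e1 : i x * z = i (x * y) * g1 := by rw [e, map_mul, mul_assoc]
    rw [e1]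
    calc i (x * y) * g1 * (i (x * y) * g1) = i (x * y) * (g1 * i (x * y)) * g1 := by group
      _ = _ := by rw [act, map_mul i (x * y)]; group
  obtain ⟨x1, hx1, h2⟩ := E0.one _ (mul_mem hg1S hg1S) hT1
  have h3 : g1 * g1 = i x1 := by
    rcases h2 with h2 | h2
    · exact h2
    · exfalso
      rw [hzz, h2] at hgg
      obtain ⟨w, hw⟩ := hgg
      have : i ((x * y * s.m (x * y))⁻¹ * w * x1⁻¹) = t := by
        rw [map_mul, map_mul, hw, map_inv, map_inv]; group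
      exact E0.t_ne _ this
  have h4 : ∀ x, x1 * x = s.m (s.m x) * x1 := by
    intro x
    apply E0.inj
    rw [map_mul, map_mul, ← h3, mul_assoc, act, ← mul_assoc, act, mul_assoc]
  have hss : ∀ w, s.s (s.s w) = w := by
    intro w
    have e1 := congrArg T5.w1 (h4 (eA w))
    rw [T5.mul_w1, T5.mul_w1] at e1
    have e2 : x1.w1 + w = s.s (s.s w) + x1.w1 := e1
    linear_combination (-1 : Rg E) * e2
  have hmm : ∀ x, s.m (s.m x) = x := by
    intro x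
    ext1
    all_goals exact hss _
  have hx1e : x1 = eZ x1.c.re := eq_eZ hx1 (fun z => by rw [h4, hmm])
  set r1 := x1.c.re with hr1
  -- `σ r = r`
  have hr : σ' r1 = r1 := by
    have h5 : g1 * i x1 = i x1 * g1 := by
      rw [← h3]
      exact (mul_assoc g1 g1 g1).symm
    rw [act] at h5
    have h6 := E0.inj (mul_right_cancel h5)
    rw [hx1e, eZ_m] at h6
    exact congrArg (fun z : T5 (Rg E) => z.c.re) h6
  obtain ⟨r2, hr2⟩ := exists_trace hσ2 hσ1 hr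
  set ρ : T5 (Rg E) := eZ r2 with hρ
  have hρU : ρ ∈ U E := eZ_U _
  have hρφ : s.m ρ * (x1 * ρ) = 1 := by
    rw [hx1e, hρ, eZ_m, eZ_mul, eZ_mul, ← eZ_zero]
    congr 1
    linear_combination (norm := c2n) hr2
  refine ⟨g1 * i ρ, mul_mem hg1S (E0.mem_U _ hρU), s, ?_, hss, ?_, x * y * s.m ρ, ?_⟩
  · calc g1 * i ρ * (g1 * i ρ) = (g1 * i ρ) * g1 * i ρ := by group
      _ = i (s.m ρ) * (g1 * g1) * i ρ := by rw [act]; group
      _ = i (s.m ρ * (x1 * ρ)) := by rw [h3, map_mul, map_mul]; group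
      _ = 1 := by rw [hρφ, map_one]
  · intro w
    calc g1 * i ρ * i w = g1 * i (ρ * w) := by rw [map_mul]; group
      _ = (g1 * i w) * i ρ := by rw [hρ, eZ_comm, map_mul]; group
      _ = _ := by rw [act]; group
  · have hφρ : s.m ρ * s.m ρ = 1 := by
      rw [hρ, eZ_m, eZ_mul, CharTwo.add_self_eq_zero, eZ_zero]
    calc i x * z = i (x * y) * g1 := by rw [hg1, map_mul]; group
      _ = i (x * y) * i (s.m ρ * s.m ρ) * g1 := by rw [hφρ, map_one, mul_one]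
      _ = i (x * y) * i (s.m ρ) * (i (s.m ρ) * g1) := by rw [map_mul i (s.m ρ)]; group
      _ = i (x * y) * i (s.m ρ) * (g1 * i ρ) := by rw [← act]
      _ = _ := by rw [map_mul i (x * y)]

/-- `t` is not conjugate into `T` -/
theorem not_conj [Finite F] [Finite G] (hF : 4 ≤ Nat.card F) (x : T5 (Rg E)) : ¬ IsConj t (i x) := by
  have : Fact (Nat.Prime 2) := ⟨Nat.prime_two⟩
  intro hconj
  have hix : i x * i x = 1 := by
    obtain ⟨g, hg⟩ := isConj_iff.1 hconj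
    rw [← hg]
    calc g * t * g⁻¹ * (g * t * g⁻¹) = g * (t * t) * g⁻¹ := by group
      _ = 1 := by rw [E0.tt]; group
  have hx : x * x = 1 := by
    apply E0.inj
    rw [map_mul, map_one, hix]
  obtain ⟨x', W, hW4, hWsq, hWc, hWx, hc'⟩ : ∃ (x' : T5 (Rg E)) (W : Subgroup (T5 (Rg E))),
      Nat.card F ^ 4 ≤ Nat.card W ∧ (∀ w ∈ W, w * w = 1) ∧ (∀ w ∈ W, ∀ w' ∈ W, w * w' = w' * w) ∧
      (∀ w ∈ W, w * x' = x' * w) ∧ IsConj t (i x') := by
    rcases rank hx with ⟨W, h1, h2, h3, h4⟩ | ⟨y, w, c, h⟩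
    · exact ⟨x, W, h1, h2, h3, h4, hconj⟩
    · refine ⟨mkT 0 0 w 0 c 0, V4 E, card_V4.ge, fun w hw => V4_sq hw, fun w hw w' hw' => V4_comm hw hw',
        fun z hz => V4_comm' hz rfl, (hconj.trans ?_).trans (E0.fus w c)⟩
      rw [isConj_iff]
      refine ⟨(i y)⁻¹, ?_⟩
      rw [inv_inv, mul_assoc, ← map_mul, h, map_mul, inv_mul_cancel_left]
  obtain ⟨g, hg⟩ := isConj_iff.1 hc'
  -- the elementary abelian group of order `q⁴` in `C_G(t)`
  set C : Subgroup G := centralizer ({t} : Set G) with hC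
  set E1 : Subgroup G := (W.map i).map (MulAut.conj g⁻¹).toMonoidHom with hE1
  have hE1C : E1 ≤ C := by
    rintro _ ⟨_, ⟨w, hw, rfl⟩, rfl⟩
    rw [hC, mem_centralizer_singleton_iff]
    have h1 : i w * i x' = i x' * i w := by rw [← map_mul, hWx w hw, map_mul]
    rw [← hg] at h1
    show (MulAut.conj g⁻¹) (i w) * t = t * (MulAut.conj g⁻¹) (i w)
    rw [MulAut.conj_apply, inv_inv]
    calc g⁻¹ * i w * g * t = g⁻¹ * (i w * (g * t * g⁻¹)) * g := by group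
      _ = t * (g⁻¹ * i w * g) := by rw [h1]; group
  have hE1p : IsPGroup 2 E1 := by
    have h1 : IsPGroup 2 (W.map i) := E0.isPGroup_TT.to_le (by
      rintro _ ⟨w, -, rfl⟩; exact ⟨w, rfl⟩)
    exact h1.map _
  obtain ⟨R, hR1, hR2, hR3, hR4⟩ := Cfsg.Agent.Lib.GoldschmidtFusion.exists_sylow_in (p := 2) (N := C) (D := S0)
    (fun z hz => mem_centralizer_singleton_iff.2 (E0.comm z hz)) E0.two
  have hRS : R = S0 := le_antisymm (E0.syl R hR3 (fun z hz => mem_centralizer_singleton_iff.1 (hR2 hz)) hR1) hR1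
  subst hRS
  obtain ⟨k, -, hk⟩ := Cfsg.Agent.Lib.GoldschmidtFusion.exists_conj_le_in (p := 2) hR3 hR4 hE1C hE1p
  set E2 : Subgroup G := E1.map (MulAut.conj k).toMonoidHom with hE2
  have hcard : Nat.card F ^ 4 ≤ Nat.card E2 := by
    refine hW4.trans (le_of_eq ?_)
    symm
    rw [hE2, hE1]
    rw [Nat.card_congr (equivMapOfInjective _ _ (MulAut.conj k).injective).toEquiv.symm]
    rw [Nat.card_congr (equivMapOfInjective _ _ (MulAut.conj g⁻¹).injective).toEquiv.symm]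
    exact (Nat.card_congr (equivMapOfInjective _ _ E0.inj).toEquiv.symm)
  have hsq : ∀ z ∈ E2, z * z = 1 := by
    rintro _ ⟨_, ⟨_, ⟨w, hw, rfl⟩, rfl⟩, rfl⟩
    rw [← map_mul, ← map_mul, ← map_mul, hWsq w hw, map_one, map_one, map_one]
  have hcomm : ∀ z ∈ E2, ∀ w ∈ E2, z * w = w * z := by
    rintro _ ⟨_, ⟨_, ⟨w, hw, rfl⟩, rfl⟩, rfl⟩ _ ⟨_, ⟨_, ⟨w', hw', rfl⟩, rfl⟩, rfl⟩
    rw [← map_mul, ← map_mul, ← map_mul, hWc w hw w' hw', map_mul, map_mul, map_mul]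
  have hE2S : E2 ≤ E0.SS := hk.trans E0.S0_le
  -- the part in `U`
  set E3 : Subgroup (T5 (Rg E)) := E2.comap i with hE3
  have hE3U : E3 ≤ U E := fun w hw => E0.mem_U_of_comm (E0.comm _ (hk hw))
  have hE3sq : ∀ w ∈ E3, w * w = 1 := fun w hw => E0.inj (by rw [map_mul, map_one]; exact hsq _ hw)
  have hE3c : ∀ w ∈ E3, ∀ w' ∈ E3, w * w' = w' * w := fun w hw w' hw' =>
    E0.inj (by rw [map_mul, map_mul]; exact hcomm _ hw _ hw')
  have hn3 : ((E3.map i : Subgroup G) : Set G).ncard = Nat.card E3 := by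
    rw [← Nat.card_coe_set_eq]
    exact Nat.card_congr (equivMapOfInjective _ _ E0.inj).toEquiv.symm
  -- elements of type one
  let H1 : Set G := {z | ∃ h : z ∈ E2, E0.chi ⟨z, hE2S h⟩ = 1}
  have hA : H1.ncard ≤ 2 * Nat.card E3 := by
    rw [← hn3]
    by_cases hex : ∃ y0 ∈ H1, ∃ w, y0 = t * i w
    · obtain ⟨y0, ⟨hy0, -⟩, w0, hw0⟩ := hex
      refine ncard_le_two y0 fun z hz => ?_
      obtain ⟨hz2, hz1⟩ := hz
      rcases E0.of_chi_one (hE2S hz2) hz1 with ⟨w, rfl⟩ | ⟨w, rfl⟩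
      · left; exact ⟨w, hz2, rfl⟩
      · right
        have h1 : y0⁻¹ * (t * i w) ∈ E2 := mul_mem (inv_mem hy0) hz2
        have h2 : y0⁻¹ * (t * i w) = i (w0⁻¹ * w) := by
          rw [hw0, map_mul, map_inv]; group
        rw [h2] at h1 ⊢
        exact ⟨_, h1, rfl⟩
    · refine ncard_le_two 1 fun z hz => ?_
      obtain ⟨hz2, hz1⟩ := hz
      rcases E0.of_chi_one (hE2S hz2) hz1 with ⟨w, rfl⟩ | ⟨w, rfl⟩
      · left; exact ⟨w, hz2, rfl⟩
      · exact absurd ⟨_, ⟨hz2, hz1⟩, w, rfl⟩ hex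
  have hncard : Nat.card F ^ 4 ≤ ((E2 : Subgroup G) : Set G).ncard := by
    refine hcard.trans (le_of_eq ?_)
    rw [← Nat.card_coe_set_eq]; rfl
  by_cases hall : ∀ z (hz : z ∈ E2), E0.chi ⟨z, hE2S hz⟩ = 1
  · have h1 : ((E2 : Subgroup G) : Set G) ⊆ H1 := fun z hz => ⟨hz, hall z hz⟩
    have h2 := Set.ncard_le_ncard h1 (Set.toFinite _)
    have h3 := card_elem_U hE3U hE3sq hE3c
    have h4 : Nat.card F ^ 4 ≤ 2 * Nat.card F ^ 3 :=
      hncard.trans (h2.trans (hA.trans (Nat.mul_le_mul_left 2 h3)))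
    have h5 : Nat.card F ^ 4 = Nat.card F * Nat.card F ^ 3 := by ring
    have h6 : 0 < Nat.card F ^ 3 := by positivity
    rw [h5] at h4
    have := Nat.le_of_mul_le_mul_right h4 h6
    omega
  · push Not at hall
    obtain ⟨z0, hz0, hz01⟩ := hall
    set σ := E0.chi ⟨z0, hE2S hz0⟩ with hσ
    have hsqchi : ∀ z (hz : z ∈ E2), E0.chi ⟨z, hE2S hz⟩ * E0.chi ⟨z, hE2S hz⟩ = 1 := by
      intro z hz
      rw [← map_mul]
      have : (⟨z, hE2S hz⟩ : E0.SS) * ⟨z, hE2S hz⟩ = 1 := Subtype.ext (hsq z hz)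
      rw [this, map_one]
    have hB : ((E2 : Subgroup G) : Set G).ncard ≤ 2 * H1.ncard := by
      refine ncard_le_two z0 fun z hz => ?_
      have hz' : z ∈ E2 := hz
      by_cases h1 : E0.chi ⟨z, hE2S hz'⟩ = 1
      · left; exact ⟨hz', h1⟩
      · right
        refine ⟨mul_mem (inv_mem hz0) hz', ?_⟩
        have h2 := unique_invol (hsqchi z0 hz0) (hsqchi z hz') hz01 h1
        have h3 : (⟨z0⁻¹ * z, hE2S (mul_mem (inv_mem hz0) hz')⟩ : E0.SS) = ⟨z0, hE2S hz0⟩⁻¹ * ⟨z, hE2S hz'⟩ := rfl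
        rw [h3, map_mul, map_inv, h2, inv_mul_cancel]
    obtain ⟨σ', hT⟩ := E0.typ z0 (hk hz0)
    have hσσ : σ' = σ := (E0.chi_eq (g := ⟨z0, hE2S hz0⟩) hT).symm
    rw [hσσ] at hT
    obtain ⟨y, hy, s, hz'⟩ := hT
    have h3 := card_fix_U (hsqchi z0 hz0) hz01 s hy hE3U (fun w hw => by
      apply E0.inj
      have h4 := hcomm _ hz0 _ hw
      rw [hz'] at h4
      have h5 := mul_right_cancel h4
      have h6 := E0.inj h5
      rw [← h6, inv_mul_cancel_right, h6])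
    have h4 : Nat.card F ^ 4 ≤ 4 * Nat.card F ^ 2 := by
      refine hncard.trans ?_
      calc _ ≤ 2 * H1.ncard := hB
        _ ≤ 2 * (2 * Nat.card E3) := Nat.mul_le_mul_left 2 hA
        _ ≤ 2 * (2 * Nat.card F ^ 2) := Nat.mul_le_mul_left 2 (Nat.mul_le_mul_left 2 h3)
        _ = 4 * Nat.card F ^ 2 := by ring
    have h5 : Nat.card F ^ 4 = Nat.card F ^ 2 * Nat.card F ^ 2 := by ring
    have h6 : 0 < Nat.card F ^ 2 := by positivity
    rw [h5] at h4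
    have h7 := Nat.le_of_mul_le_mul_right h4 h6
    nlinarith

/-- conjugation into `S0` -/
theorem exists_conj_S0 [Finite G] {Q : Subgroup G} (hQ : IsPGroup 2 Q) (hQt : ∀ z ∈ Q, z * t = t * z) :
    ∃ k, Q.map (MulAut.conj k).toMonoidHom ≤ S0 := by
  have : Fact (Nat.Prime 2) := ⟨Nat.prime_two⟩
  set C : Subgroup G := centralizer ({t} : Set G) with hC
  obtain ⟨R, hR1, hR2, hR3, hR4⟩ := Cfsg.Agent.Lib.GoldschmidtFusion.exists_sylow_in (p := 2) (N := C) (D := S0)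
    (fun z hz => mem_centralizer_singleton_iff.2 (E0.comm z hz)) E0.two
  have hRS : R = S0 := le_antisymm (E0.syl R hR3 (fun z hz => mem_centralizer_singleton_iff.1 (hR2 hz)) hR1) hR1
  subst hRS
  obtain ⟨k, -, hk⟩ := Cfsg.Agent.Lib.GoldschmidtFusion.exists_conj_le_in (p := 2) hR3 hR4
    (fun z hz => mem_centralizer_singleton_iff.2 (hQt z hz)) hQ
  exact ⟨k, hk⟩

theorem card_le [Finite G] {Q : Subgroup G} (hQ : IsPGroup 2 Q) {f g : G} (hf : g * t * g⁻¹ = f)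
    (hQt : ∀ z ∈ Q, z * f = f * z) : Nat.card Q ≤ Nat.card S0 := by
  obtain ⟨k, hk⟩ := E0.exists_conj_S0 (Q := Q.map (MulAut.conj g⁻¹).toMonoidHom) (hQ.map _) (by
    rintro _ ⟨z, hz, rfl⟩
    have h1 := hQt z hz
    rw [← hf] at h1
    show (MulAut.conj g⁻¹) z * t = t * (MulAut.conj g⁻¹) z
    rw [MulAut.conj_apply, inv_inv]
    calc g⁻¹ * z * g * t = g⁻¹ * (z * (g * t * g⁻¹)) * g := by group
      _ = t * (g⁻¹ * z * g) := by rw [h1]; group)
  refine le_trans (le_of_eq ?_) (Nat.card_le_card_of_injective _ (inclusion_injective hk))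
  rw [Nat.card_congr (equivMapOfInjective _ _ (MulAut.conj k).injective).toEquiv.symm]
  rw [Nat.card_congr (equivMapOfInjective _ _ (MulAut.conj g⁻¹).injective).toEquiv.symm]

omit E0 in
theorem card_of_surj {H Q : Type*} [Group H] [Group Q] [Finite H] (φ : H →* Q) (hφ : Function.Surjective φ) :
    Nat.card H = Nat.card φ.ker * Nat.card Q := by
  have h := φ.ker.card_mul_index
  rw [index_ker, MonoidHom.range_eq_top.2 hφ, card_top] at h
  exact h.symm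

/-- conjugation to a semilinear involution -/
theorem conj_fld [Finite F] {σ : F ≃+* F} (hσ2 : σ * σ = 1) (hσ1 : σ ≠ 1) {f : G} {s : Sem E σ} (hff : f * f = 1)
    (hss : ∀ w, s.s (s.s w) = w) (hact : ∀ x, f * i x = i (s.m x) * f) {x : T5 (Rg E)}
    (hx : (i x * f) * (i x * f) = 1) : ∃ y, i y * (i x * f) * (i y)⁻¹ = f := by
  have h2 : x * s.m x = 1 := by
    apply E0.inj
    rw [map_one, map_mul, ← hx]
    calc i x * i (s.m x) = i x * i (s.m x) * (f * f) := by rw [hff, mul_one]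
      _ = i x * (i (s.m x) * f) * f := by group
      _ = i x * f * (i x * f) := by rw [← hact]; group
  have h3 : s.m x * x = 1 := by
    calc s.m x * x = x⁻¹ * (x * s.m x) * x := by group
      _ = 1 := by rw [h2]; group
  obtain ⟨u, hu⟩ := exists_trace hσ2 hσ1 (map_one σ)
  obtain ⟨y, hy⟩ := h90 (s := s.s) (hs := s.hs) hss (u := ⟨u, 0⟩) (θ := th) (star_ofF u) (by
    rw [s.hC]
    ext
    · exact hu
    · show (0 : F) + 0 = 0
      ring) th_add (x := x) h3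
  have hmm : ∀ w, s.m (s.m w) = w := by
    intro w
    ext1
    all_goals exact hss _
  refine ⟨s.m y, ?_⟩
  have hy' : s.m y * x = y := hy
  calc i (s.m y) * (i x * f) * (i (s.m y))⁻¹ = i (s.m y * x) * (f * i (s.m y)⁻¹) := by
        rw [map_mul, map_inv]; group
    _ = i y * (i (s.m (s.m y))⁻¹ * f) := by
        rw [hy', hact, map_inv s.m]
    _ = f := by rw [hmm, map_inv]; group

/-- **a field automorphism is not conjugate to `t`** -/
theorem nout [Finite F] [Finite G] (hF : 4 ≤ Nat.card F) {σ : F ≃+* F} (hσ2 : σ * σ = 1) (hσ1 : σ ≠ 1) {f : G}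
    (hf : f ∈ S0) {s : Sem E σ} (hff : f * f = 1)
    (hss : ∀ w, s.s (s.s w) = w) (hact : ∀ x, f * i x = i (s.m x) * f) : ¬ IsConj t f := by
  intro hconj
  obtain ⟨g, hg⟩ := isConj_iff.1 hconj
  have hfS : f ∈ E0.SS := E0.S0_le hf
  let P : Subgroup G := E0.SS ⊓ centralizer {f}
  have hP : ∀ {z}, z ∈ P → z * f = f * z := fun hz => mem_centralizer_singleton_iff.1 (mem_inf.1 hz).2
  have hPS : P ≤ E0.SS := inf_le_left
  have h1 : Nat.card P ≤ Nat.card S0 := E0.card_le (E0.isPGroup_SS.to_le hPS) hg (fun z hz => hP hz)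
  have hN : (E0.TT.subgroupOf E0.SS).Normal := E0.TT_normal
  let π := QuotientGroup.mk' (E0.TT.subgroupOf E0.SS)
  let φ0 : S0 →* E0.SS ⧸ E0.TT.subgroupOf E0.SS := π.comp (inclusion E0.S0_le)
  let φP : P →* E0.SS ⧸ E0.TT.subgroupOf E0.SS := π.comp (inclusion hPS)
  have hmk : ∀ (y : T5 (Rg E)) (z : G) (hz : z ∈ E0.SS) (hyz : i y * z ∈ E0.SS),
      π ⟨i y * z, hyz⟩ = π ⟨z, hz⟩ := by
    intro y z hz hyz
    show ((⟨i y * z, hyz⟩ : E0.SS) : E0.SS ⧸ E0.TT.subgroupOf E0.SS) = ((⟨z, hz⟩ : E0.SS) : E0.SS ⧸ _)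
    rw [QuotientGroup.eq, mem_subgroupOf]
    show (i y * z)⁻¹ * z ∈ E0.TT
    have := E0.conj_SS_TT (inv_mem hz) (inv_mem (⟨y, rfl⟩ : i y ∈ E0.TT))
    have e : z⁻¹ * (i y)⁻¹ * z⁻¹⁻¹ = (i y * z)⁻¹ * z := by group
    rwa [e] at this
  have s0 : Function.Surjective φ0 := by
    intro q
    obtain ⟨⟨_, x, z, hz, rfl⟩, rfl⟩ := QuotientGroup.mk'_surjective _ q
    exact ⟨⟨z, hz⟩, (hmk x z (E0.S0_le hz) _).symm⟩
  have sP : Function.Surjective φP := by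
    intro q
    obtain ⟨⟨z, hz⟩, rfl⟩ := s0 q
    have hzS := E0.S0_le hz
    obtain ⟨x, hx⟩ := E0.comm_TT (inv_mem hzS) (inv_mem hfS)
    have hx' : i x * f = z * f * z⁻¹ := by rw [hx]; group
    obtain ⟨y, hy⟩ := E0.conj_fld hσ2 hσ1 hff hss hact (x := x) (by
      rw [hx']
      calc z * f * z⁻¹ * (z * f * z⁻¹) = z * (f * f) * z⁻¹ := by group
        _ = 1 := by rw [hff]; group)
    rw [hx'] at hy
    have hyz : i y * z ∈ P := by
      refine mem_inf.2 ⟨mul_mem (E0.TT_le ⟨y, rfl⟩) hzS, ?_⟩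
      rw [mem_centralizer_singleton_iff]
      calc i y * z * f = (i y * (z * f * z⁻¹) * (i y)⁻¹) * (i y * z) := by group
        _ = _ := by rw [hy]
    exact ⟨⟨i y * z, hyz⟩, hmk y z hzS _⟩
  have c0 := card_of_surj φ0 s0
  have cP := card_of_surj φP sP
  have k0 : Nat.card φ0.ker ≤ Nat.card F ^ 4 := by
    refine le_trans ?_ (card_U (E := E))
    have hex : ∀ z : φ0.ker, ∃ x : U E, i x.1 = z.1.1 := by
      rintro ⟨⟨z, hz⟩, hk⟩
      have h2 : ((⟨z, E0.S0_le hz⟩ : E0.SS) : E0.SS ⧸ E0.TT.subgroupOf E0.SS) = 1 := hk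
      rw [QuotientGroup.eq_one_iff, mem_subgroupOf] at h2
      obtain ⟨x, hx⟩ := h2
      have hx2 : i x = z := hx
      exact ⟨⟨x, E0.mem_U_of_comm (by rw [hx2]; exact E0.comm z hz)⟩, hx2⟩
    choose F' hF' using hex
    refine Nat.card_le_card_of_injective F' ?_
    intro z z' h
    apply Subtype.ext
    apply Subtype.ext
    rw [← hF', ← hF', h]
  have kP : Nat.card F ^ 4 < Nat.card φP.ker := by
    refine lt_of_lt_of_le (card_fix_T hF hσ2 hσ1 s hss) ?_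
    have hmem : ∀ x : {x : T5 (Rg E) // s.m x = x}, i x.1 ∈ P := by
      rintro ⟨x, hx⟩
      refine mem_inf.2 ⟨E0.TT_le ⟨x, rfl⟩, ?_⟩
      rw [mem_centralizer_singleton_iff, hact, hx]
    refine Nat.card_le_card_of_injective
      (fun x : {x : T5 (Rg E) // s.m x = x} => (⟨⟨i x.1, hmem x⟩, ?_⟩ : φP.ker)) ?_
    · show ((⟨i x.1, hPS (hmem x)⟩ : E0.SS) : E0.SS ⧸ E0.TT.subgroupOf E0.SS) = 1
      rw [QuotientGroup.eq_one_iff, mem_subgroupOf]
      exact ⟨x.1, rfl⟩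
    · intro x x' h
      apply Subtype.ext
      apply E0.inj
      exact congrArg (fun z : φP.ker => z.1.1) h
  have hQ : 0 < Nat.card (E0.SS ⧸ E0.TT.subgroupOf E0.SS) := Nat.card_pos
  rw [c0, cP] at h1
  have h2 := Nat.le_of_mul_le_mul_right h1 hQ
  omega

/-- **(★)** -/
theorem star [Finite F] [Finite G] (hF : 4 ≤ Nat.card F) (g : G) (hg : g * t * g⁻¹ ∈ E0.SS) :
    ∃ x ∈ E0.TT, g * t * g⁻¹ = x * t * x⁻¹ := by
  set s : G := g * t * g⁻¹ with hs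
  have hts : IsConj t s := isConj_iff.2 ⟨g, rfl⟩
  have hss : s * s = 1 := by
    calc s * s = g * (t * t) * g⁻¹ := by rw [hs]; group
      _ = 1 := by rw [E0.tt]; group
  by_cases h1 : E0.chi ⟨s, hg⟩ = 1
  · rcases E0.of_chi_one hg h1 with ⟨x, hx⟩ | ⟨x, hx⟩
    · exact absurd (hx ▸ hts) (E0.not_conj hF x)
    · -- the coset `tT`
      have h2 : tau x * x = 1 := by
        apply E0.inj
        rw [map_one, ← hss, hx, map_mul]
        calc i (tau x) * i x = i (tau x) * (t * t) * i x := by rw [E0.tt, mul_one]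
          _ = (i (tau x) * t) * t * i x := by group
          _ = t * i x * (t * i x) := by rw [← E0.t_i]; group
      have key : ∀ (y x' : T5 (Rg E)), tau y * x = x' * y → i y * s * (i y)⁻¹ = t * i x' := by
        intro y x' h
        calc i y * s * (i y)⁻¹ = (i y * t) * i x * (i y)⁻¹ := by rw [hx]; group
          _ = t * (i (tau y * x)) * (i y)⁻¹ := by rw [E0.i_t, map_mul]; group
          _ = t * i x' := by rw [h, map_mul]; group
      obtain ⟨y, h⟩ := tau_normal h2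
      have h3 := key y 1 (by rw [h, one_mul])
      rw [map_one, mul_one] at h3
      refine ⟨(i y)⁻¹, inv_mem ⟨y, rfl⟩, ?_⟩
      rw [← h3]
      group
  · exfalso
    have hchi2 : E0.chi ⟨s, hg⟩ * E0.chi ⟨s, hg⟩ = 1 := by
      rw [← map_mul]
      have : (⟨s, hg⟩ : E0.SS) * ⟨s, hg⟩ = 1 := Subtype.ext hss
      rw [this, map_one]
    obtain ⟨f, hf, s', hff, hss', hact, x, hx⟩ := E0.exists_invol hg rfl hchi2 h1 (by rw [hss]; exact one_mem _)
    rw [hx] at hss hts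
    obtain ⟨y, hy⟩ := E0.conj_fld hchi2 h1 hff hss' hact hss
    exact E0.nout hF hchi2 h1 hf hff hss' hact (hts.trans (isConj_iff.2 ⟨i y, hy⟩))

/-- `S` is a Sylow 2-subgroup -/
theorem exists_sylow [Finite F] [Finite G] (hF : 4 ≤ Nat.card F) : ∃ P : Sylow 2 G, (P : Subgroup G) = E0.SS := by
  refine Cfsg.Agent.StdEven.OuterKill.exists_sylow (t := t) E0.isPGroup_SS E0.TT_le (E0.S0_le E0.mem_t)
    (fun g hg => E0.star hF g hg) (fun Q hQ hQt hQS => ?_)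
  exact (E0.syl Q hQ hQt fun z hz => hQS z (E0.S0_le hz) (E0.comm z hz)).trans E0.S0_le

/-- **The end of case (C).** -/
theorem main [Finite F] [Finite G] (hF : 4 ≤ Nat.card F) {L : Subgroup G} [hLn : L.Normal] (hL : commutator L = ⊤)
    (hTL : ∀ x, i x ∈ L)
    (nin : ∀ y z, y * t = t * y → z ∈ S0 → y * z * y⁻¹ ∈ E0.TT → ∃ x ∈ U E, z = i x) :
    t ∉ L ∧ ∃ P : Sylow 2 L, (P : Subgroup L).map L.subtype = E0.TT := by
  have : Fact (Nat.Prime 2) := ⟨Nat.prime_two⟩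
  obtain ⟨P, hP⟩ := E0.exists_sylow hF
  have hstar : ∀ g : G, g * t * g⁻¹ ∈ (P : Subgroup G) → ∃ x ∈ E0.TT, g * t * g⁻¹ = x * t * x⁻¹ := by
    intro g hg
    rw [hP] at hg
    exact E0.star hF g hg
  have htP : t ∈ (P : Subgroup G) := by rw [hP]; exact E0.S0_le E0.mem_t
  have hTP : E0.TT ≤ (P : Subgroup G) := by rw [hP]; exact E0.TT_le
  -- `t ∉ L`
  have htL : t ∉ L := by
    obtain ⟨A, _, φ, hφ⟩ := E0.exists_phi
    let e : (P : Subgroup G) ≃* E0.SS := MulEquiv.subgroupCongr hP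
    exact Cfsg.Agent.StdEven.OuterKill.not_mem hTP E0.tt htP hstar hL (φ.comp e.toMonoidHom) hφ
  refine ⟨htL, ?_⟩
  have hTL' : E0.TT ≤ L := by
    rintro _ ⟨x, rfl⟩; exact hTL x
  -- elements of type one in `S ∩ L`
  have hone : ∀ g (hg : g ∈ E0.SS), g ∈ L → E0.chi ⟨g, hg⟩ = 1 → g ∈ E0.TT := by
    intro g hg hgL h1
    rcases E0.of_chi_one hg h1 with ⟨x, hx⟩ | ⟨x, hx⟩
    · exact ⟨x, hx.symm⟩
    · exfalso
      apply htL
      have e : t = g * (i x)⁻¹ := by rw [hx]; group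
      rw [e]
      exact mul_mem hgL (inv_mem (hTL x))
  have key : E0.SS ⊓ L ≤ E0.TT := by
    by_contra hcon
    -- an element of type `≠ 1`
    obtain ⟨g, ⟨hgS, hgL⟩, hgT⟩ := SetLike.not_le_iff_exists.1 hcon
    have hg1 : E0.chi ⟨g, hgS⟩ ≠ 1 := fun h => hgT (hone g hgS hgL h)
    -- an element whose type is an involution
    obtain ⟨z, hzS, hzL, hz2, hz1⟩ : ∃ z, ∃ hz : z ∈ E0.SS, z ∈ L ∧ E0.chi ⟨z, hz⟩ * E0.chi ⟨z, hz⟩ = 1 ∧
        E0.chi ⟨z, hz⟩ ≠ 1 := by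
      obtain ⟨n, hn⟩ := E0.isPGroup_SS ⟨g, hgS⟩
      have hex : ∃ k, E0.chi (⟨g, hgS⟩ ^ 2 ^ k) = 1 := ⟨n, by rw [hn, map_one]⟩
      classical
      let k := Nat.find hex
      have hk : E0.chi (⟨g, hgS⟩ ^ 2 ^ k) = 1 := Nat.find_spec hex
      have hk0 : k ≠ 0 := by
        intro h0
        rw [h0, pow_zero, pow_one] at hk
        exact hg1 hk
      obtain ⟨m, hm⟩ := Nat.exists_eq_succ_of_ne_zero hk0
      have hm1 : ¬ E0.chi (⟨g, hgS⟩ ^ 2 ^ m) = 1 := Nat.find_min hex (by omega)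
      refine ⟨g ^ 2 ^ m, pow_mem hgS _, pow_mem hgL _, ?_, hm1⟩
      have h3 : (⟨g ^ 2 ^ m, pow_mem hgS _⟩ : E0.SS) = ⟨g, hgS⟩ ^ 2 ^ m := rfl
      rw [h3, ← map_mul, ← pow_two, ← pow_mul, ← pow_succ]
      rw [hm] at hk
      exact hk
    have hzz : z * z ∈ E0.TT := hone _ (mul_mem hzS hzS) (mul_mem hzL hzL) (by
      have h3 : (⟨z * z, mul_mem hzS hzS⟩ : E0.SS) = ⟨z, hzS⟩ * ⟨z, hzS⟩ := rfl
      rw [h3, map_mul, hz2])
    obtain ⟨σ, hσ⟩ : ∃ σ, E0.chi ⟨z, hzS⟩ = σ := ⟨_, rfl⟩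
    rw [hσ] at hz2 hz1
    obtain ⟨f, hf, s, hff, hss, hact, x, hx⟩ := E0.exists_invol hzS hσ hz2 hz1 hzz
    have hfL : f ∈ L := by
      have e : f = (i x)⁻¹ * z := by rw [hx]; group
      rw [e]
      exact mul_mem (inv_mem (hTL x)) hzL
    have hfS := E0.S0_le hf
    have hchif : E0.chi ⟨f, hfS⟩ = σ := E0.chi_eq (g := ⟨f, hfS⟩) (Typ.of_act s hact (Y := ⊤))
    have hfT : f ∉ E0.TT := by
      rintro ⟨w, hw⟩
      apply hz1
      rw [← hchif]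
      have : (⟨f, hfS⟩ : E0.SS) = ⟨i w, E0.TT_le ⟨w, rfl⟩⟩ := Subtype.ext hw.symm
      rw [this]
      exact E0.chi_i w
    let I : CommGroup (F ≃+* F) := { (inferInstance : Group (F ≃+* F)) with mul_comm := Cfsg.Agent.StdRank2.OutField.comm }
    have hPS : (P : Subgroup G) ⊓ L ≤ E0.SS := inf_le_left.trans hP.le
    let ψ : ↥((P : Subgroup G) ⊓ L) →* (F ≃+* F) := E0.chi.comp (inclusion hPS)
    obtain ⟨y, hyt, hyf⟩ := Cfsg.Agent.StdEven.OuterKill.no_outer (A := F ≃+* F) (P := P) (T := E0.TT) (L := L)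
      (t := t) (f := f) E0.tt htP (fun x hx => E0.conj_TT E0.mem_t hx) hstar hL ψ (by
        intro w hw
        constructor
        · intro h1
          exact hone w (hPS hw) (mem_inf.1 hw).2 h1
        · rintro ⟨w', rfl⟩
          exact E0.chi_i w') hff (E0.comm f hf) (mem_inf.2 ⟨by rw [hP]; exact hfS, hfL⟩) hfT (by
        intro w hw hww
        have h1 : E0.chi ⟨w, hPS hw⟩ * E0.chi ⟨w, hPS hw⟩ = 1 := by
          rw [← map_mul]
          have : (⟨w, hPS hw⟩ : E0.SS) * ⟨w, hPS hw⟩ = 1 := Subtype.ext hww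
          rw [this, map_one]
        by_cases h2 : E0.chi ⟨w, hPS hw⟩ = 1
        · exact Or.inl h2
        · right
          show E0.chi ⟨w, hPS hw⟩ = E0.chi ⟨f, hfS⟩
          rw [hchif]
          exact unique_invol h1 hz2 h2 hz1)
    obtain ⟨w, -, hw⟩ := nin y f hyt hf hyf
    exact hfT ⟨w, hw.symm⟩
  have hSL : E0.SS ⊓ L = E0.TT := le_antisymm key (le_inf E0.TT_le hTL')
  have hodd : ¬ 2 ∣ (E0.TT.subgroupOf L).index := by
    have h1 := Cfsg.Agent.StdEven.OuterKill.not_dvd_relIndex P L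
    rw [← inf_relIndex_right, hP, hSL] at h1
    exact h1
  have hT2 : IsPGroup 2 (E0.TT.subgroupOf L) := E0.isPGroup_TT.comap_of_injective L.subtype L.subtype_injective
  refine ⟨hT2.toSylow hodd, ?_⟩
  show (E0.TT.subgroupOf L).map L.subtype = E0.TT
  rw [subgroupOf_map_subtype]
  exact inf_eq_left.2 hTL'

end Env

end Cfsg.Agent.StdSpFour.CaseCEnv
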