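import Cfsg.Agent.StdSpFour.CaseCHom
import Cfsg.Agent.StdSpFour.CaseCEnv
import Cfsg.Agent.StdSpFour.CaseBFld

/-!
# S1778, type Sp₄(q), case (C): the action of the field elements on `T`
-/

set_option autoImplicit false
set_option linter.unusedSectionVars false

namespace Cfsg.Agent.StdSpFour.CaseCFld

open Cfsg.Agent.StdSpFour Cfsg.Agent.StdSpFour.Comm Cfsg.Agent.StdSpFour.Fld
open Cfsg.Agent.StdSpFour.CaseC Cfsg.Agent.StdSpFour.CaseCInv Cfsg.Agent.StdSpFour.CaseCEnv
open Cfsg.Agent.StdSpFour.UFiveModel Cfsg.Agent.StdSpFour.CaseBFld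

variable {F G : Type*} [Field F] [Group G] [CharP F 2] {B : Base F G} {E : F} {σ : F ≃+* F} {f : G}

/-! ### the generators in the model -/

section gen

variable (D : Three B E)

/-- `sg(w)` -/
def eS (w : Rg E) : T5 (Rg E) := mkT 0 w 0 0 0 0
/-- `sg'(w)` -/
def eS' (w : Rg E) : T5 (Rg E) := mkT 0 0 0 w 0 (nm w)
/-- `x_b(s)` -/
def eB (s : F) : T5 (Rg E) := mkT 0 0 0 0 0 s

theorem nm_zero : nm (0 : Rg E) = 0 := by simp [nm]

theorem eS_c (w : Rg E) : (eS w).c = ⟨0, nm w⟩ := by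
  ext
  · rfl
  · show (0 * star 0 + w * star w + 0 * star (0 : Rg E)).re = nm w
    rw [zero_mul, zero_add, add_zero]
    cm
    linear_combination (norm := c2n)
theorem eS_d (w : Rg E) : (eS w).d = 0 := by
  ext
  · rfl
  · show (0 * star (0 : Rg E)).re = 0
    rw [zero_mul]; rfl
theorem eS'_c (w : Rg E) : (eS' w).c = 0 := by
  ext
  · rfl
  · show (0 * star 0 + 0 * star 0 + 0 * star (0 : Rg E)).re = 0
    simp only [zero_mul, add_zero]; rfl
theorem eS'_d (w : Rg E) : (eS' w).d = ⟨nm w, nm w⟩ := by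
  ext
  · rfl
  · show (w * star w).re = nm w
    cm
    linear_combination (norm := c2n)
theorem eB_c (u : F) : (eB u : T5 (Rg E)).c = 0 := by
  ext
  · rfl
  · show (0 * star 0 + 0 * star 0 + 0 * star (0 : Rg E)).re = 0
    simp only [zero_mul, add_zero]; rfl
theorem eB_d (u : F) : (eB u : T5 (Rg E)).d = ⟨u, 0⟩ := by
  ext
  · rfl
  · show (0 * star (0 : Rg E)).re = 0
    simp only [zero_mul]; rfl

theorem hom_eA (w : Rg E) : D.hom (eA w) = D.A w := by
  rw [Three.hom_apply]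
  show D.A w * (D.sg 0 * (D.sg' 0 * D.v4 ((0 : Rg E).re + nm (0 : Rg E)) 0 (0 + w * star (0 : Rg E)).re)) = _
  rw [Two.sg_zero, Two.sg'_zero, nm_zero, star_zero, mul_zero, add_zero, add_zero, QuadraticAlgebra.re_zero,
    Two.v4_zero]
  group

theorem hom_eX (w : Rg E) : D.hom (eX w) = D.X w := by
  rw [Three.hom_apply]
  show D.A 0 * (D.sg 0 * (D.sg' 0 * D.v4 ((0 : Rg E).re + nm (0 : Rg E)) w (0 + 0 * star w).re)) = _
  rw [Two.A_zero, Two.sg_zero, Two.sg'_zero, nm_zero, zero_mul, add_zero, add_zero, QuadraticAlgebra.re_zero,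
    Two.X_eq]
  group

theorem hom_eS (w : Rg E) : D.hom (eS w) = D.sg w := by
  rw [Three.hom_apply]
  show D.A 0 * (D.sg w * (D.sg' 0 * D.v4 (0 + nm (0 : Rg E)) 0 ((eS w).c + 0 * star (0 : Rg E)).re)) = _
  have h : ((eS w : T5 (Rg E)).c + 0 * star (0 : Rg E)).re = 0 := by
    rw [zero_mul, add_zero]; rfl
  rw [h, Two.A_zero, Two.sg'_zero, nm_zero, add_zero, Two.v4_zero]
  group

theorem hom_eS' (w : Rg E) : D.hom (eS' w) = D.sg' w := by
  rw [Three.hom_apply]
  show D.A 0 * (D.sg 0 * (D.sg' w * D.v4 (nm w + nm w) 0 ((eS' w).c + 0 * star (0 : Rg E)).re)) = _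
  have h : ((eS' w : T5 (Rg E)).c + 0 * star (0 : Rg E)).re = 0 := by
    rw [zero_mul, add_zero]; rfl
  rw [h, Two.A_zero, Two.sg_zero, CharTwo.add_self_eq_zero, Two.v4_zero]
  group

theorem hom_eB (s : F) : D.hom (eB s) = B.xb s := by
  rw [Three.hom_apply]
  show D.A 0 * (D.sg 0 * (D.sg' 0 * D.v4 (s + nm (0 : Rg E)) 0 ((eB s).c + 0 * star (0 : Rg E)).re)) = _
  have h : ((eB s : T5 (Rg E)).c + 0 * star (0 : Rg E)).re = 0 := by
    rw [zero_mul, add_zero]; rfl
  rw [h, Two.A_zero, Two.sg_zero, Two.sg'_zero, nm_zero, add_zero, Two.xb_eq D.toTwo]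
  group

theorem hom_eZ (s : F) : D.hom (eZ s) = B.zl s := by
  rw [Three.hom_apply]
  show D.A 0 * (D.sg 0 * (D.sg' 0 * D.v4 (0 + nm (0 : Rg E)) 0 ((eZ s).c + 0 * star (0 : Rg E)).re)) = _
  have h : ((eZ s : T5 (Rg E)).c + 0 * star (0 : Rg E)).re = s := by
    rw [zero_mul, add_zero]; rfl
  rw [h, Two.A_zero, Two.sg_zero, Two.sg'_zero, nm_zero, add_zero, Two.zl_eq D.toTwo]
  group

theorem t_hom' (x : T5 (Rg E)) : B.t * D.hom x = D.hom (tau x) * B.t := by
  rw [D.t_hom]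
  congr 2

include D in
/-- the normal form in the model -/
theorem nf_model (x : T5 (Rg E)) : ∃ (w : Rg E) (s c : F),
    x = eA x.w1 * (eS x.w2 * (eS' x.y * (eB s * (eX w * eZ c)))) := by
  refine ⟨x.w3, x.d.re + nm x.y, (x.c + x.w1 * star x.w3).re, D.hom_inj ?_⟩
  simp only [map_mul, hom_eA, hom_eS, hom_eS', hom_eB, hom_eX, hom_eZ]
  rw [Three.hom_apply, Two.v4]
  simp only [mul_assoc]

/-- an element acting on the generators acts on the model -/
theorem act_of_gen {σ : F ≃+* F} (s : Sem E σ) {f : G} (hA : ∀ w, f * D.A w = D.A (s.s w) * f)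
    (hX : ∀ w, f * D.X w = D.X (s.s w) * f) (hS : ∀ w, f * D.sg w = D.hom (s.m (eS w)) * f)
    (hS' : ∀ w, f * D.sg' w = D.hom (s.m (eS' w)) * f) (hxb : ∀ u, f * B.xb u = B.xb (σ u) * f)
    (hzl : ∀ u, f * B.zl u = B.zl (σ u) * f) (x : T5 (Rg E)) : f * D.hom x = D.hom (s.m x) * f := by
  have key : ∀ x y : T5 (Rg E), f * D.hom x = D.hom (s.m x) * f → f * D.hom y = D.hom (s.m y) * f →
      f * D.hom (x * y) = D.hom (s.m (x * y)) * f := by
    intro x y h1 h2
    rw [map_mul, ← mul_assoc, h1, mul_assoc, h2, ← mul_assoc, map_mul s.m, map_mul]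
  have mB : ∀ u, s.m (eB u) = eB (σ u) := by
    intro u
    refine ext' (map_zero s.s) (map_zero s.s) (map_zero s.s) (map_zero s.s) ?_ ?_
    · show (s.s (eB u : T5 (Rg E)).c).re = 0
      have : (eB u : T5 (Rg E)).c = 0 := by
        ext
        · rfl
        · show ((0 : Rg E) * star 0 + 0 * star 0 + 0 * star 0).re = 0
          simp only [zero_mul, add_zero]; rfl
      rw [this, map_zero]; rfl
    · show (s.s (eB u : T5 (Rg E)).d).re = σ u
      have : (eB u : T5 (Rg E)).d = ⟨u, 0⟩ := by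
        ext
        · rfl
        · show ((0 : Rg E) * star 0).re = 0
          simp only [zero_mul]; rfl
      rw [this, s.hC]
  obtain ⟨w, u, c, h⟩ := nf_model D x
  rw [h]
  refine key _ _ ?_ (key _ _ ?_ (key _ _ ?_ (key _ _ ?_ (key _ _ ?_ ?_))))
  · rw [hom_eA, hA]
    congr 1
    rw [← hom_eA]
    congr 1
    refine ext' rfl (map_zero s.s).symm (map_zero s.s).symm (map_zero s.s).symm ?_ ?_
    · show (0 : F) = (s.s 0).re
      rw [map_zero]; rfl
    · show (0 : F) = (s.s 0).re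
      rw [map_zero]; rfl
  · rw [hom_eS, hS]
  · rw [hom_eS', hS']
  · rw [hom_eB, hxb, mB, hom_eB]
  · rw [hom_eX, hX]
    congr 1
    rw [← hom_eX]
    congr 1
    refine ext' (map_zero s.s).symm (map_zero s.s).symm rfl (map_zero s.s).symm ?_ ?_
    · show (0 : F) = (s.s 0).re
      rw [map_zero]; rfl
    · show (0 : F) = (s.s 0).re
      rw [map_zero]; rfl
  · rw [hom_eZ, hzl, eZ_m, hom_eZ]

end gen

section act

variable (D : Three B E)

theorem X_comm (r r' : Rg E) : Commute (D.X r) (D.X r') := by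
  show _ * _ = _ * _
  rw [← D.X_add, ← D.X_add, add_comm]

theorem X_sq (r : Rg E) : D.X r * D.X r = 1 := by
  rw [← D.X_add, CharTwo.add_self_eq_zero, Two.X_zero]

theorem X_zs (r : Rg E) (m : F) : Commute (D.X r) (B.zs m) := by
  rw [← D.X_re]; exact X_comm D _ _

/-- `f X(θ) f⁻¹ = X(θ + k)` -/
theorem f_X1 (hF : 4 ≤ Nat.card F) (hB : B.Self) (hf : IsFld B σ f) :
    ∃ k : F, f * D.X th = D.X (th + ⟨k, 0⟩) * f := by
  obtain ⟨l, hl⟩ := exists_ne (F := F) hF
  set x := f * D.X th * f⁻¹ with hx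
  have sm : ∀ {a a' : G}, f * a = a' * f → Commute (D.X th) a → Commute x a' := by
    intro a a' h1 h3
    have h4 : f * a * f⁻¹ = a' := by rw [h1, mul_inv_cancel_right]
    rw [hx, ← h4]
    show f * D.X th * f⁻¹ * (f * a * f⁻¹) = f * a * f⁻¹ * (f * D.X th * f⁻¹)
    calc f * D.X th * f⁻¹ * (f * a * f⁻¹) = f * (D.X th * a) * f⁻¹ := by group
      _ = _ := by rw [h3.eq]; group
  have cxb : ∀ u, Commute x (B.xb u) := fun u => by
    obtain ⟨v, rfl⟩ := σ.surjective u
    exact sm (hf.xb v) (D.X_xb th v)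
  have czs : ∀ u, Commute x (B.zs u) := fun u => by
    obtain ⟨v, rfl⟩ := σ.surjective u
    exact sm (hf.zs v) (X_zs D th v)
  have czl : ∀ u, Commute x (B.zl u) := fun u => by
    obtain ⟨v, rfl⟩ := σ.surjective u
    exact sm (hf.zl v) (D.X_zl th v)
  have cha : ∀ a : Fˣ, Commute (D.X th) (B.h a a⁻¹) := by
    intro a
    have := D.h_X a a⁻¹ th
    rw [Units.mul_inv, one_smul] at this
    exact this.symm
  have ch : Commute x (B.h l l⁻¹) := by
    obtain ⟨a, rfl⟩ := um_surj σ l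
    have h2 := hf.h a a⁻¹
    rw [map_inv] at h2
    exact sm h2 (cha a)
  have htX : B.t * D.X th = D.X th * (B.t * B.zs 1) := D.t_X th
  have htx : B.t * x = x * (B.t * B.zs 1) := by
    have e1 : B.t * f⁻¹ = f⁻¹ * B.t := by
      calc B.t * f⁻¹ = f⁻¹ * (f * B.t) * f⁻¹ := by group
        _ = _ := by rw [hf.t]; group
    have e2 : B.zs 1 * f⁻¹ = f⁻¹ * B.zs 1 := by
      have h := hf.zs 1
      rw [map_one] at h
      calc B.zs 1 * f⁻¹ = f⁻¹ * (f * B.zs 1) * f⁻¹ := by group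
        _ = _ := by rw [h]; group
    calc B.t * x = (B.t * f) * D.X th * f⁻¹ := by rw [hx]; group
      _ = f * (B.t * D.X th) * f⁻¹ := by rw [← hf.t]; group
      _ = f * D.X th * B.t * (B.zs 1 * f⁻¹) := by rw [htX]; group
      _ = f * D.X th * (B.t * f⁻¹) * B.zs 1 := by rw [e2]; group
      _ = _ := by rw [e1, hx]; group
  have ct := comm_quot htx htX
  have hcomm : ∀ {a : G}, Commute x a → Commute (D.X th) a → Commute (x * (D.X th)⁻¹) a := fun h1 h2 =>
    h1.mul_left h2.inv_left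
  obtain ⟨s, m, r, hg⟩ := hB.cent1 (x * (D.X th)⁻¹) ct (fun u => hcomm (cxb u) (D.X_xb _ u))
    (fun u => hcomm (czs u) (X_zs D _ u)) (fun u => hcomm (czl u) (D.X_zl _ u))
  have hd : ∃ d, Tau B d ∧ x * (D.X th)⁻¹ = d * (B.xb s * B.zs m * B.zl r) := by
    rcases hg with hg | hg
    · exact ⟨1, Or.inl rfl, by rw [hg, one_mul]⟩
    · exact ⟨B.t, Or.inr rfl, hg⟩
  obtain ⟨d, hd, hg⟩ := hd
  have h1 := eq_tau3 hd hg hl (hcomm ch (cha l))
  have h2 : x = d * B.zs m * D.X th := by rw [← h1]; group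
  have hx2 : x * x = 1 := by
    rw [hx]
    calc f * D.X th * f⁻¹ * (f * D.X th * f⁻¹) = f * (D.X th * D.X th) * f⁻¹ := by group
      _ = 1 := by rw [X_sq]; group
  rcases hd with rfl | rfl
  · refine ⟨m, ?_⟩
    rw [one_mul, ← D.X_re, ← D.X_add] at h2
    rw [add_comm th, ← h2, hx]; group
  · exfalso
    rw [h2] at hx2
    have h3 : B.zs 1 = 1 := sq_aux B.tt (X_sq D _) (sq_of_add B.zs_add m) (B.t_zs m).eq (X_zs D _ m).eq
      (B.t_zs _).eq (X_zs D _ _).eq htX hx2
    have h4 := (B.inj 0 0 1 0 (by rw [h3, xa_zero, xb_zero, zl_zero]; group)).2.2.1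
    exact one_ne_zero h4

/-- the map `w ↦ σ(w)`, `θ ↦ θ + k` -/
def sw (σ : F ≃+* F) (k : F) (w : Rg E) : Rg E := ⟨σ w.re + k * σ w.im, σ w.im⟩

theorem X_split (w : Rg E) : D.X w = B.zs w.re * D.X (w.im • th) := by
  rw [← D.X_re, ← D.X_add]
  congr 1
  ext <;> simp [th]

theorem f_X (hf : IsFld B σ f) {k : F} (hk : f * D.X th = D.X (th + ⟨k, 0⟩) * f) (w : Rg E) :
    f * D.X w = D.X (sw σ k w) * f := by
  have h1 : ∀ n : F, f * D.X (n • th) = D.X (σ n • (th + ⟨k, 0⟩)) * f := by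
    intro n
    by_cases hn : n = 0
    · rw [hn, map_zero, zero_smul, zero_smul, Two.X_zero]; group
    set a := Units.mk0 n hn with ha
    have e1 := D.h_X a 1 th
    have e2 := D.h_X (um σ a) 1 (th + ⟨k, 0⟩)
    rw [Units.val_one, mul_one] at e1 e2
    have e3 : ((um σ a : Fˣ) : F) = σ n := rfl
    have e4 : ((a : Fˣ) : F) = n := rfl
    rw [e3] at e2
    rw [e4] at e1
    have e5 := hf.h a 1
    rw [map_one] at e5
    apply mul_right_cancel (b := B.h a 1)
    calc f * D.X (n • th) * B.h a 1 = f * (D.X (n • th) * B.h a 1) := by group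
      _ = (f * B.h a 1) * D.X th := by rw [← e1]; group
      _ = B.h (um σ a) 1 * (f * D.X th) := by rw [e5]; group
      _ = (B.h (um σ a) 1 * D.X (th + ⟨k, 0⟩)) * f := by rw [hk]; group
      _ = D.X (σ n • (th + ⟨k, 0⟩)) * (B.h (um σ a) 1 * f) := by rw [e2]; group
      _ = _ := by rw [← e5]; group
  rw [X_split, ← mul_assoc, hf.zs, mul_assoc, h1, ← mul_assoc, ← D.X_re, ← D.X_add]
  congr 2
  ext
  · simp [sw, th]; ring
  · simp [sw, th]

theorem f_A (hf : IsFld B σ f) {k : F} (hk : f * D.X th = D.X (th + ⟨k, 0⟩) * f) (w : Rg E) :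
    f * D.A w = D.A (sw σ k w) * f := by
  have e : ∀ w, D.A w = B.nb⁻¹ * D.X w * B.nb := by
    intro w
    rw [mul_assoc, ← D.nb_A]; group
  have e2 : f * B.nb⁻¹ = B.nb⁻¹ * f := by
    calc f * B.nb⁻¹ = B.nb⁻¹ * (B.nb * f) * B.nb⁻¹ := by group
      _ = _ := by rw [← hf.nb]; group
  rw [e, e]
  calc f * (B.nb⁻¹ * D.X w * B.nb) = (f * B.nb⁻¹) * D.X w * B.nb := by group
    _ = B.nb⁻¹ * (f * D.X w) * B.nb := by rw [e2]; group
    _ = B.nb⁻¹ * D.X (sw σ k w) * (f * B.nb) := by rw [f_X D hf hk]; group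
    _ = _ := by rw [hf.nb]; group

/-- the relation between `k` and `E` -/
theorem rel_E (hf : IsFld B σ f) {k : F} (hk : f * D.X th = D.X (th + ⟨k, 0⟩) * f) : σ E = E + k + k ^ 2 := by
  have h1 := D.xb_A 1 th
  have h2 := D.xb_A 1 (sw σ k th)
  rw [one_smul, mul_one] at h1 h2
  have e1 := f_A D hf hk th
  have e2 := f_X D hf hk th
  have e3 := hf.xb 1
  have e4 := hf.zl (nm (th : Rg E))
  rw [map_one] at e3
  have h3 : f * (B.xb 1 * D.A th) = B.xb 1 * D.A (sw σ k th) * f := by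
    calc f * (B.xb 1 * D.A th) = (f * B.xb 1) * D.A th := by group
      _ = B.xb 1 * (f * D.A th) := by rw [e3]; group
      _ = _ := by rw [e1]; group
  have h4 : f * (D.A th * (B.xb 1 * D.X th * B.zl (nm (th : Rg E)))) =
      D.A (sw σ k th) * (B.xb 1 * D.X (sw σ k th) * B.zl (σ (nm (th : Rg E)))) * f := by
    calc f * (D.A th * (B.xb 1 * D.X th * B.zl (nm (th : Rg E)))) =
        (f * D.A th) * (B.xb 1 * D.X th * B.zl (nm (th : Rg E))) := by group
      _ = D.A (sw σ k th) * (f * B.xb 1) * D.X th * B.zl (nm (th : Rg E)) := by rw [e1]; group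
      _ = D.A (sw σ k th) * B.xb 1 * (f * D.X th) * B.zl (nm (th : Rg E)) := by rw [e3]; group
      _ = D.A (sw σ k th) * B.xb 1 * D.X (sw σ k th) * (f * B.zl (nm (th : Rg E))) := by rw [e2]; group
      _ = _ := by rw [e4]; group
  rw [h1, h4, h2] at h3
  have h5 := mul_left_cancel (mul_right_cancel h3)
  have h6 := mul_left_cancel h5
  have h7 : σ (nm (th : Rg E)) = nm (sw σ k (th : Rg E)) := by
    have h8 : B.zl (σ (nm (th : Rg E)) + nm (sw σ k (th : Rg E))) = 1 := by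
      rw [B.zl_add, h6, sq_of_add B.zl_add]
    have h9 := (B.inj 0 0 0 _ (by rw [xa_zero, xb_zero, zs_zero, h8]; group)).2.2.2
    exact eq_of_add h9
  simp only [nm, th, sw, map_zero, map_one, zero_add, mul_one, one_pow, ne_eq, OfNat.ofNat_ne_zero,
    not_false_eq_true, zero_pow] at h7
  linear_combination h7

theorem zl_ne : B.zl 1 ≠ 1 := fun h =>
  one_ne_zero ((B.inj 0 0 0 1 (by rw [h, xa_zero, xb_zero, zs_zero]; group)).2.2.2)

theorem t_sg1 : B.t * D.sg 1 = D.sg 1 * (B.t * B.zl 1) := by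
  have h := D.t_sg 1
  have e1 : (⟨(1 : Rg E).im, 0⟩ : Rg E) = 0 := rfl
  have e2 : (star (1 : Rg E) * star 1).re = 1 := by rw [star_one, mul_one]; rfl
  rw [e1, e2, Two.sg_zero, mul_one] at h
  exact h

theorem sg1_sq : D.sg 1 * D.sg 1 = B.zl 1 := by
  have h := D.sg_add 1 1
  have e2 : ((1 : Rg E) * star 1).re = 1 := by rw [star_one, mul_one]; rfl
  rw [CharTwo.add_self_eq_zero, e2, Two.sg_zero, one_mul] at h
  exact h

theorem sq_aux2 {t w p z : G} (tt : t * t = 1) (ww : w * w = 1) (tw : t * w = w * t) (pw : p * w = w * p)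
    (zw : z * w = w * z) (tp : t * p = p * (t * z)) (pz : p * z = z * p) (pp : p * p = z)
    (zz : z * z = 1) (h : (t * w * p) * (t * w * p) = z) : z = 1 := by
  rw [← h]
  have pt : p * t = t * p * z := by
    calc p * t = p * (t * (z * z)) := by rw [zz, mul_one]
      _ = (p * (t * z)) * z := by group
      _ = _ := by rw [← tp]
  calc (t * w * p) * (t * w * p) = t * w * (p * t) * w * p := by group
    _ = (t * w) * t * p * z * w * p := by rw [pt]; group
    _ = w * (t * t) * p * (z * w) * p := by rw [tw]; group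
    _ = w * (p * w) * (z * p) := by rw [tt, zw]; group
    _ = (w * w) * p * (p * z) := by rw [pw, pz]; group
    _ = (p * p) * z := by rw [ww]; group
    _ = 1 := by rw [pp, zz]

/-- `f sg(1) f⁻¹ = z_l(κ) sg(1)` -/
theorem f_sg1 (hF : 4 ≤ Nat.card F) (hB : B.Self) (hf : IsFld B σ f) :
    ∃ κ : F, f * D.sg 1 = B.zl κ * D.sg 1 * f := by
  obtain ⟨l, hl⟩ := exists_ne (F := F) hF
  set x := f * D.sg 1 * f⁻¹ with hx
  have sm : ∀ {a a' : G}, f * a = a' * f → Commute (D.sg 1) a → Commute x a' := by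
    intro a a' h1 h3
    have h4 : f * a * f⁻¹ = a' := by rw [h1, mul_inv_cancel_right]
    rw [hx, ← h4]
    show f * D.sg 1 * f⁻¹ * (f * a * f⁻¹) = f * a * f⁻¹ * (f * D.sg 1 * f⁻¹)
    calc f * D.sg 1 * f⁻¹ * (f * a * f⁻¹) = f * (D.sg 1 * a) * f⁻¹ := by group
      _ = _ := by rw [h3.eq]; group
  have sxa : ∀ u, Commute (D.sg 1) (B.xa u) := fun u => by rw [← D.A_re]; exact D.sg_A _ _
  have szs : ∀ u, Commute (D.sg 1) (B.zs u) := fun u => by rw [← D.X_re]; exact D.sg_X _ _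
  have cxa : ∀ u, Commute x (B.xa u) := fun u => by
    obtain ⟨v, rfl⟩ := σ.surjective u
    exact sm (hf.xa v) (sxa v)
  have cxb : ∀ u, Commute x (B.xb u) := fun u => by
    obtain ⟨v, rfl⟩ := σ.surjective u
    exact sm (hf.xb v) (D.sg_xb 1 v)
  have czs : ∀ u, Commute x (B.zs u) := fun u => by
    obtain ⟨v, rfl⟩ := σ.surjective u
    exact sm (hf.zs v) (szs v)
  have czl : ∀ u, Commute x (B.zl u) := fun u => by
    obtain ⟨v, rfl⟩ := σ.surjective u
    exact sm (hf.zl v) (D.sg_zl 1 v)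
  have cha : ∀ a : Fˣ, Commute (D.sg 1) (B.h a (a⁻¹ ^ 2)) := by
    intro a
    have := D.h_sg a a⁻¹ 1
    rw [Units.mul_inv, one_smul] at this
    exact this.symm
  have ch : Commute x (B.h l (l⁻¹ ^ 2)) := by
    obtain ⟨a, rfl⟩ := um_surj σ l
    have h2 := hf.h a (a⁻¹ ^ 2)
    rw [map_pow, map_inv] at h2
    exact sm h2 (cha a)
  have hts := t_sg1 D
  have htx : B.t * x = x * (B.t * B.zl 1) := by
    have e1 : B.t * f⁻¹ = f⁻¹ * B.t := by
      calc B.t * f⁻¹ = f⁻¹ * (f * B.t) * f⁻¹ := by group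
        _ = _ := by rw [hf.t]; group
    have e2 : B.zl 1 * f⁻¹ = f⁻¹ * B.zl 1 := by
      have h := hf.zl 1
      rw [map_one] at h
      calc B.zl 1 * f⁻¹ = f⁻¹ * (f * B.zl 1) * f⁻¹ := by group
        _ = _ := by rw [h]; group
    calc B.t * x = (B.t * f) * D.sg 1 * f⁻¹ := by rw [hx]; group
      _ = f * (B.t * D.sg 1) * f⁻¹ := by rw [← hf.t]; group
      _ = f * D.sg 1 * B.t * (B.zl 1 * f⁻¹) := by rw [hts]; group
      _ = f * D.sg 1 * (B.t * f⁻¹) * B.zl 1 := by rw [e2]; group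
      _ = _ := by rw [e1, hx]; group
  have ct := comm_quot htx hts
  have hcomm : ∀ {a : G}, Commute x a → Commute (D.sg 1) a → Commute (x * (D.sg 1)⁻¹) a := fun h1 h2 =>
    h1.mul_left h2.inv_left
  obtain ⟨d, m, r, hd, hg⟩ := formZ hB ct (fun u => hcomm (cxa u) (sxa u)) (fun u => hcomm (czs u) (szs u))
    (fun u => hcomm (czl u) (D.sg_zl 1 u)) (hcomm (cxb 1) (D.sg_xb 1 1))
  -- the `z_s` part vanishes
  have hm : m = 0 := by
    have h1 : Commute d (B.h l (l⁻¹ ^ 2)) := hd.comm (B.t_h _ _)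
    have h2 : Commute (B.zs m * B.zl r) (B.h l (l⁻¹ ^ 2)) := by
      have := (h1.inv_left).mul_left (hcomm ch (cha l))
      rwa [hg, inv_mul_cancel_left] at this
    have e1 := B.h_zs l (l⁻¹ ^ 2) m
    have e2 := B.h_zl l (l⁻¹ ^ 2) r
    have w1 : (l : F) * ((l⁻¹ ^ 2 : Fˣ) : F) = ((l⁻¹ : Fˣ) : F) := by
      rw [← Units.val_mul]; congr 1; group
    have w2 : (l : F) ^ 2 * ((l⁻¹ ^ 2 : Fˣ) : F) = 1 := by
      rw [← Units.val_pow_eq_pow_val, ← Units.val_mul]
      have : l ^ 2 * l⁻¹ ^ 2 = 1 := by group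
      rw [this]; rfl
    rw [w1] at e1
    rw [w2, one_mul] at e2
    have h3 : B.zs m * B.zl r = B.zs ((l⁻¹ : Fˣ) * m) * B.zl r := by
      apply mul_right_cancel (b := B.h l (l⁻¹ ^ 2))
      rw [h2.eq, ← mul_assoc, e1, mul_assoc, e2, mul_assoc]
    have h4 : B.zs (m + (l⁻¹ : Fˣ) * m) = 1 := by
      rw [B.zs_add, ← mul_right_cancel h3, sq_of_add B.zs_add]
    have h5 := (B.inj 0 0 _ 0 (by rw [h4, xa_zero, xb_zero, zl_zero]; group)).2.2.1
    have h6 : (l : F) * ((l⁻¹ : Fˣ) : F) = 1 := by rw [← Units.val_mul, mul_inv_cancel, Units.val_one]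
    have h7 : (1 + (l : F)) * m = 0 := by linear_combination (l : F) * h5 - m * h6
    have hne : (1 : F) + l ≠ 0 := by
      intro h; apply hl
      linear_combination h - CharTwo.two_eq_zero (R := F)
    exact (mul_eq_zero.1 h7).resolve_left hne
  rw [hm, zs_zero, one_mul] at hg
  have h2 : x = d * B.zl r * D.sg 1 := by rw [← hg]; group
  have hx2 : x * x = B.zl 1 := by
    have h := hf.zl 1
    rw [map_one] at h
    rw [hx]
    calc f * D.sg 1 * f⁻¹ * (f * D.sg 1 * f⁻¹) = f * (D.sg 1 * D.sg 1) * f⁻¹ := by group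
      _ = B.zl 1 := by rw [sg1_sq, h]; group
  rcases hd with rfl | rfl
  · refine ⟨r, ?_⟩
    rw [one_mul] at h2
    rw [← h2, hx]; group
  · exfalso
    rw [h2] at hx2
    exact zl_ne (B := B) (sq_aux2 B.tt (sq_of_add B.zl_add r) (B.t_zl r).eq (D.sg_zl 1 r).eq
      (comm_of_add B.zl_add 1 r).eq hts (D.sg_zl 1 1).eq (sg1_sq D) (sq_of_add B.zl_add 1) hx2)

theorem nm_sw {k : F} (h : σ E = E + k + k ^ 2) (w : Rg E) : nm (sw σ k w) = σ (nm w) := by
  simp only [nm, sw, map_add, map_mul, map_pow]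
  rw [h]
  linear_combination (norm := c2n)

theorem f_sg' {κ : F} (hf : IsFld B σ f) {w w' : Rg E} (h : f * D.sg w = B.zl κ * D.sg w' * f) :
    f * D.sg' w = B.xb κ * D.sg' w' * f := by
  have e1 : f * B.na⁻¹ = B.na⁻¹ * f := by
    calc f * B.na⁻¹ = B.na⁻¹ * (B.na * f) * B.na⁻¹ := by group
      _ = _ := by rw [← hf.na]; group
  unfold Two.sg'
  calc f * (B.na * D.sg w * B.na⁻¹) = (f * B.na) * D.sg w * B.na⁻¹ := by group
    _ = B.na * (f * D.sg w) * B.na⁻¹ := by rw [hf.na]; group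
    _ = (B.na * B.zl κ) * D.sg w' * (f * B.na⁻¹) := by rw [h]; group
    _ = _ := by rw [B.na_zl, e1]; group

/-- `f sg(w) f⁻¹ = z_l(k N(s w)) sg(s w)` -/
theorem f_sg (hF : 4 ≤ Nat.card F) (hB : B.Self) (hf : IsFld B σ f) {k : F}
    (hk : f * D.X th = D.X (th + ⟨k, 0⟩) * f) (w : Rg E) :
    f * D.sg w = B.zl (k * nm (sw σ k w)) * D.sg (sw σ k w) * f := by
  obtain ⟨κ, hκ⟩ := f_sg1 D hF hB hf
  have hκ' := f_sg' D hf hκ
  have hrel := rel_E D hf hk
  -- the general formula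
  have key : ∀ w : Rg E, f * D.sg w =
      D.X ((k + κ) • sw σ k w) * (B.zl (κ * nm (sw σ k w)) * D.sg (sw σ k w)) * f := by
    intro w
    set v := sw σ k w with hv
    have r1 : ∀ w : Rg E, D.sg' 1 * D.A w = D.A w * (D.sg' 1 * D.X (w * th) * D.sg w) := by
      intro w
      have h := D.sg'_A 1 w
      rw [one_pow, one_smul, one_smul] at h
      exact h
    have e1 := f_A D hf hk w
    rw [← hv] at e1
    have e2 := f_X D hf hk (w * th)
    have e3 : sw σ k (w * th) = v * th + k • v := by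
      rw [hv]
      ext
      · simp only [sw, th, QuadraticAlgebra.re_mul, QuadraticAlgebra.im_mul, QuadraticAlgebra.re_add,
          QuadraticAlgebra.re_smul, smul_eq_mul, map_add, map_mul, map_one, map_zero]
        rw [hrel]
        linear_combination (norm := c2n)
      · simp only [sw, th, QuadraticAlgebra.im_mul, QuadraticAlgebra.im_add,
          QuadraticAlgebra.im_smul, smul_eq_mul, map_add, map_mul, map_one, map_zero]
        linear_combination (norm := c2n)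
    have hL : f * (D.sg' 1 * D.A w) = D.A v * (B.xb κ * D.X (κ • v) * B.zl (nm v * κ)) *
        (D.sg' 1 * D.X (v * th) * D.sg v) * f := by
      calc f * (D.sg' 1 * D.A w) = (f * D.sg' 1) * D.A w := by group
        _ = B.xb κ * D.sg' 1 * (f * D.A w) := by rw [hκ']; group
        _ = B.xb κ * (D.sg' 1 * D.A v) * f := by rw [e1]; group
        _ = (B.xb κ * D.A v) * (D.sg' 1 * D.X (v * th) * D.sg v) * f := by rw [r1]; group
        _ = _ := by rw [D.xb_A]
    have hR : f * (D.A w * (D.sg' 1 * D.X (w * th) * D.sg w)) =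
        D.A v * (B.xb κ * D.sg' 1 * D.X (sw σ k (w * th))) * (f * D.sg w) := by
      calc f * (D.A w * (D.sg' 1 * D.X (w * th) * D.sg w)) = (f * D.A w) * D.sg' 1 * D.X (w * th) * D.sg w := by group
        _ = D.A v * (f * D.sg' 1) * D.X (w * th) * D.sg w := by rw [e1]; group
        _ = D.A v * B.xb κ * D.sg' 1 * (f * D.X (w * th)) * D.sg w := by rw [hκ']; group
        _ = _ := by rw [e2]; group
    rw [r1, hR] at hL
    have c1 : B.zl (nm v * κ) * D.sg' 1 = D.sg' 1 * B.zl (nm v * κ) := by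
      rw [Two.zl_eq D.toTwo]; exact (Two.sg'_v4 D.toTwo _ _ _ _).eq.symm
    have c2 : D.X (κ • v) * D.sg' 1 = D.sg' 1 * D.X (κ • v) := by
      rw [Two.X_eq]; exact (Two.sg'_v4 D.toTwo _ _ _ _).eq.symm
    have c3 := (D.X_zl (v * th) (nm v * κ)).eq
    have hL' : D.A v * (B.xb κ * D.X (κ • v) * B.zl (nm v * κ)) * (D.sg' 1 * D.X (v * th) * D.sg v) * f =
        D.A v * (B.xb κ * D.sg' 1 * D.X (sw σ k (w * th))) *
          (D.X ((k + κ) • v) * (B.zl (κ * nm v) * D.sg v) * f) := by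
      have e4 : D.X (sw σ k (w * th)) * D.X ((k + κ) • v) = D.X (κ • v) * D.X (v * th) := by
        rw [← D.X_add, ← D.X_add, e3]
        congr 1
        rw [add_smul]
        have : k • v + k • v = (0 : Rg E) := CharTwo.add_self_eq_zero _
        linear_combination this
      calc D.A v * (B.xb κ * D.X (κ • v) * B.zl (nm v * κ)) * (D.sg' 1 * D.X (v * th) * D.sg v) * f
          = D.A v * B.xb κ * D.X (κ • v) * (B.zl (nm v * κ) * D.sg' 1) * D.X (v * th) * D.sg v * f := by group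
        _ = D.A v * B.xb κ * (D.X (κ • v) * D.sg' 1) * (B.zl (nm v * κ) * D.X (v * th)) * D.sg v * f := by
            rw [c1]; group
        _ = D.A v * B.xb κ * D.sg' 1 * (D.X (κ • v) * D.X (v * th)) * B.zl (nm v * κ) * D.sg v * f := by
            rw [c2, ← c3]; group
        _ = _ := by rw [← e4, mul_comm (nm v) κ]; group
    rw [hL'] at hL
    exact mul_left_cancel hL
  -- `κ = k`
  have hkk : k + κ = 0 := by
    have h1 := key 1
    have e1 : sw σ k (1 : Rg E) = 1 := by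
      ext <;> simp [sw, QuadraticAlgebra.re_one, QuadraticAlgebra.im_one]
    have e2 : nm (1 : Rg E) = 1 := by simp [nm, QuadraticAlgebra.re_one, QuadraticAlgebra.im_one]
    rw [e1, e2, mul_one, hκ] at h1
    have h2 := mul_right_cancel h1
    have h3 : D.X ((k + κ) • (1 : Rg E)) = 1 := (mul_eq_right.1 h2.symm)
    have e3 : (k + κ) • (1 : Rg E) = ⟨k + κ, 0⟩ := by
      ext <;> simp [QuadraticAlgebra.re_one, QuadraticAlgebra.im_one]
    rw [e3, D.X_re] at h3
    exact (B.inj 0 0 _ 0 (by rw [h3, xa_zero, xb_zero, zl_zero]; group)).2.2.1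
  have hκk : κ = k := (eq_of_add hkk).symm
  rw [key w, hkk, zero_smul, Two.X_zero, one_mul, hκk]

/-- **action of a field element on `T`** -/
theorem exists_sem (hF : 4 ≤ Nat.card F) (hB : B.Self) (hf : IsFld B σ f) :
    ∃ s : Sem E σ, ∀ x, f * D.hom x = D.hom (s.m x) * f := by
  obtain ⟨k, hk⟩ := f_X1 D hF hB hf
  have hrel := rel_E D hf hk
  refine ⟨Sem.mk' σ k hrel, act_of_gen D _ ?_ ?_ ?_ ?_ hf.xb hf.zl⟩
  · exact fun w => f_A D hf hk w
  · exact fun w => f_X D hf hk w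
  · intro w
    rw [f_sg D hF hB hf hk w]
    congr 1
    have e : (Sem.mk' σ k hrel).m (eS w) = eZ (k * nm (sw σ k w)) * eS (sw σ k w) := by
      have z0 : (Sem.mk' σ k hrel).s 0 = 0 := map_zero _
      refine ext' ?_ ?_ ?_ ?_ ?_ ?_
      · rw [T5.mul_w1]; exact z0.trans (add_zero _).symm
      · rw [T5.mul_w2]
        show sw σ k w = 0 + (sw σ k w + 0 * 0)
        ring
      · rw [T5.mul_w3]
        show (Sem.mk' σ k hrel).s 0 = 0 + (0 + star 0 * sw σ k w + (eZ _).d * 0)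
        rw [z0, star_zero]; ring
      · rw [T5.mul_y]; exact z0.trans (add_zero _).symm
      · rw [T5.mul_c, eZ_c, eS_c]
        show ((Sem.mk' σ k hrel).s (eS w).c).re = (⟨k * nm (sw σ k w), 0⟩ + ⟨0, nm (sw σ k w)⟩ +
          (0 * star (0 + star 0 * sw σ k w + (eZ _).d * 0) + 0 * star (sw σ k w + 0 * 0) + 0 * star 0) : Rg E).re
        rw [eS_c, Sem.mk'_apply]
        simp only [zero_mul, add_zero]
        show σ 0 + k * σ (nm w) = k * nm (sw σ k w) + 0
        rw [map_zero, nm_sw hrel]; ring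
      · rw [T5.mul_d, eZ_d, eS_d]
        show ((Sem.mk' σ k hrel).s (eS w).d).re = (0 + 0 + star 0 * 0 : Rg E).re
        rw [eS_d, z0]
        simp
    rw [e, map_mul, hom_eZ, hom_eS]
  · intro w
    rw [f_sg' D hf (f_sg D hF hB hf hk w)]
    congr 1
    have e : (Sem.mk' σ k hrel).m (eS' w) = eB (k * nm (sw σ k w)) * eS' (sw σ k w) := by
      have z0 : (Sem.mk' σ k hrel).s 0 = 0 := map_zero _
      refine ext' ?_ ?_ ?_ ?_ ?_ ?_
      · rw [T5.mul_w1]; exact z0.trans (add_zero _).symm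
      · rw [T5.mul_w2]
        show (Sem.mk' σ k hrel).s 0 = 0 + (0 + 0 * 0)
        rw [z0]; ring
      · rw [T5.mul_w3]
        show (Sem.mk' σ k hrel).s 0 = 0 + (0 + star 0 * 0 + (eB _).d * 0)
        rw [z0, star_zero]; ring
      · rw [T5.mul_y]
        show sw σ k w = 0 + sw σ k w
        ring
      · rw [T5.mul_c, eB_c, eS'_c]
        show ((Sem.mk' σ k hrel).s (eS' w).c).re = (0 + 0 +
          (0 * star (0 + star 0 * 0 + (eB _).d * 0) + 0 * star (0 + 0 * 0) + 0 * star 0) : Rg E).re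
        rw [eS'_c, z0]
        simp
      · rw [T5.mul_d, eB_d, eS'_d]
        show ((Sem.mk' σ k hrel).s (eS' w).d).re = (⟨k * nm (sw σ k w), 0⟩ + ⟨nm (sw σ k w), nm (sw σ k w)⟩ +
          star 0 * sw σ k w : Rg E).re
        rw [eS'_d, Sem.mk'_apply, star_zero, zero_mul, add_zero]
        show σ (nm w) + k * σ (nm w) = k * nm (sw σ k w) + nm (sw σ k w)
        rw [nm_sw hrel]; ring
    rw [e, map_mul, hom_eB, hom_eS']

theorem eX_U (a : F) : (eX ⟨a, 0⟩ : T5 (Rg E)) ∈ U E := by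
  rw [mem_U_iff]
  exact ⟨rfl, rfl, rfl, rfl, rfl, rfl⟩

/-- `Typ` from an action on `U` up to an inner automorphism -/
theorem typ_of [Finite F] (hF : 4 ≤ Nat.card F) (hB : B.Self) (hna : (B.na * B.xa 1) ^ 3 = 1)
    (hnb : (B.nb * B.xb 1) ^ 3 = 1) {z : G} {x : T5 (Rg E)} (hx : x ∈ U E)
    (hf : Act B σ ((D.hom x)⁻¹ * z)) : Typ (U E) D.hom z σ := by
  obtain ⟨a, b, hf1⟩ := hf.exists_fld hF hB hna hnb
  obtain ⟨s, h1⟩ := exists_sem D hF hB hf1
  set e : T5 (Rg E) := eX ⟨a, 0⟩ * eZ b with he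
  have e1 : B.zs a * B.zl b = D.hom e := by
    rw [he, map_mul, hom_eX, hom_eZ, D.X_re]
  have e2 : e ∈ U E := mul_mem (eX_U a) (eZ_U b)
  refine ⟨x * e⁻¹, mul_mem hx (inv_mem e2), s, fun y => ?_⟩
  have h2 := h1 y
  rw [e1] at h2
  rw [map_mul, map_mul, map_inv, map_mul, map_inv]
  calc z * D.hom y = D.hom x * (D.hom e)⁻¹ * (D.hom e * ((D.hom x)⁻¹ * z) * D.hom y) := by group
    _ = D.hom x * (D.hom e)⁻¹ * (D.hom (s.m y) * (D.hom e * ((D.hom x)⁻¹ * z))) := by rw [h2]
    _ = _ := by group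

/-- the centre of the model -/
theorem center_model {x : T5 (Rg E)} (hc : ∀ z, x * z = z * x) : x ∈ U E := by
  have hB1 := congrArg T5.w3 (hc (eB 1))
  have hS1 := congrArg T5.w3 (hc (eS' 1))
  have hA2 := congrArg T5.w2 (hc (eA 1))
  have hA3 := congrArg T5.w3 (hc (eA 1))
  have hAc := congrArg T5.c (hc (eA 1))
  have hAt := congrArg T5.c (hc (eA th))
  rw [T5.mul_w3, T5.mul_w3, eB_d] at hB1
  rw [T5.mul_w3, T5.mul_w3, eS'_d] at hS1
  rw [T5.mul_w2, T5.mul_w2] at hA2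
  rw [T5.mul_w3, T5.mul_w3] at hA3
  rw [T5.mul_c, T5.mul_c] at hAc hAt
  have k1 : x.w1 = 0 := by
    have h : x.w3 + (0 + star x.y * 0 + x.d * 0) = 0 + (x.w3 + star 0 * x.w2 + ⟨1, 0⟩ * x.w1) := hB1
    have e : (⟨1, 0⟩ : Rg E) = 1 := rfl
    rw [e, star_zero] at h
    linear_combination (-1 : Rg E) * h
  have k2 : x.w2 = 0 := by
    have h : x.w3 + (0 + star x.y * 0 + x.d * 0) = 0 + (x.w3 + star 1 * x.w2 + ⟨nm 1, nm 1⟩ * x.w1) := hS1
    rw [k1, star_one] at h
    linear_combination (-1 : Rg E) * h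
  have k3 : x.y = 0 := by
    have h : x.w2 + (0 + x.y * 1) = 0 + (x.w2 + 0 * x.w1) := hA2
    linear_combination h
  have k4 : x.d = 0 := by
    have h : x.w3 + (0 + star x.y * 0 + x.d * 1) = 0 + (x.w3 + star 0 * x.w2 + 0 * x.w1) := hA3
    rw [star_zero] at h
    linear_combination h
  have key : ∀ w : Rg E, x.c + 0 + (x.w1 * star (0 + star x.y * 0 + x.d * w) + x.w2 * star (0 + x.y * w) +
      x.w3 * star w) = 0 + x.c + (w * star (x.w3 + star 0 * x.w2 + 0 * x.w1) + 0 * star (x.w2 + 0 * x.w1) +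
      0 * star x.w1) → x.w3 * star w = w * star x.w3 := by
    intro w h
    rw [k1, k2, star_zero] at h
    simp only [zero_mul, mul_zero, add_zero, zero_add] at h
    exact add_left_cancel h
  have h1 := key 1 hAc
  have h2 := key th hAt
  rw [star_one, mul_one, one_mul] at h1
  have k5 := eq_ofF' h1.symm
  have k6 : x.w3 = 0 := by
    rw [← h1] at h2
    have h3 := congrArg QuadraticAlgebra.re h2
    rw [k5] at h3
    simp only [th, QuadraticAlgebra.re_mul, QuadraticAlgebra.re_star, QuadraticAlgebra.im_star] at h3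
    have h4 : x.w3.re = 0 := by linear_combination h3
    rw [k5, h4]; rfl
  have k7 := CaseCInv.c_im x
  rw [k1, k2, k6] at k7
  simp only [zero_mul, add_zero] at k7
  rw [mem_U_iff]
  exact ⟨by rw [k1]; rfl, k2, by rw [k6]; rfl, k7, k3, by rw [k4]; rfl⟩

/-- the kernel of the type -/
theorem one_of (hB : B.Self) {z : G} (hz : z * B.t = B.t * z) (h : Typ ⊤ D.hom z 1) :
    ∃ x ∈ U E, z = D.hom x ∨ z = B.t * D.hom x := by
  -- the case `s = 1`
  have key : ∀ z' : G, z' * B.t = B.t * z' → ∀ y : T5 (Rg E), (∀ x, z' * D.hom x = D.hom (y * x * y⁻¹) * z') →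
      ∃ x ∈ U E, z' = D.hom x := by
    intro z' hz' y hy
    have hinj := D.hom_inj
    -- `y⁻¹ y^τ` is central
    have h1 : ∀ x : T5 (Rg E), tau y * x * (tau y)⁻¹ = y * x * y⁻¹ := by
      intro x
      have e1 : z' * B.t * D.hom x = D.hom (y * tau x * y⁻¹) * z' * B.t := by
        calc z' * B.t * D.hom x = z' * (B.t * D.hom x) := by group
          _ = (z' * D.hom (tau x)) * B.t := by rw [t_hom']; group
          _ = _ := by rw [hy]
      have e2 : B.t * z' * D.hom x = D.hom (tau (y * x * y⁻¹)) * z' * B.t := by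
        calc B.t * z' * D.hom x = B.t * (z' * D.hom x) := by group
          _ = (B.t * D.hom (y * x * y⁻¹)) * z' := by rw [hy]; group
          _ = D.hom (tau (y * x * y⁻¹)) * (B.t * z') := by rw [t_hom']; group
          _ = _ := by rw [← hz']; group
      rw [hz', e2] at e1
      have e3 := hinj (mul_right_cancel (mul_right_cancel e1))
      rw [map_mul, map_mul, map_inv] at e3
      have e4 := congrArg tau e3
      simp only [map_mul, map_inv, tau_tau] at e4
      exact e4.symm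
    have h2 : ∀ x, (y⁻¹ * tau y) * x = x * (y⁻¹ * tau y) := by
      intro x
      calc (y⁻¹ * tau y) * x = y⁻¹ * (tau y * x * (tau y)⁻¹) * tau y := by group
        _ = _ := by rw [h1]; group
    have h3 := eq_eZ (center_model h2) h2
    set r := (y⁻¹ * tau y).c.re with hr
    have h4 : tau y = y * eZ r := by rw [← h3]; group
    -- coordinates of `y`
    have c1 := congrArg T5.w1 h4
    have c2 := congrArg T5.w2 h4
    have c3 := congrArg T5.w3 h4
    have c4 := congrArg T5.c h4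
    have c5 := congrArg T5.y h4
    have c6 := congrArg T5.d h4
    rw [tau_w1, T5.mul_w1, eZ_w1, add_zero] at c1
    rw [tau_w2, T5.mul_w2, eZ_w2, eZ_w1, mul_zero, add_zero, add_zero] at c2
    rw [tau_w3, T5.mul_w3, eZ_w3, eZ_w2, eZ_w1, mul_zero, mul_zero, add_zero, add_zero, add_zero] at c3
    rw [tau_y, T5.mul_y, eZ_y, add_zero] at c5
    rw [tau_d, T5.mul_d, eZ_d, eZ_y, mul_zero, add_zero, add_zero] at c6
    have f1 := eq_ofF' c1
    have f2 := eq_ofF' c2
    have f3 := eq_ofF' c3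
    have f5 := eq_ofF' c5
    have f6 := eq_ofF' c6
    have hy0 : y.y = 0 := by
      have h7 := d_im y
      rw [f6, f5, star_ofF] at h7
      have h8 : y.y.re * y.y.re = 0 := by
        have h9 : (0 : F) = ((⟨y.y.re, 0⟩ : Rg E) * ⟨y.y.re, 0⟩).re := h7
        rw [QuadraticAlgebra.re_mul] at h9
        linear_combination (-1 : F) * h9
      rw [f5, mul_self_eq_zero.1 h8]; rfl
    -- `y = u sg(x)`
    set q := y.w2.re with hq
    set u : T5 (Rg E) := mkT ⟨y.w1.re, 0⟩ 0 ⟨y.w3.re, 0⟩ 0 y.c.re y.d.re with hu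
    have huU : u ∈ U E := by
      rw [mem_U_iff]
      refine ⟨rfl, rfl, rfl, ?_, rfl, ?_⟩
      · rw [CaseCInv.c_im]
        show ((⟨y.w1.re, 0⟩ : Rg E) * star ⟨y.w3.re, 0⟩ + 0 * star 0 + ⟨y.w3.re, 0⟩ * star ⟨y.w1.re, 0⟩).re = 0
        rw [star_ofF, star_ofF, mul_comm (⟨y.w3.re, 0⟩ : Rg E), zero_mul, add_zero, CharTwo.add_self_eq_zero]
        rfl
      · rw [d_im]
        show ((0 : Rg E) * star 0).re = 0
        rw [zero_mul]; rfl
    have hyu : y = u * eS ⟨q, 0⟩ := by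
      refine ext' ?_ ?_ ?_ ?_ ?_ ?_
      · rw [T5.mul_w1]
        show y.w1 = ⟨y.w1.re, 0⟩ + 0
        rw [add_zero]; exact f1
      · rw [T5.mul_w2]
        show y.w2 = 0 + (⟨q, 0⟩ + 0 * 0)
        rw [zero_mul, add_zero, zero_add]; exact f2
      · rw [T5.mul_w3]
        show y.w3 = ⟨y.w3.re, 0⟩ + (0 + star 0 * _ + _ * 0)
        rw [star_zero, zero_mul, mul_zero, add_zero, add_zero, add_zero]; exact f3
      · rw [T5.mul_y]
        show y.y = 0 + 0
        rw [add_zero]; exact hy0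
      · rw [T5.mul_c, eS_c]
        show y.c.re = (u.c + ⟨0, _⟩ + (_ * star (0 + star 0 * _ + _ * 0) + 0 * star (_ + 0 * 0) +
          _ * star 0)).re
        simp only [star_zero, zero_mul, mul_zero, add_zero]
        show y.c.re = y.c.re + 0
        rw [add_zero]
      · rw [T5.mul_d, eS_d]
        show y.d.re = (u.d + 0 + star 0 * 0).re
        simp only [star_zero, zero_mul, add_zero]
        rfl
    -- `z'' = u⁻¹ z'`
    set g := (D.hom u)⁻¹ * z' with hg
    have hgx : ∀ x, g * D.hom x = D.hom (eS ⟨q, 0⟩ * x * (eS ⟨q, 0⟩)⁻¹) * g := by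
      intro x
      rw [hg, mul_assoc, hy, hyu]
      simp only [map_mul, map_inv, mul_inv_rev]
      group
    have hut : tau u = u := huU
    have ct : Commute g B.t := by
      have e1 : Commute (D.hom u) B.t := by
        show _ * _ = _ * _
        rw [t_hom' D, hut]
      exact e1.inv_left.mul_left hz'
    have cg : ∀ x, eS ⟨q, 0⟩ * x = x * eS ⟨q, 0⟩ → Commute g (D.hom x) := by
      intro x hx
      show g * D.hom x = D.hom x * g
      rw [hgx, hx, mul_inv_cancel_right]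
    have scomm : ∀ x : T5 (Rg E), Commute (D.hom (eS ⟨q, 0⟩)) (D.hom x) → eS ⟨q, 0⟩ * x = x * eS ⟨q, 0⟩ := by
      intro x hx
      apply hinj
      rw [map_mul, map_mul]
      exact hx
    obtain ⟨d, m, r', hd, e⟩ := formZ hB ct
      (fun v => by
        rw [← D.A_re, ← hom_eA]
        exact cg _ (scomm _ (by rw [hom_eS, hom_eA]; exact D.sg_A _ _)))
      (fun v => by
        rw [← D.X_re, ← hom_eX]
        exact cg _ (scomm _ (by rw [hom_eS, hom_eX]; exact D.sg_X _ _)))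
      (fun v => by
        rw [← hom_eZ D]
        exact cg _ (scomm _ (by rw [hom_eS, hom_eZ]; exact D.sg_zl _ _)))
      (by
        rw [← hom_eB D]
        exact cg _ (scomm _ (by rw [hom_eS, hom_eB]; exact D.sg_xb _ _)))
    -- `z_s z_l` centralises `sg'(1)`
    have e1 : B.zs m * B.zl r' = D.hom (eX ⟨m, 0⟩ * eZ r') := by
      rw [map_mul, hom_eX, hom_eZ, D.X_re]
    have e2 : Commute (B.zs m * B.zl r') (D.sg' 1) := by
      rw [← D.X_re, Two.X_eq, Two.zl_eq D.toTwo]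
      exact (Two.sg'_v4 D.toTwo _ _ _ _).symm.mul_left (Two.sg'_v4 D.toTwo _ _ _ _).symm
    have e3 := hgx (eS' 1)
    rw [hom_eS', e] at e3
    rcases hd with rfl | rfl
    · rw [one_mul] at e3 e
      rw [e2.eq] at e3
      have e4 := mul_right_cancel e3
      rw [← hom_eS' D] at e4
      have e5 := hinj e4
      have e6 : eS' 1 * eS ⟨q, 0⟩ = eS ⟨q, 0⟩ * eS' (1 : Rg E) := by
        rw [mul_inv_eq_iff_eq_mul.1 e5.symm]
      have e7 := congrArg T5.w3 e6
      rw [T5.mul_w3, T5.mul_w3, eS_d] at e7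
      have e8 : (0 : Rg E) + (0 + star 1 * ⟨q, 0⟩ + _ * 0) = 0 + (0 + star 0 * 0 + 0 * 0) := e7
      rw [star_one, star_zero] at e8
      simp only [one_mul, mul_zero, add_zero, zero_add] at e8
      have e9 : q = 0 := congrArg QuadraticAlgebra.re e8
      refine ⟨u * (eX ⟨m, 0⟩ * eZ r'), mul_mem huU (mul_mem (eX_U m) (eZ_U r')), ?_⟩
      rw [map_mul, ← e1, ← e, hg]; group
    · exfalso
      rw [mul_assoc, e2.eq, ← mul_assoc, ← hom_eS' D, t_hom', mul_assoc] at e3
      have e4 := hinj (mul_right_cancel e3)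
      have e5 := congrArg T5.d e4
      rw [tau_d, eS'_d] at e5
      have e6 : (eS ⟨q, 0⟩ * eS' 1 * (eS ⟨q, 0⟩)⁻¹ : T5 (Rg E)).d = ⟨nm (1 : Rg E), nm (1 : Rg E)⟩ := by
        rw [T5.mul_d, T5.mul_d, T5.inv_d, T5.inv_y, eS_d, eS'_d]
        show 0 + ⟨nm (1 : Rg E), nm (1 : Rg E)⟩ + star 0 * 1 + star 0 + star _ * 0 =
          (⟨nm (1 : Rg E), nm (1 : Rg E)⟩ : Rg E)
        simp only [star_zero, zero_mul, mul_zero, add_zero, zero_add]
      rw [e6] at e5
      have e7 := congrArg QuadraticAlgebra.re e5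
      have e8 : nm (1 : Rg E) = 1 := by simp [nm, QuadraticAlgebra.re_one, QuadraticAlgebra.im_one]
      rw [QuadraticAlgebra.re_star, e8] at e7
      have e9 : (1 : F) = 0 := by linear_combination e7
      exact one_ne_zero e9
  obtain ⟨y, -, s, hy⟩ := h
  -- `s = 1` or `s = star`
  have hth : (th : Rg E) * th = th + ⟨E, 0⟩ := by
    ext
    · simp [th]
    · simp [th]
  have hsth : s.s th = ⟨(s.s th).re, 1⟩ := by
    ext
    · rfl
    · exact s.theta
  have hδ : (s.s th).re * ((s.s th).re + 1) = 0 := by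
    have h1 := congrArg s.s hth
    rw [map_mul, map_add, s.hC, hsth] at h1
    have h2 := congrArg QuadraticAlgebra.re h1
    have e1 : (1 : F ≃+* F) E = E := rfl
    simp only [QuadraticAlgebra.re_mul, QuadraticAlgebra.re_add, e1] at h2
    linear_combination (norm := c2n) h2
  have hw : ∀ w : Rg E, w = ⟨w.re, 0⟩ + ⟨w.im, 0⟩ * th := by
    intro w
    ext <;> simp [th]
  have hsw : ∀ w : Rg E, s.s w = ⟨w.re, 0⟩ + ⟨w.im, 0⟩ * s.s th := by
    intro w
    rw [hw w, map_add, map_mul, s.hC, s.hC]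
    simp [th]
  rcases mul_eq_zero.1 hδ with h0 | h0
  · have h1 : ∀ w : Rg E, s.s w = w := by
      intro w
      rw [hsw, hsth, h0]
      exact (hw w).symm
    obtain ⟨x, hx, e⟩ := key z hz y (fun x => by
      rw [hy]
      congr 4
      ext1
      all_goals exact h1 _)
    exact ⟨x, hx, Or.inl e⟩
  · have h1 : ∀ w : Rg E, s.s w = star w := by
      intro w
      rw [hsw, hsth]
      have h2 : (s.s th).re = 1 := eq_of_add h0
      rw [h2]
      ext
      · simp
      · simp [CharTwo.neg_eq]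
    have h2 : ∀ x, s.m x = tau x := by
      intro x
      ext1
      all_goals exact h1 _
    obtain ⟨x, hx, e⟩ := key (B.t * z) (by rw [mul_assoc, hz, ← mul_assoc]) (tau y) (fun x => by
      rw [mul_assoc, hy, ← mul_assoc, t_hom' D]
      have : tau (y * s.m x * y⁻¹) = tau y * x * (tau y)⁻¹ := by
        rw [h2, map_mul, map_mul, map_inv, tau_tau]
      rw [this, mul_assoc])
    exact ⟨x, hx, Or.inr (by rw [← e, ← mul_assoc, B.tt, one_mul])⟩

end act

end Cfsg.Agent.StdSpFour.CaseCFld
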