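import Cfsg.Agent.StdSpFour.CaseCHom
import Cfsg.Agent.StdSpFour.CaseBSplit
import Cfsg.Agent.StdRank2.UTn

/-!
# S1778, type Sp₄(q), case (C), split case: `T` is the Sylow 2-subgroup of `L₅(q)`
-/

set_option autoImplicit false
set_option linter.unusedSectionVars false
set_option linter.unusedSimpArgs false

namespace Cfsg.Agent.StdSpFour.CaseC

open QuadraticAlgebra Cfsg.Agent.StdSpFour.UFiveModel Cfsg.Agent.SylowL.Lev Cfsg.Agent.SylowL.UT

universe u v

variable {F : Type v} [Field F] [CharP F 2] {E : F}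

namespace Split

/-- evaluation at `θ = τ` -/
def ev (τ : F) (w : Rg E) : F := w.re + w.im * τ

theorem ev_add (τ : F) (w w' : Rg E) : ev τ (w + w') = ev τ w + ev τ w' := by
  simp only [ev, re_add, im_add]; ring

theorem ev_mul {τ : F} (h : τ ^ 2 = τ + E) (w w' : Rg E) : ev τ (w * w') = ev τ w * ev τ w' := by
  simp only [ev, re_mul, im_mul]; linear_combination (-(w.im * w'.im)) * h

theorem ev_zero (τ : F) : ev τ (0 : Rg E) = 0 := by simp [ev]

theorem ev_inj {τ : F} {w : Rg E} (h1 : ev τ w = 0) (h2 : ev τ (star w) = 0) : w = 0 := by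
  simp only [ev, re_star, im_star] at h1 h2
  have h3 : w.im = 0 := by
    linear_combination (norm := c2n) h1 + h2
  have h4 : w.re = 0 := by rw [h3] at h1; linear_combination h1
  ext
  · exact h4
  · exact h3

/-- the matrix -/
def mat (τ : F) (g : T5 (Rg E)) : Matrix (Fin 5) (Fin 5) F :=
  !![0, ev τ (star g.w1), ev τ (star g.w2 + star g.w1 * star g.y),
        ev τ (star g.w3 + star g.w2 * g.y + star g.w1 * g.d), ev τ (star g.c);
     0, 0, ev τ (star g.y), ev τ g.d, ev τ g.w3;
     0, 0, 0, ev τ g.y, ev τ g.w2;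
     0, 0, 0, 0, ev τ g.w1;
     0, 0, 0, 0, 0]

theorem mat_mem (τ : F) (g : T5 (Rg E)) : mat τ g ∈ lev 5 F 1 := by
  rw [mem_lev']
  intro i j hij
  fin_cases i <;> fin_cases j <;> first | rfl | (exfalso; revert hij; decide)

theorem mat_mul {τ : F} (h : τ ^ 2 = τ + E) (g g' : T5 (Rg E)) :
    mat τ (g * g') = mat τ g + mat τ g' + mat τ g * mat τ g' := by
  have hd := g.hd
  have h2 : (2 : Rg E) = 0 := CharTwo.two_eq_zero
  ext i j
  fin_cases i <;> fin_cases j <;>
    simp only [mat, Matrix.add_apply, Matrix.mul_apply, Fin.sum_univ_five, Matrix.of_apply, Matrix.cons_val',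
      Matrix.cons_val_zero, Matrix.cons_val_one, Matrix.cons_val, Fin.zero_eta, Fin.mk_one, Fin.reduceFinMk,
      Fin.isValue, mul_zero, zero_mul, add_zero, zero_add] <;>
    simp only [← ev_mul h, ← ev_add, T5.mul_w1, T5.mul_w2, T5.mul_w3, T5.mul_c, T5.mul_y, T5.mul_d] <;> (try refine congrArg (ev τ) ?_) <;> (try simp only [star_add, star_mul', star_star]) <;>
    first
    | ring1
    | linear_combination (star g.y * star g'.w1) * h2
    | linear_combination star g'.w1 * hd + (g.y * star g'.w2 + star g.y * g'.y * star g'.w1 +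
        g.y * star g.y * star g'.w1) * h2

/-- the homomorphism to the unitriangular group -/
def homUT {τ : F} (h : τ ^ 2 = τ + E) : T5 (Rg E) →* UT 5 F :=
  MonoidHom.mk' (fun g => Cfsg.Agent.SylowL.UT.mk _ (mat_mem τ g)) (by
    intro g g'
    apply N_injective
    rw [N_mul, N_mk, N_mk, N_mk, mat_mul h])

theorem homUT_inj {τ : F} (h : τ ^ 2 = τ + E) : Function.Injective (homUT (E := E) h) := by
  rw [injective_iff_map_eq_one]
  intro g hg
  have h1 : mat τ g = 0 := by
    have := congrArg N hg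
    rw [N_one] at this
    change N (Cfsg.Agent.SylowL.UT.mk _ (mat_mem τ g)) = 0 at this
    rwa [N_mk] at this
  have e01 : ev τ (star g.w1) = 0 := congrFun (congrFun h1 0) 1
  have e02 : ev τ (star g.w2 + star g.w1 * star g.y) = 0 := congrFun (congrFun h1 0) 2
  have e03 : ev τ (star g.w3 + star g.w2 * g.y + star g.w1 * g.d) = 0 := congrFun (congrFun h1 0) 3
  have e04 : ev τ (star g.c) = 0 := congrFun (congrFun h1 0) 4
  have e12 : ev τ (star g.y) = 0 := congrFun (congrFun h1 1) 2
  have e13 : ev τ g.d = 0 := congrFun (congrFun h1 1) 3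
  have e14 : ev τ g.w3 = 0 := congrFun (congrFun h1 1) 4
  have e23 : ev τ g.y = 0 := congrFun (congrFun h1 2) 3
  have e24 : ev τ g.w2 = 0 := congrFun (congrFun h1 2) 4
  have e34 : ev τ g.w1 = 0 := congrFun (congrFun h1 3) 4
  have w1 : g.w1 = 0 := ev_inj e34 e01
  have y : g.y = 0 := ev_inj e23 e12
  rw [w1, star_zero, zero_mul, add_zero] at e02
  have w2 : g.w2 = 0 := ev_inj e24 e02
  rw [w1, w2, star_zero, zero_mul, zero_mul, add_zero, add_zero] at e03
  have w3 : g.w3 = 0 := ev_inj e14 e03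
  have hc := g.hc
  have hd := g.hd
  rw [w1, w2, w3, star_zero, mul_zero, add_zero, add_zero] at hc
  rw [y, star_zero, mul_zero] at hd
  have hc' : star g.c = -g.c := by linear_combination hc
  have hd' : star g.d = -g.d := by linear_combination hd
  have c : g.c = 0 := by
    rw [hc'] at e04
    apply ev_inj (τ := τ)
    · have : ev τ (-g.c) = -ev τ g.c := by simp only [ev, re_neg, im_neg]; ring
      rw [this] at e04
      exact neg_eq_zero.1 e04
    · rw [hc']; exact e04
  have d : g.d = 0 := by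
    apply ev_inj e13
    rw [hd']
    have : ev τ (-g.d) = -ev τ g.d := by simp only [ev, re_neg, im_neg]; ring
    rw [this, e13, neg_zero]
  apply T5.ext <;> assumption

/-- `T5 (Rg E)` is the unitriangular group -/
theorem exists_equiv_UT [Fintype F] {τ : F} (h : τ ^ 2 = τ + E) : Nonempty (T5 (Rg E) ≃* UT 5 F) := by
  have hbij : Function.Bijective (homUT (E := E) h) := by
    refine (Nat.bijective_iff_injective_and_card _).mpr ⟨homUT_inj h, ?_⟩
    rw [card_T5, Cfsg.Agent.StdRank2.UTn.Coord.card_UT, Nat.card_eq_fintype_card]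
  exact ⟨MulEquiv.ofBijective _ hbij⟩

theorem exists_equiv_sylow [Fintype F] {τ : F} (h : τ ^ 2 = τ + E)
    (P : Sylow 2 (Matrix.ProjectiveSpecialLinearGroup (Fin 5) F)) :
    Nonempty (T5 (Rg E) ≃* ↥(P : Subgroup (Matrix.ProjectiveSpecialLinearGroup (Fin 5) F))) := by
  obtain ⟨e⟩ := exists_equiv_UT (E := E) h
  obtain ⟨e'⟩ := Cfsg.Agent.SylowL.SylowPSL.sylow_equiv 2 P
  exact ⟨e.trans e'.symm⟩

/-- the root group `X(R)` -/
def X3 (E : F) : Multiplicative (Rg E) →* T5 (Rg E) where
  toFun r := ⟨0, 0, r.toAdd, 0, 0, 0, by simp, by simp⟩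
  map_one' := rfl
  map_mul' a b := by
    apply T5.ext
    · simp [T5.mul_w1]
    · simp [T5.mul_w2]
    · simp [T5.mul_w3]
    · simp [T5.mul_c]
    · simp [T5.mul_y]
    · simp [T5.mul_d]

/-- the rank of a group containing `T` -/
theorem not_rank [Finite F] (hF : 4 ≤ Nat.card F) {L : Type u} [Group L] (i : T5 (Rg E) →* L)
    (hi : Function.Injective i) : ¬ Cfsg.PRankLE 2 2 L := by
  intro h
  have hinj : Function.Injective (i.comp (X3 E)) := by
    apply hi.comp
    intro a b hab
    exact congrArg T5.w3 hab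
  have h1 := h (i.comp (X3 E)).range ⟨⟨?_⟩⟩ ?_
  · rw [← Nat.card_congr (MonoidHom.ofInjective hinj).toEquiv, Nat.card_congr Multiplicative.toAdd,
      Nat.card_congr (QuadraticAlgebra.equivProd E (1 : F)), Nat.card_prod] at h1
    nlinarith
  · rintro ⟨_, x, rfl⟩ ⟨_, y, rfl⟩
    apply Subtype.ext
    show (i.comp (X3 E)) x * (i.comp (X3 E)) y = (i.comp (X3 E)) y * (i.comp (X3 E)) x
    rw [← map_mul, ← map_mul, mul_comm]
  · rintro _ ⟨x, rfl⟩
    rw [pow_two, ← map_mul]
    have : x * x = 1 := by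
      apply Multiplicative.toAdd.injective
      exact Two.radd _
    rw [this, map_one]

open Cfsg.Agent.StdSpFour.CaseBSplit

/-- **the split case** -/
theorem nonempty_equiv [Fintype F] {r : ℕ} (hr : 2 ≤ r) (hF : Fintype.card F = 2 ^ r) {τ : F}
    (hτ : τ ^ 2 + τ + E = 0) {L : Type u} [Group L] [Finite L] (h1769 : LinSylow.{u, v} L) (S : Sylow 2 L)
    (e : T5 (Rg E) ≃* ↥(S : Subgroup L)) : Nonempty (L ≃* Matrix.ProjectiveSpecialLinearGroup (Fin 5) F) := by
  have h : τ ^ 2 = τ + E := by linear_combination (norm := c2n) hτ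
  have P : Sylow 2 (Matrix.ProjectiveSpecialLinearGroup (Fin 5) F) := default
  obtain ⟨e'⟩ := exists_equiv_sylow (E := E) h P
  refine h1769 (not_rank (E := E) ?_ ((S : Subgroup L).subtype.comp e.toMonoidHom) ?_) F r hr hF 5 (by norm_num) S P
    ⟨e.symm.trans e'⟩
  · rw [Nat.card_eq_fintype_card, hF]
    calc 4 = 2 ^ 2 := rfl
      _ ≤ 2 ^ r := Nat.pow_le_pow_right (by norm_num) hr
  · exact (Subtype.val_injective).comp e.injective

/-- `L` is of Lie type in the split case -/
theorem isLie {F : Type} [Field F] [CharP F 2] [Fintype F] {E : F} {r : ℕ} (hr : 2 ≤ r) (hF : Fintype.card F = 2 ^ r)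
    {τ : F} (hτ : τ ^ 2 + τ + E = 0) {L : Type u} [Group L] [Finite L] (h1769 : LinSylow.{u, 0} L) (S : Sylow 2 L)
    (e : T5 (Rg E) ≃* ↥(S : Subgroup L)) : Cfsg.IsLieTypeChar 2 L :=
  Or.inl ⟨F, inferInstance, inferInstance, inferInstance, 5, by norm_num, by norm_num,
    nonempty_equiv hr hF hτ h1769 S e⟩

end Split

end Cfsg.Agent.StdSpFour.CaseC
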