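import Cfsg.Agent.StdSpFour.CaseCLift
import Cfsg.Agent.StdSpFour.CaseCFld
import Cfsg.Agent.StdSpFour.CaseCSplit
import Cfsg.Agent.StdSpFour.Bridge
import Cfsg.Agent.StdEven.Red
import Cfsg.Agent.StdL2.Setup

/-!
# S1778, type Sp₄(q), case (C): the end in `G`

`env`: from `Bridge H B`, `D : Three B E` and the lift `CLift` to `CaseCEnv.Env L0.f t T`.
`main`: `t ∉ L`, `range L0.f` is a Sylow 2-subgroup of `L`.
`exists_main`: the whole statement.  `concl_split`: the conclusion of S1778 when `τ² + τ + E = 0` is solvable.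
-/

set_option autoImplicit false
set_option linter.unusedSectionVars false

namespace Cfsg.Agent.StdSpFour.CaseCGlue

open Subgroup Cfsg Cfsg.Agent.StdSpFour Cfsg.Agent.StdSpFour.Comm Cfsg.Agent.StdSpFour.CaseC
  Cfsg.Agent.StdSpFour.CaseCInv Cfsg.Agent.StdSpFour.Lift Cfsg.Agent.StdSpFour.Env Cfsg.Agent.StdSpFour.Bridge
  Cfsg.Agent.StdSpFour.CaseCFld Cfsg.Agent.StdSpFour.CaseCEnv Cfsg.Agent.StdSpFour.UFiveModel
open Cfsg.Agent.StdEven.CoreQuot Cfsg.Agent.StdEven.Loc Cfsg.Agent.StdEven.Syl Cfsg.Agent.StdL2.Setup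
open scoped commutatorElement

universe u v

section X

variable {F X : Type*} [Field F] [CharP F 2] [Group X] {B : Base F X} {E : F} (D : Three B E)

theorem eA_U (a : F) : (eA ⟨a, 0⟩ : T5 (Rg E)) ∈ U E := by
  rw [mem_U_iff]
  exact ⟨rfl, rfl, rfl, rfl, rfl, rfl⟩

theorem eB_U (s : F) : (eB s : T5 (Rg E)) ∈ U E := by
  rw [mem_U_iff]
  exact ⟨rfl, rfl, rfl, by rw [eB_c]; rfl, rfl, by rw [eB_d]⟩

theorem hom_U (u s m r : F) :
    D.hom (eA ⟨u, 0⟩ * (eB s * (eX ⟨m, 0⟩ * eZ r))) = B.xa u * B.v1 s m r := by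
  rw [map_mul, map_mul, map_mul, hom_eA, hom_eB, hom_eX, hom_eZ, D.A_re, D.X_re, Base.v1]
  simp only [mul_assoc]

theorem exists_hom {w : X} (hw : IsU B w) : ∃ x ∈ U E, w = D.hom x := by
  obtain ⟨u, s, m, r, rfl⟩ := hw
  exact ⟨_, mul_mem (eA_U u) (mul_mem (eB_U s) (mul_mem (eX_U m) (eZ_U r))), (hom_U D u s m r).symm⟩

/-- elements of `U` in the model -/
theorem isU_hom {x : T5 (Rg E)} (hx : x ∈ U E) : IsU B (D.hom x) := by
  obtain ⟨h1, h2, h3, h4, h5, h6⟩ := mem_U_iff.1 hx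
  have e1 : x.w1 = ⟨x.w1.re, 0⟩ := by
    ext
    · rfl
    · exact h1
  have e3 : x.w3 = ⟨x.w3.re, 0⟩ := by
    ext
    · rfl
    · exact h3
  refine ⟨x.w1.re, x.d.re, x.w3.re, (x.c + x.w1 * star x.w3).re, ?_⟩
  rw [D.hom_apply, h2, h5, nm_zero, add_zero, Two.sg_zero, Two.sg'_zero, one_mul, one_mul, Base.v1]
  have e4 : D.A x.w1 = B.xa x.w1.re := by rw [← D.A_re, ← e1]
  have e5 : D.X x.w3 = B.zs x.w3.re := by rw [← D.X_re, ← e3]
  rw [e4]
  unfold Two.v4
  rw [e5]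

theorem t_ne_hom (x : T5 (Rg E)) : D.hom x ≠ B.t := by
  intro h
  have h1 := t_hom' D (eA th)
  rw [← h, ← map_mul, ← map_mul] at h1
  have h2 := congrArg T5.w1 (D.hom_inj h1)
  rw [T5.mul_w1, T5.mul_w1] at h2
  have h3 : (th : Rg E) = star th := by
    have h4 : (eA th : T5 (Rg E)).w1 = th := rfl
    have h5 : (tau (eA th) : T5 (Rg E)).w1 = star th := rfl
    rw [h4, h5, add_comm] at h2
    exact add_right_cancel h2
  have h4 := congrArg QuadraticAlgebra.re h3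
  rw [QuadraticAlgebra.re_star] at h4
  simp [th] at h4

end X

variable {F : Type v} {G : Type u} [Field F] [CharP F 2] [Finite F] [Group G] [Finite G] {A : Subgroup G} {t : G}
  {T : Subgroup G} {H : Hyp A t T} {B : Base F (XQ A t)}
variable (b : Bridge H B) {E : F} {D : Three B E} (L0 : CLift H B D)

include b in
theorem f_eq_hat {x : T5 (Rg E)} (hx : x ∈ U E) : L0.f x = hat H (D.hom x) :=
  eq_hat H (b.isU_mem (isU_hom D hx)) (b.isU_two (isU_hom D hx)) (b := ⟨L0.f x, L0.f_mem x⟩) (L0.f_two x) (L0.f_pr x)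

include b in
theorem f_T {x : T5 (Rg E)} (hx : x ∈ U E) : L0.f x ∈ T := by
  rw [f_eq_hat b L0 hx]
  exact b.hat_mem_T (isU_hom D hx)

include b in
theorem f_A {x : T5 (Rg E)} (hx : x ∈ U E) : L0.f x ∈ A := by
  rw [f_eq_hat b L0 hx]
  exact hat_mem H (b.isU_mem (isU_hom D hx)) (b.isU_two (isU_hom D hx))

include b in
/-- elements of `T` are determined by their images -/
theorem eq_of_pr {z : G} (hz : z ∈ T) {x : T5 (Rg E)} (hx : x ∈ U E) (h : pr A t ⟨z, H.T_le hz⟩ = D.hom x) :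
    z = L0.f x := by
  have h1 := H.pr_inj H.isT.syl.two (x := ⟨z, H.T_le hz⟩) (y := ⟨L0.f x, L0.f_mem x⟩) hz (f_T b L0 hx)
    (by rw [h, L0.f_pr])
  exact congrArg Subtype.val h1

include b in
theorem eq_of_pr_t {z : G} (hz : z ∈ T) {x : T5 (Rg E)} (hx : x ∈ U E)
    (h : pr A t ⟨z, H.T_le hz⟩ = B.t * D.hom x) : z = t * L0.f x := by
  have htz : t * z ∈ T := mul_mem H.isT.mem hz
  have h1 : t * z = L0.f x := by
    apply eq_of_pr b L0 htz hx
    have e : (⟨t * z, H.T_le htz⟩ : ↥(NO A t)) = ⟨t, H.t_mem⟩ * ⟨z, H.T_le hz⟩ := rfl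
    rw [e, map_mul, h]
    change H.tX * (B.t * D.hom x) = D.hom x
    rw [b.t_eq, ← mul_assoc, H.tX_sq, one_mul]
  rw [← h1, ← mul_assoc, H.tt, one_mul]

theorem t_f' (hBt : B.t = H.tX) (x : T5 (Rg E)) : t * L0.f x = L0.f (tau x) * t := by
  have h1 := L0.f_rel ⟨t, H.t_mem⟩ x (tau x) (by
    rw [← H.tX_eq, ← hBt, t_hom' D, mul_inv_cancel_right])
  change t * L0.f x * t⁻¹ = L0.f (tau x) at h1
  rwa [mul_inv_eq_iff_eq_mul] at h1

theorem t_ne_f (hBt : B.t = H.tX) (x : T5 (Rg E)) : L0.f x ≠ t := by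
  intro h
  apply t_ne_hom D x
  rw [hBt, H.tX_eq, ← L0.f_pr]
  congr 1
  exact Subtype.ext h

/-- conjugation by an element of `N(O)` -/
theorem conj_f {g : G} (hg : g ∈ NO A t) {x y : T5 (Rg E)}
    (h : pr A t ⟨g, hg⟩ * D.hom x = D.hom y * pr A t ⟨g, hg⟩) : g * L0.f x = L0.f y * g := by
  have h1 := L0.f_rel ⟨g, hg⟩ x y (by rw [h, mul_inv_cancel_right])
  change g * L0.f x * g⁻¹ = L0.f y at h1
  rwa [mul_inv_eq_iff_eq_mul] at h1

/-- values in `L` -/
theorem f_mem_L {L : Subgroup G} [L.Normal] (hAL : A ≤ L) (hE : Env B (im A t A)) (hF : 4 ≤ Nat.card F)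
    (x : T5 (Rg E)) : L0.f x ∈ L := by
  have hN := im_normal (A := A) (t := t) (L := L)
  have hle : im A t A ≤ im A t L := im_mono hAL
  refine mem_L H (x := ⟨L0.f x, L0.f_mem x⟩) (L0.f_two x) (L0.f_core x) ?_
  rw [L0.f_pr]
  exact D.hom_mem hF (im A t L) (fun α β => hle (hE.h_mem α β)) (fun s => hle (hE.xb_mem s))
    (fun s => hle (hE.zl_mem s)) x

theorem nbT_mkT (w : Rg E) (c : F) : Three.nbT (mkT w 0 0 0 c 0) = mkT 0 0 w 0 c 0 := by
  refine ext' rfl rfl rfl rfl rfl rfl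

include b in
/-- **the environment in `G`** -/
theorem env : CaseCEnv.Env L0.f t T where
  inj := L0.f_inj
  tt := H.tt
  t_i := t_f' L0 b.t_eq
  t_ne := t_ne_f L0 b.t_eq
  two := H.isT.syl.two
  mem_t := H.isT.mem
  mem_U := fun x hx => f_T b L0 hx
  comm := H.isT.cent
  syl := by
    intro Q hQ hQt hle
    have h1 := (H.isT.syl_cent H.std H.ht H.htA).max Q hQ (fun z hz => by
      rw [mem_centralizer_singleton_iff]; exact hQt z hz) hle
    exact h1.le
  typ := by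
    intro z hz
    obtain ⟨u, hu, σ, h⟩ := b.act z hz
    obtain ⟨x, hx, rfl⟩ := exists_hom D hu
    obtain ⟨y, hy, s, h1⟩ := typ_of D b.hF b.env.self b.hna b.hnb hx h
    exact ⟨σ, y, hy, s, fun w => conj_f L0 (H.T_le hz) (h1 w)⟩
  one := by
    rintro z hz ⟨y, hy, s, h1⟩
    have h2 : Typ ⊤ D.hom (pr A t ⟨z, H.T_le hz⟩) 1 := by
      refine ⟨y, hy, s, fun w => ?_⟩
      have h3 := congrArg (pr A t) (Subtype.ext (h1 w) :
        (⟨z, H.T_le hz⟩ : ↥(NO A t)) * ⟨L0.f w, L0.f_mem w⟩ =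
          ⟨L0.f (y * s.m w * y⁻¹), L0.f_mem _⟩ * ⟨z, H.T_le hz⟩)
      rwa [map_mul, map_mul, L0.f_pr, L0.f_pr] at h3
    have h3 : pr A t ⟨z, H.T_le hz⟩ * B.t = B.t * pr A t ⟨z, H.T_le hz⟩ := by
      rw [b.t_eq]
      exact H.pr_comm_iff.2 (H.isT.cent z hz)
    obtain ⟨x, hx, h4 | h4⟩ := one_of D b.env.self h3 h2
    · exact ⟨x, hx, Or.inl (eq_of_pr b L0 hz hx h4)⟩
    · exact ⟨x, hx, Or.inr (eq_of_pr_t b L0 hz hx h4)⟩
  fus := by
    intro w c
    refine isConj_iff.2 ⟨L0.nb, ?_⟩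
    rw [L0.nb_q rfl (by
      ext
      · rfl
      · show ((0 : Rg E) * star 0).re = 0
        rw [zero_mul]; rfl), nbT_mkT]

include b in
theorem main {L : Subgroup G} (C : Conf L A t) :
    t ∉ L ∧ (∀ x, L0.f x ∈ L) ∧ ∃ P : Sylow 2 L, (P : Subgroup L).map L.subtype = L0.f.range := by
  have hLn := C.normal
  have hperf : _root_.commutator L = ⊤ := by
    have hs := C.simple
    have hn : (_root_.commutator L).Normal := inferInstance
    rcases hs.eq_bot_or_eq_top_of_normal _ hn with h | h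
    · exfalso
      apply C.not_comm
      refine ⟨⟨fun x y => ?_⟩⟩
      have h1 : ⁅x, y⁆ ∈ _root_.commutator L := commutator_mem_commutator (mem_top x) (mem_top y)
      rw [h, mem_bot, commutatorElement_eq_one_iff_mul_comm] at h1
      exact h1
    · exact h
  have hTL : ∀ x, L0.f x ∈ L := f_mem_L L0 C.le b.env b.hF
  obtain ⟨h1, h2⟩ := (env b L0).main b.hF hperf hTL (by
    intro y z hy hz hyz
    obtain ⟨w, hw⟩ := hyz
    have hwt : L0.f w * t = t * L0.f w := by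
      rw [hw]
      have h2 := H.isT.cent z hz
      have hy' : y⁻¹ * t = t * y⁻¹ := by
        calc y⁻¹ * t = y⁻¹ * (t * y) * y⁻¹ := by group
          _ = y⁻¹ * (y * t) * y⁻¹ := by rw [hy]
          _ = t * y⁻¹ := by group
      calc y * z * y⁻¹ * t = y * z * (y⁻¹ * t) := by group
        _ = y * (z * t) * y⁻¹ := by rw [hy']; group
        _ = (y * t) * z * y⁻¹ := by rw [h2]; group
        _ = _ := by rw [hy]; group
    have hwU : w ∈ U E := by
      rw [CaseCInv.mem_U]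
      apply L0.f_inj
      have h3 := t_f' L0 b.t_eq w
      rw [← hwt] at h3
      exact (mul_right_cancel h3).symm
    have hzA : z ∈ A := by
      have h4 := f_A b L0 hwU
      rw [hw] at h4
      have h5 := conj_inv_mem_of_mem_normalizer (H.mem_normalizer hy) h4
      have h6 : y⁻¹ * (y * z * y⁻¹) * y = z := by group
      rwa [h6] at h5
    obtain ⟨x, hx, e⟩ := exists_hom D (b.TU hz hzA)
    exact ⟨x, hx, eq_of_pr b L0 hz hx e⟩)
  refine ⟨h1, hTL, ?_⟩
  obtain ⟨P, hP⟩ := h2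
  exact ⟨P, hP⟩

omit L0 in
include b in
/-- **case (C)**: `t ∉ L` and `T5 (Rg E)` is a Sylow 2-subgroup of `L`. -/
theorem exists_main (D : Three B E) {L : Subgroup G} (C : Conf L A t) :
    t ∉ L ∧ ∃ L0 : CLift H B D, (∀ x, L0.f x ∈ L) ∧
      ∃ P : Sylow 2 L, (P : Subgroup L).map L.subtype = L0.f.range := by
  obtain ⟨L0⟩ := exists_CLift H b.env D b.hF
  obtain ⟨h1, h2, h3⟩ := main b L0 C
  exact ⟨h1, L0, h2, h3⟩

/-- the Sylow 2-subgroup is isomorphic to the model -/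
theorem nonempty_equiv {L : Subgroup G} {P : Sylow 2 L} (hP : (P : Subgroup L).map L.subtype = L0.f.range) :
    Nonempty (T5 (Rg E) ≃* ↥(P : Subgroup L)) := by
  have e1 : T5 (Rg E) ≃* L0.f.range := MonoidHom.ofInjective L0.f_inj
  have e2 : ↥(P : Subgroup L) ≃* ↥((P : Subgroup L).map L.subtype) :=
    (P : Subgroup L).equivMapOfInjective L.subtype L.subtype_injective
  exact ⟨e1.trans ((MulEquiv.subgroupCongr hP.symm).trans e2.symm)⟩

end Cfsg.Agent.StdSpFour.CaseCGlue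

namespace Cfsg.Agent.StdSpFour.CaseCGlue

open Subgroup Cfsg Cfsg.Agent.StdSpFour Cfsg.Agent.StdSpFour.Comm Cfsg.Agent.StdSpFour.CaseC
  Cfsg.Agent.StdSpFour.UFiveModel
open Cfsg.Agent.StdEven.CoreQuot Cfsg.Agent.StdL2.Setup

universe u

variable {F : Type} {G : Type u} [Field F] [CharP F 2] [Finite F] [Group G] [Finite G] {A : Subgroup G} {t : G}
  {T : Subgroup G} {H : Hyp A t T} {B : Base F (XQ A t)}

/-- the split case: `L ≅ L₅(q)` -/
theorem concl_split {E : F} {D : Three B E} {L0 : CLift H B D} (hF : 4 ≤ Nat.card F)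
    {τ : F} (hτ : τ ^ 2 + τ + E = 0) {L : Subgroup G} (htL : t ∉ L) (h1769 : CaseBSplit.LinSylow.{u, 0} L)
    {P2 : Sylow 2 L} (hP : (P2 : Subgroup L).map L.subtype = L0.f.range) :
    Cfsg.Agent.StdEven.Red.Concl L t := by
  have := Fintype.ofFinite F
  obtain ⟨n, -, hn⟩ := FiniteField.card F 2
  have hr : 2 ≤ (n : ℕ) := by
    rw [Nat.card_eq_fintype_card, hn] at hF
    by_contra h
    have h1 : (n : ℕ) ≤ 1 := by omega
    have h2 : 2 ^ (n : ℕ) ≤ 2 ^ 1 := Nat.pow_le_pow_right (by norm_num) h1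
    omega
  obtain ⟨e⟩ := nonempty_equiv L0 hP
  exact ⟨Or.inl (Split.isLie hr hn hτ h1769 P2 e), htL⟩

end Cfsg.Agent.StdSpFour.CaseCGlue
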