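import Mathlib
import Cfsg.Agent.StdSpFour.Prime

/-!
# S1778, type Sp₄(q), case (C): the interface between (2) and (3) of bb #8700

`Rg E = F[θ]`, `θ² = θ + E` (`QuadraticAlgebra F E 1`), `star θ = θ + 1`, `Tr w = w.im`, `nm w = w w̄`.

`Two B E`: the output of (2): `A w = x_a(re w) p'(im w)`, `X r = z_s(re r) p(im r)`, `sg w` for all `w ∈ R`,
with the relations known before `sg' w := na sg(w) na⁻¹` is used for `w ∉ F`.

`Three B E`: the output of (3), (3a): all the relations between `A`, `X`, `sg`, `sg'`, `x_b`, `z_l`.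
-/
set_option autoImplicit false

namespace Cfsg.Agent.StdSpFour.CaseC

open Cfsg.Agent.StdSpFour QuadraticAlgebra

variable {F G : Type*} [Field F] [Group G]

/-- `R = F[θ]`, `θ² = θ + E` -/
abbrev Rg {F : Type*} [Field F] (E : F) := QuadraticAlgebra F E 1

/-- the norm `w w̄` -/
def nm {E : F} (w : Rg E) : F := w.re ^ 2 + w.re * w.im + E * w.im ^ 2

/-- `θ` -/
def th {E : F} : Rg E := ⟨0, 1⟩

/-- **the output of (2)** -/
structure Two (B : Base F G) (E : F) where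
  A : Rg E → G
  X : Rg E → G
  sg : Rg E → G
  A_re : ∀ u : F, A ⟨u, 0⟩ = B.xa u
  X_re : ∀ m : F, X ⟨m, 0⟩ = B.zs m
  A_add : ∀ w w', A (w + w') = A w * A w'
  X_add : ∀ r r', X (r + r') = X r * X r'
  /-- `t^A(w) = t x_a(Tr w)` -/
  t_A : ∀ w, B.t * A w = A w * (B.t * B.xa w.im)
  /-- `t^X(r) = t z_s(Tr r)` -/
  t_X : ∀ r, B.t * X r = X r * (B.t * B.zs r.im)
  X_xb : ∀ r s, Commute (X r) (B.xb s)
  X_zl : ∀ r s, Commute (X r) (B.zl s)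
  A_zl : ∀ w s, Commute (A w) (B.zl s)
  /-- (R6) `x_b(s)^A(w) = x_b(s) X(s w) z_l(N(w) s)` -/
  xb_A : ∀ s w, B.xb s * A w = A w * (B.xb s * X (s • w) * B.zl (nm w * s))
  /-- (R7) `X(r)^A(w) = X(r) z_l(Tr(w r̄))` -/
  X_A : ∀ r w, X r * A w = A w * (X r * B.zl (w * star r).im)
  nb_A : ∀ w, B.nb * A w = X w * B.nb
  nb_X : ∀ w, B.nb * X w = A w * B.nb
  na_X : ∀ r, B.na * X r = X (star r) * B.na
  h_A : ∀ (α β : Fˣ) w, B.h α β * A w = A ((α : F) • w) * B.h α β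
  h_X : ∀ (α β : Fˣ) w, B.h α β * X w = X (((α : F) * β) • w) * B.h α β
  /-- (R1) `sg(w) sg(w') = sg(w + w') z_l(re(w w̄'))` -/
  sg_add : ∀ w w', sg w * sg w' = sg (w + w') * B.zl (w * star w').re
  /-- `t^sg(w) = t sg(Tr w) z_l(re(w̄²))` -/
  t_sg : ∀ w, B.t * sg w = sg w * (B.t * sg ⟨w.im, 0⟩ * B.zl (star w * star w).re)
  sg_A : ∀ w w', Commute (sg w) (A w')
  sg_X : ∀ w r, Commute (sg w) (X r)
  sg_xb : ∀ w s, Commute (sg w) (B.xb s)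
  sg_zl : ∀ w s, Commute (sg w) (B.zl s)
  sg_nb : ∀ w, Commute (sg w) B.nb
  h_sg : ∀ (α γ : Fˣ) w, B.h α (γ ^ 2) * sg w = sg (((α : F) * γ) • w) * B.h α (γ ^ 2)
  /-- `sg(w) sg'(x) = sg'(x) sg(w) X(x w)` for `x ∈ F`, `sg'(x) = na sg(x) na⁻¹` -/
  sg_sg' : ∀ (w : Rg E) (x : F), sg w * (B.na * sg ⟨x, 0⟩ * B.na⁻¹) =
    (B.na * sg ⟨x, 0⟩ * B.na⁻¹) * (sg w * X (x • w))
  /-- `sg'(x)^A(w) = sg'(x) X(x² w θ) sg(x w)` for `x ∈ F` -/
  sg'_A : ∀ (x : F) (w : Rg E), (B.na * sg ⟨x, 0⟩ * B.na⁻¹) * A w =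
    A w * ((B.na * sg ⟨x, 0⟩ * B.na⁻¹) * X (x ^ 2 • (w * th)) * sg (x • w))

/-- `sg'(w)` -/
def Two.sg' {B : Base F G} {E : F} (D : Two B E) (w : Rg E) : G := B.na * D.sg w * B.na⁻¹

/-- **the output of (3), (3a)**: the relations of the Sylow 2-subgroup of `U₅` (over the quadratic extension `R`) -/
structure Three (B : Base F G) (E : F) extends Two B E where
  /-- (R4) `sg(w) sg'(w') = sg'(w') sg(w) X(w w̄')` -/
  R4 : ∀ w w', sg w * toTwo.sg' w' = toTwo.sg' w' * (sg w * X (w * star w'))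
  /-- (R5) `sg'(w)^A(w') = sg'(w) X(w' N(w) θ) sg(w' w)` -/
  R5 : ∀ w w', toTwo.sg' w * A w' = A w' * (toTwo.sg' w * X (nm w • (w' * th)) * sg (w' * w))

end Cfsg.Agent.StdSpFour.CaseC
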