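import Mathlib
import Cfsg.Agent.StdSpFour.CaseCDefs
import Cfsg.Agent.StdSpFour.FieldAux

/-!
# S1778, type Sp₄(q), case (C): the group `V₄ = x_b(F) X(R) z_l(F)` and the first consequences of (2)
-/
set_option autoImplicit false
set_option linter.unusedSectionVars false
set_option linter.unusedSimpArgs false

namespace Cfsg.Agent.StdSpFour.CaseC

open Cfsg.Agent.StdSpFour Cfsg.Agent.StdSpFour.Comm QuadraticAlgebra

/-! ### char 2 identities -/

section c2

variable {F : Type*} [Field F] [CharP F 2]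

theorem n2 : (2 : F) = 0 := CharTwo.two_eq_zero
theorem n4 : (4 : F) = 0 := by rw [show (4 : F) = 2 * 2 by norm_num, n2, zero_mul]
theorem n6 : (6 : F) = 0 := by rw [show (6 : F) = 2 * 3 by norm_num, n2, zero_mul]
theorem n8 : (8 : F) = 0 := by rw [show (8 : F) = 2 * 4 by norm_num, n2, zero_mul]
theorem n10 : (10 : F) = 0 := by rw [show (10 : F) = 2 * 5 by norm_num, n2, zero_mul]
theorem n12 : (12 : F) = 0 := by rw [show (12 : F) = 2 * 6 by norm_num, n2, zero_mul]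

end c2

/-- prove a polynomial identity in characteristic 2 -/
macro "c2" : tactic => `(tactic| (rw [← sub_eq_zero]; ring_nf; try simp only [n2, n4, n6, n8, n10, n12, mul_zero,
  zero_mul, add_zero, zero_add, sub_zero, neg_zero]))

/-- unfold the components of elements of `R` -/
macro "cmp" : tactic => `(tactic| simp only [nm, th, re_mul, im_mul, re_add, im_add, re_star, im_star, re_smul, im_smul,
  smul_eq_mul, re_zero, im_zero, re_one, im_one, re_neg, im_neg])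

section ring

variable {F : Type*} [Field F] {E : F}

theorem re_ofF (x : F) : ((⟨x, 0⟩ : Rg E)).re = x := rfl

end ring

section V

variable {F G : Type*} [Field F] [Group G] {B : Base F G} {E : F} (D : Two B E)

/-- elements of `V₄` -/
def Two.v4 (s : F) (r : Rg E) (c : F) : G := B.xb s * D.X r * B.zl c

namespace Two

theorem X_zero : D.X 0 = 1 := by
  have := D.X_add 0 0
  rw [add_zero] at this
  exact left_eq_mul.1 this

theorem A_zero : D.A 0 = 1 := by
  have := D.A_add 0 0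
  rw [add_zero] at this
  exact left_eq_mul.1 this

theorem sg_zero : D.sg 0 = 1 := by
  have := D.sg_add 0 0
  rw [add_zero, zero_mul, re_zero, zl_zero, mul_one] at this
  exact left_eq_mul.1 this.symm

theorem sg'_zero : D.sg' 0 = 1 := by
  rw [sg', sg_zero]; group

theorem v4_mul (s s' : F) (r r' : Rg E) (c c' : F) :
    D.v4 s r c * D.v4 s' r' c' = D.v4 (s + s') (r + r') (c + c') := by
  unfold v4
  rw [B.xb_add, D.X_add, B.zl_add]
  have h1 := (D.X_xb r s').eq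
  have h2 := (B.xb_zl s' c).eq
  have h3 := (D.X_zl r' c).eq
  calc B.xb s * D.X r * B.zl c * (B.xb s' * D.X r' * B.zl c')
      = B.xb s * D.X r * (B.zl c * B.xb s') * D.X r' * B.zl c' := by group
    _ = B.xb s * (D.X r * B.xb s') * (B.zl c * D.X r') * B.zl c' := by rw [← h2]; group
    _ = _ := by rw [h1, ← h3]; group

theorem v4_mul' (s s' : F) (r r' : Rg E) (c c' : F) (z : G) :
    D.v4 s r c * (D.v4 s' r' c' * z) = D.v4 (s + s') (r + r') (c + c') * z := by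
  rw [← mul_assoc, v4_mul]

theorem v4_zero : D.v4 0 0 0 = 1 := by rw [v4, xb_zero, zl_zero, X_zero]; group

theorem xb_eq (s : F) : B.xb s = D.v4 s 0 0 := by rw [v4, zl_zero, X_zero]; group
theorem zl_eq (s : F) : B.zl s = D.v4 0 0 s := by rw [v4, xb_zero, X_zero]; group
theorem X_eq (r : Rg E) : D.X r = D.v4 0 r 0 := by rw [v4, xb_zero, zl_zero]; group
theorem zs_eq (m : F) : B.zs m = D.v4 0 ⟨m, 0⟩ 0 := by rw [← X_eq, D.X_re]
theorem xa_eq (u : F) : B.xa u = D.A ⟨u, 0⟩ := (D.A_re u).symm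

theorem v4_comm (s s' : F) (r r' : Rg E) (c c' : F) : Commute (D.v4 s r c) (D.v4 s' r' c') := by
  show _ * _ = _ * _
  rw [v4_mul, v4_mul, add_comm s, add_comm r, add_comm c]

theorem sg_v4 (w : Rg E) (s : F) (r : Rg E) (c : F) : Commute (D.sg w) (D.v4 s r c) :=
  ((D.sg_xb w s).mul_right (D.sg_X w r)).mul_right (D.sg_zl w c)

theorem t_v4 (s : F) (r : Rg E) (c : F) : B.t * D.v4 s r c = D.v4 s r c * (B.t * D.v4 0 ⟨r.im, 0⟩ 0) := by
  unfold v4
  have h1 := (B.t_xb s).eq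
  have h2 := (B.t_zl c).eq
  have h3 := D.t_X r
  have h4 := (B.zs_zl r.im c).eq
  rw [xb_zero, zl_zero, D.X_re]
  calc B.t * (B.xb s * D.X r * B.zl c) = (B.t * B.xb s) * D.X r * B.zl c := by group
    _ = B.xb s * (B.t * D.X r) * B.zl c := by rw [h1]; group
    _ = B.xb s * D.X r * B.t * (B.zs r.im * B.zl c) := by rw [h3]; group
    _ = B.xb s * D.X r * (B.t * B.zl c) * B.zs r.im := by rw [h4]; group
    _ = _ := by rw [h2]; group

theorem na_v4 (s : F) (r : Rg E) (c : F) : B.na * D.v4 s r c = D.v4 c (star r) s * B.na := by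
  have h1 := B.na_xb s
  have h2 := D.na_X r
  have h3 := B.na_zl c
  have h4 := (D.X_xb (star r) c).eq
  have h5 := (B.xb_zl c s).eq
  have h6 := (D.X_zl (star r) s).eq
  unfold v4
  calc B.na * (B.xb s * D.X r * B.zl c) = (B.na * B.xb s) * D.X r * B.zl c := by group
    _ = B.zl s * (B.na * D.X r) * B.zl c := by rw [h1]; group
    _ = (B.zl s * D.X (star r)) * (B.na * B.zl c) := by rw [h2]; group
    _ = D.X (star r) * (B.zl s * B.xb c) * B.na := by rw [← h6, h3]; group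
    _ = (D.X (star r) * B.xb c) * B.zl s * B.na := by rw [← h5]; group
    _ = _ := by rw [h4]

theorem cj_na_v4 (s : F) (r : Rg E) (c : F) : cj B.na (D.v4 s r c) = D.v4 c (star r) s := by
  apply cj_of_eq
  rw [na_v4, star_star]

theorem cjm_na_v4 (s : F) (r : Rg E) (c : F) : MulAut.conj B.na (D.v4 s r c) = D.v4 c (star r) s := by
  rw [MulAut.conj_apply, na_v4, mul_inv_cancel_right]

theorem sg'_eq (w : Rg E) : D.sg' w = MulAut.conj B.na (D.sg w) := rfl

theorem sg'_v4 (w : Rg E) (s : F) (r : Rg E) (c : F) : Commute (D.sg' w) (D.v4 s r c) := by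
  have h := (D.sg_v4 w c (star r) s).map (MulAut.conj B.na)
  rw [cjm_na_v4, star_star, ← sg'_eq] at h
  exact h

theorem cj_A_v4 (w : Rg E) (s : F) (r : Rg E) (c : F) :
    cj (D.A w) (D.v4 s r c) = D.v4 s (r + s • w) (c + (w * star r).im + nm w * s) := by
  have h1 : cj (D.A w) (B.xb s) = D.v4 s (s • w) (nm w * s) := cj_of_eq (D.xb_A s w)
  have h2 : cj (D.A w) (D.X r) = D.v4 0 r (w * star r).im := by
    apply cj_of_eq
    rw [D.X_A, v4, xb_zero, one_mul]
  have h3 : cj (D.A w) (B.zl c) = D.v4 0 0 c := by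
    rw [← zl_eq]
    exact cj_of_comm (D.A_zl w c).symm
  nth_rewrite 1 [v4]
  rw [cj_mul, cj_mul, h1, h2, h3, v4_mul, v4_mul]
  congr 1
  · ring
  · rw [add_zero, add_comm]
  · ring

theorem v4_A (w : Rg E) (s : F) (r : Rg E) (c : F) :
    D.v4 s r c * D.A w = D.A w * D.v4 s (r + s • w) (c + (w * star r).im + nm w * s) := by
  rw [← cj_A_v4]; simp [cj, mul_assoc]

/-! #### injectivity on `V₄` -/

theorem t_inj {x y : Rg E} (h : B.t * D.v4 0 ⟨x.im, 0⟩ 0 = B.t * D.v4 0 ⟨y.im, 0⟩ 0) : x.im = y.im := by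
  have h1 := mul_left_cancel h
  rw [← zs_eq, ← zs_eq] at h1
  exact zs_inj B h1

theorem v4_eq_one {s : F} {r : Rg E} {c : F} (h : D.v4 s r c = 1) : s = 0 ∧ r = 0 ∧ c = 0 := by
  have h1 := D.t_v4 s r c
  rw [h, mul_one, one_mul] at h1
  have h2 : D.v4 0 ⟨r.im, 0⟩ 0 = 1 := mul_eq_left.1 h1.symm
  rw [← zs_eq] at h2
  have h3 : r.im = 0 := zs_inj B (h2.trans (zs_zero B).symm)
  have h4 : r = ⟨r.re, 0⟩ := by ext <;> simp [h3]
  have h5 := B.inj 0 s r.re c (by
    rw [xa_zero, one_mul, ← D.X_re, ← h4]; exact h)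
  refine ⟨h5.2.1, ?_, h5.2.2.2⟩
  rw [h4, h5.2.2.1]
  rfl

theorem v4_inj {s s' : F} {r r' : Rg E} {c c' : F} (h : D.v4 s r c = D.v4 s' r' c') :
    s = s' ∧ r = r' ∧ c = c' := by
  have h1 : D.v4 (s - s') (r - r') (c - c') * D.v4 s' r' c' = 1 * D.v4 s' r' c' := by
    rw [v4_mul, sub_add_cancel, sub_add_cancel, sub_add_cancel, h, one_mul]
  obtain ⟨h2, h3, h4⟩ := D.v4_eq_one (mul_right_cancel h1)
  exact ⟨sub_eq_zero.1 h2, sub_eq_zero.1 h3, sub_eq_zero.1 h4⟩

section two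

variable [CharP F 2]

theorem radd (r : Rg E) : r + r = 0 := by
  ext
  · rw [re_add, re_zero, CharTwo.add_self_eq_zero]
  · rw [im_add, im_zero, CharTwo.add_self_eq_zero]

theorem rneg (r : Rg E) : -r = r := by
  rw [neg_eq_iff_add_eq_zero]; exact radd r

theorem v4_sq (s : F) (r : Rg E) (c : F) : D.v4 s r c * D.v4 s r c = 1 := by
  rw [v4_mul, radd, CharTwo.add_self_eq_zero s, CharTwo.add_self_eq_zero c, v4_zero]

theorem v4_inv (s : F) (r : Rg E) (c : F) : (D.v4 s r c)⁻¹ = D.v4 s r c :=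
  inv_eq_of_mul_eq_one_left (D.v4_sq s r c)

theorem A_sq (w : Rg E) : D.A w * D.A w = 1 := by rw [← D.A_add, radd, A_zero]

theorem A_inv (w : Rg E) : (D.A w)⁻¹ = D.A w := inv_eq_of_mul_eq_one_left (D.A_sq w)

theorem star_star_re (w : Rg E) : (star w * star w).re = w.re ^ 2 + w.im ^ 2 + E * w.im ^ 2 := by
  cmp; c2

/-- **(R1) for `sg'`** -/
theorem sg'_add (w w' : Rg E) : D.sg' w * D.sg' w' = D.sg' (w + w') * B.xb (w * star w').re := by
  have h := congrArg (MulAut.conj B.na) (D.sg_add w w')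
  rw [map_mul, map_mul, zl_eq D, cjm_na_v4, star_zero, ← sg'_eq, ← sg'_eq, ← sg'_eq, ← xb_eq] at h
  exact h

theorem t_sg' (w : Rg E) :
    B.t * D.sg' w = D.sg' w * (B.t * D.sg' ⟨w.im, 0⟩ * B.xb (star w * star w).re) := by
  have h := congrArg (MulAut.conj B.na) (D.t_sg w)
  simp only [map_mul] at h
  rw [zl_eq D, cjm_na_v4, star_zero, ← sg'_eq, ← sg'_eq, ← xb_eq, Prime.cj_na_t] at h
  exact h

/-- `sg(w) sg'(x) = sg'(x) sg(w) X(xw)` -/
theorem sg_sg'_re (w : Rg E) (x : F) : D.sg w * D.sg' ⟨x, 0⟩ = D.sg' ⟨x, 0⟩ * (D.sg w * D.v4 0 (x • w) 0) := by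
  rw [← X_eq]; exact D.sg_sg' w x

/-- `sg(x) sg'(w) = sg'(w) sg(x) X(x w̄)` -/
theorem sg_re_sg' (w : Rg E) (x : F) (hna : B.na * B.na = 1) :
    D.sg ⟨x, 0⟩ * D.sg' w = D.sg' w * (D.sg ⟨x, 0⟩ * D.v4 0 (x • star w) 0) := by
  have e : B.na⁻¹ = B.na := inv_eq_of_mul_eq_one_left hna
  have h := congrArg (MulAut.conj B.na) (D.sg_sg' w x)
  simp only [map_mul, ← sg'_eq] at h
  have e2 : MulAut.conj B.na (B.na) = B.na := by simp [MulAut.conj_apply]
  have e3 : MulAut.conj B.na (B.na⁻¹) = B.na⁻¹ := by simp [MulAut.conj_apply]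
  have e4 : MulAut.conj B.na B.na * D.sg' ⟨x, 0⟩ * MulAut.conj B.na B.na⁻¹ = D.sg ⟨x, 0⟩ := by
    rw [e2, e3, sg']
    calc B.na * (B.na * D.sg ⟨x, 0⟩ * B.na⁻¹) * B.na⁻¹ = (B.na * B.na) * D.sg ⟨x, 0⟩ * (B.na⁻¹ * B.na⁻¹) := by group
      _ = _ := by rw [e, hna]; group
  rw [e4, X_eq, cjm_na_v4] at h
  -- `sg' w * sg x = sg x * (sg' w * X(star (x w)))`
  have e5 : star (x • w) = x • star w := by ext <;> cmp <;> ring
  rw [e5] at h
  have h6 := (D.sg_v4 ⟨x, 0⟩ 0 (x • star w) 0).eq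
  calc D.sg ⟨x, 0⟩ * D.sg' w = D.sg ⟨x, 0⟩ * D.sg' w * (D.v4 0 (x • star w) 0 * D.v4 0 (x • star w) 0) := by
        rw [v4_sq, mul_one]
    _ = (D.sg ⟨x, 0⟩ * (D.sg' w * D.v4 0 (x • star w) 0)) * D.v4 0 (x • star w) 0 := by group
    _ = _ := by rw [← h]; group

end two

end Two

end V

end Cfsg.Agent.StdSpFour.CaseC
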