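import Mathlib
import Cfsg.Agent.StdSpFour.CaseCV

/-!
# S1778, type Sp₄(q), case (C): `[sg(w), sg'(w')] = X(w w̄' + c Tr w Tr w')`
-/
set_option autoImplicit false
set_option linter.unusedSectionVars false
set_option linter.unusedSimpArgs false

namespace Cfsg.Agent.StdSpFour.CaseC

open Cfsg.Agent.StdSpFour Cfsg.Agent.StdSpFour.Comm QuadraticAlgebra

variable {F G : Type*} [Field F] [Group G] {B : Base F G} {E : F} (D : Two B E)

theorem assoc_of {a b c : G} (h : a * b = c) (z : G) : a * (b * z) = c * z := by rw [← mul_assoc, h]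

namespace Two

theorem v4_sg (w : Rg E) (s : F) (r : Rg E) (c : F) : D.v4 s r c * D.sg w = D.sg w * D.v4 s r c :=
  (D.sg_v4 w s r c).eq.symm
theorem v4_sg_a (w : Rg E) (s : F) (r : Rg E) (c : F) (z : G) :
    D.v4 s r c * (D.sg w * z) = D.sg w * (D.v4 s r c * z) := by
  rw [← mul_assoc, v4_sg, mul_assoc]
theorem v4_sg' (w : Rg E) (s : F) (r : Rg E) (c : F) : D.v4 s r c * D.sg' w = D.sg' w * D.v4 s r c :=
  (D.sg'_v4 w s r c).eq.symm
theorem v4_sg'_a (w : Rg E) (s : F) (r : Rg E) (c : F) (z : G) :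
    D.v4 s r c * (D.sg' w * z) = D.sg' w * (D.v4 s r c * z) := by
  rw [← mul_assoc, v4_sg', mul_assoc]

theorem sg_sg (w w' : Rg E) : D.sg w * D.sg w' = D.sg (w + w') * D.v4 0 0 (w * star w').re := by
  rw [← zl_eq]; exact D.sg_add w w'
theorem sg_sg_a (w w' : Rg E) (z : G) :
    D.sg w * (D.sg w' * z) = D.sg (w + w') * (D.v4 0 0 (w * star w').re * z) := by
  rw [← mul_assoc, sg_sg, mul_assoc]

section two

variable [CharP F 2]

theorem sg'_sg' (w w' : Rg E) : D.sg' w * D.sg' w' = D.sg' (w + w') * D.v4 (w * star w').re 0 0 := by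
  rw [← xb_eq]; exact D.sg'_add w w'
theorem sg'_sg'_a (w w' : Rg E) (z : G) :
    D.sg' w * (D.sg' w' * z) = D.sg' (w + w') * (D.v4 (w * star w').re 0 0 * z) := by
  rw [← mul_assoc, sg'_sg', mul_assoc]

theorem sg_sg'r_a (w : Rg E) (x : F) (z : G) :
    D.sg w * (D.sg' ⟨x, 0⟩ * z) = D.sg' ⟨x, 0⟩ * (D.sg w * (D.v4 0 (x • w) 0 * z)) := by
  rw [← mul_assoc, sg_sg'_re]; simp only [mul_assoc]

theorem sgr_sg'_a (hna : B.na * B.na = 1) (w : Rg E) (x : F) (z : G) :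
    D.sg ⟨x, 0⟩ * (D.sg' w * z) = D.sg' w * (D.sg ⟨x, 0⟩ * (D.v4 0 (x • star w) 0 * z)) := by
  rw [← mul_assoc, sg_re_sg' D w x hna]; simp only [mul_assoc]

/-! ### conjugations -/

theorem cj_sg_t (w : Rg E) : cj (D.sg w) B.t = B.t * (D.sg ⟨w.im, 0⟩ * D.v4 0 0 (star w * star w).re) := by
  apply cj_of_eq
  rw [D.t_sg, zl_eq D]; simp only [mul_assoc]

theorem cj_sg'_t (w : Rg E) : cj (D.sg' w) B.t = B.t * (D.sg' ⟨w.im, 0⟩ * D.v4 (star w * star w).re 0 0) := by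
  apply cj_of_eq
  rw [D.t_sg', xb_eq D]; simp only [mul_assoc]

theorem cj_v4_t (s : F) (r : Rg E) (c : F) : cj (D.v4 s r c) B.t = B.t * D.v4 0 ⟨r.im, 0⟩ 0 :=
  cj_of_eq (D.t_v4 s r c)

theorem cj_A_t (w : Rg E) : cj (D.A w) B.t = B.t * D.A ⟨w.im, 0⟩ := by
  apply cj_of_eq
  rw [D.t_A, D.A_re]

theorem cj_sg_v4 (w : Rg E) (s : F) (r : Rg E) (c : F) : cj (D.sg w) (D.v4 s r c) = D.v4 s r c :=
  cj_of_comm (D.sg_v4 w s r c).symm
theorem cj_sg'_v4 (w : Rg E) (s : F) (r : Rg E) (c : F) : cj (D.sg' w) (D.v4 s r c) = D.v4 s r c :=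
  cj_of_comm (D.sg'_v4 w s r c).symm
theorem cj_v4_v4 (s' : F) (r' : Rg E) (c' : F) (s : F) (r : Rg E) (c : F) :
    cj (D.v4 s' r' c') (D.v4 s r c) = D.v4 s r c := cj_of_comm (D.v4_comm _ _ _ _ _ _)
theorem cj_v4_sg (w : Rg E) (s : F) (r : Rg E) (c : F) : cj (D.v4 s r c) (D.sg w) = D.sg w :=
  cj_of_comm (D.sg_v4 w s r c)
theorem cj_v4_sg' (w : Rg E) (s : F) (r : Rg E) (c : F) : cj (D.v4 s r c) (D.sg' w) = D.sg' w :=
  cj_of_comm (D.sg'_v4 w s r c)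

theorem cj_sg_sg'r (w : Rg E) (x : F) : cj (D.sg w) (D.sg' ⟨x, 0⟩) = D.sg' ⟨x, 0⟩ * D.v4 0 (x • w) 0 := by
  apply cj_of_eq
  rw [← mul_assoc, sg_sg'_re]
  simp only [mul_assoc]
  rw [v4_mul, radd, add_zero, v4_zero, mul_one]

theorem cj_sg'_sgr (hna : B.na * B.na = 1) (w : Rg E) (x : F) :
    cj (D.sg' w) (D.sg ⟨x, 0⟩) = D.sg ⟨x, 0⟩ * D.v4 0 (x • star w) 0 := by
  apply cj_of_eq
  have h := sg_re_sg' D w x hna
  rw [h]

/-! ### centralisers -/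

theorem t_X_ne : ¬ Commute B.t (D.X th) := by
  intro h
  have h1 := D.t_X th
  rw [h.eq] at h1
  have h2 : B.zs 1 = 1 := by
    have h3 := mul_left_cancel h1
    exact mul_eq_left.1 h3.symm
  exact one_ne_zero (zs_inj B (h2.trans (zs_zero B).symm))

/-- `C_G(V₄) ∩ C_G(t) = V₁` -/
theorem cent_V4 (hB : B.Self) {g : G} (ht : Commute g B.t) (hV : ∀ s r c, Commute g (D.v4 s r c)) :
    ∃ s m c, g = D.v4 s ⟨m, 0⟩ c := by
  obtain ⟨s, m, c, h | h⟩ := hB.cent1 g ht (fun u => by rw [xb_eq D]; exact hV _ _ _)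
    (fun u => by rw [zs_eq D]; exact hV _ _ _) (fun u => by rw [zl_eq D]; exact hV _ _ _)
  · exact ⟨s, m, c, by rw [h, v4, D.X_re]⟩
  · exfalso
    apply D.t_X_ne
    have h1 : B.xb s * B.zs m * B.zl c = D.v4 s ⟨m, 0⟩ c := by rw [v4, D.X_re]
    rw [h1] at h
    have h2 : B.t = g * D.v4 s ⟨m, 0⟩ c := by rw [h, mul_assoc, v4_sq, mul_one]
    rw [h2, X_eq]
    exact (hV _ _ _).mul_left (D.v4_comm _ _ _ _ _ _)

theorem same (hB : B.Self) {g g' : G} (hg : ∀ s r c, Commute g (D.v4 s r c))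
    (hg' : ∀ s r c, Commute g' (D.v4 s r c)) (h : cj g B.t = cj g' B.t) :
    ∃ s m c, g = g' * D.v4 s ⟨m, 0⟩ c := by
  obtain ⟨s, m, c, h1⟩ := D.cent_V4 hB (comm_of_cj_eq h) (fun s r c => (hg s r c).mul_left (hg' s r c).inv_left)
  refine ⟨s, m, c, ?_⟩
  rw [(hg' _ _ _).eq, ← h1]; group

theorem nf_congr {a a' b b' : Rg E} {s s' : F} {r r' : Rg E} {c c' : F} (ha : a = a') (hb : b = b') (hs : s = s')
    (hr : r = r') (hc : c = c') : D.sg' a * (D.sg b * D.v4 s r c) = D.sg' a' * (D.sg b' * D.v4 s' r' c') := by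
  rw [ha, hb, hs, hr, hc]

theorem R4_aux (hB : B.Self) (hna : B.na * B.na = 1) (w w' : Rg E) :
    ∃ s m c, D.sg w * D.sg' w' = (D.sg' w' * (D.sg w * D.v4 0 (w * star w') 0)) * D.v4 s ⟨m, 0⟩ c := by
  apply D.same hB
  · exact fun s r c => (D.sg_v4 w s r c).mul_left (D.sg'_v4 w' s r c)
  · exact fun s r c => (D.sg'_v4 w' s r c).mul_left ((D.sg_v4 w s r c).mul_left (D.v4_comm _ _ _ _ _ _))
  · simp only [cj_mul_left, cj_sg_t, cj_sg'_t, cj_v4_t, cj_mul, cj_sg_v4, cj_sg'_v4, cj_v4_v4, cj_v4_sg, cj_v4_sg',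
      cj_sg_sg'r, cj_sg'_sgr D hna, mul_assoc]
    congr 1
    simp only [v4_sg, v4_sg_a, v4_sg', v4_sg'_a, v4_mul, v4_mul', sg_sg'r_a, sg_sg'_re, mul_assoc]
    apply D.nf_congr rfl rfl <;> (try ext) <;> cmp <;> c2

/-! ### the torus -/

theorem star_smul' (x : F) (w : Rg E) : star (x • w) = x • star w := by ext <;> cmp <;> ring

theorem h_xb' (α β : Fˣ) (u : F) : B.h α β * B.xb u = B.xb (β * u) * B.h α β := B.h_xb α β u

theorem h_sg' (α γ : Fˣ) (w : Rg E) : B.h α (γ ^ 2) * D.sg' w = D.sg' ((γ : F) • w) * B.h α (γ ^ 2) := by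
  have h1 := B.na_h α⁻¹ ((α * γ) ^ 2)
  have e1 : (α⁻¹) ^ 2 * (α * γ) ^ 2 = γ ^ 2 := by
    rw [← mul_pow, ← mul_assoc, inv_mul_cancel, one_mul]
  rw [e1, inv_inv] at h1
  have h2 := D.h_sg α⁻¹ (α * γ) w
  have e2 : (((α⁻¹ : Fˣ) : F) * ((α * γ : Fˣ) : F)) = γ := by
    rw [← Units.val_mul, ← mul_assoc, inv_mul_cancel, one_mul]
  rw [e2] at h2
  unfold sg'
  calc B.h α (γ ^ 2) * (B.na * D.sg w * B.na⁻¹) = (B.h α (γ ^ 2) * B.na) * D.sg w * B.na⁻¹ := by group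
    _ = B.na * (B.h α⁻¹ ((α * γ) ^ 2) * D.sg w) * B.na⁻¹ := by rw [← h1]; group
    _ = B.na * D.sg ((γ : F) • w) * (B.na⁻¹ * (B.na * B.h α⁻¹ ((α * γ) ^ 2)) * B.na⁻¹) := by rw [h2]; group
    _ = _ := by rw [h1]; group

theorem cjh_sg (α γ : Fˣ) (w : Rg E) : MulAut.conj (B.h α (γ ^ 2)) (D.sg w) = D.sg (((α : F) * γ) • w) := by
  rw [MulAut.conj_apply, D.h_sg, mul_inv_cancel_right]

theorem cjh_sg' (α γ : Fˣ) (w : Rg E) : MulAut.conj (B.h α (γ ^ 2)) (D.sg' w) = D.sg' ((γ : F) • w) := by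
  rw [MulAut.conj_apply, h_sg', mul_inv_cancel_right]

theorem cjh_A (α β : Fˣ) (w : Rg E) : MulAut.conj (B.h α β) (D.A w) = D.A ((α : F) • w) := by
  rw [MulAut.conj_apply, D.h_A, mul_inv_cancel_right]

theorem cjh_v4 (α γ : Fˣ) (s : F) (r : Rg E) (c : F) : MulAut.conj (B.h α (γ ^ 2)) (D.v4 s r c) =
    D.v4 ((γ : F) ^ 2 * s) (((α : F) * (γ : F) ^ 2) • r) ((α : F) ^ 2 * (γ : F) ^ 2 * c) := by
  unfold v4
  simp only [map_mul]
  rw [cj_h_xb, cj_h_zl]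
  have h1 : MulAut.conj (B.h α (γ ^ 2)) (D.X r) = D.X (((α : F) * (γ : F) ^ 2) • r) := by
    rw [MulAut.conj_apply, D.h_X, mul_inv_cancel_right, Units.val_pow_eq_pow_val]
  rw [h1, Units.val_pow_eq_pow_val]

/-! ### (R4) up to the constant `c` -/

/-- the relation (R4) with a correction term -/
def RelFour (c0 : F) : Prop := ∀ w w', D.sg w * D.sg' w' =
  D.sg' w' * (D.sg w * D.v4 0 (w * star w' + (⟨c0 * (w.im * w'.im), 0⟩ : Rg E)) 0)

theorem re_add_im (w : Rg E) : w = (⟨w.re, 0⟩ : Rg E) + ⟨0, w.im⟩ := by ext <;> simp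

theorem exists_RelFour [Finite F] (hF : 4 ≤ Nat.card F) (hB : B.Self) (hna : B.na * B.na = 1) :
    ∃ c0, D.RelFour c0 := by
  haveI := Fintype.ofFinite F
  rw [Nat.card_eq_fintype_card] at hF
  have h0 : ∀ w w', ∃ s m c, D.sg w * D.sg' w' = D.sg' w' * (D.sg w * D.v4 s (w * star w' + (⟨m, 0⟩ : Rg E)) c) := by
    intro w w'
    obtain ⟨s, m, c, h⟩ := D.R4_aux hB hna w w'
    refine ⟨s, m, c, ?_⟩
    rw [h]
    simp only [mul_assoc, v4_mul, zero_add]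
  choose fs fm fc hf using h0
  have hfa : ∀ w w' z, D.sg w * (D.sg' w' * z) =
      D.sg' w' * (D.sg w * (D.v4 (fs w w') (w * star w' + (⟨fm w w', 0⟩ : Rg E)) (fc w w') * z)) := by
    intro w w' z
    rw [← mul_assoc, hf]; simp only [mul_assoc]
  -- additivity
  have hl : ∀ w w1 w', fs (w + w1) w' = fs w w' + fs w1 w' ∧ fm (w + w1) w' = fm w w' + fm w1 w' ∧
      fc (w + w1) w' = fc w w' + fc w1 w' := by
    intro w w1 w'
    have h1 : (D.sg w * D.sg w1) * D.sg' w' = D.sg w * (D.sg w1 * D.sg' w') := mul_assoc _ _ _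
    simp only [v4_sg, v4_sg_a, v4_sg', v4_sg'_a, v4_mul, v4_mul', sg_sg, sg_sg_a, hf, hfa, mul_assoc] at h1
    obtain ⟨h2, h3, h4⟩ := D.v4_inj (mul_left_cancel (mul_left_cancel h1))
    refine ⟨by linear_combination h2, ?_, by linear_combination h4⟩
    have h5 := congrArg QuadraticAlgebra.re h3
    simp only [re_add, re_zero, re_mul, im_add, add_zero, zero_add, re_star, im_star] at h5
    linear_combination h5
  have hr : ∀ w w' w1, fs w (w' + w1) = fs w w' + fs w w1 ∧ fm w (w' + w1) = fm w w' + fm w w1 ∧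
      fc w (w' + w1) = fc w w' + fc w w1 := by
    intro w w' w1
    have h1 : D.sg w * (D.sg' w' * D.sg' w1) = (D.sg w * D.sg' w') * D.sg' w1 := (mul_assoc _ _ _).symm
    simp only [v4_sg, v4_sg_a, v4_sg', v4_sg'_a, v4_mul, v4_mul', sg'_sg', sg'_sg'_a, hf, hfa, mul_assoc] at h1
    obtain ⟨h2, h3, h4⟩ := D.v4_inj (mul_left_cancel (mul_left_cancel h1))
    refine ⟨by linear_combination h2, ?_, by linear_combination h4⟩
    have h5 := congrArg QuadraticAlgebra.re h3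
    simp only [re_add, re_zero, re_mul, im_add, add_zero, zero_add, re_star, im_star] at h5
    linear_combination h5
  -- torus
  have ht : ∀ (α γ : Fˣ) w w', fs (((α : F) * γ) • w) ((γ : F) • w') = (γ : F) ^ 2 * fs w w' ∧
      fm (((α : F) * γ) • w) ((γ : F) • w') = (α : F) * (γ : F) ^ 2 * fm w w' ∧
      fc (((α : F) * γ) • w) ((γ : F) • w') = (α : F) ^ 2 * (γ : F) ^ 2 * fc w w' := by
    intro α γ w w'
    have h1 := congrArg (MulAut.conj (B.h α (γ ^ 2))) (hf w w')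
    simp only [map_mul, cjh_sg, cjh_sg', cjh_v4] at h1
    rw [hf] at h1
    obtain ⟨h2, h3, h4⟩ := D.v4_inj (mul_left_cancel (mul_left_cancel h1))
    refine ⟨h2, ?_, h4⟩
    have h5 := congrArg QuadraticAlgebra.re h3
    simp only [re_add, re_zero, re_mul, im_add, add_zero, zero_add, re_star, im_star, re_smul, im_smul,
      smul_eq_mul] at h5
    linear_combination h5
  -- real arguments
  have zr : ∀ w (x : F), fs w ⟨x, 0⟩ = 0 ∧ fm w ⟨x, 0⟩ = 0 ∧ fc w ⟨x, 0⟩ = 0 := by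
    intro w x
    have h1 := hf w ⟨x, 0⟩
    rw [sg_sg'_re] at h1
    obtain ⟨h2, h3, h4⟩ := D.v4_inj (mul_left_cancel (mul_left_cancel h1))
    refine ⟨h2.symm, ?_, h4.symm⟩
    have h5 := congrArg QuadraticAlgebra.re h3
    simp only [re_add, re_zero, re_mul, im_add, add_zero, zero_add, re_star, im_star, re_smul, im_smul,
      smul_eq_mul, mul_zero, neg_zero] at h5
    linear_combination -h5
  have zl : ∀ w (x : F), fs ⟨x, 0⟩ w = 0 ∧ fm ⟨x, 0⟩ w = 0 ∧ fc ⟨x, 0⟩ w = 0 := by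
    intro w x
    have h1 := hf ⟨x, 0⟩ w
    rw [D.sg_re_sg' w x hna] at h1
    obtain ⟨h2, h3, h4⟩ := D.v4_inj (mul_left_cancel (mul_left_cancel h1))
    refine ⟨h2.symm, ?_, h4.symm⟩
    have h5 := congrArg QuadraticAlgebra.re h3
    simp only [re_add, re_zero, re_mul, im_add, add_zero, zero_add, re_star, im_star, re_smul, im_smul,
      smul_eq_mul, mul_zero, zero_mul, neg_zero] at h5
    linear_combination -h5
  -- reduction to the imaginary parts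
  have red : ∀ w w', fs w w' = fs ⟨0, w.im⟩ ⟨0, w'.im⟩ ∧ fm w w' = fm ⟨0, w.im⟩ ⟨0, w'.im⟩ ∧
      fc w w' = fc ⟨0, w.im⟩ ⟨0, w'.im⟩ := by
    intro w w'
    have e1 := hl ⟨w.re, 0⟩ ⟨0, w.im⟩ w'
    rw [← re_add_im w, (zl w' w.re).1, (zl w' w.re).2.1, (zl w' w.re).2.2, zero_add, zero_add, zero_add] at e1
    have e2 := hr ⟨0, w.im⟩ ⟨w'.re, 0⟩ ⟨0, w'.im⟩
    rw [← re_add_im w', (zr _ w'.re).1, (zr _ w'.re).2.1, (zr _ w'.re).2.2, zero_add, zero_add, zero_add] at e2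
    exact ⟨e1.1.trans e2.1, e1.2.1.trans e2.2.1, e1.2.2.trans e2.2.2⟩
  have smi : ∀ x y : F, x • (⟨0, y⟩ : Rg E) = ⟨0, x * y⟩ := fun x y => by ext <;> simp
  have adi : ∀ x y : F, (⟨0, x⟩ : Rg E) + ⟨0, y⟩ = ⟨0, x + y⟩ := fun x y => by ext <;> simp
  have hs0 : ∀ y y' : F, fs ⟨0, y⟩ ⟨0, y'⟩ = 0 := by
    intro y y'
    apply FieldAux.const_zero hF (f := fun y => fs ⟨0, y⟩ ⟨0, y'⟩)
    · intro a b
      show fs ⟨0, a + b⟩ ⟨0, y'⟩ = _
      rw [← adi, (hl _ _ _).1]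
    · intro a b ha hb
      have h1 := (ht (Units.mk0 (b / a) (div_ne_zero hb ha)) 1 ⟨0, a⟩ ⟨0, y'⟩).1
      simp only [Units.val_mk0, Units.val_one, mul_one, one_pow, one_mul, smi] at h1
      rw [div_mul_cancel₀ _ ha] at h1
      exact h1.symm
  have hc0 : ∀ y y' : F, fc ⟨0, y⟩ ⟨0, y'⟩ = 0 := by
    intro y y'
    apply FieldAux.const_zero hF (f := fun y' => fc ⟨0, y⟩ ⟨0, y'⟩)
    · intro a b
      show fc ⟨0, y⟩ ⟨0, a + b⟩ = _
      rw [← adi, (hr _ _ _).2.2]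
    · intro a b ha hb
      have h1 := (ht (Units.mk0 (a / b) (div_ne_zero ha hb)) (Units.mk0 (b / a) (div_ne_zero hb ha)) ⟨0, y⟩ ⟨0, a⟩).2.2
      simp only [Units.val_mk0, smi] at h1
      have e1 : a / b * (b / a) = 1 := by field_simp
      rw [e1, div_mul_cancel₀ _ ha, one_mul, ← mul_pow, e1, one_pow, one_mul] at h1
      exact h1.symm
  refine ⟨fm ⟨0, 1⟩ ⟨0, 1⟩, fun w w' => ?_⟩
  have hm0 : fm ⟨0, w.im⟩ ⟨0, w'.im⟩ = fm ⟨0, 1⟩ ⟨0, 1⟩ * (w.im * w'.im) := by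
    by_cases h1 : w.im = 0
    · rw [h1, zero_mul, mul_zero]
      exact (zl _ 0).2.1
    by_cases h2 : w'.im = 0
    · rw [h2, mul_zero, mul_zero]
      exact (zr _ 0).2.1
    have h3 := (ht (Units.mk0 (w.im / w'.im) (div_ne_zero h1 h2)) (Units.mk0 w'.im h2) ⟨0, 1⟩ ⟨0, 1⟩).2.1
    simp only [Units.val_mk0, smi, mul_one] at h3
    rw [div_mul_cancel₀ _ h2] at h3
    rw [h3]
    field_simp
  rw [hf, (red w w').1, (red w w').2.1, (red w w').2.2, hs0, hc0, hm0]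

end two

end Two

end Cfsg.Agent.StdSpFour.CaseC
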