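import Mathlib
import Cfsg.Agent.StdSpFour.CaseCRfour

/-!
# S1778, type Sp₄(q), case (C): `sg'(w)^x_a(u)` exactly; (R4) exactly
-/
set_option autoImplicit false
set_option linter.unusedSectionVars false
set_option linter.unusedSimpArgs false
set_option linter.style.haveILetI false

namespace Cfsg.Agent.StdSpFour.CaseC

open Cfsg.Agent.StdSpFour Cfsg.Agent.StdSpFour.Comm QuadraticAlgebra

/-- normalisation in characteristic 2 -/
macro "c2n" : tactic => `(tactic| (ring_nf; try simp only [n2, n4, n6, n8, n10, n12, mul_zero,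
  zero_mul, add_zero, zero_add, sub_zero, neg_zero]))

variable {F G : Type*} [Field F] [Group G] {B : Base F G} {E : F} (D : Two B E)

theorem cj_cj (a g x : G) : cj (cj a g) x = cj a (cj g (cj a⁻¹ x)) := by simp [cj, mul_assoc]

theorem conj_cj (x a g : G) : MulAut.conj x (cj a g) = cj (MulAut.conj x a) (MulAut.conj x g) := by
  simp only [cj, map_mul, map_inv]

theorem mul_eq_cj (g x : G) : x * g = g * cj g x := by simp [cj, mul_assoc]

namespace Two

variable [CharP F 2]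

/-- abbreviation: `g` centralises `V₄` -/
def CV (g : G) : Prop := ∀ s r c, Commute g (D.v4 s r c)

theorem CV.mul {g h : G} (hg : D.CV g) (hh : D.CV h) : D.CV (g * h) := fun s r c => (hg s r c).mul_left (hh s r c)

theorem CV.sg (w : Rg E) : D.CV (D.sg w) := D.sg_v4 w
theorem CV.sg' (w : Rg E) : D.CV (D.sg' w) := D.sg'_v4 w
theorem CV.v4 (s : F) (r : Rg E) (c : F) : D.CV (D.v4 s r c) := fun _ _ _ => D.v4_comm _ _ _ _ _ _

theorem exists_cj_A (w : Rg E) (s : F) (r : Rg E) (c : F) : ∃ s' r' c', D.v4 s r c = cj (D.A w) (D.v4 s' r' c') := by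
  have h : cj (D.A w) (cj (D.A w) (D.v4 s r c)) = D.v4 s r c := by
    rw [← cj_mul_left, A_sq]; simp [cj]
  rw [cj_A_v4] at h
  exact ⟨_, _, _, h.symm⟩

theorem CV.cjA {g : G} (hg : D.CV g) (w : Rg E) : D.CV (cj (D.A w) g) := by
  intro s r c
  obtain ⟨s', r', c', h⟩ := D.exists_cj_A w s r c
  rw [h]
  have h1 := (hg s' r' c').eq
  show _ * _ = _ * _
  rw [← cj_mul, ← cj_mul, h1]

/-! ### conjugation by `A` -/

theorem cj_A_sg (w w' : Rg E) : cj (D.A w) (D.sg w') = D.sg w' := cj_of_comm (D.sg_A w' w)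

theorem cj_A_A (w w' : Rg E) : cj (D.A w) (D.A w') = D.A w' := by
  apply cj_of_comm
  show _ * _ = _ * _
  rw [← D.A_add, ← D.A_add, add_comm]

theorem cj_A_sg'r (w : Rg E) (x : F) : cj (D.A w) (D.sg' ⟨x, 0⟩) =
    D.sg' ⟨x, 0⟩ * (D.sg (x • w) * D.v4 0 (x ^ 2 • (w * th)) 0) := by
  apply cj_of_eq
  have h := D.sg'_A x w
  rw [X_eq, mul_assoc (B.na * D.sg ⟨x, 0⟩ * B.na⁻¹), v4_sg] at h
  exact h

theorem A_inv' (w : Rg E) : (D.A w)⁻¹ = D.A w := D.A_inv w

theorem cj_Ar_t (u : F) : cj (D.A ⟨u, 0⟩) B.t = B.t := by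
  rw [D.A_re]; exact cj_of_comm (B.t_xa u)

theorem nf_inj {a b : Rg E} {s s' : F} {r r' : Rg E} {c c' : F}
    (h : D.sg' a * (D.sg b * D.v4 s r c) = D.sg' a * (D.sg b * D.v4 s' r' c')) :
    s = s' ∧ r = r' ∧ c = c' := D.v4_inj (mul_left_cancel (mul_left_cancel h))

/-- (R5) for `u ∈ F`, up to `V₁` -/
theorem R5r_aux (hB : B.Self) (_hna : B.na * B.na = 1) (u : F) (w : Rg E) :
    ∃ s m c, cj (D.A ⟨u, 0⟩) (D.sg' w) =
      (D.sg' w * (D.sg (u • w) * D.v4 0 ((u * nm w) • th) 0)) * D.v4 s ⟨m, 0⟩ c := by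
  apply D.same hB
  · exact CV.cjA D (CV.sg' D w) _
  · exact CV.mul D (CV.sg' D w) (CV.mul D (CV.sg D _) (CV.v4 D _ _ _))
  · rw [cj_cj, A_inv, cj_Ar_t]
    simp only [cj_mul_left, cj_sg_t, cj_sg'_t, cj_v4_t, cj_mul, cj_sg_v4, cj_sg'_v4, cj_v4_v4, cj_v4_sg, cj_v4_sg',
      cj_sg_sg'r, cj_sg'_sgr D _hna, mul_assoc, cj_Ar_t, cj_A_v4, cj_A_sg'r, cj_A_sg]
    congr 1
    simp only [v4_sg, v4_sg_a, v4_sg', v4_sg'_a, v4_mul, v4_mul', sg_sg'r_a, sg_sg'_re, mul_assoc]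
    apply D.nf_congr rfl <;> (try ext) <;> cmp <;> c2

theorem smi (x y : F) : x • (⟨0, y⟩ : Rg E) = ⟨0, x * y⟩ := by ext <;> simp
theorem adi (x y : F) : (⟨0, x⟩ : Rg E) + ⟨0, y⟩ = ⟨0, x + y⟩ := by ext <;> simp
theorem adr (x y : F) : (⟨x, 0⟩ : Rg E) + ⟨y, 0⟩ = ⟨x + y, 0⟩ := by ext <;> simp
theorem smr (x y : F) : x • (⟨y, 0⟩ : Rg E) = ⟨x * y, 0⟩ := by ext <;> simp

/-- (R4) is exact -/
theorem R4_exact [Finite F] (hF : 4 ≤ Nat.card F) (hB : B.Self) (hna : B.na * B.na = 1) :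
    D.RelFour 0 ∧ ∃ g l : F, ∀ u w, cj (D.A ⟨u, 0⟩) (D.sg' w) =
      D.sg' w * (D.sg (u • w) * D.v4 0 ((u * nm w) • th + (⟨g * (u * w.im ^ 2), 0⟩ : Rg E)) (l * (u ^ 2 * w.im ^ 2))) := by
  haveI := Fintype.ofFinite F
  obtain ⟨c0, hc0⟩ := D.exists_RelFour hF hB hna
  rw [Nat.card_eq_fintype_card] at hF
  have hc0a : ∀ w w' z, D.sg w * (D.sg' w' * z) =
      D.sg' w' * (D.sg w * (D.v4 0 (w * star w' + (⟨c0 * (w.im * w'.im), 0⟩ : Rg E)) 0 * z)) := by
    intro w w' z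
    rw [← mul_assoc, hc0]; simp only [mul_assoc]
  have h0 : ∀ u w, ∃ s m c, cj (D.A ⟨u, 0⟩) (D.sg' w) =
      D.sg' w * (D.sg (u • w) * D.v4 s ((u * nm w) • th + (⟨m, 0⟩ : Rg E)) c) := by
    intro u w
    obtain ⟨s, m, c, h⟩ := D.R5r_aux hB hna u w
    refine ⟨s, m, c, ?_⟩
    rw [h]
    simp only [mul_assoc, v4_mul, zero_add]
  choose fs fm fc hf using h0
  -- additivity in `u`
  have hl : ∀ u u' w, fs (u + u') w = fs u' w + fs u w ∧ fm (u + u') w = fm u' w + (fm u w + u' * fs u w) ∧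
      fc (u + u') w = fc u' w + (fc u w + u' ^ 2 * fs u w) := by
    intro u u' w
    have h1 : cj (D.A ⟨u + u', 0⟩) (D.sg' w) = cj (D.A ⟨u', 0⟩) (cj (D.A ⟨u, 0⟩) (D.sg' w)) := by
      rw [← cj_mul_left, ← D.A_add, adr]
    simp only [cj_mul, hf, cj_A_sg, cj_A_v4] at h1
    simp only [v4_sg, v4_sg_a, v4_sg', v4_sg'_a, v4_mul, v4_mul', sg_sg, sg_sg_a, mul_assoc] at h1
    have e1 : u' • w + u • w = (u + u') • w := by rw [add_comm, ← add_smul]
    rw [e1] at h1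
    obtain ⟨h2, h3, h4⟩ := D.nf_inj h1
    have h5 := congrArg QuadraticAlgebra.re h3
    simp only [nm, th, re_mul, im_mul, re_add, im_add, re_star, im_star, re_smul, im_smul,
      smul_eq_mul, re_zero, im_zero, re_one, im_one, re_neg, im_neg] at h2 h4 h5
    refine ⟨?_, ?_, ?_⟩
    · linear_combination (norm := c2n) h2
    · linear_combination (norm := c2n) h5
    · linear_combination (norm := c2n) h4
  -- torus
  have ht : ∀ (α γ : Fˣ) u w, fs (α * u) ((γ : F) • w) = (γ : F) ^ 2 * fs u w ∧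
      fm (α * u) ((γ : F) • w) = (α : F) * (γ : F) ^ 2 * fm u w ∧
      fc (α * u) ((γ : F) • w) = (α : F) ^ 2 * (γ : F) ^ 2 * fc u w := by
    intro α γ u w
    have h1 := congrArg (MulAut.conj (B.h α (γ ^ 2))) (hf u w)
    simp only [conj_cj, map_mul, cjh_sg, cjh_sg', cjh_v4, cjh_A, smr] at h1
    rw [hf] at h1
    have e1 : ((α : F) * γ) • u • w = ((α : F) * u) • (γ : F) • w := by
      rw [smul_smul, smul_smul]; congr 1; ring
    rw [e1] at h1
    obtain ⟨h2, h3, h4⟩ := D.nf_inj h1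
    refine ⟨h2, ?_, h4⟩
    have h5 := congrArg QuadraticAlgebra.re h3
    simp only [nm, th, re_mul, im_mul, re_add, im_add, re_star, im_star, re_smul, im_smul,
      smul_eq_mul, re_zero, im_zero, re_one, im_one, re_neg, im_neg] at h5
    linear_combination (norm := c2n) h5
  -- real arguments
  have zr : ∀ u (x : F), fs u ⟨x, 0⟩ = 0 ∧ fm u ⟨x, 0⟩ = 0 ∧ fc u ⟨x, 0⟩ = 0 := by
    intro u x
    have h1 := hf u ⟨x, 0⟩
    rw [cj_A_sg'r] at h1
    have e1 : x • (⟨u, 0⟩ : Rg E) = u • ⟨x, 0⟩ := by rw [smr, smr, mul_comm]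
    rw [e1] at h1
    obtain ⟨h2, h3, h4⟩ := D.nf_inj h1
    refine ⟨h2.symm, ?_, h4.symm⟩
    have h5 := congrArg QuadraticAlgebra.re h3
    simp only [nm, th, re_mul, im_mul, re_add, im_add, re_star, im_star, re_smul, im_smul,
      smul_eq_mul, re_zero, im_zero, re_one, im_one, re_neg, im_neg] at h5
    linear_combination (norm := c2n) h5
  -- additivity in `w`
  have hr : ∀ u w w', fs u (w + w') = fs u w + fs u w' ∧
      fm u (w + w') = fm u w + fm u w' + c0 * (u * w.im * w'.im) ∧ fc u (w + w') = fc u w + fc u w' := by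
    intro u w w'
    have h1 := congrArg (cj (D.A ⟨u, 0⟩)) (D.sg'_sg' w w')
    simp only [cj_mul, hf, cj_A_sg, cj_A_v4] at h1
    simp only [v4_sg, v4_sg_a, v4_sg', v4_sg'_a, v4_mul, v4_mul', sg_sg, sg_sg_a, sg'_sg', sg'_sg'_a, hc0, hc0a,
      mul_assoc] at h1
    have e1 : u • w + u • w' = u • (w + w') := (smul_add _ _ _).symm
    rw [e1] at h1
    obtain ⟨h2, h3, h4⟩ := D.nf_inj h1
    have h5 := congrArg QuadraticAlgebra.re h3
    simp only [nm, th, re_mul, im_mul, re_add, im_add, re_star, im_star, re_smul, im_smul,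
      smul_eq_mul, re_zero, im_zero, re_one, im_one, re_neg, im_neg] at h2 h4 h5
    refine ⟨?_, ?_, ?_⟩
    · linear_combination (norm := c2n) h2
    · linear_combination (norm := c2n) h5
    · linear_combination (norm := c2n) h4
  -- `c0 = 0`
  have hc : c0 = 0 := by
    have h1 := (hr 1 th th).2.1
    have e1 : (th : Rg E) + th = ⟨0, 0⟩ := radd th
    rw [e1, (zr 1 0).2.1] at h1
    simp only [th] at h1
    linear_combination (norm := c2n) h1
  subst hc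
  refine ⟨hc0, fm 1 ⟨0, 1⟩, fc 1 ⟨0, 1⟩, fun u w => ?_⟩
  have hs0 : ∀ u w, fs u w = 0 := by
    intro u w
    apply FieldAux.const_zero hF (f := fun x => fs x w)
    · intro a b
      show fs (a + b) w = _
      rw [(hl _ _ _).1, add_comm]
    · intro a b ha hb
      have h1 := (ht (Units.mk0 (b / a) (div_ne_zero hb ha)) 1 a w).1
      simp only [Units.val_mk0, Units.val_one, one_pow, one_mul, one_smul] at h1
      rw [div_mul_cancel₀ _ ha] at h1
      exact h1.symm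
  have red : ∀ u w, fm u w = fm u ⟨0, w.im⟩ ∧ fc u w = fc u ⟨0, w.im⟩ := by
    intro u w
    have e1 := hr u ⟨w.re, 0⟩ ⟨0, w.im⟩
    rw [← re_add_im w, (zr _ w.re).2.1, (zr _ w.re).2.2] at e1
    simp only [zero_mul, add_zero, zero_add] at e1
    exact ⟨e1.2.1, e1.2.2⟩
  have z1 : ∀ w, fm 0 w = 0 ∧ fc 0 w = 0 := by
    intro w
    have e1 := hl 0 0 w
    rw [add_zero, hs0] at e1
    simp only [mul_zero, add_zero] at e1
    exact ⟨left_eq_add.1 e1.2.1, left_eq_add.1 e1.2.2⟩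
  have key : ∀ u y : F, fm u ⟨0, y⟩ = fm 1 ⟨0, 1⟩ * (u * y ^ 2) ∧ fc u ⟨0, y⟩ = fc 1 ⟨0, 1⟩ * (u ^ 2 * y ^ 2) := by
    intro u y
    by_cases hu : u = 0
    · rw [hu, (z1 _).1, (z1 _).2]; constructor <;> ring
    by_cases hy : y = 0
    · rw [hy, (zr u 0).2.1, (zr u 0).2.2]; constructor <;> ring
    have h3 := (ht (Units.mk0 u hu) (Units.mk0 y hy) 1 ⟨0, 1⟩).2
    simp only [Units.val_mk0, smi, mul_one] at h3
    rw [h3.1, h3.2]
    constructor <;> ring
  rw [hf, hs0, (red u w).1, (red u w).2, (key u w.im).1, (key u w.im).2]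

end Two

end Cfsg.Agent.StdSpFour.CaseC
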