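import Mathlib
import Cfsg.Agent.StdSpFour.CaseCRfive

/-!
# S1778, type Sp₄(q), case (C): (R5) up to the constant `l₂`
-/
set_option autoImplicit false
set_option linter.unusedSectionVars false
set_option linter.unusedSimpArgs false
set_option linter.style.haveILetI false

namespace Cfsg.Agent.StdSpFour.CaseC

open Cfsg.Agent.StdSpFour Cfsg.Agent.StdSpFour.Comm QuadraticAlgebra

variable {F G : Type*} [Field F] [Group G] {B : Base F G} {E : F} (D : Two B E)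

namespace Two

variable [CharP F 2]

/-- the relation for `sg'(w)^x_a(u)` with the constant `g` -/
def RelFive (g : F) : Prop := ∀ u w, cj (D.A ⟨u, 0⟩) (D.sg' w) =
      D.sg' w * (D.sg (u • w) * D.v4 0 ((u * nm w) • th + (⟨g * (u * w.im ^ 2), 0⟩ : Rg E)) 0)

theorem r4_a (h4 : D.RelFour 0) (w w' : Rg E) (z : G) : D.sg w * (D.sg' w' * z) =
      D.sg' w' * (D.sg w * (D.v4 0 (w * star w') 0 * z)) := by
  have e : (w * star w' + (⟨0 * (w.im * w'.im), 0⟩ : Rg E)) = w * star w' := by ext <;> simp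
  rw [← mul_assoc, h4, e]; simp only [mul_assoc]

theorem r4 (h4 : D.RelFour 0) (w w' : Rg E) : D.sg w * D.sg' w' =
      D.sg' w' * (D.sg w * (D.v4 0 (w * star w') 0)) := by
  have e : (w * star w' + (⟨0 * (w.im * w'.im), 0⟩ : Rg E)) = w * star w' := by ext <;> simp
  rw [h4, e]

theorem cj_na_sg (hna : B.na * B.na = 1) (w : Rg E) : cj B.na (D.sg w) = D.sg' w := by
  have e : B.na⁻¹ = B.na := inv_eq_of_mul_eq_one_left hna
  rw [cj, sg', e]

theorem cj_na_sg' (_hna : B.na * B.na = 1) (w : Rg E) : cj B.na (D.sg' w) = D.sg w := by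
  rw [cj, sg']; group

theorem exists_g [Finite F] (hF : 4 ≤ Nat.card F) (hB : B.Self) (hna : B.na * B.na = 1)
    (h3 : (B.na * B.xa 1) ^ 3 = 1) : D.RelFour 0 ∧ ∃ g, D.RelFive g := by
  obtain ⟨h4, g, l, h5⟩ := D.R4_exact hF hB hna
  refine ⟨h4, g, ?_⟩
  have hl : l = 0 := by
    have h1 : cj ((B.na * B.xa 1) ^ 3) (D.sg th) = D.sg th := by rw [h3]; simp [cj]
    have e3 : (B.na * B.xa 1) ^ 3 = B.na * B.xa 1 * (B.na * B.xa 1) * (B.na * B.xa 1) := by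
      rw [pow_succ, pow_two]
    rw [e3] at h1
    simp only [cj_mul_left, xa_eq D, cj_na_sg D hna, cj_na_sg' D hna, h5, cj_mul, cj_A_sg, cj_A_v4, cj_na_v4] at h1
    simp only [v4_sg, v4_sg_a, v4_sg', v4_sg'_a, v4_mul, v4_mul', sg_sg, sg_sg_a, sg'_sg', sg'_sg'_a, r4_a D h4,
      r4 D h4, mul_assoc] at h1
    simp only [one_smul] at h1
    rw [radd, sg'_zero, one_mul, add_zero] at h1
    obtain ⟨-, h2, -⟩ := D.v4_eq_one (mul_eq_left.1 h1)
    have h6 := congrArg QuadraticAlgebra.re h2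
    simp only [nm, th, re_mul, im_mul, re_add, im_add, re_star, im_star, re_smul, im_smul,
      smul_eq_mul, re_zero, im_zero, re_one, im_one, re_neg, im_neg] at h6
    linear_combination (norm := c2n) h6
  subst hl
  intro u w
  rw [h5, zero_mul]

theorem sg_inv (w : Rg E) : (D.sg w)⁻¹ = D.sg w * D.v4 0 0 (nm w) := by
  apply inv_eq_of_mul_eq_one_right
  rw [sg_sg_a, radd, sg_zero, one_mul, v4_mul]
  have e : (w * star w).re + nm w = 0 := by cmp; c2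
  rw [e, add_zero, add_zero, v4_zero]

theorem cj_sg'_Ar {g : F} (h5 : D.RelFive g) (w : Rg E) (u : F) : cj (D.sg' w) (D.A ⟨u, 0⟩) =
    D.A ⟨u, 0⟩ * (D.sg (u • w) * D.v4 0 ((u * nm w) • th + (⟨g * (u * w.im ^ 2), 0⟩ : Rg E)) (u ^ 2 * nm w)) := by
  have h1 : cj (D.sg' w) (D.A ⟨u, 0⟩) = D.A ⟨u, 0⟩ * ((cj (D.A ⟨u, 0⟩) (D.sg' w))⁻¹ * D.sg' w) := by
    simp [cj, mul_assoc]
  rw [h1, h5]
  congr 1
  rw [mul_inv_rev, inv_mul_cancel_right, mul_inv_rev, v4_inv, sg_inv, v4_sg_a, v4_mul]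
  have e : nm (u • w) = u ^ 2 * nm w := by cmp; ring
  rw [e, add_zero, add_zero, zero_add]

theorem sg_A_c (w w' : Rg E) : D.sg w * D.A w' = D.A w' * D.sg w := (D.sg_A w w').eq
theorem sg_A_a (w w' : Rg E) (z : G) : D.sg w * (D.A w' * z) = D.A w' * (D.sg w * z) := by
  rw [← mul_assoc, (D.sg_A w w').eq, mul_assoc]
theorem v4_A_a (w : Rg E) (s : F) (r : Rg E) (c : F) (z : G) :
    D.v4 s r c * (D.A w * z) = D.A w * (D.v4 s (r + s • w) (c + (w * star r).im + nm w * s) * z) := by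
  rw [← mul_assoc, v4_A, mul_assoc]
theorem sg'r_A (x : F) (w : Rg E) : D.sg' ⟨x, 0⟩ * D.A w =
    D.A w * (D.sg' ⟨x, 0⟩ * (D.sg (x • w) * D.v4 0 (x ^ 2 • (w * th)) 0)) := by
  rw [← cj_A_sg'r]; exact mul_eq_cj _ _
theorem sg'r_A_a (x : F) (w : Rg E) (z : G) : D.sg' ⟨x, 0⟩ * (D.A w * z) =
    D.A w * (D.sg' ⟨x, 0⟩ * (D.sg (x • w) * (D.v4 0 (x ^ 2 • (w * th)) 0 * z))) := by
  rw [← mul_assoc, sg'r_A]; simp only [mul_assoc]
theorem A_A (w w' : Rg E) : D.A w * D.A w' = D.A (w + w') := (D.A_add _ _).symm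
theorem A_A_a (w w' : Rg E) (z : G) : D.A w * (D.A w' * z) = D.A (w + w') * z := by
  rw [← mul_assoc, A_A]

theorem cj_sg_sg (w w' : Rg E) : cj (D.sg w) (D.sg w') = D.sg w' * D.v4 0 0 (w' * star w).im := by
  apply cj_of_eq
  rw [sg_sg, sg_sg_a, v4_mul, add_comm w w']
  congr 1
  have e : (w' * star w).re = (w * star w').re + (w' * star w).im := by cmp; c2
  rw [e, add_zero, add_zero]

theorem sg_zero' : D.sg ⟨0, 0⟩ = 1 := D.sg_zero

theorem R5_aux (hB : B.Self) (_hna : B.na * B.na = 1) {k : F} (h5 : D.RelFive (k ^ 2)) (w w1 : Rg E) :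
    ∃ s m c, cj (D.A w1) (D.sg' w) =
      (D.sg' w * (D.sg (w1 * w) * (D.v4 0 (nm w • (w1 * th)) 0 *
        (D.sg ⟨k * w1.im * w.im, 0⟩ * D.v4 0 (((k ^ 2 + k) * (w1.im * w.im ^ 2)) • th) 0)))) * D.v4 s ⟨m, 0⟩ c := by
  apply D.same hB
  · exact CV.cjA D (CV.sg' D w) _
  · exact CV.mul D (CV.sg' D w) (CV.mul D (CV.sg D _) (CV.mul D (CV.v4 D _ _ _) (CV.mul D (CV.sg D _) (CV.v4 D _ _ _))))
  · rw [cj_cj, A_inv, cj_A_t]
    simp only [cj_mul_left, cj_sg_t, cj_sg'_t, cj_v4_t, cj_mul, cj_sg_v4, cj_sg'_v4, cj_v4_v4, cj_v4_sg, cj_v4_sg',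
      cj_sg_sg'r, cj_sg'_sgr D _hna, mul_assoc, cj_Ar_t, cj_A_v4, cj_A_sg'r, cj_A_sg, cj_A_t, cj_A_A,
      cj_sg'_Ar D h5, cj_sg_sg, sg_zero', one_mul]
    congr 1
    simp only [sg_A_c, sg_A_a, v4_A, v4_A_a, sg'r_A, sg'r_A_a, A_A, A_A_a, v4_sg, v4_sg_a, v4_sg', v4_sg'_a, v4_mul,
      v4_mul', sg_sg'r_a, sg_sg'_re, sg_sg, sg_sg_a, mul_assoc]
    rw [radd, A_zero, one_mul]
    apply D.nf_congr rfl <;> (try ext) <;> cmp <;> c2

theorem g_zero [Finite F] (hB : B.Self) (hna : B.na * B.na = 1) (h4 : D.RelFour 0) {g : F}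
    (h5 : D.RelFive g) : g = 0 := by
  obtain ⟨k, rfl⟩ := FieldAux.exists_sq g
  obtain ⟨s, m, c, h⟩ := D.R5_aux hB hna h5 th th
  have h1 := congrArg (fun z => z * z) h
  rw [← cj_mul, sg'_sg', radd, sg'_zero, one_mul, cj_A_v4] at h1
  simp only [v4_sg, v4_sg_a, v4_sg', v4_sg'_a, v4_mul, v4_mul', sg_sg, sg_sg_a, sg'_sg', sg'_sg'_a, r4_a D h4,
      r4 D h4, mul_assoc] at h1
  rw [radd, sg'_zero, radd, sg_zero, one_mul, one_mul] at h1
  obtain ⟨-, h2, -⟩ := D.v4_inj h1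
  have h6 := congrArg QuadraticAlgebra.im h2
  simp only [nm, th, re_mul, im_mul, re_add, im_add, re_star, im_star, re_smul, im_smul,
      smul_eq_mul, re_zero, im_zero, re_one, im_one, re_neg, im_neg] at h6
  have h7 : k = 0 := by linear_combination (norm := c2n) h6
  rw [h7, zero_pow two_ne_zero]

/-- the relation (R5) with the constant `l` -/
def RelGen (l : F) : Prop := ∀ w w1, cj (D.A w1) (D.sg' w) =
      D.sg' w * (D.sg (w1 * w) * D.v4 0 (nm w • (w1 * th)) (l * (w1.im ^ 2 * w.im ^ 2)))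

theorem exists_RelGen [Finite F] (hB : B.Self) (hna : B.na * B.na = 1) (h4 : D.RelFour 0)
    (h5 : D.RelFive 0) : ∃ l, D.RelGen l := by
  have h0 : ∀ w1 w, ∃ s m c, cj (D.A w1) (D.sg' w) =
      D.sg' w * (D.sg (w1 * w) * D.v4 s (nm w • (w1 * th) + (⟨m, 0⟩ : Rg E)) c) := by
    intro w1 w
    have h5' : D.RelFive (0 ^ 2) := by rw [zero_pow two_ne_zero]; exact h5
    obtain ⟨s, m, c, h⟩ := D.R5_aux hB hna h5' w w1
    refine ⟨s, m, c, ?_⟩
    rw [h]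
    have e1 : D.sg ⟨0 * w1.im * w.im, 0⟩ = 1 := by rw [zero_mul, zero_mul]; exact D.sg_zero
    have e2 : ((((0 : F) ^ 2 + 0) * (w1.im * w.im ^ 2)) • th : Rg E) = 0 := by
      rw [zero_pow two_ne_zero, add_zero, zero_mul, zero_smul]
    rw [e1, e2, one_mul]
    simp only [mul_assoc, v4_mul, zero_add, add_zero]
  choose fs fm fc hf using h0
  -- additivity in `w1`
  have hl : ∀ w1 w' w, fs (w1 + w') w = fs w' w + fs w1 w ∧ fs w1 w * w'.im = 0 ∧
      fm (w1 + w') w = fm w' w + (fm w1 w + w'.re * fs w1 w) ∧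
      fc (w1 + w') w = fc w' w + (fc w1 w + fm w1 w * w'.im + nm w' * fs w1 w) := by
    intro w1 w' w
    have h1 : cj (D.A (w1 + w')) (D.sg' w) = cj (D.A w') (cj (D.A w1) (D.sg' w)) := by
      rw [← cj_mul_left, ← D.A_add]
    simp only [cj_mul, hf, cj_A_sg, cj_A_v4] at h1
    simp only [v4_sg, v4_sg_a, v4_sg', v4_sg'_a, v4_mul, v4_mul', sg_sg, sg_sg_a, mul_assoc] at h1
    have e1 : w' * w + w1 * w = (w1 + w') * w := by ring
    rw [e1] at h1
    obtain ⟨h2, h3, h4⟩ := D.nf_inj h1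
    have h6 := congrArg QuadraticAlgebra.re h3
    have h7 := congrArg QuadraticAlgebra.im h3
    simp only [nm, th, re_mul, im_mul, re_add, im_add, re_star, im_star, re_smul, im_smul,
      smul_eq_mul, re_zero, im_zero, re_one, im_one, re_neg, im_neg] at h2 h4 h6 h7 ⊢
    refine ⟨?_, ?_, ?_, ?_⟩
    · linear_combination (norm := c2n) h2
    · linear_combination (norm := c2n) h7
    · linear_combination (norm := c2n) h6
    · linear_combination (norm := c2n) h4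
  have hs0 : ∀ w1 w, fs w1 w = 0 := by
    intro w1 w
    have := (hl w1 th w).2.1
    simp only [th, mul_one] at this
    exact this
  simp only [hs0, mul_zero, add_zero] at hl
  -- real `w1`
  have zl : ∀ (u : F) w, fm ⟨u, 0⟩ w = 0 ∧ fc ⟨u, 0⟩ w = 0 := by
    intro u w
    have h1 := hf ⟨u, 0⟩ w
    rw [h5 u w] at h1
    have e1 : (⟨u, 0⟩ : Rg E) * w = u • w := by ext <;> cmp <;> ring
    rw [e1] at h1
    obtain ⟨h2, h3, h4⟩ := D.nf_inj h1
    have h6 := congrArg QuadraticAlgebra.re h3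
    simp only [nm, th, re_mul, im_mul, re_add, im_add, re_star, im_star, re_smul, im_smul,
      smul_eq_mul, re_zero, im_zero, re_one, im_one, re_neg, im_neg] at h6
    exact ⟨by linear_combination (norm := c2n) h6, h4.symm⟩
  have zr : ∀ w1 (x : F), fc w1 ⟨x, 0⟩ = 0 := by
    intro w1 x
    have h1 := hf w1 ⟨x, 0⟩
    rw [cj_A_sg'r] at h1
    have e1 : x • w1 = w1 * (⟨x, 0⟩ : Rg E) := by ext <;> cmp <;> ring
    rw [e1] at h1
    exact (D.nf_inj h1).2.2.symm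
  have hm0 : ∀ w1 w, fm w1 w = 0 := by
    intro w1 w
    have h1 := (hl w1 w1 w).2.2.2
    rw [radd] at h1
    have h2 := (zl 0 w).2
    have h3 : fc 0 w = 0 := h2
    rw [h3] at h1
    have h8 : fm w1 w * w1.im = 0 := by linear_combination (norm := c2n) h1
    rcases mul_eq_zero.1 h8 with h9 | h9
    · exact h9
    · have e1 : w1 = ⟨w1.re, 0⟩ := by ext <;> simp [h9]
      rw [e1]
      exact (zl _ w).1
  simp only [hm0, zero_mul, add_zero] at hl
  have hfm : ∀ w1 w, cj (D.A w1) (D.sg' w) =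
      D.sg' w * (D.sg (w1 * w) * D.v4 0 (nm w • (w1 * th)) (fc w1 w)) := by
    intro w1 w
    rw [hf, hs0, hm0]
    have e1 : nm w • (w1 * th) + (⟨0, 0⟩ : Rg E) = nm w • (w1 * th) := add_zero _
    rw [e1]
  -- torus
  have ht : ∀ (α γ : Fˣ) w1 w, fc ((α : F) • w1) ((γ : F) • w) = (α : F) ^ 2 * (γ : F) ^ 2 * fc w1 w := by
    intro α γ w1 w
    have h1 := congrArg (MulAut.conj (B.h α (γ ^ 2))) (hfm w1 w)
    simp only [conj_cj, map_mul, cjh_sg, cjh_sg', cjh_v4, cjh_A] at h1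
    rw [hfm] at h1
    have e1 : ((α : F) * γ) • (w1 * w) = (α : F) • w1 * (γ : F) • w := by ext <;> cmp <;> ring
    rw [e1] at h1
    exact (D.nf_inj h1).2.2
  -- additivity in `w`
  have hr : ∀ w1 w w', fc w1 (w + w') = fc w1 w + fc w1 w' := by
    intro w1 w w'
    have h1 := congrArg (cj (D.A w1)) (D.sg'_sg' w w')
    simp only [cj_mul, hfm, cj_A_sg, cj_A_v4] at h1
    simp only [v4_sg, v4_sg_a, v4_sg', v4_sg'_a, v4_mul, v4_mul', sg_sg, sg_sg_a, sg'_sg', sg'_sg'_a, r4 D h4,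
      r4_a D h4, mul_assoc] at h1
    have e1 : w1 * w + w1 * w' = w1 * (w + w') := (mul_add _ _ _).symm
    rw [e1] at h1
    obtain ⟨h2, h3, h6⟩ := D.nf_inj h1
    simp only [nm, th, re_mul, im_mul, re_add, im_add, re_star, im_star, re_smul, im_smul,
      smul_eq_mul, re_zero, im_zero, re_one, im_one, re_neg, im_neg] at h6
    linear_combination (norm := c2n) h6
  refine ⟨fc ⟨0, 1⟩ ⟨0, 1⟩, fun w w1 => ?_⟩
  have red : fc w1 w = fc ⟨0, w1.im⟩ ⟨0, w.im⟩ := by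
    have e1 := (hl ⟨w1.re, 0⟩ ⟨0, w1.im⟩ w).2.2.2
    rw [← re_add_im w1, (zl _ w).2, add_zero] at e1
    have e2 := hr ⟨0, w1.im⟩ ⟨w.re, 0⟩ ⟨0, w.im⟩
    rw [← re_add_im w, zr, zero_add] at e2
    rw [e1, e2]
  have key : ∀ u y : F, fc ⟨0, u⟩ ⟨0, y⟩ = fc ⟨0, 1⟩ ⟨0, 1⟩ * (u ^ 2 * y ^ 2) := by
    intro u y
    by_cases hu : u = 0
    · rw [hu]
      have : fc ⟨0, 0⟩ ⟨0, y⟩ = 0 := (zl 0 _).2
      rw [this]; ring
    by_cases hy : y = 0
    · rw [hy]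
      have : fc ⟨0, u⟩ ⟨0, 0⟩ = 0 := zr _ 0
      rw [this]; ring
    have h3 := ht (Units.mk0 u hu) (Units.mk0 y hy) ⟨0, 1⟩ ⟨0, 1⟩
    simp only [Units.val_mk0, smi, mul_one] at h3
    rw [h3]; ring
  rw [hfm, red, key]

end Two

end Cfsg.Agent.StdSpFour.CaseC
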