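import Mathlib
import Cfsg.Agent.StdSpFour.CaseCRsix

/-!
# S1778, type Sp₄(q), case (C): LEMMA O and the final form of (R5)
-/
set_option autoImplicit false
set_option linter.unusedSectionVars false
set_option linter.unusedSimpArgs false
set_option linter.style.haveILetI false

namespace Cfsg.Agent.StdSpFour.CaseC

open Cfsg.Agent.StdSpFour Cfsg.Agent.StdSpFour.Comm QuadraticAlgebra

variable {F G : Type*} [Field F] [Group G] {B : Base F G} {E : F} (D : Two B E)

namespace Two

variable [CharP F 2]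

/-- `C_G(V₄) ∩ C_G(T_{a+b})`, `T_{a+b} = {h(1, β)}` -/
def CO : Subgroup G where
  carrier := {g | D.CV g ∧ ∀ γ : Fˣ, Commute g (B.h 1 (γ ^ 2))}
  mul_mem' := fun ha hb => ⟨CV.mul D ha.1 hb.1, fun γ => (ha.2 γ).mul_left (hb.2 γ)⟩
  one_mem' := ⟨fun _ _ _ => Commute.one_left _, fun _ => Commute.one_left _⟩
  inv_mem' := fun ha => ⟨fun s r c => (ha.1 s r c).inv_left, fun γ => (ha.2 γ).inv_left⟩

theorem cj_t_v4 (s : F) (r : Rg E) (c : F) : B.t * D.v4 s r c * B.t = D.v4 s (star r) c := by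
  rw [t_v4, mul_assoc, mul_assoc, (show D.v4 0 ⟨r.im, 0⟩ 0 * B.t = B.t * D.v4 0 ⟨r.im, 0⟩ 0 by
    rw [t_v4, ← mul_assoc]
    have : D.v4 0 ⟨(⟨r.im, 0⟩ : Rg E).im, 0⟩ 0 = 1 := D.v4_zero
    rw [this]; group)]
  rw [← mul_assoc B.t, B.tt, one_mul, v4_mul]
  congr 1
  · ring
  · ext <;> cmp <;> c2
  · ring

theorem CO_t {g : G} (hg : g ∈ D.CO) : B.t * g * B.t ∈ D.CO := by
  constructor
  · intro s r c
    have h1 := (hg.1 s (star r) c).eq
    have h2 := D.cj_t_v4 s (star r) c
    rw [star_star] at h2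
    rw [← h2]
    show _ * _ = _ * _
    have tt := B.tt
    calc B.t * g * B.t * (B.t * D.v4 s (star r) c * B.t) = B.t * g * (B.t * B.t) * D.v4 s (star r) c * B.t := by group
      _ = B.t * (g * D.v4 s (star r) c) * B.t := by rw [tt]; group
      _ = B.t * D.v4 s (star r) c * (B.t * B.t) * g * B.t := by rw [h1, tt]; group
      _ = _ := by group
  · intro γ
    have h1 := hg.2 γ
    exact ((B.t_h 1 (γ ^ 2)).mul_left h1).mul_left (B.t_h 1 (γ ^ 2))

/-- conjugation by `t` on `CO` -/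
def COt : D.CO →* D.CO where
  toFun g := ⟨B.t * g * B.t, D.CO_t g.2⟩
  map_one' := by ext; simp [B.tt]
  map_mul' a b := by
    ext
    show B.t * (a.1 * b.1) * B.t = B.t * a.1 * B.t * (B.t * b.1 * B.t)
    have tt := B.tt
    calc B.t * (a.1 * b.1) * B.t = B.t * a.1 * 1 * b.1 * B.t := by group
      _ = _ := by rw [← tt]; group

theorem COt_inv : Function.Involutive D.COt := by
  intro g
  ext
  show B.t * (B.t * g.1 * B.t) * B.t = g.1
  have tt := B.tt
  calc B.t * (B.t * g.1 * B.t) * B.t = (B.t * B.t) * g.1 * (B.t * B.t) := by group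
    _ = _ := by rw [tt]; group

theorem exists_ne01 [Finite F] (hF : 4 ≤ Nat.card F) : ∃ x : F, x ≠ 0 ∧ x ≠ 1 := by
  haveI := Fintype.ofFinite F
  rw [Nat.card_eq_fintype_card] at hF
  exact FieldAux.exists_ne hF

/-- **LEMMA O** -/
theorem COt_fpf [Finite F] (hF : 4 ≤ Nat.card F) (hB : B.Self) : MonoidHom.FixedPointFree D.COt := by
  intro g hg
  have h1 : B.t * g.1 * B.t = g.1 := congrArg Subtype.val hg
  have h2 : Commute g.1 B.t := by
    show g.1 * B.t = B.t * g.1
    calc g.1 * B.t = B.t * (B.t * g.1 * B.t) := by rw [← mul_assoc, ← mul_assoc, B.tt, one_mul]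
      _ = _ := by rw [h1]
  obtain ⟨s, m, c, h3⟩ := D.cent_V4 hB h2 g.2.1
  obtain ⟨x, hx0, hx1⟩ := exists_ne01 hF
  have h4 := g.2.2 (Units.mk0 x hx0)
  have h5 : MulAut.conj (B.h 1 (Units.mk0 x hx0 ^ 2)) g.1 = g.1 := by
    rw [MulAut.conj_apply, ← h4.eq, mul_inv_cancel_right]
  rw [h3, cjh_v4] at h5
  simp only [Units.val_mk0, Units.val_one, one_mul, one_pow, smr] at h5
  obtain ⟨h6, h7, h8⟩ := D.v4_inj h5
  have h7' := congrArg QuadraticAlgebra.re h7
  simp only at h7'
  have hx2 : x ^ 2 - 1 ≠ 0 := by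
    intro h
    apply hx1
    apply FieldAux.sq_inj
    rw [one_pow]
    exact sub_eq_zero.1 h
  have k1 : s = 0 := by
    apply (mul_eq_zero.1 (show (x ^ 2 - 1) * s = 0 by linear_combination h6)).resolve_left hx2
  have k2 : m = 0 := by
    apply (mul_eq_zero.1 (show (x ^ 2 - 1) * m = 0 by linear_combination h7')).resolve_left hx2
  have k3 : c = 0 := by
    apply (mul_eq_zero.1 (show (x ^ 2 - 1) * c = 0 by linear_combination h8)).resolve_left hx2
  ext
  show g.1 = 1
  rw [h3, k1, k2, k3]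
  exact D.v4_zero

/-- an element of `CO` which centralises `g` modulo `V₄` centralises `g` -/
theorem CO_cent [Finite F] [Finite G] (hF : 4 ≤ Nat.card F) (hB : B.Self) {c g : G} (hc : c ∈ D.CO) {s : F} {r : Rg E}
    {k : F} (h : cj c g = g * D.v4 s r k) : cj c g = g := by
  have hodd : Odd (orderOf c) := by
    have := (D.COt_fpf hF hB).odd_orderOf_of_involutive D.COt_inv ⟨c, hc⟩
    rwa [← Subgroup.orderOf_coe] at this
  have hpow : ∀ n : ℕ, cj (c ^ n) g = g * D.v4 s r k ^ n := by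
    intro n
    induction n with
    | zero => simp [cj]
    | succ n ih =>
      rw [pow_succ, cj_mul_left, ih, cj_mul, h]
      have h2 : cj c (D.v4 s r k ^ n) = D.v4 s r k ^ n := cj_of_comm ((hc.1 s r k).symm.pow_left n)
      rw [h2, pow_succ', mul_assoc]
  have h3 := hpow (orderOf c)
  rw [pow_orderOf_eq_one] at h3
  have h4 : D.v4 s r k ^ orderOf c = 1 := by
    have : cj (1 : G) g = g := by simp [cj]
    rw [this] at h3
    exact mul_eq_left.1 h3.symm
  have h5 : D.v4 s r k = 1 := by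
    obtain ⟨m, hm⟩ := hodd
    rw [hm, pow_succ, pow_mul, pow_two, v4_sq, one_pow, one_mul] at h4
    exact h4
  rw [h, h5, mul_one]

/-! ### normal forms under conjugation -/

/-- `g ∈ sg'(a) sg(b) V₄` -/
def NF (a b : Rg E) (g : G) : Prop := ∃ s r c, g = D.sg' a * (D.sg b * D.v4 s r c)

theorem NF.na (hna : B.na * B.na = 1) (h4 : D.RelFour 0) {a b : Rg E} {g : G} (h : D.NF a b g) :
    D.NF b a (cj B.na g) := by
  obtain ⟨s, r, c, rfl⟩ := h
  refine ⟨c, a * star b + star r, s, ?_⟩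
  simp only [cj_mul, cj_na_sg D hna, cj_na_sg' D hna, cj_na_v4]
  rw [r4_a D h4, v4_mul, zero_add, zero_add]

theorem NF.A {l : F} (h5 : D.RelGen l) {a b : Rg E} {g : G} (w : Rg E) (h : D.NF a b g) :
    D.NF a (w * a + b) (cj (D.A w) g) := by
  obtain ⟨s, r, c, rfl⟩ := h
  simp only [cj_mul, h5 a w, cj_A_sg, cj_A_v4]
  simp only [v4_sg, v4_sg_a, v4_mul, v4_mul', sg_sg, sg_sg_a, mul_assoc]
  exact ⟨_, _, _, rfl⟩

theorem NF.congr {a b a' b' : Rg E} {g : G} (h : D.NF a b g) (ha : a = a') (hb : b = b') : D.NF a' b' g := by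
  rw [← ha, ← hb]; exact h

theorem exists_w [Finite F] (hF : 4 ≤ Nat.card F) : ∃ w : Rg E, nm w = 1 ∧ w.im ≠ 0 := by
  obtain ⟨x, hx⟩ : ∃ x : F, x ^ 2 + x + E ≠ 0 := by
    by_cases hE : E = 0
    · obtain ⟨x, hx0, hx1⟩ := exists_ne01 hF
      refine ⟨x, ?_⟩
      rw [hE, add_zero]
      intro h
      have h1 : x * (x + 1) = 0 := by linear_combination h
      rcases mul_eq_zero.1 h1 with h2 | h2
      · exact hx0 h2
      · exact hx1 (FieldAux.eq_of_add_eq_zero h2)
    · exact ⟨0, by simpa using hE⟩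
  obtain ⟨y, hy⟩ := FieldAux.exists_sq (x ^ 2 + x + E)⁻¹
  have hy0 : y ≠ 0 := by
    rintro rfl
    rw [zero_pow two_ne_zero] at hy
    exact inv_ne_zero hx hy.symm
  refine ⟨⟨y * x, y⟩, ?_, hy0⟩
  have : nm (⟨y * x, y⟩ : Rg E) = y ^ 2 * (x ^ 2 + x + E) := by cmp; ring
  rw [this, hy, inv_mul_cancel₀ hx]

/-- `l = 0` -/
theorem l_zero [Finite F] [Finite G] (hF : 4 ≤ Nat.card F) (hB : B.Self) (hna : B.na * B.na = 1)
    (h4 : D.RelFour 0) {l : F} (h5 : D.RelGen l) : l = 0 := by
  obtain ⟨w, hw, hwi⟩ := exists_w (E := E) hF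
  set v : Rg E := star w with hv
  have h2 : w.re ^ 2 + w.re * w.im + E * w.im ^ 2 = 1 := hw
  have hwv : w * v = ⟨1, 0⟩ := by
    ext
    · rw [hv]; cmp; linear_combination (norm := c2n) h2
    · rw [hv]; cmp; c2
  have hvw : v * w = ⟨1, 0⟩ := by rw [mul_comm, hwv]
  have one_eq : (⟨1, 0⟩ : Rg E) = 1 := rfl
  rw [one_eq] at hwv hvw
  have hvn : nm v = 1 := by rw [← hw, hv]; cmp; c2
  have hvi : v.im = w.im := by rw [hv, im_star]; exact CharTwo.neg_eq _
  set X : G := B.na * D.A v * B.na with hX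
  have cX : ∀ z, cj X z = cj B.na (cj (D.A v) (cj B.na z)) := by
    intro z; rw [hX, cj_mul_left, cj_mul_left]
  set U : G := D.A w with hU
  have hXX : X * X = 1 := by
    rw [hX]
    calc B.na * D.A v * B.na * (B.na * D.A v * B.na) = B.na * D.A v * (B.na * B.na) * D.A v * B.na := by group
      _ = B.na * (D.A v * D.A v) * B.na := by rw [hna]; group
      _ = 1 := by rw [A_sq, mul_one, hna]
  have hUU : U * U = 1 := D.A_sq w
  -- the action of `X * U` on `V₄`
  have cXU : ∀ s r c, cj (X * U) (D.v4 s r c) = D.v4 (s + (v * r).im + c) (s • w + w * w * star r) s := by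
    intro s r c
    rw [cj_mul_left, cX]
    simp only [cj_na_v4, cj_A_v4, hU]
    congr 1
    · rw [hv]; cmp
      linear_combination (norm := c2n) c * h2
    · ext
      · rw [hv]; cmp
        linear_combination (norm := c2n) (c * w.re + r.re) * h2
      · rw [hv]; cmp
        linear_combination (norm := c2n) (c * w.im + r.im) * h2
    · rw [hv]; cmp
      linear_combination (norm := c2n) (s + c + c * (w.re ^ 2 + w.re * w.im + E * w.im ^ 2) +
        w.re * r.im + w.im * r.re) * h2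
  have cXU2 : ∀ s r c, cj (X * U) (cj (X * U) (D.v4 s r c)) =
      D.v4 c (w * w * star r + c • w) (s + (v * r).im + c) := by
    intro s r c
    rw [cXU, cXU]
    congr 1
    · rw [hv]; cmp
      linear_combination (norm := c2n) (w.re * r.im + w.im * r.re) * h2
    · ext
      · rw [hv]; cmp
        linear_combination (norm := c2n) (s * w.re + (w.re ^ 2 + w.re * w.im + E * w.im ^ 2) * r.re) * h2
      · rw [hv]; cmp
        linear_combination (norm := c2n) (s * w.im + (w.re ^ 2 + w.re * w.im + E * w.im ^ 2) * r.im) * h2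
  have cXU3 : ∀ s r c, cj (X * U) (cj (X * U) (cj (X * U) (D.v4 s r c))) = D.v4 s r c := by
    intro s r c
    rw [cXU2, cXU]
    congr 1
    · rw [hv]; cmp
      linear_combination (norm := c2n) (w.re * r.im + w.im * r.re) * h2
    · ext
      · cmp
        linear_combination (norm := c2n) (c * w.re + (1 + (w.re ^ 2 + w.re * w.im + E * w.im ^ 2)) * r.re) * h2
      · cmp
        linear_combination (norm := c2n) (c * w.im + (1 + (w.re ^ 2 + w.re * w.im + E * w.im ^ 2)) * r.im) * h2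
  -- `c = (X U)³ ∈ C_G(V₄) ∩ C_G(T)`
  set c : G := X * U * (X * U) * (X * U) with hc
  have cc : ∀ z, cj c z = cj (X * U) (cj (X * U) (cj (X * U) z)) := by
    intro z; rw [hc, cj_mul_left (X * U * (X * U)) (X * U), cj_mul_left (X * U) (X * U)]
  have hcO : c ∈ D.CO := by
    constructor
    · intro s r k
      apply comm_of_cj
      rw [cc, cXU3]
    · intro γ
      have k1 : ∀ w : Rg E, Commute (D.A w) (B.h 1 (γ ^ 2)) := by
        intro w
        have := D.h_A 1 (γ ^ 2) w
        rw [Units.val_one, one_smul] at this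
        exact this.symm
      have k2 : Commute B.na (B.h 1 (γ ^ 2)) := by
        have := B.na_h 1 (γ ^ 2)
        rw [inv_one, one_pow, one_mul] at this
        exact this
      have k3 : Commute X (B.h 1 (γ ^ 2)) := (k2.mul_left (k1 v)).mul_left k2
      have k4 : Commute (X * U) (B.h 1 (γ ^ 2)) := k3.mul_left (k1 w)
      exact (k4.mul_left k4).mul_left k4
  -- `c` centralises `sg 1` modulo `V₄`
  have nfXU : ∀ a b g, D.NF a b g → D.NF (v * b + a) (w * (v * b + a) + b) (cj (X * U) g) := by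
    intro a b g h
    rw [cj_mul_left, cX]
    exact NF.A D h5 w (NF.na D hna h4 (NF.A D h5 v (NF.na D hna h4 h)))
  have hnf : D.NF 0 1 (cj c (D.sg 1)) := by
    have n0 : D.NF 0 1 (D.sg 1) := ⟨0, 0, 0, by rw [sg'_zero, v4_zero]; group⟩
    rw [cc]
    have n1 := nfXU _ _ _ n0
    have n1' : D.NF v 0 (cj (X * U) (D.sg 1)) := n1.congr D (by ring) (by
      have : w * (v * 1 + 0) + 1 = w * v + 1 := by ring
      rw [this, hwv, radd])
    have n2 := nfXU _ _ _ n1'
    have n2' : D.NF v 1 (cj (X * U) (cj (X * U) (D.sg 1))) := n2.congr D (by ring) (by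
      have : w * (v * 0 + v) + 0 = w * v := by ring
      rw [this, hwv])
    have n3 := nfXU _ _ _ n2'
    exact n3.congr D (by
      have : v * 1 + v = v + v := by ring
      rw [this, radd]) (by
      have : w * (v * 1 + v) + 1 = w * (v + v) + 1 := by ring
      rw [this, radd]; ring)
  have hfix : cj c (D.sg 1) = D.sg 1 := by
    obtain ⟨s, r, k, h⟩ := hnf
    rw [sg'_zero, one_mul] at h
    exact D.CO_cent hF hB hcO h
  -- the two sides
  have aU : cj U (D.sg 1) = D.sg 1 := D.cj_A_sg w 1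
  have aX : cj X (D.sg 1) = D.sg' v * (D.sg 1 * D.v4 0 (star (v * th) + w) 0) := by
    rw [cX, cj_na_sg D hna, ← one_eq, cj_A_sg'r]
    simp only [cj_mul, cj_na_sg D hna, cj_na_sg' D hna, cj_na_v4, one_smul, one_pow]
    rw [r4_a D h4, v4_mul]
    congr 3
    · ring
    · ext
      · cmp; rw [hv]; cmp; c2
      · cmp; rw [hv]; cmp; c2
    · ring
  have aXU : cj U (cj X (D.sg 1)) = D.sg' v * D.v4 0 0 (l * (w.im ^ 2 * w.im ^ 2)) := by
    rw [aX]
    simp only [cj_mul, hU, h5 v w, cj_A_sg, cj_A_v4, hwv, hvi]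
    simp only [v4_sg, v4_sg_a, v4_mul, v4_mul', sg_sg, sg_sg_a, mul_assoc]
    rw [radd, sg_zero, one_mul]
    congr 2
    · ring
    · ext
      · rw [hv]; cmp
        linear_combination (norm := c2n) (E * w.im) * h2
      · rw [hv]; cmp
        linear_combination (norm := c2n) (w.re + w.im) * h2
    · rw [hv]; cmp
      linear_combination (norm := c2n) 1 * h2
  have e1 : cj (X * U * X) (D.sg 1) = cj (U * X * U) (D.sg 1) := by
    have k1 : (U * X * U)⁻¹ = U * X * U := by
      apply inv_eq_of_mul_eq_one_left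
      calc U * X * U * (U * X * U) = U * X * (U * U) * X * U := by group
        _ = U * (X * X) * U := by rw [hUU]; group
        _ = 1 := by rw [hXX, mul_one, hUU]
    have k2 : c = X * U * X * (U * X * U) := by rw [hc]; group
    have k3 := hfix
    rw [k2, cj_mul_left (X * U * X)] at k3
    have k4 := cj_inv k3
    rw [k1] at k4
    exact k4.symm
  rw [cj_mul_left (X * U) X, cj_mul_left X U, cj_mul_left (U * X) U, cj_mul_left U X, aU, aXU] at e1
  rw [cX] at e1
  simp only [cj_mul, cj_na_sg D hna, cj_na_sg' D hna, cj_na_v4, cj_A_sg, cj_A_v4] at e1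
  obtain ⟨e2, -, -⟩ := D.v4_inj (mul_left_cancel e1)
  rw [hvn] at e2
  simp only [re_zero, im_zero, star_zero, mul_zero, zero_add, one_mul, add_zero] at e2
  have e3 : w.im ^ 2 * w.im ^ 2 ≠ 0 := mul_ne_zero (pow_ne_zero _ hwi) (pow_ne_zero _ hwi)
  exact (mul_eq_zero.1 e2).resolve_right e3

/-- (R5) -/
theorem R5_final [Finite F] [Finite G] (hF : 4 ≤ Nat.card F) (hB : B.Self) (hna : B.na * B.na = 1)
    (h3 : (B.na * B.xa 1) ^ 3 = 1) : D.RelFour 0 ∧ D.RelGen 0 := by
  obtain ⟨h4, g, h5⟩ := D.exists_g hF hB hna h3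
  have hg := D.g_zero hB hna h4 h5
  subst hg
  obtain ⟨l, h6⟩ := D.exists_RelGen hB hna h4 h5
  have hl := D.l_zero hF hB hna h4 h6
  subst hl
  exact ⟨h4, h6⟩

/-- **the output of (3), (3a)** -/
def toThree [Finite F] [Finite G] (hF : 4 ≤ Nat.card F) (hB : B.Self) (hna : B.na * B.na = 1)
    (h3 : (B.na * B.xa 1) ^ 3 = 1) : Three B E where
  toTwo := D
  R4 w w' := by
    have h4 := (D.R5_final hF hB hna h3).1
    rw [r4 D h4, ← X_eq]
  R5 w w' := by
    have h5 := (D.R5_final hF hB hna h3).2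
    rw [mul_eq_cj, h5, zero_mul, ← X_eq, mul_assoc (D.sg' w), (D.sg_X _ _).eq]

end Two

end Cfsg.Agent.StdSpFour.CaseC
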