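import Cfsg.Agent.StdSpFour.CloseCu
import Cfsg.Agent.Lib.TwoClassEnd

/-!
# S1778, closing of `U₄(q)`, `U₅(q)`: the conclusion

From `R : RelFacts E t`, `E` simple: `top : E = T ⊔ Ka ⊔ Kb`, `norm_Z`, `norm_Q`, `norm_W`.
-/

set_option autoImplicit false
set_option linter.style.haveILetI false

namespace Cfsg.Agent.StdSpFour.CloseMain

open Subgroup
open Cfsg.Agent.Lib Cfsg.Agent.Lib.GoldschmidtFusion
open Cfsg.Agent.TwoFusion.Gold (TProp)
open Cfsg.Agent.StdSpFour.CloseDefs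
open Cfsg.Agent.StdSpFour.CloseComp Cfsg.Agent.StdSpFour.CloseFacts
open Cfsg.Agent.StdSpFour.CloseBase Cfsg.Agent.StdSpFour.CloseBase.Facts
open Cfsg.Agent.StdSpFour.CloseNOne Cfsg.Agent.StdSpFour.CloseFus Cfsg.Agent.StdSpFour.CloseLoc
open Cfsg.Agent.StdSpFour.CloseCz Cfsg.Agent.StdSpFour.CloseNTwo Cfsg.Agent.StdSpFour.CloseCu
open Cfsg.Agent.StdSpFour.CloseSyl (S0506Stmt card_eq_index)

universe u

section absolute

variable {E : Type u} [Group E] [Finite E] (F : Facts E)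

theorem exists_W_not_S : ∃ u ∈ F.W, u ≠ 1 ∧ u ∉ F.S := by
  classical
  by_contra hcon
  push Not at hcon
  have h4 := F.h4
  have h1 : (F.W : Set E) ⊆ insert 1 F.S := by
    intro u hu
    by_cases h : u = 1
    · exact Or.inl h
    · exact Or.inr (hcon u hu h)
  have h2 := Set.ncard_le_ncard h1 (Set.toFinite _)
  have h3 := Set.ncard_insert_le (1 : E) F.S
  have hW : (F.W : Set E).ncard = F.q ^ 4 := F.W_card
  have hS : F.S.ncard = (F.q ^ 2 + 1) * (F.q - 1) := F.S_card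
  rw [hW] at h2
  rw [hS] at h3
  have h5 : (F.q ^ 2 + 1) * (F.q - 1) + 1 < F.q ^ 4 := by
    have h6 : 1 ≤ F.q := by omega
    zify [h6]
    have h7 : (4 : ℤ) ≤ F.q := by exact_mod_cast h4
    nlinarith [pow_pos (show (0 : ℤ) < F.q by linarith) 3, pow_pos (show (0 : ℤ) < F.q by linarith) 2]
  omega

omit [Finite E] in
theorem orderOf_two {x : E} (hx : x * x = 1) (hx1 : x ≠ 1) : orderOf x = 2 :=
  orderOf_eq_prime (by rw [pow_two, hx]) hx1

section main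

variable (h0506 : S0506Stmt.{u}) (hZS : ZStarStmt.{u})
  (hT : ∀ (G : Type u) [Group G] [Finite G], IsSimpleGroup G → (∃ a b : G, a * b ≠ b * a) → TProp G)
  (h1173 : S1173Stmt.{u})
include h0506 hZS hT h1173

/-- `E = ⟨N_E(W), N_E(Q)⟩` -/
theorem sup_eq_top : normalizer (F.W : Set E) ⊔ normalizer (F.Q : Set E) = ⊤ := by
  obtain ⟨z, hz, hz1⟩ := exists_Z_ne F
  obtain ⟨u, hu, hu1, huS⟩ := exists_W_not_S F
  refine TwoClassEnd.eq_top F.T ((NT_le_NW F).trans le_sup_left)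
    ({x | x ∈ F.W ∧ x ≠ 1 ∧ (x ∈ F.Z ∨ x ∉ F.S)} : Set E) ?_ ?_ (orderOf_two (F.Z_sq z hz) hz1)
    (orderOf_two (F.W_sq u hu) hu1) ?_
  · rintro x ⟨hxW, hx1, hxZ | hxS⟩
    · exact (cent_le F h0506 hZS hT h1173 hxZ hx1).trans le_sup_right
    · exact (cent_W F h0506 hZS hT h1173 hxW hx1 hxS).trans le_sup_left
  · -- fusion
    have hWf : ∀ v ∈ F.W, v ≠ 1 → ∃ z ∈ ({x | x ∈ F.W ∧ x ≠ 1 ∧ (x ∈ F.Z ∨ x ∉ F.S)} : Set E),
        ∃ m ∈ normalizer (F.W : Set E) ⊔ normalizer (F.Q : Set E), m * z * m⁻¹ = v := by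
      intro v hv hv1
      by_cases hvS : v ∈ F.S
      · obtain ⟨k, hk, z, hz, hz1, rfl⟩ := (F.S_iff v).1 hvS
        exact ⟨z, ⟨F.Z_le_W hz, hz1, Or.inl hz⟩, k, mem_sup_left (Ka_le_NW F hk), rfl⟩
      · exact ⟨v, ⟨hv, hv1, Or.inr hvS⟩, 1, Subgroup.one_mem _, by group⟩
    intro v hv hv2
    have hvv : v * v = 1 := by rw [← pow_two, ← hv2, pow_orderOf_eq_one]
    have hv1 : v ≠ 1 := by
      rintro rfl
      rw [orderOf_one] at hv2
      omega
    rcases F.inv_T v hv hvv with h | h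
    · exact hWf v h hv1
    · obtain ⟨k, hk, hkW⟩ := F.inv_Q v h hvv
      obtain ⟨z, hz, m, hm, h1⟩ := hWf _ hkW (by
        intro h
        rw [mul_inv_eq_one, mul_eq_left] at h
        exact hv1 h)
      refine ⟨z, hz, k⁻¹ * m, Subgroup.mul_mem _ (mem_sup_right ((normalizer (F.Q : Set E)).inv_mem (Kb_le_NQ F hk))) hm,
        ?_⟩
      calc k⁻¹ * m * z * (k⁻¹ * m)⁻¹ = k⁻¹ * (m * z * m⁻¹) * k := by group
        _ = v := by rw [h1]; group
  · intro h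
    obtain ⟨c, hc⟩ := isConj_iff.1 h
    apply huS
    rw [← hc]
    exact mem_S_of_conj F h0506 (mem_S_of_Z F hz hz1) (by rw [hc]; exact hu)

/-- `N_E(W) = Ka N_{N_E(W)}(T)` -/
theorem NW_Ka {g : E} (hg : g ∈ normalizer (F.W : Set E)) :
    ∃ k ∈ F.Ka, k⁻¹ * g ∈ normalizer ((F.T : Subgroup E) : Set E) := by
  obtain ⟨k, hk, h1⟩ := exists_Ka F h0506 hg
  refine ⟨k, hk, norm_W F h0506 hZS hT h1173 ?_ ?_⟩
  · exact Subgroup.mul_mem _ (Subgroup.inv_mem _ (Ka_le_NW F hk)) hg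
  · rw [mem_normalizer_iff_map_conj, ← map_conj_map_conj, h1, map_conj_map_conj, inv_mul_cancel, map_conj_one]

/-- `N_E(Q) = Kb N_{N_E(Q)}(T)` -/
theorem NQ_Kb {g : E} (hg : g ∈ normalizer (F.Q : Set E)) :
    ∃ k ∈ F.Kb, k⁻¹ * g ∈ normalizer ((F.T : Subgroup E) : Set E) := by
  obtain ⟨k, hk, h1⟩ := exists_Kb F hg
  refine ⟨k⁻¹, F.Kb.inv_mem hk, norm_Q F h0506 hZS hT h1173 ?_ ?_⟩
  · rw [inv_inv]
    exact Subgroup.mul_mem _ (Kb_le_NQ F hk) hg
  · rwa [inv_inv]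

/-- `E = ⟨T, Ka, Kb⟩` -/
theorem gen [IsSimpleGroup E] : (F.T : Subgroup E) ⊔ F.Ka ⊔ F.Kb = ⊤ := by
  set G0 := (F.T : Subgroup E) ⊔ F.Ka ⊔ F.Kb with hG0
  have hTG : (F.T : Subgroup E) ≤ G0 := le_sup_left.trans le_sup_left
  have hKaG : F.Ka ≤ G0 := le_sup_right.trans le_sup_left
  have hKbG : F.Kb ≤ G0 := le_sup_right
  have conj_le : ∀ {k : E} (U : Subgroup E), k ∈ G0 → U ≤ G0 → U.map (MulAut.conj k).toMonoidHom ≤ G0 := by
    rintro k U hk hU _ ⟨x, hx, rfl⟩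
    exact G0.mul_mem (G0.mul_mem hk (hU hx)) (G0.inv_mem hk)
  have eq_of : ∀ {g k : E}, k⁻¹ * g ∈ normalizer ((F.T : Subgroup E) : Set E) →
      (F.T : Subgroup E).map (MulAut.conj g).toMonoidHom = (F.T : Subgroup E).map (MulAut.conj k).toMonoidHom := by
    intro g k h
    have h1 : g = k * (k⁻¹ * g) := by group
    conv_lhs => rw [h1]
    rw [← map_conj_map_conj, mem_normalizer_iff_map_conj.1 h]
  have hTW : ∀ g ∈ normalizer (F.W : Set E), (F.T : Subgroup E).map (MulAut.conj g).toMonoidHom ≤ G0 := by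
    intro g hg
    obtain ⟨k, hk, h1⟩ := NW_Ka F h0506 hZS hT h1173 hg
    rw [eq_of h1]
    exact conj_le _ (hKaG hk) hTG
  have hTQ : ∀ g ∈ normalizer (F.Q : Set E), (F.T : Subgroup E).map (MulAut.conj g).toMonoidHom ≤ G0 := by
    intro g hg
    obtain ⟨k, hk, h1⟩ := NQ_Kb F h0506 hZS hT h1173 hg
    rw [eq_of h1]
    exact conj_le _ (hKbG hk) hTG
  -- `N(T)` normalises `G0`
  have hNT : normalizer ((F.T : Subgroup E) : Set E) ≤ normalizer (G0 : Set E) := by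
    intro n hn
    rw [mem_normalizer_iff_map_conj]
    apply map_conj_le_of_le_normalizer
    rw [hG0, Subgroup.map_sup, Subgroup.map_sup]
    refine sup_le (sup_le ?_ ?_) ?_
    · exact hTW n (NT_le_NW F hn)
    · refine (map_conj_mono F.Ka_le' n).trans ?_
      rw [Subgroup.map_sup, map_conj_map_conj]
      exact sup_le (hTW n (NT_le_NW F hn)) (hTW _ (Subgroup.mul_mem _ (NT_le_NW F hn) (Ka_le_NW F F.na_mem)))
    · refine (map_conj_mono F.Kb_le' n).trans ?_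
      rw [Subgroup.map_sup, map_conj_map_conj]
      exact sup_le (hTQ n (NT_le_NQ F hn)) (hTQ _ (Subgroup.mul_mem _ (NT_le_NQ F hn) (Kb_le_NQ F F.nb_mem)))
  have hall : normalizer (G0 : Set E) = ⊤ := by
    rw [eq_top_iff, ← sup_eq_top F h0506 hZS hT h1173]
    refine sup_le ?_ ?_
    · intro g hg
      obtain ⟨k, hk, h1⟩ := NW_Ka F h0506 hZS hT h1173 hg
      have h2 : g = k * (k⁻¹ * g) := by group
      rw [h2]
      exact Subgroup.mul_mem _ (le_normalizer (hKaG hk)) (hNT h1)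
    · intro g hg
      obtain ⟨k, hk, h1⟩ := NQ_Kb F h0506 hZS hT h1173 hg
      have h2 : g = k * (k⁻¹ * g) := by group
      rw [h2]
      exact Subgroup.mul_mem _ (le_normalizer (hKbG hk)) (hNT h1)
  have hn : G0.Normal := normalizer_eq_top_iff.1 hall
  rcases hn.eq_bot_or_eq_top with h | h
  · exfalso
    obtain ⟨z, hz, hz1⟩ := exists_Z_ne F
    have h1 : z ∈ G0 := hTG (F.W_le (F.Z_le_W hz))
    rw [h] at h1
    exact hz1 (mem_bot.1 h1)
  · exact h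

end main

end absolute

section relative

variable {G : Type u} [Group G] [Finite G] {E : Subgroup G} {t : G} (R : RelFacts E t)
  (h0506 : S0506Stmt.{u}) (hZS : ZStarStmt.{u})
  (hT : ∀ (G : Type u) [Group G] [Finite G], IsSimpleGroup G → (∃ a b : G, a * b ≠ b * a) → TProp G)
  (h1173 : S1173Stmt.{u})
include h0506 hZS hT h1173

/-- **closing**: `E = T ⊔ Ka ⊔ Kb` -/
theorem top (hE : IsSimpleGroup E) : E = R.T ⊔ R.Ka ⊔ R.Kb := by
  have h1 := gen (toFacts R) h0506 hZS hT h1173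
  apply le_antisymm
  · intro x hx
    have h2 : (⟨x, hx⟩ : E) ∈ ((toFacts R).T : Subgroup E) ⊔ (toFacts R).Ka ⊔ (toFacts R).Kb := by
      rw [h1]; exact mem_top _
    have h3 : x ∈ (((toFacts R).T : Subgroup E) ⊔ (toFacts R).Ka ⊔ (toFacts R).Kb).map E.subtype := ⟨_, h2, rfl⟩
    rw [Subgroup.map_sup, Subgroup.map_sup] at h3
    have hT' : ((toFacts R).T : Subgroup E).map E.subtype ≤ R.T := le_map_iff.2 le_rfl
    have hKa : (toFacts R).Ka.map E.subtype ≤ R.Ka := le_map_iff.2 le_rfl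
    have hKb : (toFacts R).Kb.map E.subtype ≤ R.Kb := le_map_iff.2 le_rfl
    exact sup_le_sup (sup_le_sup hT' hKa) hKb h3
  · exact sup_le (sup_le R.T_le R.Ka_le) R.Kb_le

omit h0506 hZS hT h1173 in
theorem mem_norm_iff {H : Subgroup G} (hH : H ≤ E) (g : E) :
    g ∈ normalizer ((H.subgroupOf E : Subgroup E) : Set E) ↔ H.map (MulAut.conj (g : G)).toMonoidHom = H := by
  rw [← mem_normalizer_iff_map_conj]
  constructor
  · intro h
    apply mem_normalizer_of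
    intro x hx
    exact (mem_normalizer_iff.1 h ⟨x, hH hx⟩).1 hx
  · intro h
    rw [mem_normalizer_iff]
    intro x
    exact mem_normalizer_iff.1 h (x : G)

/-- `N_E(Z) ≤ N_E(Q)` -/
theorem norm_Z {g : G} (hg : g ∈ E) (h : R.Z.map (MulAut.conj g).toMonoidHom = R.Z) :
    R.Q.map (MulAut.conj g).toMonoidHom = R.Q := by
  have hQE : R.Q ≤ E := R.Q_le.trans R.T_le
  have hZE : R.Z ≤ E := R.Z_le_Q.trans hQE
  have h1 : (⟨g, hg⟩ : E) ∈ normalizer (((toFacts R).Z : Subgroup E) : Set E) := (mem_norm_iff hZE ⟨g, hg⟩).2 h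
  exact (mem_norm_iff hQE ⟨g, hg⟩).1 (NZ_le_NQ (toFacts R) h0506 hZS hT h1173 h1)

/-- `N_E(Q) ∩ N_E(W ∩ Q) ≤ N_E(T)` -/
theorem norm_Q {g : G} (hg : g ∈ E) (h : R.Q.map (MulAut.conj g).toMonoidHom = R.Q)
    (h' : (R.W ⊓ R.Q).map (MulAut.conj g).toMonoidHom = R.W ⊓ R.Q) : R.T.map (MulAut.conj g).toMonoidHom = R.T := by
  have hQE : R.Q ≤ E := R.Q_le.trans R.T_le
  have h1 : (⟨g, hg⟩ : E) ∈ normalizer (((toFacts R).Q : Subgroup E) : Set E) := (mem_norm_iff hQE ⟨g, hg⟩).2 h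
  have h2 : (⟨g, hg⟩ : E) ∈ normalizer (((toFacts R).W ⊓ (toFacts R).Q : Subgroup E) : Set E) :=
    (mem_norm_iff (inf_le_right.trans hQE) ⟨g, hg⟩).2 h'
  exact (mem_norm_iff R.T_le ⟨g, hg⟩).1 (CloseNTwo.norm_Q (toFacts R) h0506 hZS hT h1173 h1 h2)

/-- `N_E(W) ∩ N_E(Z) ≤ N_E(T)` -/
theorem norm_W {g : G} (hg : g ∈ E) (h : R.W.map (MulAut.conj g).toMonoidHom = R.W)
    (h' : R.Z.map (MulAut.conj g).toMonoidHom = R.Z) : R.T.map (MulAut.conj g).toMonoidHom = R.T := by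
  have hWE : R.W ≤ E := R.W_le.trans R.T_le
  have hZE : R.Z ≤ E := R.Z_le_W.trans hWE
  have h1 : (⟨g, hg⟩ : E) ∈ normalizer (((toFacts R).W : Subgroup E) : Set E) := (mem_norm_iff hWE ⟨g, hg⟩).2 h
  have h2 : (⟨g, hg⟩ : E) ∈ normalizer (((toFacts R).Z : Subgroup E) : Set E) := (mem_norm_iff hZE ⟨g, hg⟩).2 h'
  exact (mem_norm_iff R.T_le ⟨g, hg⟩).1 (CloseNTwo.norm_W (toFacts R) h0506 hZS hT h1173 h1 h2)

end relative

end Cfsg.Agent.StdSpFour.CloseMain
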