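import Cfsg.Agent.StdSpFour.Sg
import Cfsg.Agent.StdSpFour.FieldAux

/-!
# S1778, type Sp₄(q), case (C): the elements `sg(w)` (bb #8700, (2d), (2e)); `CaseC.Two`
-/

set_option autoImplicit false
set_option linter.unusedSectionVars false
set_option linter.unnecessarySeqFocus false

namespace Cfsg.Agent.StdSpFour.SgTwo

open Cfsg.Agent.StdSpFour Cfsg.Agent.StdSpFour.Comm
open Cfsg.Agent.StdSpFour.CaseBModel Cfsg.Agent.StdSpFour.CaseBRel Cfsg.Agent.StdSpFour.CaseBHom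
open Cfsg.Agent.StdSpFour.Norm Cfsg.Agent.StdSpFour.CaseC Cfsg.Agent.StdSpFour.Sg QuadraticAlgebra

variable {F G : Type*} [Field F] [Group G] [CharP F 2] {B : Base F G} {P Q q q' : F → G} {c : F}

/-- ring identities in characteristic two -/
local macro "ch2" : tactic =>
  `(tactic| first | ring1 | (rw [← sub_eq_zero]; ring_nf; simp [CharTwo.two_eq_zero, four_eq_zero, three_eq_one]))

section

variable (N : Lev B P Q q q' c)
include N

/-- equations in the model group -/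
local macro "tb" : tactic =>
  `(tactic| (simp only [A, X, vv, ← hom_xa N.rels, ← hom_xb N.rels, ← hom_zs N.rels, ← hom_zl N.rels, ← hom_P N.rels,
      ← hom_Q N.rels, ← map_inv, ← map_mul]; congr 1; ext <;> simp [th, nm] <;> ch2))

theorem A_eq (w : Rg c) : A N w = B.xa w.re * Q w.im := by
  rw [A, hom_apply]
  simp only [xb_zero, zs_zero, zl_zero, P_zero N.rels, mul_one]

theorem X_eq (w : Rg c) : X N w = B.zs w.re * P w.im := by
  rw [X, hom_apply]
  simp only [xa_zero, Q_zero N.rels, xb_zero, zl_zero, one_mul, mul_one]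

theorem h_A (α β : Fˣ) (w : Rg c) : B.h α β * A N w = A N ((α : F) • w) * B.h α β := by
  rw [A_eq, A_eq]
  have h1 := B.h_xa α β w.re
  have h2 := N.h_Q α β w.im
  calc B.h α β * (B.xa w.re * Q w.im) = (B.h α β * B.xa w.re) * Q w.im := by group
    _ = B.xa (α * w.re) * (B.h α β * Q w.im) := by rw [h1]; group
    _ = _ := by rw [h2]; simp only [re_smul, im_smul, smul_eq_mul]; group

theorem h_X (α β : Fˣ) (w : Rg c) : B.h α β * X N w = X N (((α : F) * β) • w) * B.h α β := by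
  rw [X_eq, X_eq]
  have h1 := B.h_zs α β w.re
  have h2 := N.h_P α β w.im
  calc B.h α β * (B.zs w.re * P w.im) = (B.h α β * B.zs w.re) * P w.im := by group
    _ = B.zs (α * β * w.re) * (B.h α β * P w.im) := by rw [h1]; group
    _ = _ := by rw [h2]; simp only [re_smul, im_smul, smul_eq_mul]; group

theorem nb_A (w : Rg c) : B.nb * A N w = X N w * B.nb := by
  rw [A_eq, X_eq]
  calc B.nb * (B.xa w.re * Q w.im) = (B.nb * B.xa w.re) * Q w.im := by group
    _ = B.zs w.re * (B.nb * Q w.im) := by rw [B.nb_xa]; group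
    _ = _ := by rw [N.nb_Q]; group

theorem nb_X (w : Rg c) : B.nb * X N w = A N w * B.nb := by
  rw [A_eq, X_eq]
  calc B.nb * (B.zs w.re * P w.im) = (B.nb * B.zs w.re) * P w.im := by group
    _ = B.xa w.re * (B.nb * P w.im) := by rw [B.nb_zs]; group
    _ = _ := by rw [N.nb_P]; group

theorem na_X (w : Rg c) : B.na * X N w = X N (star w) * B.na := by
  have h : X N (star w) = B.zs w.re * P w.im * B.zs w.im := by tb
  rw [h, X_eq]
  calc B.na * (B.zs w.re * P w.im) = (B.na * B.zs w.re) * P w.im := by group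
    _ = B.zs w.re * (B.na * P w.im) := by rw [B.na_zs]; group
    _ = _ := by rw [N.na_P]; group

/-- the conjugate by `h(x⁻¹, x²)` -/
theorem hT_vv (x : Fˣ) {y : G} (hy : ∀ s m n r, Commute y (vv N s m n r)) (s m n r : F) :
    Commute (B.h x⁻¹ (x ^ 2) * y * (B.h x⁻¹ (x ^ 2))⁻¹) (vv N s m n r) := by
  have h1 : ∀ s m n r : F, B.h x⁻¹ (x ^ 2) * vv N s m n r =
      vv N ((x : F) ^ 2 * s) (x * m) (x * n) r * B.h x⁻¹ (x ^ 2) := by
    intro s m n r
    have e1 : ∀ y : F, ((x⁻¹ : Fˣ) : F) * ((x ^ 2 : Fˣ) : F) * y = x * y := fun y => wt1 x y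
    have e2 : ∀ y : F, ((x⁻¹ : Fˣ) : F) ^ 2 * ((x ^ 2 : Fˣ) : F) * y = y := fun y => wt2 x y
    have g : ∀ s m n r, vv N s m n r = B.xb s * B.zs m * P n * B.zl r := by
      intro s m n r; tb
    rw [g, g]
    calc B.h x⁻¹ (x ^ 2) * (B.xb s * B.zs m * P n * B.zl r)
        = (B.h x⁻¹ (x ^ 2) * B.xb s) * B.zs m * P n * B.zl r := by group
      _ = B.xb (((x ^ 2 : Fˣ) : F) * s) * (B.h x⁻¹ (x ^ 2) * B.zs m) * P n * B.zl r := by rw [B.h_xb]; group
      _ = B.xb (((x ^ 2 : Fˣ) : F) * s) * B.zs (x * m) * (B.h x⁻¹ (x ^ 2) * P n) * B.zl r := by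
          rw [B.h_zs, e1]; group
      _ = B.xb (((x ^ 2 : Fˣ) : F) * s) * B.zs (x * m) * P (x * n) * (B.h x⁻¹ (x ^ 2) * B.zl r) := by
          rw [N.h_P, e1]; group
      _ = _ := by rw [B.h_zl, e2, Units.val_pow_eq_pow_val]; group
  have h2 := h1 (((x ^ 2 : Fˣ) : F)⁻¹ * s) ((x : F)⁻¹ * m) ((x : F)⁻¹ * n) r
  have e3 : (x : F) ^ 2 * (((x ^ 2 : Fˣ) : F)⁻¹ * s) = s := by
    rw [Units.val_pow_eq_pow_val, ← mul_assoc, mul_inv_cancel₀ (pow_ne_zero 2 x.ne_zero), one_mul]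
  rw [e3, mul_inv_cancel_left₀ x.ne_zero, mul_inv_cancel_left₀ x.ne_zero] at h2
  set v := vv N (((x ^ 2 : Fˣ) : F)⁻¹ * s) ((x : F)⁻¹ * m) ((x : F)⁻¹ * n) r
  have h3 : vv N s m n r = B.h x⁻¹ (x ^ 2) * v * (B.h x⁻¹ (x ^ 2))⁻¹ := by rw [h2]; group
  rw [h3]
  have h4 : Commute y v := hy _ _ _ _
  show _ * _ = _ * _
  calc B.h x⁻¹ (x ^ 2) * y * (B.h x⁻¹ (x ^ 2))⁻¹ * (B.h x⁻¹ (x ^ 2) * v * (B.h x⁻¹ (x ^ 2))⁻¹)
      = B.h x⁻¹ (x ^ 2) * (y * v) * (B.h x⁻¹ (x ^ 2))⁻¹ := by group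
    _ = _ := by rw [h4.eq]; group

/-- `T_b` moves `sg(w)` inside `sg(w) Z` -/
theorem hT_sg (hB : B.Self) (x : Fˣ) (w : Rg c) :
    ∃ a b, B.h x⁻¹ (x ^ 2) * sg N w = sg N w * (B.zs a * B.zl b) * B.h x⁻¹ (x ^ 2) := by
  set h := B.h x⁻¹ (x ^ 2) with hh
  have e2 : ∀ y : F, ((x⁻¹ : Fˣ) : F) ^ 2 * ((x ^ 2 : Fˣ) : F) * y = y := fun y => wt2 x y
  have ht : B.t * h = h * B.t := (B.t_h _ _).eq
  have hq : h * q (w.im ^ 2) = q (w.im ^ 2) * h := by rw [hh, N.h_q, e2]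
  have hz : h * B.zl (star w * star w).re = B.zl (star w * star w).re * h := by rw [hh, B.h_zl, e2]
  have ht2 : B.t * (h * sg N w * h⁻¹) = (h * sg N w * h⁻¹) * (B.t * q (w.im ^ 2) * B.zl (star w * star w).re) := by
    have h1 := t_sg' N w
    calc B.t * (h * sg N w * h⁻¹) = (B.t * h) * sg N w * h⁻¹ := by group
      _ = h * (B.t * sg N w) * h⁻¹ := by rw [ht]; group
      _ = h * sg N w * (h⁻¹ * h) * (B.t * q (w.im ^ 2)) * B.zl (star w * star w).re * h⁻¹ := by rw [h1]; group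
      _ = h * sg N w * h⁻¹ * (h * B.t) * q (w.im ^ 2) * B.zl (star w * star w).re * h⁻¹ := by group
      _ = h * sg N w * h⁻¹ * B.t * (h * q (w.im ^ 2)) * B.zl (star w * star w).re * h⁻¹ := by rw [← ht]; group
      _ = h * sg N w * h⁻¹ * B.t * q (w.im ^ 2) * (h * B.zl (star w * star w).re) * h⁻¹ := by rw [hq]; group
      _ = _ := by rw [hz]; group
  obtain ⟨s, m, r, e⟩ := same N hB (sg_vv N w) (hT_vv N x (sg_vv N w)) (t_sg' N w) ht2
  rw [← hh] at e
  have hyx : Commute (h * sg N w * h⁻¹) (B.xa 1) := by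
    have h3 : B.xa 1 = h * B.xa ((x : F)) * h⁻¹ := by
      rw [hh, B.h_xa, ← Units.val_mul, inv_mul_cancel, Units.val_one]; group
    rw [h3]
    show _ * _ = _ * _
    calc h * sg N w * h⁻¹ * (h * B.xa (x : F) * h⁻¹) = h * (sg N w * B.xa (x : F)) * h⁻¹ := by group
      _ = _ := by rw [(sg_xa N w _).eq]; group
  have hvx : Commute (vv N s m 0 r) (B.xa 1) := by
    have : vv N s m 0 r = (sg N w)⁻¹ * (h * sg N w * h⁻¹) := by rw [e]; group
    rw [this]
    exact (sg_xa N w 1).inv_left.mul_left hyx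
  have hb : s = 0 := by
    have h3 := hvx.eq
    rw [← hom_xa N.rels, vv, ← map_mul, ← map_mul] at h3
    have h4 := congrArg TB.m (hom_injective N.rels h3)
    simpa using h4
  subst hb
  refine ⟨m, r, ?_⟩
  have e5 : vv N 0 m 0 r = B.zs m * B.zl r := by tb
  rw [← e5, ← e]; group

theorem hT_q' (x : Fˣ) (r : F) : B.h x⁻¹ (x ^ 2) * q' r = q' ((x : F) ^ 2 * r) * B.h x⁻¹ (x ^ 2) := by
  rw [N.h_q', Units.val_pow_eq_pow_val]

theorem hT_X (x : Fˣ) (w : Rg c) : B.h x⁻¹ (x ^ 2) * X N w = X N ((x : F) • w) * B.h x⁻¹ (x ^ 2) := by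
  rw [h_X]
  congr 2
  ext
  · simp only [re_smul, smul_eq_mul]; exact wt1 x _
  · simp only [im_smul, smul_eq_mul]; exact wt1 x _

theorem hT_zl (x : Fˣ) (r : F) : B.h x⁻¹ (x ^ 2) * B.zl r = B.zl r * B.h x⁻¹ (x ^ 2) := by
  rw [B.h_zl, wt2]

/-- `sg(w) sg'(x) = sg'(x) sg(w) X(xw) z_l(l(w,w))` -/
theorem sg_q'_x (hB : B.Self) (x : Fˣ) (w : Rg c) :
    sg N w * q' ((x : F) ^ 2) = q' ((x : F) ^ 2) * (sg N w * X N ((x : F) • w) * B.zl (ell N hB w w)) := by
  obtain ⟨a, b, e⟩ := hT_sg N hB x w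
  set h := B.h x⁻¹ (x ^ 2) with hh
  have h1 := sg_q'_one N hB w
  have hq1 := hT_q' N x 1
  rw [mul_one] at hq1
  have hX := hT_X N x w
  have hz := hT_zl N x (ell N hB w w)
  set z := B.zs a * B.zl b with hz0
  rw [← hh] at hq1 hX hz
  have hzq : Commute z (q' ((x : F) ^ 2)) := ((q'_zs N _ _).symm).mul_left (q'_zl N _ _).symm
  have hzX : Commute z (X N ((x : F) • w) * B.zl (ell N hB w w)) := by
    show _ * _ = _ * _
    rw [hz0]; tb
  have g1 : h * (sg N w * q' 1) = sg N w * q' ((x : F) ^ 2) * z * h := by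
    calc h * (sg N w * q' 1) = (h * sg N w) * q' 1 := by group
      _ = sg N w * z * (h * q' 1) := by rw [e]; group
      _ = sg N w * (z * q' ((x : F) ^ 2)) * h := by rw [hq1]; group
      _ = _ := by rw [hzq.eq]; group
  have g2 : h * (sg N w * q' 1) = q' ((x : F) ^ 2) * (sg N w * X N ((x : F) • w) * B.zl (ell N hB w w)) * z * h := by
    calc h * (sg N w * q' 1) = (h * q' 1) * (sg N w * X N w * B.zl (ell N hB w w)) := by rw [h1]; group
      _ = q' ((x : F) ^ 2) * (h * sg N w) * X N w * B.zl (ell N hB w w) := by rw [hq1]; group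
      _ = q' ((x : F) ^ 2) * sg N w * z * (h * X N w) * B.zl (ell N hB w w) := by rw [e]; group
      _ = q' ((x : F) ^ 2) * sg N w * z * X N ((x : F) • w) * (h * B.zl (ell N hB w w)) := by rw [hX]; group
      _ = q' ((x : F) ^ 2) * sg N w * (z * (X N ((x : F) • w) * B.zl (ell N hB w w))) * h := by rw [hz]; group
      _ = _ := by rw [hzX.eq]; group
  rw [g1] at g2
  exact mul_right_cancel (mul_right_cancel g2)

/-- `l(w, w) = 0` -/
theorem ell_self (hF : 4 ≤ Nat.card F) (hB : B.Self) (w : Rg c) : ell N hB w w = 0 := by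
  obtain ⟨x, y, hxy⟩ := exists_units hF
  have h1 := sg_q'_x N hB 1 w
  have h2 := sg_q'_x N hB x w
  have h3 := sg_q'_x N hB y w
  rw [hxy] at h3
  rw [Units.val_one, one_pow, one_smul] at h1
  set l := ell N hB w w with hl
  have hadd : q' 1 * q' ((x : F) ^ 2) = q' ((1 + (x : F)) ^ 2) * B.xb x := by
    have := N.q'_add 1 x
    rwa [one_pow, one_mul] at this
  have g1 : sg N w * (q' 1 * q' ((x : F) ^ 2)) =
      q' 1 * q' ((x : F) ^ 2) * (sg N w * X N ((1 + (x : F)) • w)) := by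
    have hX1 : Commute (X N w * B.zl l) (q' ((x : F) ^ 2)) :=
      ((q'_X N _ _).symm).mul_left (q'_zl N _ _).symm
    have e1 : X N ((x : F) • w) * B.zl l * (X N w * B.zl l) = X N ((1 + (x : F)) • w) := by tb
    calc sg N w * (q' 1 * q' ((x : F) ^ 2)) = (sg N w * q' 1) * q' ((x : F) ^ 2) := by group
      _ = q' 1 * sg N w * ((X N w * B.zl l) * q' ((x : F) ^ 2)) := by rw [h1]; group
      _ = q' 1 * (sg N w * q' ((x : F) ^ 2)) * (X N w * B.zl l) := by rw [hX1.eq]; group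
      _ = q' 1 * q' ((x : F) ^ 2) * (sg N w * (X N ((x : F) • w) * B.zl l * (X N w * B.zl l))) := by rw [h2]; group
      _ = _ := by rw [e1]
  have g2 : sg N w * (q' 1 * q' ((x : F) ^ 2)) =
      q' 1 * q' ((x : F) ^ 2) * (sg N w * X N ((1 + (x : F)) • w)) * B.zl l := by
    have hc : Commute (B.xb (x : F)) (sg N w * X N ((1 + (x : F)) • w) * B.zl l) := by
      refine ((sg_xb N w _).symm.mul_right ?_).mul_right ?_
      · show _ * _ = _ * _; tb
      · show _ * _ = _ * _; tb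
    rw [hadd]
    calc sg N w * (q' ((1 + (x : F)) ^ 2) * B.xb x) = (sg N w * q' ((1 + (x : F)) ^ 2)) * B.xb x := by group
      _ = q' ((1 + (x : F)) ^ 2) * ((sg N w * X N ((1 + (x : F)) • w) * B.zl l) * B.xb x) := by rw [h3]; group
      _ = _ := by rw [← hc.eq]; group
  rw [g1] at g2
  have g3 : B.zl l = 1 := mul_eq_left.1 g2.symm
  exact zl_inj B (g3.trans (zl_zero B).symm)

/-- `h(a, 1)` -/
theorem h1_sg (a : Fˣ) (w : Rg c) : B.h a 1 * sg N w = sg N ((a : F) • w) * B.h a 1 := by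
  set h := B.h a 1 with hh
  have hA : h * A N w = A N ((a : F) • w) * h := h_A N a 1 w
  have hX : h * X N (w * th) = X N (((a : F) • w) * th) * h := by
    rw [hh, h_X]
    congr 2
    rw [Units.val_one, mul_one, smul_mul_assoc]
  have hq : h * q' 1 = q' 1 * h := by
    rw [hh, N.h_q', Units.val_one, one_mul]
  have hAi : h * (A N w)⁻¹ = (A N ((a : F) • w))⁻¹ * h := by
    rw [eq_inv_mul_iff_mul_eq, ← mul_assoc, ← hA]; group
  have hqi : h * (q' 1)⁻¹ = (q' 1)⁻¹ * h := by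
    rw [eq_inv_mul_iff_mul_eq, ← mul_assoc, ← hq]; group
  rw [sg, sg]
  calc h * (X N (w * th) * (q' 1)⁻¹ * (A N w)⁻¹ * q' 1 * A N w)
      = (h * X N (w * th)) * (q' 1)⁻¹ * (A N w)⁻¹ * q' 1 * A N w := by group
    _ = X N (((a : F) • w) * th) * (h * (q' 1)⁻¹) * (A N w)⁻¹ * q' 1 * A N w := by rw [hX]; group
    _ = X N (((a : F) • w) * th) * (q' 1)⁻¹ * (h * (A N w)⁻¹) * q' 1 * A N w := by rw [hqi]; group
    _ = X N (((a : F) • w) * th) * (q' 1)⁻¹ * (A N ((a : F) • w))⁻¹ * (h * q' 1) * A N w := by rw [hAi]; group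
    _ = X N (((a : F) • w) * th) * (q' 1)⁻¹ * (A N ((a : F) • w))⁻¹ * q' 1 * (h * A N w) := by rw [hq]; group
    _ = _ := by rw [hA]; group

theorem ell_smul (hB : B.Self) (a : Fˣ) (w w1 : Rg c) :
    ell N hB ((a : F) • w) ((a : F) • w1) = (a : F) ^ 2 * ell N hB w w1 := by
  apply ell_unique
  set h := B.h a 1 with hh
  have hA : h * A N w1 = A N ((a : F) • w1) * h := h_A N a 1 w1
  have hs : h * sg N w = sg N ((a : F) • w) * h := h1_sg N a w
  have hz : h * B.zl (ell N hB w w1) = B.zl ((a : F) ^ 2 * ell N hB w w1) * h := by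
    rw [hh, B.h_zl, Units.val_one, mul_one]
  have g1 : sg N ((a : F) • w) * A N ((a : F) • w1) * h = h * (sg N w * A N w1) := by
    calc sg N ((a : F) • w) * A N ((a : F) • w1) * h = sg N ((a : F) • w) * (A N ((a : F) • w1) * h) := by group
      _ = (sg N ((a : F) • w) * h) * A N w1 := by rw [← hA]; group
      _ = _ := by rw [← hs]; group
  have g2 : A N ((a : F) • w1) * (sg N ((a : F) • w) * B.zl ((a : F) ^ 2 * ell N hB w w1)) * h =
      h * (sg N w * A N w1) := by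
    rw [ell_spec N hB]
    calc A N ((a : F) • w1) * (sg N ((a : F) • w) * B.zl ((a : F) ^ 2 * ell N hB w w1)) * h
        = A N ((a : F) • w1) * sg N ((a : F) • w) * (B.zl ((a : F) ^ 2 * ell N hB w w1) * h) := by group
      _ = A N ((a : F) • w1) * (sg N ((a : F) • w) * h) * B.zl (ell N hB w w1) := by rw [← hz]; group
      _ = (A N ((a : F) • w1) * h) * sg N w * B.zl (ell N hB w w1) := by rw [← hs]; group
      _ = _ := by rw [← hA]; group
  exact mul_right_cancel (g1.trans g2.symm)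

/-- `l = 0` -/
theorem ell_zero [Finite F] (hF : 4 ≤ Nat.card F) (hB : B.Self) (w w1 : Rg c) : ell N hB w w1 = 0 := by
  have hr0 : ell N hB w 0 = 0 := ell_re_right N hB w 0
  have hl0 : ∀ w1, ell N hB 0 w1 = 0 := fun w1 => ell_re_left N hB w1 0
  have hsmul : ∀ (k : F) (x y : F), ell N hB (⟨0, k * x⟩ : Rg c) ⟨0, k * y⟩ =
      k ^ 2 * ell N hB (⟨0, x⟩ : Rg c) ⟨0, y⟩ := by
    intro k x y
    by_cases hk : k = 0
    · rw [hk, zero_mul, zero_mul, zero_pow two_ne_zero, zero_mul]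
      exact hl0 _
    · have := ell_smul N hB (Units.mk0 k hk) (⟨0, x⟩ : Rg c) ⟨0, y⟩
      rw [Units.val_mk0] at this
      rw [← this]
      congr 1 <;> ext <;> simp
  have hz : ∀ x y : F, ell N hB (⟨0, x⟩ : Rg c) ⟨0, y⟩ = 0 := by
    intro x y
    have key : ∀ x y : F, ell N hB (⟨0, Swap.rt x⟩ : Rg c) ⟨0, Swap.rt y⟩ = 0 := by
      apply FieldAux.alt_zero (f := fun x y => ell N hB (⟨0, Swap.rt x⟩ : Rg c) ⟨0, Swap.rt y⟩)
      · intro x y z
        rw [← ell_add_left]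
        congr 1
        ext <;> simp [Swap.rt_add]
      · intro x y z
        rw [← ell_add_right]
        congr 1
        ext <;> simp [Swap.rt_add]
      · intro k x y _
        show ell N hB (⟨0, Swap.rt (k * x)⟩ : Rg c) ⟨0, Swap.rt (k * y)⟩ = _
        rw [Swap.rt_mul, Swap.rt_mul, hsmul, Swap.sq_rt]
      · intro x
        exact ell_self N hF hB _
    have := key (x ^ 2) (y ^ 2)
    rwa [Swap.rt_sq, Swap.rt_sq] at this
  have e1 : w = ⟨w.re, 0⟩ + ⟨0, w.im⟩ := by ext <;> simp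
  have e2 : w1 = ⟨w1.re, 0⟩ + ⟨0, w1.im⟩ := by ext <;> simp
  rw [e1, e2, ell_add_left, ell_add_right, ell_add_right, ell_re_left, ell_re_left, ell_re_right, hz]
  simp

/-- `sg(w)` commutes with `A(w₁)` -/
theorem sg_A [Finite F] (hF : 4 ≤ Nat.card F) (hB : B.Self) (w w1 : Rg c) : Commute (sg N w) (A N w1) := by
  have h := ell_spec N hB w w1
  rw [ell_zero N hF hB, zl_zero, mul_one] at h
  exact h

theorem sg_Q [Finite F] (hF : 4 ≤ Nat.card F) (hB : B.Self) (w : Rg c) (v : F) : Commute (sg N w) (Q v) := by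
  have : Q v = A N (⟨0, v⟩ : Rg c) := by rw [A_eq, xa_zero, one_mul]
  rw [this]
  exact sg_A N hF hB w _

theorem zs_Q_cancel {a : F} (h : Commute (B.zs a) (Q 1)) : a = 0 := by
  have h1 := N.rels.zs_Q a 1
  rw [h.eq, mul_one] at h1
  have h2 : B.zl a = 1 := mul_eq_left.1 h1.symm
  exact zl_inj B (h2.trans (zl_zero B).symm)

/-- `T_b` centralises `sg(w)` -/
theorem hT_sg_comm [Finite F] (hF : 4 ≤ Nat.card F) (hB : B.Self) (x : Fˣ) (w : Rg c) :
    B.h x⁻¹ (x ^ 2) * sg N w = sg N w * B.h x⁻¹ (x ^ 2) := by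
  have key : ∀ x : Fˣ, ∃ b, B.h x⁻¹ (x ^ 2) * sg N w = sg N w * B.zl b * B.h x⁻¹ (x ^ 2) := by
    intro x
    obtain ⟨a, b, e⟩ := hT_sg N hB x w
    have hQ : Commute (B.h x⁻¹ (x ^ 2) * sg N w * (B.h x⁻¹ (x ^ 2))⁻¹) (Q 1) := by
      have h3 : Q 1 = B.h x⁻¹ (x ^ 2) * Q ((x : F)) * (B.h x⁻¹ (x ^ 2))⁻¹ := by
        rw [N.h_Q, ← Units.val_mul, inv_mul_cancel, Units.val_one]; group
      rw [h3]
      show _ * _ = _ * _
      calc B.h x⁻¹ (x ^ 2) * sg N w * (B.h x⁻¹ (x ^ 2))⁻¹ * (B.h x⁻¹ (x ^ 2) * Q (x : F) * (B.h x⁻¹ (x ^ 2))⁻¹)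
          = B.h x⁻¹ (x ^ 2) * (sg N w * Q (x : F)) * (B.h x⁻¹ (x ^ 2))⁻¹ := by group
        _ = _ := by rw [(sg_Q N hF hB w _).eq]; group
    have hz : Commute (B.zs a * B.zl b) (Q 1) := by
      have : B.zs a * B.zl b = (sg N w)⁻¹ * (B.h x⁻¹ (x ^ 2) * sg N w * (B.h x⁻¹ (x ^ 2))⁻¹) := by
        rw [e]; group
      rw [this]
      exact (sg_Q N hF hB w 1).inv_left.mul_left hQ
    have hz2 : Commute (B.zs a) (Q 1) := by
      have h4 : Commute (B.zl b) (Q 1) := (N.rels.Q_zl 1 b).symm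
      have := hz.mul_left h4.inv_left
      rwa [mul_assoc, mul_inv_cancel, mul_one] at this
    have ha := zs_Q_cancel N hz2
    refine ⟨b, ?_⟩
    rw [e, ha, zs_zero, one_mul]
  have hF2 : Finite F := inferInstance
  -- `x = y²`
  obtain ⟨y, hy⟩ : ∃ y : Fˣ, x = y ^ 2 := ⟨Swap.rtU x, (Swap.sq_rtU x).symm⟩
  obtain ⟨b, e⟩ := key y
  have hx : B.h x⁻¹ (x ^ 2) = B.h y⁻¹ (y ^ 2) * B.h y⁻¹ (y ^ 2) := by
    rw [← B.h_mul, hy]
    congr 1 <;> group
  have hz := hT_zl N y b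
  rw [hx]
  calc B.h y⁻¹ (y ^ 2) * B.h y⁻¹ (y ^ 2) * sg N w = B.h y⁻¹ (y ^ 2) * (B.h y⁻¹ (y ^ 2) * sg N w) := by group
    _ = B.h y⁻¹ (y ^ 2) * (sg N w * B.zl b * B.h y⁻¹ (y ^ 2)) := by rw [e]
    _ = (B.h y⁻¹ (y ^ 2) * sg N w) * (B.zl b * B.h y⁻¹ (y ^ 2)) := by group
    _ = (sg N w * B.zl b * B.h y⁻¹ (y ^ 2)) * (B.zl b * B.h y⁻¹ (y ^ 2)) := by rw [e]
    _ = sg N w * B.zl b * (B.h y⁻¹ (y ^ 2) * B.zl b) * B.h y⁻¹ (y ^ 2) := by group
    _ = sg N w * (B.zl b * B.zl b) * (B.h y⁻¹ (y ^ 2) * B.h y⁻¹ (y ^ 2)) := by rw [hz]; group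
    _ = _ := by rw [zl_sq, mul_one]

theorem h_sg [Finite F] (hF : 4 ≤ Nat.card F) (hB : B.Self) (α γ : Fˣ) (w : Rg c) :
    B.h α (γ ^ 2) * sg N w = sg N (((α : F) * γ) • w) * B.h α (γ ^ 2) := by
  have e : B.h α (γ ^ 2) = B.h (α * γ) 1 * B.h γ⁻¹ (γ ^ 2) := by
    rw [← B.h_mul]
    congr 1 <;> group
  rw [e, mul_assoc, hT_sg_comm N hF hB, ← mul_assoc, h1_sg, Units.val_mul]
  group

theorem h_sgT [Finite F] (hF : 4 ≤ Nat.card F) (hB : B.Self) (x : F) (w : Rg c) :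
    sg N w * q' (x ^ 2) = q' (x ^ 2) * (sg N w * X N (x • w)) := by
  by_cases hx : x = 0
  · have hX : X N ((0 : F) • w) = 1 := by rw [← map_one (hom N.rels)]; tb
    rw [hx, zero_pow two_ne_zero, q'_zero N, hX]; group
  · have := sg_q'_x N hB (Units.mk0 x hx) w
    rw [ell_zero N hF hB, zl_zero, mul_one, Units.val_mk0] at this
    exact this

theorem q'_A [Finite F] (hF : 4 ≤ Nat.card F) (hB : B.Self) (x : F) (w : Rg c) :
    q' (x ^ 2) * A N w = A N w * (q' (x ^ 2) * X N (x ^ 2 • (w * th)) * sg N (x • w)) := by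
  by_cases hx : x = 0
  · have hX : X N ((0 : F) ^ 2 • (w * th)) = 1 := by rw [← map_one (hom N.rels)]; tb
    have hs : sg N ((0 : F) • w) = 1 := by rw [zero_smul, sg_zero]
    rw [hx, hX, hs, zero_pow two_ne_zero, q'_zero N]; group
  · obtain ⟨y, hy⟩ : ∃ y : Fˣ, (y : F) = x := ⟨Units.mk0 x hx, rfl⟩
    subst hy
    set w1 : Rg c := (y : F) • w with hw1
    have h1 := def_sg N w1
    set h := B.h y⁻¹ (y ^ 2) with hh
    have hA : h * A N w1 = A N w * h := by
      rw [hh, h_A]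
      congr 2
      rw [hw1, smul_smul, ← Units.val_mul, inv_mul_cancel, Units.val_one, one_smul]
    have hX : h * X N (w1 * th) = X N ((y : F) ^ 2 • (w * th)) * h := by
      rw [hh, hT_X]
      congr 2
      rw [hw1, smul_mul_assoc, smul_smul, pow_two]
    have hq : h * q' 1 = q' ((y : F) ^ 2) * h := by rw [hh, hT_q' N, mul_one]
    have hs : h * sg N w1 = sg N w1 * h := hT_sg_comm N hF hB y w1
    have g1 : h * (q' 1 * A N w1) = q' ((y : F) ^ 2) * A N w * h := by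
      rw [← mul_assoc, hq, mul_assoc, hA]; group
    have g2 : h * (A N w1 * (q' 1 * (X N (w1 * th) * sg N w1))) =
        A N w * (q' ((y : F) ^ 2) * X N ((y : F) ^ 2 • (w * th)) * sg N w1) * h := by
      calc h * (A N w1 * (q' 1 * (X N (w1 * th) * sg N w1))) = (h * A N w1) * q' 1 * X N (w1 * th) * sg N w1 := by
            group
        _ = A N w * (h * q' 1) * X N (w1 * th) * sg N w1 := by rw [hA]; group
        _ = A N w * q' ((y : F) ^ 2) * (h * X N (w1 * th)) * sg N w1 := by rw [hq]; group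
        _ = A N w * q' ((y : F) ^ 2) * X N ((y : F) ^ 2 • (w * th)) * (h * sg N w1) := by rw [hX]; group
        _ = _ := by rw [hs]; group
    rw [h1, g2] at g1
    exact (mul_right_cancel g1).symm

/-- **(2e)** -/
theorem sg_nb [Finite F] (hF : 4 ≤ Nat.card F) (hB : B.Self) (W : Weyl B) (w : Rg c) : Commute (sg N w) B.nb := by
  obtain ⟨y, hy⟩ : ∃ y, y = MulAut.conj B.nb (sg N w) := ⟨_, rfl⟩
  have conj_comm : ∀ {a b : G}, Commute a b → Commute (MulAut.conj B.nb a) (MulAut.conj B.nb b) := fun h => h.map _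
  have hcQ : ∀ m, MulAut.conj B.nb (Q m) = P m := by
    intro m; rw [MulAut.conj_apply, N.nb_Q, mul_inv_cancel_right]
  have hcP : ∀ m, MulAut.conj B.nb (P m) = Q m := by
    intro m; rw [MulAut.conj_apply, N.nb_P, mul_inv_cancel_right]
  have hcq : ∀ m, MulAut.conj B.nb (q m) = q m := by
    intro m; rw [MulAut.conj_apply, (N.nb_q m).eq, mul_inv_cancel_right]
  have y_zs : ∀ u, Commute y (B.zs u) := by
    intro u; rw [hy, ← cj_nb_xa]; exact conj_comm (sg_xa N w u)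
  have y_xa : ∀ u, Commute y (B.xa u) := by
    intro u; rw [hy, ← cj_nb_zs]; exact conj_comm (sg_zs N w u)
  have y_zl : ∀ u, Commute y (B.zl u) := by
    intro u; rw [hy, ← cj_nb_zl]; exact conj_comm (sg_zl N w u)
  have y_P : ∀ u, Commute y (P u) := by
    intro u; rw [hy, ← hcQ]; exact conj_comm (sg_Q N hF hB w u)
  have y_Q : ∀ u, Commute y (Q u) := by
    intro u; rw [hy, ← hcP]; exact conj_comm (sg_P N w u)
  have ty : B.t * y = y * (B.t * q (w.im ^ 2) * B.zl (star w * star w).re) := by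
    have := congrArg (MulAut.conj B.nb) (t_sg' N w)
    rw [map_mul, map_mul, map_mul, map_mul, cj_nb_t, cj_nb_zl, hcq, ← hy] at this
    exact this
  -- the quotient
  set g := y * (sg N w)⁻¹ with hg
  have hgt : Commute g B.t := by
    set T := B.t * q (w.im ^ 2) * B.zl (star w * star w).re with hT
    have h1 := t_sg' N w
    rw [← hT] at h1
    have h2 : T * (sg N w)⁻¹ = (sg N w)⁻¹ * B.t := by
      rw [eq_inv_mul_iff_mul_eq, ← mul_assoc, ← h1]; group
    show y * (sg N w)⁻¹ * B.t = B.t * (y * (sg N w)⁻¹)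
    rw [← mul_assoc, ty, mul_assoc, mul_assoc, ← h2]
  have hgxa : ∀ u, Commute g (B.xa u) := fun u => (y_xa u).mul_left (sg_xa N w u).inv_left
  have hgzs : ∀ u, Commute g (B.zs u) := fun u => (y_zs u).mul_left (sg_zs N w u).inv_left
  have hgzl : ∀ u, Commute g (B.zl u) := fun u => (y_zl u).mul_left (sg_zl N w u).inv_left
  have hgP : ∀ u, Commute g (P u) := fun u => (y_P u).mul_left (sg_P N w u).inv_left
  have hgQ : ∀ u, Commute g (Q u) := fun u => (y_Q u).mul_left (sg_Q N hF hB w u).inv_left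
  obtain ⟨s, m, r, h⟩ := hB.cent2 g hgt hgxa hgzs hgzl
  have e5 : B.xa s * B.zs m * B.zl r = hom N.rels ⟨s, 0, 0, m, 0, r⟩ := by tb
  have hgr : g = B.zl r := by
    rcases h with h | h
    · rw [e5] at h
      have h1 := (hgP 1).eq
      have h2 := (hgQ 1).eq
      rw [h, ← hom_P N.rels, ← map_mul, ← map_mul] at h1
      rw [h, ← hom_Q N.rels, ← map_mul, ← map_mul] at h2
      have h3 := congrArg TB.r (hom_injective N.rels h1)
      have h4 := congrArg TB.r (hom_injective N.rels h2)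
      simp at h3 h4
      rw [h, h3, h4, hom_zl]
    · exfalso
      rw [e5] at h
      -- `t` part: the image of `P 1`
      have h1 := (hgP 1).eq
      rw [h, ← hom_P N.rels, mul_assoc, ← map_mul, t_hom, ← mul_assoc, ] at h1
      have h0 : B.t * hom N.rels ⟨s, 0, 0, m, 0, r⟩ = hom N.rels (tau ⟨s, 0, 0, m, 0, r⟩) * B.t := t_hom N.rels _
      rw [mul_assoc (hom N.rels _) B.t, h0, ← mul_assoc, ← map_mul] at h1
      have h2 := congrArg TB.m (hom_injective N.rels (mul_right_cancel h1))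
      simp [tau_apply] at h2
  have hyr : y = B.zl r * sg N w := by rw [← hgr, hg]; group
  -- the cube
  obtain ⟨Φ, hΦ⟩ : ∃ Φ : MulAut G, Φ = MulAut.conj (B.nb * B.xb 1) := ⟨_, rfl⟩
  have g1 : ∀ x, Φ x = MulAut.conj B.nb (MulAut.conj (B.xb 1) x) := by
    intro x
    rw [hΦ, map_mul, MulAut.mul_apply]
  have g2 : Φ (sg N w) = B.zl r * sg N w := by
    rw [g1, MulAut.conj_apply (B.xb 1), ← (sg_xb N w 1).eq, mul_inv_cancel_right, ← hy, hyr]
  have g3 : Φ (B.zl r) = B.zl r := by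
    rw [g1, MulAut.conj_apply (B.xb 1), (B.xb_zl 1 r).eq, mul_inv_cancel_right, cj_nb_zl]
  have h3 := conj_three W.nb_xb (sg N w)
  rw [← hΦ, g2, map_mul, g3, g2, ← mul_assoc, zl_sq, one_mul, g2] at h3
  have h4 : B.zl r = 1 := mul_eq_right.1 h3
  rw [h4, one_mul] at hyr
  rw [hyr, MulAut.conj_apply] at hy
  show sg N w * B.nb = B.nb * sg N w
  nth_rewrite 1 [hy]
  group

theorem nq' (x : F) : B.na * sg N (⟨x, 0⟩ : Rg c) * B.na⁻¹ = q' (x ^ 2) := by
  rw [sg_re, N.na_q]; group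

end

/-- **the output of (2)** -/
theorem exists_two' [Finite F] (hF : 4 ≤ Nat.card F) (hB : B.Self) (W : Weyl B) (N : Lev B P Q q q' c) :
    Nonempty (Two B c) := by
  refine ⟨⟨A N, X N, sg N, fun u => hom_xa N.rels u, fun u => hom_zs N.rels u, A_add N, X_add N, t_A N, t_X N,
    ?_, ?_, ?_, ?_, ?_, nb_A N, nb_X N, na_X N, h_A N, h_X N, ?_, ?_, sg_A N hF hB, sg_X N, sg_xb N, sg_zl N,
    sg_nb N hF hB W, h_sg N hF hB, ?_, ?_⟩⟩
  · intro r s
    rw [← hom_xb N.rels, X]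
    show _ * _ = _ * _
    rw [← map_mul, ← map_mul]; congr 1; ext <;> simp
  · intro r s
    rw [← hom_zl N.rels, X]
    show _ * _ = _ * _
    rw [← map_mul, ← map_mul]; congr 1; ext <;> simp <;> ch2
  · intro r s
    rw [← hom_zl N.rels, A]
    show _ * _ = _ * _
    rw [← map_mul, ← map_mul]; congr 1; ext <;> simp
  · intro s w
    rw [← hom_xb N.rels, ← hom_zl N.rels, A, X]
    simp only [← map_mul]; congr 1; ext <;> simp [nm] <;> ch2
  · intro r w
    rw [← hom_zl N.rels, A, X]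
    simp only [← map_mul]; congr 1; ext <;> simp <;> ch2
  · intro w w'
    have h := sg_add0 N hB w' w
    rw [ell_zero N hF hB, add_zero, add_comm] at h
    rw [h, mul_assoc, zl_sq, mul_one]
  · intro w
    rw [sg_re]
    exact t_sg' N w
  · intro w x
    rw [nq']
    exact h_sgT N hF hB x w
  · intro x w
    rw [nq']
    exact q'_A N hF hB x w

/-- **the output of (2), from the layers** -/
theorem exists_two [Finite F] (hF : 4 ≤ Nat.card F) (hB : B.Self) (W : Weyl B) (S : ShortLayer B)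
    (L : LongLayer B) (he : S.e = 1) (hLe : L.e = 0) (hLc : L.c = 1) : ∃ E : F, Nonempty (Two B E) := by
  obtain ⟨c, P, Q, q, q', N⟩ := exists_lev hF hB W S L he hLe hLc
  exact ⟨c, exists_two' hF hB W N⟩

end Cfsg.Agent.StdSpFour.SgTwo
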