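import Cfsg.Agent.StdSpFour.Cases
import Cfsg.Agent.StdSpFour.EnvFacts

/-!
# Type `Sp₄`: the case list in `X`

`CaseA` (target `Sp₄(q²)`), `CaseB` (targets `L₄(q)`, `U₄(q)`), `CaseC` (targets `L₅(q)`, `U₅(q)`); up to the swap of the
two root lengths these are all the cases.
-/

set_option autoImplicit false
set_option linter.unusedSectionVars false

namespace Cfsg.Agent.StdSpFour.Trich

open Subgroup Cfsg.Agent.StdSpFour Cfsg.Agent.StdSpFour.Comm Cfsg.Agent.StdSpFour.Rel Cfsg.Agent.StdSpFour.Swap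

variable {F G : Type*} [Field F] [Finite F] [CharP F 2] [Group G] {B : Base F G} {A : Subgroup G}

/-- both layers, all constants zero -/
def CaseA (B : Base F G) : Prop :=
  ∃ (S : ShortLayer B) (L : LongLayer B), S.e = 0 ∧ L.e = 0 ∧ S.c = 0 ∧ L.c = 0

/-- only the short layer, `e = 1` -/
def CaseB (B : Base F G) : Prop := ¬ Nonempty (LongLayer B) ∧ ∃ S : ShortLayer B, S.e = 1

/-- both layers, `e = 1` for the short one -/
def CaseC (B : Base F G) : Prop :=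
  ∃ (S : ShortLayer B) (L : LongLayer B), S.e = 1 ∧ L.e = 0 ∧ S.c = 0 ∧ L.c = 1

/-- a short layer with `e ≠ 1` gives the long layer -/
theorem exists_conj_zl (S : ShortLayer B) : ∃ x, x * B.t * x⁻¹ = B.t * B.zl (1 + S.e) := by
  refine ⟨(D S 1 1 * (S.p 1)⁻¹)⁻¹, ?_⟩
  have h1 : cj (D S 1 1 * (S.p 1)⁻¹) B.t = B.t * B.zl (1 + S.e) := by
    rw [cj_mul_left, cD_t, cj_mul, cpi_t, one_pow, mul_one, mul_one, ← z_V, cj_mul, cpi_zs, cpi_zl]
    calc B.t * B.zs 1 * (B.zs 1 * B.zl (1 + S.e)) = B.t * (B.zs 1 * B.zs 1) * B.zl (1 + S.e) := by group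
      _ = _ := by rw [sq_of_add B.zs_add, mul_one]
  have h2 : (D S 1 1 * (S.p 1)⁻¹)⁻¹ * B.t * (D S 1 1 * (S.p 1)⁻¹)⁻¹⁻¹ = cj (D S 1 1 * (S.p 1)⁻¹) B.t := by
    rw [cj, inv_inv]
  rw [h2, h1]

theorem long_of_short [Finite G] (hE : Env B A) (hF : 4 ≤ Nat.card F) (S : ShortLayer B) (h : S.e ≠ 1) :
    Nonempty (LongLayer B) := by
  obtain ⟨x, hx⟩ := exists_conj_zl S
  refine EnvFacts.exists_long hE hF ?_ hx
  intro h1
  exact h (CharTwo.add_eq_zero.1 h1).symm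

theorem short_of_long [Finite G] (hE : Env B A) (hF : 4 ≤ Nat.card F) (L : LongLayer B) (h : L.e ≠ 1) :
    Nonempty (ShortLayer B) := by
  obtain ⟨x, hx⟩ := exists_conj_zl (swapS L)
  refine EnvFacts.exists_short hE hF (w := rt (1 + L.e ^ 2)) ?_ hx
  intro h1
  have h2 := rt_eq_zero h1
  apply h
  have h3 : L.e ^ 2 = 1 := (CharTwo.add_eq_zero.1 h2).symm
  rw [← rt_sq L.e, h3, rt_one]

/-- a long layer of `swap B` is a short layer of `B`. -/
noncomputable def shortOfSwap (L : LongLayer (swap B)) : ShortLayer B where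
  p := fun m => L.q (m ^ 2)
  e := L.e
  c := rt L.c
  p_zero := by rw [zero_pow two_ne_zero]; exact L.q_zero
  t_p := fun m => by
    have h1 := L.t_q (m ^ 2)
    change B.t * L.q (m ^ 2) = L.q (m ^ 2) * B.t * B.zs (rt (m ^ 2)) at h1
    rwa [rt_sq] at h1
  p_xb := fun m s => L.q_xa _ s
  p_zs := fun m s => by
    have h1 := L.q_zl (m ^ 2) (s ^ 2)
    change Commute (L.q (m ^ 2)) (B.zs (rt (s ^ 2))) at h1
    rwa [rt_sq] at h1
  p_zl := fun m s => L.q_zs _ s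
  p_p := fun m m' => L.q_q _ _
  p_add := fun m m' => by
    obtain ⟨k, hk⟩ := L.q_add (m ^ 2) (m' ^ 2)
    refine ⟨rt k, ?_⟩
    change L.q (m ^ 2) * L.q (m' ^ 2) = L.q (m ^ 2 + m' ^ 2) * B.zs (rt k) at hk
    rw [hk, CharTwo.add_sq]
  p_sq := fun m => by
    have h1 := L.q_sq (m ^ 2)
    change L.q (m ^ 2) * L.q (m ^ 2) = B.zs (rt (L.c * m ^ 2)) at h1
    rw [h1, rt_mul, rt_sq]
  xa_p := fun u m => by
    have h1 := L.xb_q u m
    change B.xa (rt (u ^ 2)) * L.q (m ^ 2) = L.q (m ^ 2) * B.xa (rt (u ^ 2)) * B.zl (L.e * (u * m)) at h1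
    rw [rt_sq, ← mul_assoc] at h1
    exact h1
  h_p := fun α β m => by
    have h1 := L.h_q β (α ^ 2) (m ^ 2)
    change B.h (rtU (α ^ 2)) β * L.q (m ^ 2) = L.q ((β : F) ^ 2 * ((α ^ 2 : Fˣ) : F) * m ^ 2) * B.h (rtU (α ^ 2)) β at h1
    rw [rtU_sq] at h1
    rw [h1]
    congr 2
    push_cast
    ring

theorem nonempty_long_swap : Nonempty (LongLayer (swap B)) ↔ Nonempty (ShortLayer B) :=
  ⟨fun ⟨L⟩ => ⟨shortOfSwap L⟩, fun ⟨S⟩ => ⟨swapL S⟩⟩

theorem nonempty_short_swap : Nonempty (ShortLayer (swap B)) ↔ Nonempty (LongLayer B) :=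
  ⟨fun ⟨S⟩ => ⟨EnvFacts.longOfSwap S⟩, fun ⟨L⟩ => ⟨swapS L⟩⟩

/-- **the case list** -/
theorem trich [Finite G] (hE : Env B A) (hF : 4 ≤ Nat.card F)
    (h : Nonempty (ShortLayer B) ∨ Nonempty (LongLayer B)) :
    CaseA B ∨ (CaseB B ∨ CaseB (swap B)) ∨ (CaseC B ∨ CaseC (swap B)) := by
  by_cases hS : Nonempty (ShortLayer B)
  · by_cases hL : Nonempty (LongLayer B)
    · obtain ⟨S⟩ := hS
      obtain ⟨L⟩ := hL
      rcases Cases.trichotomy hF hE.self S L with h1 | h1 | h1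
      · exact Or.inl ⟨S, L, h1⟩
      · exact Or.inr (Or.inr (Or.inl ⟨S, L, h1⟩))
      · refine Or.inr (Or.inr (Or.inr ⟨swapS L, swapL S, ?_, h1.2.1, h1.2.2.1, ?_⟩))
        · show L.e ^ 2 = 1
          rw [h1.1, one_pow]
        · show S.c ^ 2 = 1
          rw [h1.2.2.2, one_pow]
    · obtain ⟨S⟩ := hS
      refine Or.inr (Or.inl (Or.inl ⟨hL, S, ?_⟩))
      by_contra h1
      exact hL (long_of_short hE hF S h1)
  · have hL : Nonempty (LongLayer B) := h.resolve_left hS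
    obtain ⟨L⟩ := hL
    refine Or.inr (Or.inl (Or.inr ⟨fun h2 => hS (nonempty_long_swap.1 h2), swapS L, ?_⟩))
    show L.e ^ 2 = 1
    by_contra h1
    apply hS
    apply short_of_long hE hF L
    rintro h2
    exact h1 (by rw [h2, one_pow])

end Cfsg.Agent.StdSpFour.Trich
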