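import Cfsg.Agent.StdSpFour.UFiveMain

/-!
# S1778, type Sp₄(q), target U₅(q): `RelFacts E t`
-/

set_option autoImplicit false
set_option linter.unusedSectionVars false
set_option linter.unusedSimpArgs false
set_option linter.unusedVariables false

namespace Cfsg.Agent.StdSpFour.UFive

open Cfsg.Agent.StdSpFour.UFiveModel Cfsg.Agent.StdSpFour.UFiveModel.T5 Cfsg.Agent.StdSpFour.StarField Subgroup
open Cfsg.Agent.StdSpFour.CloseDefs Cfsg.Agent.StdSpFour.ModelFacts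
open Cfsg.Agent.StdSpFour.UFour (cg cg_mul cg_one cg_inv cg_comp cg_inv_cg cg_cg_inv cg_inj cg_eq_self comm_of_cg
  mem_norm exists_norm)
open Cfsg.Agent.StdSpFour.RootEight (cjS mem_cjS cjS_mul cjS_mono cjS_sup cjS_eq_of_comm)

variable {K : Type*} [Field K] [StarRing K] [CharP K 2] [Finite K] {G : Type*} [Group G]

/-- the position of `V` in the simple group `E` -/
structure InE (V : Env K G) (E : Subgroup G) : Prop where
  E_t : ∀ x ∈ E, V.t * x * V.t⁻¹ ∈ E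
  f_mem : ∀ x, V.f x ∈ E
  na_mem : V.na ∈ E
  nb_mem : V.nb ∈ E
  /-- `T` is a Sylow 2-subgroup of `E` -/
  syl : ¬ 2 ∣ V.T.relIndex E
  /-- elements of `C_E(t)` centralising some `z ∈ Z \ {1}` normalise `P = C_A(z)^∞` -/
  P_norm : ∀ g ∈ E, V.t * g = g * V.t → ∀ z ∈ V.Z, z ≠ 1 → g * z = z * g → ∀ x ∈ V.P, g * x * g⁻¹ ∈ V.P
  /-- `C_P(P ∩ Q) ≤ Q` -/
  P_self : ∀ x ∈ V.P, (∀ y ∈ V.P, y ∈ V.Q → x * y = y * x) → x ∈ V.Q

namespace Env

variable (V : Env K G)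

theorem t_of {x : T5 K} (h1 : star x.w1 = x.w1) (h2 : star x.w2 = x.w2) (h3 : star x.w3 = x.w3) (h4 : star x.c = x.c)
    (h5 : star x.y = x.y) (h6 : star x.d = x.d) : V.t * V.f x = V.f x * V.t := by
  apply comm_of_cg
  rw [V.t_f]
  congr 1
  ext <;> simp [tau, h1, h2, h3, h4, h5, h6]

theorem t_Z' {z : G} (hz : z ∈ V.Z) : V.t * z = z * V.t := by
  obtain ⟨z, hz, rfl⟩ := hz
  obtain ⟨hc, -⟩ := eq_ec hz
  obtain ⟨a1, a2, a3, a4, a5⟩ := hz
  apply V.t_of <;> first | exact hc | simp only [a1, a2, a3, a4, a5, star_zero]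

theorem t_Xb {x : G} (hx : x ∈ V.Xb) : V.t * x = x * V.t := by
  obtain ⟨x, ⟨a1, a2, a3, a4, a5⟩, rfl⟩ := hx
  have h := x.hd
  rw [a5, zero_mul] at h
  have hd : star x.d = x.d := (CharTwo.add_eq_zero.1 h).symm
  apply V.t_of <;> first | exact hd | simp only [a1, a2, a3, a4, a5, star_zero]

theorem t_Xa {x : G} (hx : x ∈ V.Xa) : V.t * x = x * V.t := by
  obtain ⟨x, ⟨a0, a1, a2, a3, a4, a5⟩, rfl⟩ := hx
  apply V.t_of <;> first | exact a0 | simp only [a1, a2, a3, a4, a5, star_zero]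

theorem t_Xab {x : G} (hx : x ∈ V.Xab) : V.t * x = x * V.t := by
  obtain ⟨x, ⟨a0, a1, a2, a3, a4, a5⟩, rfl⟩ := hx
  apply V.t_of <;> first | exact a0 | simp only [a1, a2, a3, a4, a5, star_zero]

theorem P_t' : V.P ≤ centralizer ({V.t} : Set G) := by
  have hb : V.Lb ≤ centralizer ({V.t} : Set G) := by
    apply V.Lb_le_of
    · intro x hx
      rw [mem_centralizer_singleton_iff]
      exact (V.t_Xb hx).symm
    · rw [mem_centralizer_singleton_iff]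
      exact V.t_nb.eq.symm
  refine sup_le (sup_le (sup_le ?_ ?_) ?_) hb
  · intro x hx
    rw [mem_centralizer_singleton_iff]
    exact (V.t_Xa hx).symm
  · intro x hx
    rw [mem_centralizer_singleton_iff]
    exact (V.t_Xab hx).symm
  · intro x hx
    rw [mem_centralizer_singleton_iff]
    exact (V.t_Z' hx).symm

theorem Xa_le_Q : V.Xa ≤ V.Q := Subgroup.map_mono fun _ h => ⟨h.2.2.2.2.1, h.2.2.2.2.2⟩

theorem Xab_le_Q : V.Xab ≤ V.Q := Subgroup.map_mono fun _ h => ⟨h.2.2.2.2.1, h.2.2.2.2.2⟩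

theorem Xab_le_W : V.Xab ≤ V.W := Subgroup.map_mono fun _ h => ⟨h.2.1, h.2.2.1, h.2.2.2.2.1⟩

theorem P_le_QKb : V.P ≤ V.Q ⊔ V.Kb :=
  sup_le (sup_le (sup_le (V.Xa_le_Q.trans le_sup_left) (V.Xab_le_Q.trans le_sup_left)) (V.Z_le_Q.trans le_sup_left))
    (V.Lb_le_Kb.trans le_sup_right)

theorem Z_cent' {z : G} (hz : z ∈ V.Z) {x : G} (hx : x ∈ V.T) : z * x = x * z := by
  obtain ⟨z, hz, rfl⟩ := hz
  obtain ⟨x, rfl⟩ := hx
  rw [← map_mul, Zm_cent hz, map_mul]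

theorem QKb_Z : V.Q ⊔ V.Kb ≤ centralizer (V.Z : Set G) := by
  refine sup_le ?_ ?_
  · intro x hx
    rw [mem_centralizer_iff]
    exact fun z hz => V.Z_cent' hz (V.Q_le hx)
  · intro x hx
    rw [mem_centralizer_iff]
    exact fun z hz => (V.Kb_Z' hx hz).symm

theorem QKb_Q : V.Q ⊔ V.Kb ≤ normalizer (V.Q : Set G) := sup_le le_normalizer V.Kb_norm

theorem Xab_le_P : V.Xab ≤ V.P := le_sup_right.trans (le_sup_left.trans le_sup_left)

theorem Lb_le_P : V.Lb ≤ V.P := le_sup_right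

theorem na_Z {z : T5 K} (hz : z ∈ Zm K) : ∃ d ∈ Fx K, ∃ hd, d = z.c ∧ cg V.na (V.f z) = V.f (wEl 0 0 d (zero_mem _) hd) := by
  obtain ⟨hc, e⟩ := eq_ec hz
  refine ⟨z.c, hc, hc, rfl, ?_⟩
  have e2 : z = wEl 0 z.c 0 hc (zero_mem _) := by
    apply Wm_ext (Zm_le_Wm hz) (wEl_mem _ _ _ _ _)
    · exact hz.2.2.1
    · rfl
    · exact hz.2.2.2.2
  have h := V.na_wEl 0 z.c 0 hc (zero_mem _)
  rw [← e2] at h
  rw [h]
  congr 1
  exact wEl_congr (star_zero _) rfl rfl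

end Env

variable {V : Env K G} {E : Subgroup G}

/-- **The T-facts for `U₅(q)`** -/
noncomputable def relFacts [Finite G] (hs : ∃ x : K, star x ≠ x) {n : ℕ} (hn : Nat.card (Fx K) = 2 ^ n)
    (h4 : 4 ≤ Nat.card (Fx K)) (H : InE V E) : RelFacts E V.t :=
  have hF : TFacts (Nat.card (Fx K)) (Zm K) (Qm K) (Wm K) (Sm K) := tFacts hs h4
  have hTE : V.T ≤ E := by rintro _ ⟨x, rfl⟩; exact H.f_mem x
  have hKb : V.Kb ≤ E := V.Kb_le_of (V.X3_le.trans hTE) H.nb_mem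
  { n := n
    q := Nat.card (Fx K)
    hq := hn
    h4 := h4
    T := V.T
    Z := V.Z
    Q := V.Q
    W := V.W
    S := V.S
    Ka := V.Ka
    Kb := V.Kb
    P := V.P
    V := V.Xab
    na := V.na
    nb := V.nb
    tt := V.tt
    E_t := H.E_t
    T_le := hTE
    Ka_le := V.Ka_le_of (V.X0_le.trans hTE) H.na_mem
    Kb_le := hKb
    P_le := V.P_le_QKb.trans (sup_le (V.Q_le.trans hTE) hKb)
    T_two := V.T_two hs ⟨n, hn⟩
    T_syl := H.syl
    Z_le_W := V.Z_le_W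
    Z_le_Q := V.Z_le_Q
    W_le := V.W_le
    Q_le := V.Q_le
    na_mem := V.na_mem
    nb_mem := V.nb_mem
    Z_card := ModelMap.Z_card V.inj hF
    Z_sq := ModelMap.Z_sq hF
    Z_cent := ModelMap.Z_cent hF
    W_sq := ModelMap.W_sq hF
    W_card := ModelMap.W_card V.inj hF
    W_uniq := ModelMap.W_uniq V.inj hF
    Q_sq := ModelMap.Q_sq hF
    Q_uniq := ModelMap.Q_uniq V.inj hF
    Q_cent := ModelMap.Q_cent V.inj hF
    Q_cent_mod := ModelMap.Q_cent_mod V.inj hF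
    Q_pair := ModelMap.Q_pair V.inj hF
    WQ_card := ModelMap.WQ_card V.inj hF
    inv_T := ModelMap.inv_T V.inj hF
    inv_Q := fun v hv h => V.inv_Q' hv h
    S_iff := fun x => V.S_iff' x
    S_Q := ModelMap.S_Q V.inj hF
    S_card := ModelMap.S_card V.inj hF
    S_count := ModelMap.S_count V.inj hF
    Ka_W := fun k hk w hw => V.Ka_W' hk hw
    Ka_TI := fun k hk z hz hz1 h z' hz' => V.Ka_TI' hk hz hz1 h hz'
    four := ModelMap.four V.inj hF
    R_sq := ModelMap.R_sq hF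
    R_card := ModelMap.R_card V.inj hF
    T_WQ := ModelMap.T_WQ V.inj hF
    T_W := ModelMap.T_W hF
    hyp_one := ModelMap.hyp_one V.inj hF
    hyp_two := ModelMap.hyp_two V.inj hF
    Xb_cent := by
      rintro _ ⟨x, rfl⟩ hx _ ⟨w, hw, rfl⟩
      have h1F : (1 : K) ∈ Fx K := star_one K
      have h1 := hx _ (V.f_Z.2 (ec_mem 1 h1F))
      obtain ⟨d, hdF, hd, e, h2⟩ := V.na_Z (ec_mem 1 h1F)
      rw [show V.na * V.f (ec 1 h1F) * V.na⁻¹ = _ from h2] at h1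
      have h3 : cg (V.f x) (V.f (wEl 0 0 d (zero_mem _) hd)) = V.f (wEl 0 0 d (zero_mem _) hd) := cg_eq_self h1
      rw [V.a_wEl] at h3
      have h4 := congrArg T5.w3 (V.inj h3)
      simp only [wEl] at h4
      rw [e] at h4
      simp only [ec, zero_add, one_mul] at h4
      rw [← map_mul, ← map_mul, R_comm_W h4 hw]
    trans := fun x hx hx' y hy hy' => V.trans' hs ⟨n, hn⟩ hTE H.syl H.na_mem hx hx' hy hy'
    Kb_Z := fun k hk z hz => V.Kb_Z' hk hz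
    Kb_Q := fun k hk x hx => V.Kb_Q' hk hx
    nb_WQ := by
      rintro _ ⟨x, hx, rfl⟩ hxQ h
      have hQ := V.f_Q.1 hxQ
      rw [show V.nb * V.f x * V.nb⁻¹ = _ from V.nb_q x hQ.1 hQ.2] at h
      obtain ⟨h1, h2, h3⟩ := V.f_W.1 h
      exact V.f_Z.2 ⟨hx.1, hx.2.1, h1, hQ.1, hQ.2⟩
    TQ_onto := ModelMap.TQ_onto V.inj hF
    TQ_W := ModelMap.TQ_W V.inj hF
    chain_one := ModelMap.chain_one V.inj hF
    chain_two := ModelMap.chain_two V.inj hF
    perf := ⟨V.Q ⊔ V.Kb, sup_le (V.Q_le.trans hTE) hKb, le_sup_left, V.perf' hs h4,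
      fun x hx z hz => (mem_centralizer_iff.1 (V.QKb_Z hx) z hz).symm⟩
    irr := fun R hZR hRQ hR inv => V.irr' hs hTE H.nb_mem hZR hRQ hR inv
    t_Z := fun z hz => V.t_Z' hz
    t_Q := by
      rintro _ ⟨x, hx, rfl⟩
      rw [show V.t * V.f x * V.t⁻¹ = _ from V.t_f x]
      apply V.f_Q.2
      exact ⟨by simp [tau, hx.1], by simp [tau, hx.2]⟩
    P_t := fun x hx => (mem_centralizer_singleton_iff.1 (V.P_t' hx)).symm
    P_Z := fun x hx z hz => (mem_centralizer_iff.1 (V.QKb_Z (V.P_le_QKb hx)) z hz).symm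
    P_Q := fun x hx y hy => (mem_normalizer_iff.1 (V.QKb_Q (V.P_le_QKb hx)) y).1 hy
    P_norm := H.P_norm
    P_self := H.P_self
    V_P := V.Xab_le_P
    V_W := V.Xab_le_W
    V_Q := V.Xab_le_Q
    V_ne := ⟨V.f (T5.em 1), V.f_Xab.2 ⟨star_one K, rfl, rfl, rfl, rfl, rfl⟩, fun h => one_ne_zero (V.f_Z.1 h).2.2.1⟩
    V_t := by
      rintro _ ⟨x, ⟨a0, a1, a2, a3, a4, a5⟩, rfl⟩
      obtain ⟨w, hw⟩ := exists_tr_one hs
      refine ⟨V.f (T5.em (w * x.w3)), V.f_W.2 (em_mem _), V.f_Q.2 (em_mem' _), ?_⟩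
      rw [show V.t * V.f (T5.em (w * x.w3)) * V.t⁻¹ = _ from V.t_f _, ← map_mul]
      congr 1
      ext
      · simp [mul_w1, tau, T5.em, a1]
      · simp [mul_w2, tau, T5.em, a1, a2]
      · simp only [mul_w3, tau, T5.em, a1, a2, star_mul', a0, mul_zero, star_zero, add_zero, zero_mul]
        linear_combination x.w3 * hw - w * x.w3 * two0 (K := K)
      · simp [mul_c, tau, T5.em, a1, a2, a3]
      · simp [mul_y, tau, T5.em, a4]
      · simp [mul_d, tau, T5.em, a5]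
    Xb_P := by
      rintro _ ⟨z, hz, rfl⟩
      obtain ⟨d, hdF, hd, e, h2⟩ := V.na_Z hz
      rw [show V.na * V.f z * V.na⁻¹ = _ from h2]
      apply V.Lb_le_P
      apply mem_sup_left
      exact V.f_Xb.2 ⟨rfl, rfl, rfl, rfl, rfl⟩
    Kb_gen := fun C h1 h2 => V.Kb_gen' h4 h1 h2
    T_gen := by
      rintro _ ⟨x, rfl⟩
      rw [decomp x, map_mul]
      refine mul_mem (mem_sup_left (V.f_Q.2 ?_)) (mem_sup_right (mem_sup_left (V.ddE_X3 _ _ _)))
      exact mul_mem (mul_mem (e1_mem _) (ccE_Q _ _ _)) (em_mem' _)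
    Ka_le' := sup_le_sup V.X0_le (Subgroup.map_mono V.X0_le)
    Kb_le' := sup_le_sup V.X3_le (Subgroup.map_mono V.X3_le) }

end Cfsg.Agent.StdSpFour.UFive
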