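import Cfsg.Agent.StdSpFour.UFiveEight
import Cfsg.Agent.StdSpFour.UFiveClose
import Cfsg.Agent.StdSpFour.CloseMain
import Cfsg.Agent.SplitTwo.QuadChar
import Cfsg.Agent.StdSpFour.CaseCBase
import Cfsg.Agent.StdSpFour.CaseCSplit
import Cfsg.Agent.StdSpFour.CaseBEnd
import Cfsg.Agent.StdSpFour.CaseCGlue
import Cfsg.Agent.StdSpFour.CaseCOdd
import Cfsg.Agent.StdSpFour.SgTwo
import Cfsg.Agent.StdSpFour.Trich

/-!
# S1778, type Sp₄(q): the end of case (C)

`CaseCEnd.concl_main`: from `t ∉ L` and "the lift of `T5 (Rg E)` is a Sylow 2-subgroup of `L`" (and the external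
theorems: S1769 for `L`; the four inputs of the closing) to the conclusion of S1778.
-/

set_option autoImplicit false
set_option linter.unusedSectionVars false
set_option linter.style.haveILetI false

namespace Cfsg.Agent.StdSpFour.CaseCEnd

open Subgroup Cfsg Cfsg.Agent.StdSpFour Cfsg.Agent.StdSpFour.Comm Cfsg.Agent.StdSpFour.CaseC
  Cfsg.Agent.StdSpFour.UFiveModel Cfsg.Agent.StdSpFour.StarField
open Cfsg.Agent.StdEven.CoreQuot Cfsg.Agent.StdL2.Setup
open Cfsg.Agent.Lib Cfsg.Agent.Lib.GoldschmidtFusion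
open Cfsg.Agent.TwoFusion.Gold (TProp)
open Cfsg.Agent.StdSpFour.CloseComp Cfsg.Agent.StdSpFour.CloseLoc
open Cfsg.Agent.StdSpFour.CloseSyl (S0506Stmt)

universe u v

section closing

open Cfsg.Agent.StdSpFour.UFive

variable {K : Type v} [Field K] [StarRing K] [CharP K 2] [Finite K] {G : Type u} [Group G] [Finite G]

/-- **the closing** -/
theorem closed (h0506 : S0506Stmt.{u}) (hZS : ZStarStmt.{u})
    (hT : ∀ (G : Type u) [Group G] [Finite G], IsSimpleGroup G → (∃ a b : G, a * b ≠ b * a) → TProp G)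
    (h1173 : S1173Stmt.{u}) (hs : ∃ x : K, star x ≠ x) {n : ℕ} (hn : Nat.card (Fx K) = 2 ^ n)
    (h4 : 4 ≤ Nat.card (Fx K)) {V : UFive.Env K G}
    {E : Subgroup G} (hE : IsSimpleGroup E) (H : InE V E) : Closed V E where
  top := CloseMain.top (relFacts hs hn h4 H) h0506 hZS hT h1173 hE
  norm_Z := fun _ hg h => CloseMain.norm_Z (relFacts hs hn h4 H) h0506 hZS hT h1173 hg h
  norm_Q := fun _ hg h h' => CloseMain.norm_Q (relFacts hs hn h4 H) h0506 hZS hT h1173 hg h h'

/-- **the field case, from `InE`** -/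
theorem isLie (h0506 : S0506Stmt.{u}) (hZS : ZStarStmt.{u})
    (hT : ∀ (G : Type u) [Group G] [Finite G], IsSimpleGroup G → (∃ a b : G, a * b ≠ b * a) → TProp G)
    (h1173 : S1173Stmt.{u}) (hs : ∃ x : K, star x ≠ x) {n : ℕ} (hn : Nat.card (Fx K) = 2 ^ n)
    (h4 : 4 ≤ Nat.card (Fx K)) {V : UFive.Env K G}
    {E : Subgroup G} (hE : IsSimpleGroup E) (H : InE V E)
    (hbr : V.na * V.nb * V.na * V.nb = V.nb * V.na * V.nb * V.na) : Cfsg.IsLieTypeChar 2 E := by
  obtain ⟨R, hR⟩ := exists_rootSys V hs hn h4 (closed h0506 hZS hT h1173 hs hn h4 hE H) hbr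
  have := Cfsg.Agent.SplitTwo.QuadChar.isLieTypeChar R
  rwa [hR] at this

end closing

section general

variable {F : Type v} {G : Type u} [Field F] [CharP F 2] [Finite F] [Group G] [Finite G] {A : Subgroup G} {t : G}
  {T : Subgroup G} {H : Hyp A t T} {B : Base F (XQ A t)} {E : F} {D : Three B E}

/-- the position of the lifted environment in `L` -/
theorem inE [Hab : Fact (∀ r : F, r ^ 2 ≠ E + 1 * r)] (hE : Env B (im A t A)) (hBt : B.t = H.tX) {L : Subgroup G}
    (C : Conf L A t) (L0 : CLift H B D) (hL : ∀ x, L0.f x ∈ L) {P : Sylow 2 L}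
    (hP : (P : Subgroup L).map L.subtype = L0.f.range) : UFive.InE (L0.toEnv hE hBt) L := by
  have hn := C.normal
  refine (lifted L0 hE hBt).inE hE C.le (fun x hx => hn.conj_mem x hx t) (fun x => hL x) ?_
  exact CaseBEnd.not_two_dvd hP

/-- irreducible or split -/
theorem irr_or (E : F) : (∀ r : F, r ^ 2 ≠ E + 1 * r) ∨ ∃ τ : F, τ ^ 2 + τ + E = 0 := by
  by_cases h : ∃ τ : F, τ ^ 2 + τ + E = 0
  · exact Or.inr h
  · left
    intro x hx
    apply h
    refine ⟨x, ?_⟩
    rw [hx, one_mul]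
    linear_combination (E + x) * (CharTwo.two_eq_zero : (2 : F) = 0)

/-- **the field case of (C)** -/
theorem concl_field (h0506 : S0506Stmt.{u}) (hZS : ZStarStmt.{u})
    (hT : ∀ (G : Type u) [Group G] [Finite G], IsSimpleGroup G → (∃ a b : G, a * b ≠ b * a) → TProp G)
    (h1173 : S1173Stmt.{u}) (hE : Env B (im A t A)) (hBt : B.t = H.tX) (hF : 4 ≤ Nat.card F) {L : Subgroup G}
    (C : Conf L A t) (L0 : CLift H B D) (hir : ∀ r : F, r ^ 2 ≠ E + 1 * r) (htL : t ∉ L) (hL : ∀ x, L0.f x ∈ L)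
    {P : Sylow 2 L} (hP : (P : Subgroup L).map L.subtype = L0.f.range) : Cfsg.Agent.StdEven.Red.Concl L t := by
  haveI : Fact (∀ r : F, r ^ 2 ≠ E + 1 * r) := ⟨hir⟩
  have := Fintype.ofFinite F
  obtain ⟨n, -, hn⟩ := FiniteField.card F 2
  have hn' : Nat.card (Fx (Rg E)) = 2 ^ (n : ℕ) := by rw [card_Fx E, Nat.card_eq_fintype_card, hn]
  have h4 : 4 ≤ Nat.card (Fx (Rg E)) := by rw [card_Fx E]; exact hF
  exact ⟨Or.inl (isLie h0506 hZS hT h1173 (exists_star_ne E) hn' h4 C.simple (inE hE hBt C L0 hL hP)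
    ((lifted L0 hE hBt).braid hE.weyl)), htL⟩

end general

section final

variable {F : Type} {G : Type u} [Field F] [CharP F 2] [Finite F] [Group G] [Finite G] {A : Subgroup G} {t : G}
  {T : Subgroup G} {H : Hyp A t T} {B : Base F (XQ A t)} {E : F} {D : Three B E}

/-- the split case of (C): `L ≅ L₅(q)` -/
theorem concl_split {L0 : CLift H B D} (hF : 4 ≤ Nat.card F)
    {τ : F} (hτ : τ ^ 2 + τ + E = 0) {L : Subgroup G} (htL : t ∉ L) (h1769 : CaseBSplit.LinSylow.{u, 0} L)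
    {P : Sylow 2 L} (hP : (P : Subgroup L).map L.subtype = L0.f.range) : Cfsg.Agent.StdEven.Red.Concl L t := by
  have := Fintype.ofFinite F
  obtain ⟨n, -, hn⟩ := FiniteField.card F 2
  have hr : 2 ≤ (n : ℕ) := by
    rw [Nat.card_eq_fintype_card, hn] at hF
    by_contra h
    have h1 : (n : ℕ) ≤ 1 := by omega
    have h2 : 2 ^ (n : ℕ) ≤ 2 ^ 1 := Nat.pow_le_pow_right (by norm_num) h1
    omega
  have e1 : T5 (Rg E) ≃* L0.f.range := MonoidHom.ofInjective L0.f_inj
  have e2 : ↥(P : Subgroup L) ≃* ↥((P : Subgroup L).map L.subtype) :=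
    (P : Subgroup L).equivMapOfInjective L.subtype L.subtype_injective
  exact ⟨Or.inl (Split.isLie hr hn hτ h1769 P (e1.trans ((MulEquiv.subgroupCongr hP.symm).trans e2.symm))), htL⟩

/-- **case (C)** from the Sylow 2-subgroup of `L` -/
theorem concl_main (h0506 : S0506Stmt.{u}) (hZS : ZStarStmt.{u})
    (hT : ∀ (G : Type u) [Group G] [Finite G], IsSimpleGroup G → (∃ a b : G, a * b ≠ b * a) → TProp G)
    (h1173 : S1173Stmt.{u}) (hE : Env B (im A t A)) (hBt : B.t = H.tX) (hF : 4 ≤ Nat.card F) {L : Subgroup G}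
    (C : Conf L A t) (h1769 : CaseBSplit.LinSylow.{u, 0} L) (L0 : CLift H B D) (htL : t ∉ L)
    (hL : ∀ x, L0.f x ∈ L) {P : Sylow 2 L} (hP : (P : Subgroup L).map L.subtype = L0.f.range) :
    Cfsg.Agent.StdEven.Red.Concl L t := by
  rcases irr_or E with hc | ⟨τ, hτ⟩
  · exact concl_field h0506 hZS hT h1173 hE hBt hF C L0 hc htL hL hP
  · exact concl_split hF hτ htL h1769 hP

/-- **case (C)** from `Three` -/
theorem concl_three (h0506 : S0506Stmt.{u}) (hZS : ZStarStmt.{u})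
    (hT : ∀ (G : Type u) [Group G] [Finite G], IsSimpleGroup G → (∃ a b : G, a * b ≠ b * a) → TProp G)
    (h1173 : S1173Stmt.{u}) (b : Bridge H B) (D : Three B E) {L : Subgroup G} (C : Conf L A t)
    (h1769 : CaseBSplit.LinSylow.{u, 0} L) : Cfsg.Agent.StdEven.Red.Concl L t := by
  obtain ⟨htL, L0, hL, P, hP⟩ := CaseCGlue.exists_main b D C
  exact concl_main h0506 hZS hT h1173 b.env b.t_eq b.hF C h1769 L0 htL hL hP

omit E D in
/-- **case (C)** -/
theorem concl (h0506 : S0506Stmt.{u}) (hZS : ZStarStmt.{u})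
    (hT : ∀ (G : Type u) [Group G] [Finite G], IsSimpleGroup G → (∃ a b : G, a * b ≠ b * a) → TProp G)
    (h1173 : S1173Stmt.{u}) (b : Bridge H B) (S : ShortLayer B) (S' : LongLayer B) (he : S.e = 1) (hLe : S'.e = 0)
    (hLc : S'.c = 1) {L : Subgroup G} (C : Conf L A t) (h1769 : CaseBSplit.LinSylow.{u, 0} L) :
    Cfsg.Agent.StdEven.Red.Concl L t := by
  obtain ⟨E, ⟨D⟩⟩ := SgTwo.exists_two b.hF b.env.self b.env.weyl S S' he hLe hLc
  exact concl_three h0506 hZS hT h1173 b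
    (D.toThree b.hF b.env.self b.env.weyl.na_sq b.env.weyl.na_xa) C h1769

end final

end Cfsg.Agent.StdSpFour.CaseCEnd
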