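import Cfsg.Agent.StdSpFour.CaseCGlue
import Cfsg.Agent.StdSpFour.CaseCEnd
import Cfsg.Agent.StdSpFour.CaseCOdd
import Cfsg.Agent.StdSpFour.SgTwo
import Cfsg.Agent.StdSpFour.Trich

/-!
# S1778, type Sp₄(q): case (C) is complete

`concl`: from `Bridge H B` and both layers (`e = 1`, `e' = 0`, `c' = 1`) to the conclusion of S1778 (and the four inputs of
the closing, S1769 for `L`).  `concl_or`: the same for `B` or `swap B`.
-/

set_option autoImplicit false
set_option linter.unusedSectionVars false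

namespace Cfsg.Agent.StdSpFour.CaseCConcl

open Subgroup Cfsg Cfsg.Agent.StdSpFour Cfsg.Agent.StdSpFour.Comm Cfsg.Agent.StdSpFour.CaseC
  Cfsg.Agent.StdSpFour.Bridge Cfsg.Agent.StdSpFour.Swap
open Cfsg.Agent.StdEven.CoreQuot Cfsg.Agent.StdL2.Setup
open Cfsg.Agent.TwoFusion.Gold (TProp)
open Cfsg.Agent.StdSpFour.CloseComp Cfsg.Agent.StdSpFour.CloseLoc
open Cfsg.Agent.StdSpFour.CloseSyl (S0506Stmt)

universe u v

/-- the three layers from (C) -/
theorem exists_three {F : Type v} {G : Type u} [Field F] [CharP F 2] [Finite F] [Group G] [Finite G] {A : Subgroup G}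
    {t : G} {T : Subgroup G} {H : Hyp A t T} {B : Base F (XQ A t)} (b : Bridge H B) (hC : Trich.CaseC B) :
    ∃ E : F, Nonempty (Three B E) := by
  obtain ⟨S, L, h1, h2, -, h4⟩ := hC
  obtain ⟨E, ⟨D⟩⟩ := SgTwo.exists_two b.hF b.env.self b.env.weyl S L h1 h2 h4
  exact ⟨E, ⟨D.toThree b.hF b.env.self b.env.weyl.na_sq b.hna⟩⟩

variable {F : Type} {G : Type u} [Field F] [CharP F 2] [Finite F] [Group G] [Finite G] {A : Subgroup G} {t : G}
  {T : Subgroup G} {H : Hyp A t T} {B : Base F (XQ A t)}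

/-- **case (C)** -/
theorem concl (h0506 : S0506Stmt.{u}) (hZS : ZStarStmt.{u})
    (hT : ∀ (G : Type u) [Group G] [Finite G], IsSimpleGroup G → (∃ a b : G, a * b ≠ b * a) → TProp G)
    (h1173 : S1173Stmt.{u}) (b : Bridge H B) (hC : Trich.CaseC B) {L : Subgroup G} (C : Conf L A t)
    (h1769 : CaseBSplit.LinSylow.{u, 0} L) : Cfsg.Agent.StdEven.Red.Concl L t := by
  obtain ⟨E, ⟨D⟩⟩ := exists_three b hC
  obtain ⟨htL, L0, hL, P, hP⟩ := CaseCGlue.exists_main b D C
  exact CaseCEnd.concl_main h0506 hZS hT h1173 b.env b.t_eq b.hF C h1769 L0 htL hL hP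

/-- **case (C)**, up to the swap -/
theorem concl_or (h0506 : S0506Stmt.{u}) (hZS : ZStarStmt.{u})
    (hT : ∀ (G : Type u) [Group G] [Finite G], IsSimpleGroup G → (∃ a b : G, a * b ≠ b * a) → TProp G)
    (h1173 : S1173Stmt.{u}) (b : Bridge H B) (hC : Trich.CaseC B ∨ Trich.CaseC (swap B)) {L : Subgroup G}
    (C : Conf L A t) (h1769 : CaseBSplit.LinSylow.{u, 0} L) : Cfsg.Agent.StdEven.Red.Concl L t := by
  rcases hC with hC | hC
  · exact concl h0506 hZS hT h1173 b hC C h1769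
  · exact concl h0506 hZS hT h1173 b.swap hC C h1769

end Cfsg.Agent.StdSpFour.CaseCConcl
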