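import Mathlib

/-!
# The Sylow 2-subgroup of `U₅(q)`, `q` even: coordinates

`T5 K`: `K` a commutative ring of characteristic 2 with an involution `star`.  Elements `(w, c, y, d)`,
`w = (w₁, w₂, w₃)`, `c + c* = h(w, w)`, `d + d* = y y*`, where `h(w, w') = w₁ w₃'* + w₂ w₂'* + w₃ w₁'*`.
Roots: `w₁` = `a`, `w₂` = `{e₁}`, `w₃` = `a + b`, `c` = `2a + b`, `y` = `{e₂}`, `d` = `b`.
-/

set_option autoImplicit false
set_option linter.unusedSectionVars false

namespace Cfsg.Agent.StdSpFour.UFiveModel

variable {K : Type*} [CommRing K] [StarRing K]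

/-- The Sylow 2-subgroup of `U₅`. -/
@[ext] structure T5 (K : Type*) [CommRing K] [StarRing K] where
  w1 : K
  w2 : K
  w3 : K
  c : K
  y : K
  d : K
  hc : c + star c = w1 * star w3 + w2 * star w2 + w3 * star w1
  hd : d + star d = y * star y

namespace T5

section

variable [CharP K 2]

instance : Mul (T5 K) where
  mul g g' :=
    { w1 := g.w1 + g'.w1
      w2 := g.w2 + (g'.w2 + g.y * g'.w1)
      w3 := g.w3 + (g'.w3 + star g.y * g'.w2 + g.d * g'.w1)
      c := g.c + g'.c + (g.w1 * star (g'.w3 + star g.y * g'.w2 + g.d * g'.w1) + g.w2 * star (g'.w2 + g.y * g'.w1) +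
        g.w3 * star g'.w1)
      y := g.y + g'.y
      d := g.d + g'.d + star g.y * g'.y
      hc := by
        have h2 : (2 : K) = 0 := CharTwo.two_eq_zero
        have e1 := g.hc
        have e2 := g'.hc
        have e3 := g.hd
        simp only [star_add, star_mul', star_star]
        linear_combination e1 + e2 + g'.w1 * star g'.w1 * e3 - (g.y * g'.w1 * star g'.w2 + star g.y * g'.w2 * star g'.w1 + g'.w1 * star g'.w1 * g.d + g'.w1 * star g'.w1 * star g.d) * h2
      hd := by
        have h2 : (2 : K) = 0 := CharTwo.two_eq_zero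
        have e1 := g.hd
        have e2 := g'.hd
        simp only [star_add, star_mul', star_star]
        linear_combination e1 + e2 }

instance : One (T5 K) where
  one := ⟨0, 0, 0, 0, 0, 0, by simp, by simp⟩

instance : Inv (T5 K) where
  inv g :=
    { w1 := g.w1
      w2 := g.w2 + g.y * g.w1
      w3 := g.w3 + star g.y * g.w2 + star g.d * g.w1
      c := star g.c
      y := g.y
      d := star g.d
      hc := by
        have h2 : (2 : K) = 0 := CharTwo.two_eq_zero
        have e1 := g.hc
        have e3 := g.hd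
        simp only [star_add, star_mul', star_star]
        linear_combination e1 - g.w1 * star g.w1 * e3 - (g.y * g.w1 * star g.w2 + star g.y * g.w2 * star g.w1) * h2 -
          g.w1 * star g.w1 * g.y * star g.y * h2
      hd := by
        have e3 := g.hd
        rw [star_star, ← e3, add_comm] }

theorem mul_w1 (g g' : T5 K) : (g * g').w1 = g.w1 + g'.w1 := rfl
theorem mul_w2 (g g' : T5 K) : (g * g').w2 = g.w2 + (g'.w2 + g.y * g'.w1) := rfl
theorem mul_w3 (g g' : T5 K) : (g * g').w3 = g.w3 + (g'.w3 + star g.y * g'.w2 + g.d * g'.w1) := rfl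
theorem mul_c (g g' : T5 K) : (g * g').c = g.c + g'.c + (g.w1 * star (g'.w3 + star g.y * g'.w2 + g.d * g'.w1) +
  g.w2 * star (g'.w2 + g.y * g'.w1) + g.w3 * star g'.w1) := rfl
theorem mul_y (g g' : T5 K) : (g * g').y = g.y + g'.y := rfl
theorem mul_d (g g' : T5 K) : (g * g').d = g.d + g'.d + star g.y * g'.y := rfl
theorem one_w1 : (1 : T5 K).w1 = 0 := rfl
theorem one_w2 : (1 : T5 K).w2 = 0 := rfl
theorem one_w3 : (1 : T5 K).w3 = 0 := rfl
theorem one_c : (1 : T5 K).c = 0 := rfl
theorem one_y : (1 : T5 K).y = 0 := rfl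
theorem one_d : (1 : T5 K).d = 0 := rfl
theorem inv_w1 (g : T5 K) : (g⁻¹).w1 = g.w1 := rfl
theorem inv_w2 (g : T5 K) : (g⁻¹).w2 = g.w2 + g.y * g.w1 := rfl
theorem inv_w3 (g : T5 K) : (g⁻¹).w3 = g.w3 + star g.y * g.w2 + star g.d * g.w1 := rfl
theorem inv_c (g : T5 K) : (g⁻¹).c = star g.c := rfl
theorem inv_y (g : T5 K) : (g⁻¹).y = g.y := rfl
theorem inv_d (g : T5 K) : (g⁻¹).d = star g.d := rfl

instance : Group (T5 K) := Group.ofLeftAxioms
  (by
    intro g g' g''
    have h2 : (2 : K) = 0 := CharTwo.two_eq_zero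
    have e1 := g.hd
    ext
    · simp only [mul_w1]; ring
    · simp only [mul_w1, mul_w2, mul_y]; ring
    · simp only [mul_w1, mul_w2, mul_w3, mul_y, mul_d, star_add]; ring
    · simp only [mul_w1, mul_w2, mul_w3, mul_y, mul_d, mul_c, star_add, star_mul', star_star]
      linear_combination g'.w1 * star g''.w1 * e1 + (g.y * g'.w1 * star g''.w2 + g.y * g'.w1 * star g'.y * star g''.w1 +
        star g.y * star g''.w1 * g'.w2 + g.y * star g.y * g'.w1 * star g''.w1) * h2
    · simp only [mul_y]; ring
    · simp only [mul_d, mul_y, star_add]; ring)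
  (by
    intro g
    ext <;> simp [mul_w1, mul_w2, mul_w3, mul_y, mul_d, mul_c, one_w1, one_w2, one_w3, one_c, one_y, one_d])
  (by
    intro g
    have h2 : (2 : K) = 0 := CharTwo.two_eq_zero
    have e1 := g.hc
    have e3 := g.hd
    ext
    · simp only [mul_w1, inv_w1, one_w1]; linear_combination g.w1 * h2
    · simp only [mul_w2, inv_w2, inv_y, one_w2]; linear_combination (g.w2 + g.y * g.w1) * h2
    · simp only [mul_w3, inv_w3, inv_y, inv_d, one_w3]; linear_combination (g.w3 + star g.y * g.w2 + star g.d * g.w1) * h2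
    · simp only [mul_c, inv_w1, inv_w2, inv_w3, inv_y, inv_d, inv_c, one_c, star_add, star_mul', star_star]
      linear_combination e1 + g.w1 * star g.w1 * e3 + (g.w1 * star g.w3 + g.w1 * g.y * star g.w2 + star g.w2 * g.w2 +
        star g.w1 * g.w2 * star g.y + star g.w1 * g.w3 + g.w1 * star g.w1 * g.y * star g.y) * h2
    · simp only [mul_y, inv_y, one_y]; linear_combination g.y * h2
    · simp only [mul_d, inv_y, inv_d, one_d]; linear_combination e3 + g.y * star g.y * h2)

end

end T5

end Cfsg.Agent.StdSpFour.UFiveModel
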