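import Mathlib
import Cfsg.Agent.StdSpFour.CaseCOdd
import Cfsg.Agent.StdSpFour.UFiveModel

/-!
# S1778, type Sp₄(q), case (C): the homomorphism from the model `T5 (Rg E)`

`hom g = A(w₁) sg(w₂) sg'(y) · x_b(re d + N(y)) X(w₃) z_l(re(c + w₁ w̄₃))`.
-/
set_option autoImplicit false
set_option linter.unusedSectionVars false
set_option linter.unusedSimpArgs false
set_option linter.style.haveILetI false

namespace Cfsg.Agent.StdSpFour.CaseC

open Cfsg.Agent.StdSpFour Cfsg.Agent.StdSpFour.Comm QuadraticAlgebra Cfsg.Agent.StdSpFour.UFiveModel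

variable {F G : Type*} [Field F] [Group G] {B : Base F G} {E : F}

instance charP_Rg [CharP F 2] : CharP (Rg E) 2 :=
  charP_of_injective_algebraMap (R := F) (A := Rg E) QuadraticAlgebra.algebraMap_injective 2

namespace Three

variable [CharP F 2] (D : Three B E)

theorem RelFour : D.toTwo.RelFour 0 := by
  intro w w'
  rw [D.R4, Two.X_eq]
  have e : (w * star w' + (⟨0 * (w.im * w'.im), 0⟩ : Rg E)) = w * star w' := by ext <;> simp
  rw [e]

theorem r4 (w w' : Rg E) : D.sg' w * D.sg w' = D.sg w' * (D.sg' w * D.v4 0 (w' * star w) 0) := by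
  have h := Two.r4 D.toTwo D.RelFour w' w
  calc D.sg' w * D.sg w' = D.sg' w * D.sg w' * (D.v4 0 (w' * star w) 0 * D.v4 0 (w' * star w) 0) := by
        rw [Two.v4_sq, mul_one]
    _ = (D.sg' w * (D.sg w' * D.v4 0 (w' * star w) 0)) * D.v4 0 (w' * star w) 0 := by group
    _ = _ := by rw [← h]; group

theorem r4_a (w w' : Rg E) (z : G) : D.sg' w * (D.sg w' * z) =
    D.sg w' * (D.sg' w * (D.v4 0 (w' * star w) 0 * z)) := by
  rw [← mul_assoc, r4]; simp only [mul_assoc]

theorem r5 (w w' : Rg E) : D.sg' w * D.A w' =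
    D.A w' * (D.sg' w * (D.sg (w' * w) * D.v4 0 (nm w • (w' * th)) 0)) := by
  rw [D.R5, mul_assoc (D.toTwo.sg' w), (D.sg_X _ _).eq.symm, Two.X_eq]

theorem r5_a (w w' : Rg E) (z : G) : D.sg' w * (D.A w' * z) =
    D.A w' * (D.sg' w * (D.sg (w' * w) * (D.v4 0 (nm w • (w' * th)) 0 * z))) := by
  rw [← mul_assoc, r5]; simp only [mul_assoc]

/-- the map from the model -/
def toFun (g : T5 (Rg E)) : G :=
  D.A g.w1 * (D.sg g.w2 * (D.sg' g.y * D.v4 (g.d.re + nm g.y) g.w3 (g.c + g.w1 * star g.w3).re))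

theorem toFun_eq (g : T5 (Rg E)) : D.toFun g =
  D.A g.w1 * (D.sg g.w2 * (D.sg' g.y * D.v4 (g.d.re + nm g.y) g.w3 (g.c + g.w1 * star g.w3).re)) := rfl

theorem nfA_congr {a a' b b' y y' : Rg E} {s s' : F} {r r' : Rg E} {c c' : F} (ha : a = a') (hb : b = b')
    (hy : y = y') (hs : s = s') (hr : r = r') (hc : c = c') :
    D.A a * (D.sg b * (D.sg' y * D.v4 s r c)) = D.A a' * (D.sg b' * (D.sg' y' * D.v4 s' r' c')) := by
  rw [ha, hb, hy, hs, hr, hc]

theorem d_im (g : T5 (Rg E)) : g.d.im = nm g.y := by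
  have h := congrArg QuadraticAlgebra.re g.hd
  have h1 : (g.y * star g.y).re = nm g.y := by cmp; c2
  rw [h1] at h
  simp only [re_add, re_star] at h
  linear_combination (norm := c2n) h

theorem toFun_mul (g g' : T5 (Rg E)) : D.toFun (g * g') = D.toFun g * D.toFun g' := by
  simp only [toFun_eq]
  symm
  simp only [Two.v4_A, Two.v4_A_a, Two.v4_sg, Two.v4_sg_a, Two.v4_sg', Two.v4_sg'_a, Two.v4_mul, Two.v4_mul', Two.sg_sg,
    Two.sg_sg_a, Two.sg'_sg', Two.sg'_sg'_a, r4, r4_a, r5, r5_a, Two.A_A, Two.A_A_a, Two.sg_A_c, Two.sg_A_a, mul_assoc]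
  have hd := d_im g
  have hd' := d_im g'
  apply D.nfA_congr
  · rw [T5.mul_w1]
  · rw [T5.mul_w2]; ring
  · rw [T5.mul_y]
  · rw [T5.mul_y, T5.mul_d]
    cmp
    c2
  · rw [T5.mul_w3]
    ext
    · cmp
      rw [hd]
      cmp
      c2
    · cmp
      rw [hd]
      cmp
      c2
  · rw [T5.mul_c, T5.mul_w1, T5.mul_w3]
    cmp
    rw [hd]
    cmp
    c2

theorem toFun_one : D.toFun 1 = 1 := by
  have h := D.toFun_mul 1 1
  rw [mul_one] at h
  exact left_eq_mul.1 h

/-- **the homomorphism from the model** -/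
def hom : T5 (Rg E) →* G where
  toFun := D.toFun
  map_one' := D.toFun_one
  map_mul' := D.toFun_mul

theorem hom_apply (g : T5 (Rg E)) : D.hom g =
  D.A g.w1 * (D.sg g.w2 * (D.sg' g.y * D.v4 (g.d.re + nm g.y) g.w3 (g.c + g.w1 * star g.w3).re)) := rfl

theorem v4_inj' {s s' : F} {r r' : Rg E} {c c' : F} (h : D.v4 s r c = D.v4 s' r' c') :
    s = s' ∧ r = r' ∧ c = c' := D.toTwo.v4_inj h

theorem hom_inj : Function.Injective D.hom := by
  rw [injective_iff_map_eq_one]
  intro g hg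
  rw [hom_apply] at hg
  have h1 : g.w1 = 0 := by
    have k1 := D.toTwo.v4_A g.w1 1 0 0
    have k2 : D.A g.w1 = (D.sg g.w2 * (D.sg' g.y * D.v4 (g.d.re + nm g.y) g.w3 (g.c + g.w1 * star g.w3).re))⁻¹ :=
      eq_inv_of_mul_eq_one_left hg
    have k3 : Commute (D.A g.w1) (D.v4 1 0 0) := by
      rw [k2]
      exact ((D.toTwo.sg_v4 _ _ _ _).mul_left ((D.toTwo.sg'_v4 _ _ _ _).mul_left (D.toTwo.v4_comm _ _ _ _ _ _))).inv_left
    rw [← k3.eq] at k1
    have k4 := (D.v4_inj' (mul_left_cancel k1)).2.1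
    rw [zero_add, one_smul] at k4
    exact k4.symm
  rw [h1, Two.A_zero, one_mul] at hg
  have h2 : g.y = 0 := by
    -- `sg 1` commutes with `sg w2` modulo `z_l`
    have k1 := Two.r4 D.toTwo D.RelFour 1 g.y
    have k2 : D.sg' g.y = (D.sg g.w2)⁻¹ * D.v4 (g.d.re + nm g.y) g.w3 (g.c + 0 * star g.w3).re := by
      have k3 : D.sg' g.y * D.v4 (g.d.re + nm g.y) g.w3 (g.c + 0 * star g.w3).re = (D.sg g.w2)⁻¹ :=
        eq_inv_of_mul_eq_one_right hg
      rw [← k3, mul_assoc, Two.v4_sq, mul_one]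
    rw [k2, Two.sg_inv] at k1
    simp only [Two.v4_sg, Two.v4_sg_a, Two.sg_sg, Two.sg_sg_a, Two.v4_mul, Two.v4_mul', mul_assoc] at k1
    rw [add_comm 1 g.w2] at k1
    have k4 := congrArg star (D.v4_inj' (mul_left_cancel k1)).2.1
    simp only [zero_add, add_zero, one_mul, star_add, star_star] at k4
    have k5 : star g.w3 + 0 = star g.w3 + g.y := by
      rw [add_zero]
      linear_combination k4
    exact (add_left_cancel k5).symm
  rw [h2, Two.sg'_zero, one_mul] at hg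
  have h3 : g.w2 = 0 := by
    have k1 := Two.r4 D.toTwo D.RelFour g.w2 1
    have k2 : D.sg g.w2 = (D.v4 (g.d.re + nm 0) g.w3 (g.c + 0 * star g.w3).re)⁻¹ := eq_inv_of_mul_eq_one_left hg
    rw [k2, Two.v4_inv, Two.v4_sg'] at k1
    have k3 := mul_left_cancel k1
    rw [Two.v4_mul] at k3
    have k4 := (D.v4_inj' k3).2.1
    rw [star_one, mul_one] at k4
    exact left_eq_add.1 k4
  rw [h3, Two.sg_zero, one_mul] at hg
  obtain ⟨k1, k2, k3⟩ := D.toTwo.v4_eq_one hg
  have h4 := g.hc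
  have h5 := g.hd
  rw [h1, h3, k2] at h4
  rw [h2] at h5
  have n0 : nm (0 : Rg E) = 0 := by cmp; ring
  rw [n0, add_zero] at k1
  rw [zero_mul, add_zero] at k3
  have h4' := congrArg QuadraticAlgebra.re h4
  have h5' := congrArg QuadraticAlgebra.re h5
  simp only [re_add, re_star, re_mul, im_star, re_zero, im_zero, star_zero, mul_zero, zero_mul, add_zero] at h4' h5'
  ext
  · rw [h1]; rfl
  · rw [h1]; rfl
  · rw [h3]; rfl
  · rw [h3]; rfl
  · rw [k2]; rfl
  · rw [k2]; rfl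
  · rw [k3]; rfl
  · show g.c.im = 0
    rw [k3] at h4'
    linear_combination (norm := c2n) h4'
  · rw [h2]; rfl
  · rw [h2]; rfl
  · rw [k1]; rfl
  · show g.d.im = 0
    rw [k1] at h5'
    linear_combination (norm := c2n) h5'

/-! ### the action of `t` -/

/-- the automorphism `star` of `T5 K` -/
def st {K : Type*} [CommRing K] [StarRing K] (g : T5 K) : T5 K where
  w1 := star g.w1
  w2 := star g.w2
  w3 := star g.w3
  c := star g.c
  y := star g.y
  d := star g.d
  hc := by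
    have h := congrArg star g.hc
    simp only [star_add, star_mul', star_star] at h ⊢
    linear_combination h
  hd := by
    have h := congrArg star g.hd
    simp only [star_add, star_mul', star_star] at h ⊢
    linear_combination h

theorem t_A' (w : Rg E) : B.t * D.A w = D.A (star w) * B.t := by
  have h1 := D.t_A w
  have h2 : star w = w + (⟨w.im, 0⟩ : Rg E) := by ext <;> cmp <;> c2
  rw [h2, D.A_add, D.A_re, h1, (B.t_xa w.im).eq, mul_assoc]

theorem t_v4' (s : F) (r : Rg E) (c : F) : B.t * D.v4 s r c = D.v4 s (star r) c * B.t := by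
  rw [← Two.cj_t_v4, mul_assoc, B.tt, mul_one]

theorem nm_eq_re (w : Rg E) : (w * star w).re = nm w := by cmp; c2

theorem t_sg' (w : Rg E) : B.t * D.sg w = D.sg (star w) * (D.v4 0 0 (nm w) * B.t) := by
  have h1 : B.t * D.sg w = D.sg w * cj (D.sg w) B.t := mul_eq_cj _ _
  rw [Two.cj_sg_t] at h1
  -- `t * sg x = sg x * v4 0 0 (x^2) * t`
  have h2 : ∀ x : F, B.t * D.sg ⟨x, 0⟩ = D.sg ⟨x, 0⟩ * (D.v4 0 0 (x ^ 2) * B.t) := by
    intro x
    have h1 : B.t * D.sg ⟨x, 0⟩ = D.sg ⟨x, 0⟩ * cj (D.sg ⟨x, 0⟩) B.t := mul_eq_cj _ _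
    rw [Two.cj_sg_t] at h1
    rw [h1]
    have e1 : D.sg (⟨(⟨x, 0⟩ : Rg E).im, 0⟩ : Rg E) = 1 := D.toTwo.sg_zero
    rw [e1, one_mul, t_v4', star_zero]
    congr 3
    cmp
    ring
  rw [h1]
  have h3 : B.t * (D.sg ⟨w.im, 0⟩ * D.v4 0 0 (star w * star w).re) =
      (B.t * D.sg ⟨w.im, 0⟩) * D.v4 0 0 (star w * star w).re := by group
  rw [h3, h2, mul_assoc, mul_assoc, t_v4', star_zero, Two.v4_mul', Two.sg_sg_a, Two.v4_mul']
  have e2 : star w = w + (⟨w.im, 0⟩ : Rg E) := by ext <;> cmp <;> c2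
  rw [← e2]
  congr 3
  · ring
  · ring
  · cmp; c2

theorem t_sg'' (w : Rg E) : B.t * D.sg' w = D.sg' (star w) * (D.v4 (nm w) 0 0 * B.t) := by
  have h := congrArg (MulAut.conj B.na) (D.t_sg' w)
  simp only [map_mul, ← Two.sg'_eq, Prime.cj_na_t, Two.cjm_na_v4, star_zero] at h
  exact h

theorem t_hom (g : T5 (Rg E)) : B.t * D.hom g = D.hom (st g) * B.t := by
  rw [hom_apply, hom_apply]
  have a1 : ∀ z, B.t * (D.A g.w1 * z) = D.A (star g.w1) * (B.t * z) := fun z => by
    rw [← mul_assoc, t_A', mul_assoc]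
  have a2 : ∀ z, B.t * (D.sg g.w2 * z) = D.sg (star g.w2) * (D.v4 0 0 (nm g.w2) * (B.t * z)) := fun z => by
    rw [← mul_assoc, t_sg']; simp only [mul_assoc]
  have a3 : ∀ z, B.t * (D.sg' g.y * z) = D.sg' (star g.y) * (D.v4 (nm g.y) 0 0 * (B.t * z)) := fun z => by
    rw [← mul_assoc, t_sg'']; simp only [mul_assoc]
  rw [a1, a2, a3, t_v4']
  simp only [Two.v4_sg', Two.v4_sg'_a, Two.v4_mul, Two.v4_mul', mul_assoc]
  have e1 := g.hc
  have e2 := congrArg QuadraticAlgebra.re e1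
  show _ = D.A (star g.w1) * (D.sg (star g.w2) * (D.sg' (star g.y) * (D.v4 ((star g.d).re + nm (star g.y)) (star g.w3)
    (star g.c + star g.w1 * star (star g.w3)).re * B.t)))
  congr 4
  congr 1
  · have := d_im g
    cmp
    rw [this]
    cmp
    c2
  · ring
  · simp only [nm, re_mul, im_mul, re_add, im_add, re_star, im_star, star_star] at e2 ⊢
    linear_combination (norm := c2n) e2

/-! ### the torus -/

/-- the action of `h(α, γ²)` -/
def hT (α γ : F) (g : T5 (Rg E)) : T5 (Rg E) where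
  w1 := α • g.w1
  w2 := (α * γ) • g.w2
  w3 := (α * γ ^ 2) • g.w3
  c := ((α * γ) ^ 2) • g.c
  y := γ • g.y
  d := (γ ^ 2) • g.d
  hc := by
    have h := g.hc
    have h1 := congrArg QuadraticAlgebra.re h
    have h2 := congrArg QuadraticAlgebra.im h
    simp only [re_add, im_add, re_mul, im_mul, re_star, im_star] at h1 h2
    ext
    · cmp; linear_combination (α * γ) ^ 2 * h1
    · cmp; linear_combination (α * γ) ^ 2 * h2
  hd := by
    have h := g.hd
    have h1 := congrArg QuadraticAlgebra.re h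
    have h2 := congrArg QuadraticAlgebra.im h
    simp only [re_add, im_add, re_mul, im_mul, re_star, im_star] at h1 h2
    ext
    · cmp; linear_combination γ ^ 2 * h1
    · cmp; linear_combination γ ^ 2 * h2

theorem cjh_hom (α γ : Fˣ) (g : T5 (Rg E)) :
    MulAut.conj (B.h α (γ ^ 2)) (D.hom g) = D.hom (hT (α : F) (γ : F) g) := by
  rw [hom_apply, hom_apply]
  simp only [map_mul, Two.cjh_A, Two.cjh_sg, Two.cjh_sg', Two.cjh_v4]
  apply D.nfA_congr rfl rfl rfl
  · simp only [hT]; cmp; ring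
  · rfl
  · simp only [hT]; cmp; ring

theorem h_hom (α γ : Fˣ) (g : T5 (Rg E)) :
    B.h α (γ ^ 2) * D.hom g = D.hom (hT (α : F) (γ : F) g) * B.h α (γ ^ 2) := by
  rw [← cjh_hom, MulAut.conj_apply, inv_mul_cancel_right]

/-! ### `nb` on `Q`, `na` on `{w₁ = 0}` -/

/-- the action of `nb` on `Q = {y = d = 0}` -/
def nbT {K : Type*} [CommRing K] [StarRing K] (g : T5 K) : T5 K where
  w1 := g.w3
  w2 := g.w2
  w3 := g.w1
  c := g.c
  y := 0
  d := 0
  hc := by rw [g.hc]; ring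
  hd := by simp

theorem nb_hom {g : T5 (Rg E)} (hy : g.y = 0) (hd : g.d = 0) : B.nb * D.hom g = D.hom (nbT g) * B.nb := by
  rw [hom_apply, hom_apply, hy, hd]
  show _ = D.A g.w3 * (D.sg g.w2 * (D.sg' 0 * D.v4 ((0 : Rg E).re + nm (0 : Rg E)) g.w1 (g.c + g.w3 * star g.w1).re)) *
    B.nb
  have n0 : (0 : Rg E).re + nm (0 : Rg E) = 0 := by cmp; ring
  rw [n0, Two.sg'_zero, one_mul, one_mul]
  unfold Two.v4
  have h1 := D.nb_A g.w1
  have h2 := D.nb_X g.w3
  have h3 := (D.sg_nb g.w2).eq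
  have h4 := B.nb_zl (g.c + g.w1 * star g.w3).re
  rw [xb_zero, one_mul, one_mul]
  calc B.nb * (D.A g.w1 * (D.sg g.w2 * (D.X g.w3 * B.zl (g.c + g.w1 * star g.w3).re)))
      = (B.nb * D.A g.w1) * D.sg g.w2 * (D.X g.w3 * B.zl (g.c + g.w1 * star g.w3).re) := by group
    _ = D.X g.w1 * (B.nb * D.sg g.w2) * (D.X g.w3 * B.zl (g.c + g.w1 * star g.w3).re) := by rw [h1]; group
    _ = D.X g.w1 * D.sg g.w2 * (B.nb * D.X g.w3) * B.zl (g.c + g.w1 * star g.w3).re := by rw [← h3]; group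
    _ = D.X g.w1 * D.sg g.w2 * D.A g.w3 * (B.nb * B.zl (g.c + g.w1 * star g.w3).re) := by rw [h2]; group
    _ = (D.X g.w1 * (D.sg g.w2 * D.A g.w3)) * B.zl (g.c + g.w1 * star g.w3).re * B.nb := by rw [h4]; group
    _ = _ := by
      rw [Two.X_eq, Two.zl_eq D.toTwo, Two.zl_eq D.toTwo, Two.sg_A_c]
      simp only [Two.v4_A, Two.v4_A_a, Two.v4_sg, Two.v4_sg_a, Two.v4_mul, Two.v4_mul', mul_assoc]
      congr 3
      congr 1
      · rw [zero_smul, add_zero, add_zero]
      · cmp; c2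

/-- the action of `na` on `{w₁ = 0}` -/
def naT {K : Type*} [CommRing K] [StarRing K] [CharP K 2] (g : T5 K) (h : g.w1 = 0) : T5 K where
  w1 := 0
  w2 := g.y
  w3 := star g.w3 + g.y * star g.w2
  c := star g.d
  y := g.w2
  d := star g.c
  hc := by
    have h1 := g.hd
    simp only [star_star, star_zero]
    linear_combination h1
  hd := by
    have h1 := g.hc
    rw [h] at h1
    simp only [star_star]
    simp only [star_zero] at h1
    linear_combination h1

theorem na_hom (hna : B.na * B.na = 1) {g : T5 (Rg E)} (h : g.w1 = 0) : B.na * D.hom g = D.hom (naT g h) * B.na := by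
  have e : B.na⁻¹ = B.na := inv_eq_of_mul_eq_one_left hna
  have hd := d_im g
  have hc := congrArg QuadraticAlgebra.re g.hc
  rw [h] at hc
  rw [hom_apply, hom_apply, h]
  show _ = D.A 0 * (D.sg g.y * (D.sg' g.w2 * D.v4 ((star g.c).re + nm g.w2) (star g.w3 + g.y * star g.w2)
    (star g.d + 0 * star (star g.w3 + g.y * star g.w2)).re)) * B.na
  rw [Two.A_zero, one_mul, one_mul]
  have h1 := D.toTwo.cj_na_sg hna g.w2
  have h2 := D.toTwo.cj_na_sg' hna g.y
  have h3 : B.na * (D.sg g.w2 * (D.sg' g.y * D.v4 (g.d.re + nm g.y) g.w3 (g.c + 0 * star g.w3).re)) * B.na⁻¹ =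
      D.sg' g.w2 * (D.sg g.y * D.v4 (g.c + 0 * star g.w3).re (star g.w3) (g.d.re + nm g.y)) := by
    have k := D.toTwo.cj_na_v4 (g.d.re + nm g.y) g.w3 (g.c + 0 * star g.w3).re
    rw [cj, e] at h1 h2 k
    rw [e]
    calc B.na * (D.sg g.w2 * (D.sg' g.y * D.v4 (g.d.re + nm g.y) g.w3 (g.c + 0 * star g.w3).re)) * B.na
        = (B.na * D.sg g.w2 * 1) * (D.sg' g.y * 1) * D.v4 (g.d.re + nm g.y) g.w3 (g.c + 0 * star g.w3).re * B.na := by
          group
      _ = (B.na * D.sg g.w2 * B.na) * ((B.na * D.sg' g.y * B.na) *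
          (B.na * D.v4 (g.d.re + nm g.y) g.w3 (g.c + 0 * star g.w3).re * B.na)) := by rw [← hna]; group
      _ = _ := by rw [h1, h2, k]
  rw [← mul_inv_eq_iff_eq_mul, h3, r4_a, Two.v4_mul]
  congr 3
  · rw [zero_mul, add_zero, zero_add]
    simp only [star_zero, mul_zero, zero_mul, zero_add, add_zero, nm, re_mul, im_mul, re_add, im_add, re_star, im_star]
      at hc ⊢
    linear_combination (norm := c2n) hc
  · rw [add_comm]
  · rw [zero_mul, add_zero, zero_add, re_star, hd]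
    cmp
    c2

end Three

/-! ### the order of the model -/

section card

variable [CharP F 2]

theorem c_im (g : T5 (Rg E)) : g.c.im = (g.w1 * star g.w3).im + nm g.w2 := by
  have h := congrArg QuadraticAlgebra.re g.hc
  simp only [nm, re_add, re_star, re_mul, im_mul, im_star] at h ⊢
  linear_combination (norm := c2n) h

theorem d_im' (g : T5 (Rg E)) : g.d.im = nm g.y := by
  have h := congrArg QuadraticAlgebra.re g.hd
  simp only [nm, re_add, re_star, re_mul, im_mul, im_star] at h ⊢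
  linear_combination (norm := c2n) h

/-- coordinates of the model -/
def equivT (E : F) : T5 (Rg E) ≃ Rg E × Rg E × Rg E × Rg E × F × F where
  toFun g := (g.w1, g.w2, g.w3, g.y, g.c.re, g.d.re)
  invFun p :=
    { w1 := p.1
      w2 := p.2.1
      w3 := p.2.2.1
      y := p.2.2.2.1
      c := ⟨p.2.2.2.2.1, (p.1 * star p.2.2.1).im + nm p.2.1⟩
      d := ⟨p.2.2.2.2.2, nm p.2.2.2.1⟩
      hc := by ext <;> cmp <;> c2
      hd := by ext <;> cmp <;> c2 }
  left_inv g := by
    ext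
    · rfl
    · rfl
    · rfl
    · rfl
    · rfl
    · rfl
    · rfl
    · exact (c_im g).symm
    · rfl
    · rfl
    · rfl
    · exact (d_im' g).symm
  right_inv p := rfl

theorem card_T5 (E : F) : Nat.card (T5 (Rg E)) = Nat.card F ^ 10 := by
  rw [Nat.card_congr (equivT E)]
  simp only [Nat.card_prod]
  rw [Nat.card_congr (QuadraticAlgebra.equivProd E (1 : F)), Nat.card_prod]
  ring

instance [Finite F] : Finite (Rg E) := Finite.of_equiv _ (QuadraticAlgebra.equivProd E (1 : F)).symm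

instance [Finite F] : Finite (T5 (Rg E)) := Finite.of_equiv _ (equivT E).symm

end card

end Cfsg.Agent.StdSpFour.CaseC
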