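import Cfsg.Agent.StdSpFour.CaseCDefs
import Cfsg.Agent.StdSpFour.UFiveModel
import Cfsg.Agent.StdRank2.OutField

/-!
# S1778, type Sp₄(q), case (C): the model `T5 (Rg E)`

Semilinear endomorphisms, `tau`, Hilbert 90, involutions, counting.
-/

set_option autoImplicit false
set_option linter.unusedSectionVars false

namespace Cfsg.Agent.StdSpFour.CaseCInv

open Cfsg.Agent.StdSpFour.CaseC Cfsg.Agent.StdSpFour.UFiveModel Cfsg.Agent.StdRank2.OutField QuadraticAlgebra

section two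

variable {K : Type*} [CommRing K] [CharP K 2]

theorem two0 : (2 : K) = 0 := CharTwo.two_eq_zero

theorem n4 : (4 : K) = 0 := by rw [show (4 : K) = 2 * 2 by norm_num, two0, zero_mul]
theorem n6 : (6 : K) = 0 := by rw [show (6 : K) = 2 * 3 by norm_num, two0, zero_mul]
theorem n8 : (8 : K) = 0 := by rw [show (8 : K) = 2 * 4 by norm_num, two0, zero_mul]

theorem eq_of_add {x y : K} (h : x + y = 0) : x = y := by
  linear_combination h - y * two0 (K := K)

end two

/-- normalisation modulo 2 -/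
macro "c2n" : tactic => `(tactic| (ring_nf; try simp only [two0, n4, n6, n8, mul_zero,
  zero_mul, add_zero, zero_add, sub_zero, neg_zero]))

section generic

variable {K : Type*} [CommRing K] [StarRing K] [CharP K 2]

/-- the endomorphism of `T5 K` induced by `s : K →+* K` commuting with `star` -/
def map (s : K →+* K) (hs : ∀ w, s (star w) = star (s w)) : T5 K →* T5 K where
  toFun x :=
    { w1 := s x.w1
      w2 := s x.w2
      w3 := s x.w3
      c := s x.c
      y := s x.y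
      d := s x.d
      hc := by rw [← hs, ← hs, ← hs, ← hs, ← map_add, x.hc]; simp only [map_add, map_mul]
      hd := by rw [← hs, ← hs, ← map_add, x.hd, map_mul] }
  map_one' := by ext <;> simp [T5.one_w1, T5.one_w2, T5.one_w3, T5.one_c, T5.one_y, T5.one_d]
  map_mul' x y := by
    ext <;> simp only [T5.mul_w1, T5.mul_w2, T5.mul_w3, T5.mul_c, T5.mul_y, T5.mul_d, map_add, map_mul, hs]

variable {s : K →+* K} {hs : ∀ w, s (star w) = star (s w)}

theorem map_w1 (x : T5 K) : (map s hs x).w1 = s x.w1 := rfl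
theorem map_w2 (x : T5 K) : (map s hs x).w2 = s x.w2 := rfl
theorem map_w3 (x : T5 K) : (map s hs x).w3 = s x.w3 := rfl
theorem map_c (x : T5 K) : (map s hs x).c = s x.c := rfl
theorem map_y (x : T5 K) : (map s hs x).y = s x.y := rfl
theorem map_d (x : T5 K) : (map s hs x).d = s x.d := rfl

/-- the action of `t` -/
def tau : T5 K →* T5 K := map (starRingEnd K) (fun _ => rfl)

theorem tau_w1 (x : T5 K) : (tau x).w1 = star x.w1 := rfl
theorem tau_w2 (x : T5 K) : (tau x).w2 = star x.w2 := rfl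
theorem tau_w3 (x : T5 K) : (tau x).w3 = star x.w3 := rfl
theorem tau_c (x : T5 K) : (tau x).c = star x.c := rfl
theorem tau_y (x : T5 K) : (tau x).y = star x.y := rfl
theorem tau_d (x : T5 K) : (tau x).d = star x.d := rfl

theorem tau_tau (x : T5 K) : tau (tau x) = x := by
  ext <;> simp only [tau_w1, tau_w2, tau_w3, tau_c, tau_y, tau_d, star_star]

/-- root elements -/
def eA (w : K) : T5 K := ⟨w, 0, 0, 0, 0, 0, by simp, by simp⟩
def eX (w : K) : T5 K := ⟨0, 0, w, 0, 0, 0, by simp, by simp⟩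

section

variable {φ : T5 K →* T5 K}

theorem sol_conj {M : Type*} [Group M] {φ : M →* M} {x y1 : M} (h : ∃ y, φ y * (φ y1 * x * y1⁻¹) = y) :
    ∃ y, φ y * x = y := by
  obtain ⟨y, hy⟩ := h
  refine ⟨y * y1, ?_⟩
  calc φ (y * y1) * x = φ y * (φ y1 * x * y1⁻¹) * y1 := by rw [map_mul]; group
    _ = _ := by rw [hy]

theorem tw_conj {M : Type*} [Group M] {φ : M →* M} (hφ : ∀ x, φ (φ x) = x) {x y1 : M} (h : φ x * x = 1) :
    φ (φ y1 * x * y1⁻¹) * (φ y1 * x * y1⁻¹) = 1 := by
  calc φ (φ y1 * x * y1⁻¹) * (φ y1 * x * y1⁻¹) = φ (φ y1) * φ x * (φ y1)⁻¹ * (φ y1 * x * y1⁻¹) := by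
        rw [map_mul, map_mul, map_inv]
    _ = y1 * (φ x * x) * y1⁻¹ := by rw [hφ]; group
    _ = 1 := by rw [h]; group

end

macro "t5" : tactic => `(tactic| simp only [T5.mul_w1, T5.mul_w2, T5.mul_w3, T5.mul_c, T5.mul_y, T5.mul_d,
  T5.inv_w1, T5.inv_w2, T5.inv_w3, T5.inv_c, T5.inv_y, T5.inv_d, T5.one_w1, T5.one_w2, T5.one_w3, T5.one_c, T5.one_y,
  T5.one_d, map_w1, map_w2, map_w3, map_c, map_y, map_d, tau_w1, tau_w2, tau_w3, tau_c, tau_y, tau_d,
  star_add, star_mul', star_star, star_zero, star_one, map_add, map_mul, map_zero, map_one, mul_zero, zero_mul,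
  add_zero, zero_add])

macro "t5" "at" h:ident : tactic => `(tactic| simp only [T5.mul_w1, T5.mul_w2, T5.mul_w3, T5.mul_c, T5.mul_y, T5.mul_d,
  T5.inv_w1, T5.inv_w2, T5.inv_w3, T5.inv_c, T5.inv_y, T5.inv_d, T5.one_w1, T5.one_w2, T5.one_w3, T5.one_c, T5.one_y,
  T5.one_d, map_w1, map_w2, map_w3, map_c, map_y, map_d, tau_w1, tau_w2, tau_w3, tau_c, tau_y, tau_d,
  star_add, star_mul', star_star, star_zero, star_one, map_add, map_mul, map_zero, map_one, mul_zero, zero_mul,
  add_zero, zero_add] at $h:ident)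

/-- **Hilbert 90** for a semilinear involution with a trace element `u` fixed by `star` -/
theorem h90 (hss : ∀ w, s (s w) = w) {u θ : K} (hu : star u = u) (hsu : u + s u = 1) (hθ : θ + star θ = 1)
    {x : T5 K} (hx : map s hs x * x = 1) : ∃ y, map s hs y * x = y := by
  have hmm : ∀ z : T5 K, map s hs (map s hs z) = z := by
    intro z
    ext <;> simp only [map_w1, map_w2, map_w3, map_c, map_y, map_d, hss]
  have key : ∀ w : K, s w + w = 0 → s u * s w + w + u * w = 0 := by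
    intro w hw
    linear_combination (norm := c2n) s u * hw + w * hsu
  -- kill `w1`
  suffices H : ∀ x : T5 K, map s hs x * x = 1 → x.w1 = 0 → ∃ y, map s hs y * x = y by
    refine sol_conj (y1 := eA (u * x.w1)) (H _ (tw_conj hmm hx) ?_)
    have h3 := congrArg T5.w1 hx
    t5 at h3
    show s (u * x.w1) + x.w1 + u * x.w1 = 0
    rw [map_mul]
    exact key _ h3
  clear hx x
  -- kill `y`
  suffices H : ∀ x : T5 K, map s hs x * x = 1 → x.w1 = 0 → x.y = 0 → ∃ y, map s hs y * x = y by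
    intro x hx h1
    have h3 := congrArg T5.y hx
    t5 at h3
    refine sol_conj (y1 := ⟨0, 0, 0, 0, u * x.y, (u * x.y) * star (u * x.y) * θ, by simp, by
      simp only [star_mul', star_star]; linear_combination (u * x.y * (star u * star x.y)) * hθ⟩)
      (H _ (tw_conj hmm hx) ?_ ?_)
    · t5; exact h1
    · show s (u * x.y) + x.y + u * x.y = 0
      rw [map_mul]
      exact key _ h3
  -- kill `w2`
  suffices H : ∀ x : T5 K, map s hs x * x = 1 → x.w1 = 0 → x.y = 0 → x.w2 = 0 → ∃ y, map s hs y * x = y by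
    intro x hx h1 h2
    have h3 := congrArg T5.w2 hx
    t5 at h3
    rw [h1, h2] at h3
    t5 at h3
    refine sol_conj (y1 := ⟨0, u * x.w2, 0, (u * x.w2) * star (u * x.w2) * θ, 0, 0, by
      simp only [star_mul', star_star, star_zero]; linear_combination (u * x.w2 * (star u * star x.w2)) * hθ, by simp⟩)
      (H _ (tw_conj hmm hx) ?_ ?_ ?_)
    · t5; exact h1
    · t5; exact h2
    · t5
      linear_combination key _ h3
  -- kill `d`
  suffices H : ∀ x : T5 K, map s hs x * x = 1 → x.w1 = 0 → x.y = 0 → x.w2 = 0 → x.d = 0 → ∃ y, map s hs y * x = y by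
    intro x hx h1 h2 h4
    have h3 := congrArg T5.d hx
    t5 at h3
    rw [h2] at h3
    t5 at h3
    have h5 := x.hd
    rw [h2, zero_mul] at h5
    have h6 : star x.d = x.d := by linear_combination (norm := c2n) h5
    refine sol_conj (y1 := ⟨0, 0, 0, 0, 0, u * x.d, by simp, by
      rw [star_mul', hu, h6]; linear_combination (norm := c2n)⟩)
      (H _ (tw_conj hmm hx) ?_ ?_ ?_ ?_)
    · t5; exact h1
    · t5; exact h2
    · t5; exact h4
    · t5
      rw [hu, h6]
      linear_combination key _ h3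
  -- kill `w3`
  suffices H : ∀ x : T5 K, map s hs x * x = 1 → x.w1 = 0 → x.y = 0 → x.w2 = 0 → x.d = 0 → x.w3 = 0 →
      ∃ y, map s hs y * x = y by
    intro x hx h1 h2 h4 h5
    have h3 := congrArg T5.w3 hx
    t5 at h3
    rw [h1, h4] at h3
    t5 at h3
    refine sol_conj (y1 := eX (u * x.w3)) (H _ (tw_conj hmm hx) ?_ ?_ ?_ ?_ ?_)
    · show s 0 + x.w1 + 0 = 0
      rw [h1, map_zero]; ring
    · show s 0 + x.y + 0 = 0
      rw [h2, map_zero]; ring
    · unfold eX; t5; exact h4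
    · unfold eX; t5; exact h5
    · unfold eX; t5
      linear_combination key _ h3
  intro x hx h1 h2 h4 h5 h6
  have h3 := congrArg T5.c hx
  t5 at h3
  rw [h1, h4, h6] at h3
  t5 at h3
  have h7 := x.hc
  rw [h1, h4, h6] at h7
  t5 at h7
  have h8 : star x.c = x.c := by linear_combination (norm := c2n) h7
  refine ⟨⟨0, 0, 0, u * x.c, 0, 0, by rw [star_mul', hu, h8]; linear_combination (norm := c2n), by simp⟩, ?_⟩
  ext
  · t5; exact h1
  · t5; rw [h4]
  · t5; exact h6
  · t5; linear_combination (norm := c2n) key _ h3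
  · t5; exact h2
  · t5; exact h5

/-- the involutions of `t T` are conjugate to `t` under `T` -/
theorem tau_h90 (hsq : ∀ c : K, ∃ v, v * v = c) (hred : ∀ a : K, a * a = 0 → a = 0) {θ : K} (hθ : θ + star θ = 1)
    {x : T5 K} (hx : tau x * x = 1) : ∃ y, tau y * x = y := by
  have key : ∀ w : K, star w + w = 0 → star θ * star w + w + θ * w = 0 := by
    intro w hw
    linear_combination (norm := c2n) star θ * hw + w * hθ
  have hinj : ∀ a b : K, a * a = b * b → a = b := by
    intro a b h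
    apply eq_of_add
    apply hred
    linear_combination (norm := c2n) h
  -- kill `w1`
  suffices H : ∀ x : T5 K, tau x * x = 1 → x.w1 = 0 → ∃ y, tau y * x = y by
    refine sol_conj (y1 := eA (θ * x.w1)) (H _ (tw_conj tau_tau hx) ?_)
    have h3 := congrArg T5.w1 hx
    t5 at h3
    show star (θ * x.w1) + x.w1 + θ * x.w1 = 0
    rw [star_mul']
    exact key _ h3
  clear hx x
  -- kill `y`, `d`
  suffices H : ∀ x : T5 K, tau x * x = 1 → x.w1 = 0 → x.y = 0 → x.d = 0 → ∃ y, tau y * x = y by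
    intro x hx h1
    have h3 := congrArg T5.y hx
    t5 at h3
    obtain ⟨v, hv⟩ := hsq x.d
    have h4 : star v + v = x.y := by
      apply hinj
      have h5 : star v * star v = star x.d := by rw [← hv, star_mul']
      linear_combination (norm := c2n) h5 + hv + x.hd + x.y * h3
    refine sol_conj (y1 := ⟨0, 0, 0, 0, v, v * star v * θ, by simp, by
      simp only [star_mul', star_star]; linear_combination (v * star v) * hθ⟩)
      (H _ (tw_conj tau_tau hx) ?_ ?_ ?_)
    · t5; exact h1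
    · t5
      linear_combination (norm := c2n) h4
    · t5
      linear_combination (norm := c2n) v * h3 + hv
  -- kill `w2`, `c`
  suffices H : ∀ x : T5 K, tau x * x = 1 → x.w1 = 0 → x.y = 0 → x.d = 0 → x.w2 = 0 → x.c = 0 → ∃ y, tau y * x = y by
    intro x hx h1 h2 h5
    have h3 := congrArg T5.w2 hx
    t5 at h3
    rw [h1, h2] at h3
    t5 at h3
    obtain ⟨v', hv'⟩ := hsq x.c
    obtain ⟨v, rfl⟩ : ∃ v, v' = star v := ⟨star v', (star_star _).symm⟩
    have h4 : star v + v = x.w2 := by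
      apply hinj
      have h5 : v * v = star x.c := by rw [← hv', star_mul', star_star]
      have h6 := x.hc
      rw [h1] at h6
      t5 at h6
      linear_combination (norm := c2n) h5 + hv' + h6 + x.w2 * h3
    refine sol_conj (y1 := ⟨0, v, 0, v * star v * θ, 0, 0, by
      simp only [star_mul', star_star, star_zero]; linear_combination (v * star v) * hθ, by simp⟩)
      (H _ (tw_conj tau_tau hx) ?_ ?_ ?_ ?_ ?_)
    · t5; exact h1
    · t5; exact h2
    · t5; exact h5
    · t5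
      linear_combination (norm := c2n) h4
    · t5
      rw [h1]
      linear_combination (norm := c2n) star v * h3 + hv'
  intro x hx h1 h2 h4 h5 h6
  have h3 := congrArg T5.w3 hx
  t5 at h3
  rw [h1, h5] at h3
  t5 at h3
  refine ⟨eX (θ * x.w3), ?_⟩
  unfold eX
  ext
  · t5; exact h1
  · t5; rw [h5]
  · t5; linear_combination (norm := c2n) key _ h3
  · t5; rw [h6, h1]; simp
  · t5; exact h2
  · t5; exact h4

end generic

/-! ### the ring `Rg E` -/

section concrete

variable {F : Type*} [Field F] [CharP F 2] {E : F}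

instance charRg : CharP (Rg E) 2 :=
  charP_of_injective_algebraMap (R := F) (A := Rg E) QuadraticAlgebra.algebraMap_injective 2

/-- components -/
macro "cm" : tactic => `(tactic| simp only [nm, th, re_mul, im_mul, re_add, im_add, re_star, im_star, re_smul, im_smul,
  smul_eq_mul, re_zero, im_zero, re_one, im_one, re_neg, im_neg])

theorem th_add : (th : Rg E) + star th = 1 := by
  ext <;> cm <;> linear_combination (norm := c2n)

theorem star_ofF (a : F) : star (⟨a, 0⟩ : Rg E) = ⟨a, 0⟩ := by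
  ext <;> cm <;> ring

theorem eq_ofF {w : Rg E} (h : w + star w = 0) : w = ⟨w.re, 0⟩ := by
  have h1 := congrArg re h
  simp only [re_add, re_star, re_zero] at h1
  ext
  · rfl
  · show w.im = 0
    linear_combination (norm := c2n) h1

theorem eq_ofF' {w : Rg E} (h : star w = w) : w = ⟨w.re, 0⟩ :=
  eq_ofF (by rw [h]; exact CharTwo.add_self_eq_zero w)

theorem hred (a : Rg E) (h : a * a = 0) : a = 0 := by
  have h1 := congrArg re h
  have h2 := congrArg im h
  simp only [re_mul, im_mul, re_zero, im_zero] at h1 h2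
  have h3 : a.im = 0 := by
    have : a.im * a.im = 0 := by linear_combination (norm := c2n) h2
    exact mul_self_eq_zero.1 this
  rw [h3] at h1
  have h4 : a.re = 0 := by
    have : a.re * a.re = 0 := by linear_combination (norm := c2n) h1
    exact mul_self_eq_zero.1 this
  ext
  · exact h4
  · exact h3

theorem hsq [Finite F] (c : Rg E) : ∃ v, v * v = c := by
  obtain ⟨b, hb⟩ := exists_sqrt (F := F) c.im
  obtain ⟨a, ha⟩ := exists_sqrt (F := F) (c.re + E * c.im)
  refine ⟨⟨a, b⟩, ?_⟩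
  ext <;> cm
  · linear_combination (norm := c2n) ha + E * hb
  · linear_combination (norm := c2n) hb

/-- **all involutions of `t T` are conjugate to `t` under `T`** -/
theorem tau_normal [Finite F] {x : T5 (Rg E)} (hx : tau x * x = 1) : ∃ y, tau y * x = y :=
  tau_h90 hsq hred th_add hx

/-! ### semilinear endomorphisms -/

/-- a ring endomorphism of `Rg E` commuting with `star`, extending `σ` -/
structure Sem (E : F) (σ : F ≃+* F) where
  s : Rg E →+* Rg E
  hs : ∀ w, s (star w) = star (s w)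
  hC : ∀ a : F, s ⟨a, 0⟩ = ⟨σ a, 0⟩

variable {σ σ' : F ≃+* F}

/-- the endomorphism of `T5` -/
def Sem.m (s : Sem E σ) : T5 (Rg E) →* T5 (Rg E) := map s.s s.hs

def Sem.comp (s : Sem E σ) (s' : Sem E σ') : Sem E (σ * σ') where
  s := s.s.comp s'.s
  hs w := by show s.s (s'.s (star w)) = star (s.s (s'.s w)); rw [s'.hs, s.hs]
  hC a := by show s.s (s'.s ⟨a, 0⟩) = ⟨σ (σ' a), 0⟩; rw [s'.hC, s.hC]

theorem Sem.comp_m (s : Sem E σ) (s' : Sem E σ') (x : T5 (Rg E)) : (s.comp s').m x = s.m (s'.m x) := rfl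

def Sem.one : Sem E 1 where
  s := RingHom.id _
  hs _ := rfl
  hC _ := rfl

theorem Sem.one_m (x : T5 (Rg E)) : (Sem.one (E := E)).m x = x := rfl

def Sem.conj : Sem E 1 where
  s := starRingEnd _
  hs _ := rfl
  hC a := star_ofF a

theorem Sem.conj_m (x : T5 (Rg E)) : (Sem.conj (E := E)).m x = tau x := rfl

theorem Sem.m_tau (s : Sem E σ) (x : T5 (Rg E)) : s.m (tau x) = tau (s.m x) := by
  ext1
  all_goals exact s.hs _

/-- the endomorphism `θ ↦ θ + δ` -/
def Sem.mk' (σ : F ≃+* F) (δ : F) (h : σ E = E + δ + δ ^ 2) : Sem E σ where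
  s :=
    { toFun := fun w => ⟨σ w.re + δ * σ w.im, σ w.im⟩
      map_one' := by ext <;> simp
      map_mul' := fun w w' => by
        ext
        · show σ (w * w').re + δ * σ (w * w').im = _
          cm
          simp only [map_add, map_mul, map_one]
          rw [h]
          linear_combination (norm := c2n)
        · show σ (w * w').im = _
          cm
          simp only [map_add, map_mul, map_one]
          linear_combination (norm := c2n)
      map_zero' := by ext <;> simp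
      map_add' := fun w w' => by
        ext
        · show σ (w + w').re + δ * σ (w + w').im = _
          cm
          simp only [map_add]
          ring
        · show σ (w + w').im = _
          cm
          rw [map_add] }
  hs w := by
    ext
    · show σ (star w).re + δ * σ (star w).im = (star (⟨_, _⟩ : Rg E)).re
      cm
      simp only [map_add, map_mul, map_one, map_neg]
      linear_combination (norm := c2n)
    · show σ (star w).im = (star (⟨_, _⟩ : Rg E)).im
      cm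
      rw [map_neg]
  hC a := by
    ext
    · show σ a + δ * σ 0 = σ a
      rw [map_zero]; ring
    · show σ 0 = 0
      exact map_zero σ

theorem Sem.mk'_apply {δ : F} (h : σ E = E + δ + δ ^ 2) (w : Rg E) :
    (Sem.mk' σ δ h).s w = ⟨σ w.re + δ * σ w.im, σ w.im⟩ := rfl

/-! ### coordinates, orders -/

theorem her_im (w1 w2 w3 : Rg E) : (w1 * star w3 + w2 * star w2 + w3 * star w1).im = 0 := by
  cm
  linear_combination (norm := c2n)

theorem nrm_im (y : Rg E) : (y * star y).im = 0 := by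
  cm
  linear_combination (norm := c2n)

/-- an element from its coordinates -/
def mkT (w1 w2 w3 y : Rg E) (c d : F) : T5 (Rg E) where
  w1 := w1
  w2 := w2
  w3 := w3
  y := y
  c := ⟨c, (w1 * star w3 + w2 * star w2 + w3 * star w1).re⟩
  d := ⟨d, (y * star y).re⟩
  hc := by
    ext
    · simp only [re_add, re_star]
      linear_combination (norm := c2n)
    · rw [her_im]
      simp only [im_add, im_star]
      linear_combination (norm := c2n)
  hd := by
    ext
    · simp only [re_add, re_star]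
      linear_combination (norm := c2n)
    · rw [nrm_im]
      simp only [im_add, im_star]
      linear_combination (norm := c2n)

theorem c_im (x : T5 (Rg E)) : x.c.im = (x.w1 * star x.w3 + x.w2 * star x.w2 + x.w3 * star x.w1).re := by
  rw [← x.hc]
  simp only [re_add, re_star]
  linear_combination (norm := c2n)

theorem d_im (x : T5 (Rg E)) : x.d.im = (x.y * star x.y).re := by
  rw [← x.hd]
  simp only [re_add, re_star]
  linear_combination (norm := c2n)

theorem ext' {x y : T5 (Rg E)} (h1 : x.w1 = y.w1) (h2 : x.w2 = y.w2) (h3 : x.w3 = y.w3) (h4 : x.y = y.y)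
    (hc : x.c.re = y.c.re) (hd : x.d.re = y.d.re) : x = y := by
  ext1
  · exact h1
  · exact h2
  · exact h3
  · ext
    · exact hc
    · rw [c_im, c_im, h1, h2, h3]
  · exact h4
  · ext
    · exact hd
    · rw [d_im, d_im, h4]

/-- coordinates -/
def equivT : T5 (Rg E) ≃ (Rg E × Rg E × Rg E × Rg E) × (F × F) where
  toFun x := ((x.w1, x.w2, x.w3, x.y), (x.c.re, x.d.re))
  invFun p := mkT p.1.1 p.1.2.1 p.1.2.2.1 p.1.2.2.2 p.2.1 p.2.2
  left_inv _ := ext' rfl rfl rfl rfl rfl rfl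
  right_inv _ := rfl

instance finite_Rg [Finite F] : Finite (Rg E) := Finite.of_equiv _ (QuadraticAlgebra.equivProd E 1).symm

instance [Finite F] : Finite (T5 (Rg E)) := Finite.of_equiv _ (equivT (E := E)).symm

theorem card_Rg : Nat.card (Rg E) = Nat.card F ^ 2 := by
  rw [Nat.card_congr (QuadraticAlgebra.equivProd E 1), Nat.card_prod, pow_two]

theorem card_T : Nat.card (T5 (Rg E)) = Nat.card F ^ 10 := by
  rw [Nat.card_congr (equivT (E := E))]
  simp only [Nat.card_prod, card_Rg]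
  ring

/-- `V₄ = x_b(F) X(R) z_l(F)` -/
def V4 (E : F) : Subgroup (T5 (Rg E)) where
  carrier := {x | x.w1 = 0 ∧ x.w2 = 0 ∧ x.y = 0}
  one_mem' := ⟨rfl, rfl, rfl⟩
  mul_mem' := by
    rintro x y ⟨h1, h2, h3⟩ ⟨h4, h5, h6⟩
    exact ⟨by t5; rw [h1, h4, add_zero], by t5; rw [h2, h5, h4, mul_zero, add_zero, add_zero],
      by t5; rw [h3, h6, add_zero]⟩
  inv_mem' := by
    rintro x ⟨h1, h2, h3⟩
    exact ⟨by t5; exact h1, by t5; rw [h1, h2]; ring, by t5; exact h3⟩

theorem mem_V4 {x : T5 (Rg E)} : x ∈ V4 E ↔ x.w1 = 0 ∧ x.w2 = 0 ∧ x.y = 0 := Iff.rfl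

/-- elements with `w1 = 0` centralise `V₄` -/
theorem V4_comm' {x y : T5 (Rg E)} (hx : x ∈ V4 E) (hy : y.w1 = 0) : x * y = y * x := by
  obtain ⟨h1, h2, h3⟩ := hx
  ext1
  · t5; rw [h1, hy]
  · t5; rw [h2, h3, h1]; ring
  · t5; rw [h2, h3, hy, h1]; t5; ring
  · t5; rw [h1, h2, hy]; t5; ring
  · t5; ring
  · t5; rw [h3]; t5; ring

theorem V4_comm {x y : T5 (Rg E)} (hx : x ∈ V4 E) (hy : y ∈ V4 E) : x * y = y * x := V4_comm' hx hy.1

theorem V4_sq {x : T5 (Rg E)} (hx : x ∈ V4 E) : x * x = 1 := by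
  obtain ⟨h1, h2, h3⟩ := hx
  refine ext' ?_ ?_ ?_ ?_ ?_ ?_
  · t5; rw [h1]; t5
  · t5; rw [h2, h1]; t5
  · t5; rw [h2, h1]; t5; linear_combination (norm := c2n)
  · t5; rw [h3]; t5
  · t5; rw [h1, h2]; t5
    show (x.c + x.c).re = 0
    rw [CharTwo.add_self_eq_zero]; rfl
  · t5; rw [h3]; t5
    show (x.d + x.d).re = 0
    rw [CharTwo.add_self_eq_zero]; rfl

theorem card_V4 : Nat.card (V4 E) = Nat.card F ^ 4 := by
  have e : V4 E ≃ Rg E × F × F :=
    { toFun := fun x => (x.1.w3, x.1.c.re, x.1.d.re)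
      invFun := fun y => ⟨mkT 0 0 y.1 0 y.2.1 y.2.2, ⟨rfl, rfl, rfl⟩⟩
      left_inv := by
        rintro ⟨x, h1, h2, h3⟩
        apply Subtype.ext
        exact ext' h1.symm h2.symm rfl h3.symm rfl rfl
      right_inv := fun _ => rfl }
  rw [Nat.card_congr e]
  simp only [Nat.card_prod, card_Rg]
  ring

/-- `U`, the fixed points of `tau` -/
def U (E : F) : Subgroup (T5 (Rg E)) where
  carrier := {x | tau x = x}
  one_mem' := map_one _
  mul_mem' := by
    intro x y h1 h2
    show tau (x * y) = x * y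
    rw [map_mul, h1, h2]
  inv_mem' := by
    intro x h1
    show tau x⁻¹ = x⁻¹
    rw [map_inv, h1]

theorem mem_U {x : T5 (Rg E)} : x ∈ U E ↔ tau x = x := Iff.rfl

/-- the elements of `U` -/
theorem mem_U_iff {x : T5 (Rg E)} : x ∈ U E ↔ x.w1.im = 0 ∧ x.w2 = 0 ∧ x.w3.im = 0 ∧ x.c.im = 0 ∧ x.y = 0 ∧ x.d.im = 0 := by
  constructor
  · intro h
    have h1 := eq_ofF' (congrArg T5.w1 h)
    have h2 := eq_ofF' (congrArg T5.w2 h)
    have h3 := eq_ofF' (congrArg T5.w3 h)
    have h4 := eq_ofF' (congrArg T5.c h)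
    have h5 := eq_ofF' (congrArg T5.y h)
    have h6 := eq_ofF' (congrArg T5.d h)
    have i4 : x.c.im = 0 := by rw [h4]
    have i6 : x.d.im = 0 := by rw [h6]
    refine ⟨by rw [h1], ?_, by rw [h3], i4, ?_, i6⟩
    · have h7 := c_im x
      rw [i4, h1, h2, h3] at h7
      simp only [star_ofF] at h7
      have h8 : x.w2.re * x.w2.re = 0 := by
        simp only [re_add, re_mul, mul_zero, add_zero] at h7
        linear_combination (norm := c2n) h7
      rw [h2, mul_self_eq_zero.1 h8]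
      rfl
    · have h7 := d_im x
      rw [i6, h5, star_ofF] at h7
      have h8 : x.y.re * x.y.re = 0 := by
        simp only [re_mul, mul_zero, add_zero] at h7
        linear_combination (norm := c2n) h7
      rw [h5, mul_self_eq_zero.1 h8]
      rfl
  · rintro ⟨h1, h2, h3, h4, h5, h6⟩
    have e : ∀ w : Rg E, w.im = 0 → star w = w := by
      intro w hw
      ext
      · rw [re_star, hw]; ring
      · rw [im_star, hw]; ring
    show tau x = x
    ext1
    · exact e _ h1
    · show star x.w2 = x.w2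
      rw [h2, star_zero]
    · exact e _ h3
    · exact e _ h4
    · show star x.y = x.y
      rw [h5, star_zero]
    · exact e _ h6

theorem U_ext {x y : T5 (Rg E)} (hx : x ∈ U E) (hy : y ∈ U E) (h1 : x.w1.re = y.w1.re) (h3 : x.w3.re = y.w3.re)
    (hc : x.c.re = y.c.re) (hd : x.d.re = y.d.re) : x = y := by
  obtain ⟨a1, a2, a3, -, a5, -⟩ := mem_U_iff.1 hx
  obtain ⟨b1, b2, b3, -, b5, -⟩ := mem_U_iff.1 hy
  refine ext' ?_ (a2.trans b2.symm) ?_ (a5.trans b5.symm) hc hd
  · ext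
    · exact h1
    · rw [a1, b1]
  · ext
    · exact h3
    · rw [a3, b3]

theorem U_mul {x y : T5 (Rg E)} (hx : x ∈ U E) (hy : y ∈ U E) : (x * y).w1.re = x.w1.re + y.w1.re ∧
    (x * y).w3.re = x.w3.re + y.w3.re + x.d.re * y.w1.re ∧
    (x * y).c.re = x.c.re + y.c.re + x.w1.re * (y.w3.re + x.d.re * y.w1.re) + x.w3.re * y.w1.re ∧
    (x * y).d.re = x.d.re + y.d.re := by
  obtain ⟨a1, a2, a3, a4, a5, a6⟩ := mem_U_iff.1 hx
  obtain ⟨b1, b2, b3, b4, b5, b6⟩ := mem_U_iff.1 hy
  refine ⟨rfl, ?_, ?_, ?_⟩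
  · rw [T5.mul_w3, a5, b2]
    simp only [star_zero, mul_zero, re_zero, re_add, re_mul, b1, a6]
    ring
  · rw [T5.mul_c, a2, b2]
    cm
    simp only [a1, a3, a6, b1, b3]
    ring
  · rw [T5.mul_d, a5]
    simp only [star_zero, zero_mul, add_zero, re_add]

/-- elementary abelian subgroups of `U` have order at most `q³` -/
theorem card_elem_U [Finite F] {Y : Subgroup (T5 (Rg E))} (hYU : Y ≤ U E) (hsq : ∀ x ∈ Y, x * x = 1)
    (hc : ∀ x ∈ Y, ∀ y ∈ Y, x * y = y * x) : Nat.card Y ≤ Nat.card F ^ 3 := by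
  have key : (∀ x ∈ Y, x.w1.re = 0) ∨ (∀ x ∈ Y, x.d.re = 0) := by
    by_contra hcon
    push Not at hcon
    obtain ⟨⟨x, hx, hxu⟩, ⟨y, hy, hys⟩⟩ := hcon
    have h0 := (U_mul (hYU hx) (hYU hx)).2.1
    rw [hsq x hx] at h0
    have h1 : x.d.re = 0 := by
      have : x.d.re * x.w1.re = 0 := by
        have h00 : (1 : T5 (Rg E)).w3.re = 0 := rfl
        rw [h00] at h0
        linear_combination (norm := c2n) h0
      exact (mul_eq_zero.1 this).resolve_right hxu
    have h2 := congrArg (fun z : T5 (Rg E) => z.w3.re) (hc x hx y hy)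
    rw [(U_mul (hYU hx) (hYU hy)).2.1, (U_mul (hYU hy) (hYU hx)).2.1, h1] at h2
    have h3 : y.d.re * x.w1.re = 0 := by linear_combination (norm := c2n) h2
    rcases mul_eq_zero.1 h3 with h | h
    · exact hys h
    · exact hxu h
  have hcard : Nat.card (F × F × F) = Nat.card F ^ 3 := by
    simp only [Nat.card_prod]; ring
  rw [← hcard]
  rcases key with h | h
  · refine Nat.card_le_card_of_injective (fun x : Y => (x.1.d.re, x.1.w3.re, x.1.c.re)) ?_
    rintro ⟨x, hx⟩ ⟨y, hy⟩ hxy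
    have h1 := Prod.mk.inj hxy
    have h2 := Prod.mk.inj h1.2
    exact Subtype.ext (U_ext (hYU hx) (hYU hy) (by rw [h x hx, h y hy]) h2.1 h2.2 h1.1)
  · refine Nat.card_le_card_of_injective (fun x : Y => (x.1.w1.re, x.1.w3.re, x.1.c.re)) ?_
    rintro ⟨x, hx⟩ ⟨y, hy⟩ hxy
    have h1 := Prod.mk.inj hxy
    have h2 := Prod.mk.inj h1.2
    exact Subtype.ext (U_ext (hYU hx) (hYU hy) h1.1 h2.1 h2.2 (by rw [h x hx, h y hy]))

theorem Sem.m_mem_U (s : Sem E σ) {x : T5 (Rg E)} (hx : x ∈ U E) : s.m x ∈ U E := by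
  rw [mem_U] at *
  rw [← s.m_tau, hx]

theorem Sem.re {s : Sem E σ} {w : Rg E} (hw : w.im = 0) : (s.s w).re = σ w.re := by
  have : w = ⟨w.re, 0⟩ := by ext; · rfl
                             · exact hw
  rw [this, s.hC]

/-- fixed points on `U` of a semilinear involution times an inner automorphism -/
theorem card_fix_U [Finite F] (h2 : σ * σ = 1) (h1 : σ ≠ 1) (s : Sem E σ) {y : T5 (Rg E)} (hy : y ∈ U E)
    {Y : Subgroup (T5 (Rg E))} (hYU : Y ≤ U E) (hY : ∀ x ∈ Y, y * s.m x = x * y) : Nat.card Y ≤ Nat.card F ^ 2 := by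
  set K := {x : F // σ x = x} with hK
  have hKc : Nat.card K * Nat.card K = Nat.card F := card_fix h2 h1
  have co : ∀ x ∈ Y, (s.m x).w1.re = σ x.w1.re ∧ (s.m x).w3.re = σ x.w3.re ∧ (s.m x).c.re = σ x.c.re ∧
      (s.m x).d.re = σ x.d.re := by
    intro x hx
    obtain ⟨a1, -, a3, a4, -, a6⟩ := mem_U_iff.1 (hYU hx)
    exact ⟨Sem.re a1, Sem.re a3, Sem.re a4, Sem.re a6⟩
  -- coordinates `w1`, `d`
  have hcoord : ∀ x ∈ Y, σ x.w1.re = x.w1.re ∧ σ x.d.re = x.d.re := by
    intro x hx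
    obtain ⟨c1, c3, cc, cd⟩ := co x hx
    have e1 := congrArg (fun z : T5 (Rg E) => z.w1.re) (hY x hx)
    have e2 := congrArg (fun z : T5 (Rg E) => z.d.re) (hY x hx)
    rw [(U_mul hy (s.m_mem_U (hYU hx))).1, (U_mul (hYU hx) hy).1, c1] at e1
    rw [(U_mul hy (s.m_mem_U (hYU hx))).2.2.2, (U_mul (hYU hx) hy).2.2.2, cd] at e2
    exact ⟨by linear_combination e1, by linear_combination e2⟩
  let f : Y →* Multiplicative (F × F) :=
    { toFun := fun x => Multiplicative.ofAdd (x.1.w1.re, x.1.d.re)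
      map_one' := rfl
      map_mul' := fun x x' => by
        show Multiplicative.ofAdd ((x.1 * x'.1).w1.re, (x.1 * x'.1).d.re) = _
        rw [(U_mul (hYU x.2) (hYU x'.2)).1, (U_mul (hYU x.2) (hYU x'.2)).2.2.2]
        rfl }
  have hrange : Nat.card f.range ≤ Nat.card K * Nat.card K := by
    rw [← Nat.card_prod]
    have : ∀ z : f.range, σ (Multiplicative.toAdd z.1).1 = (Multiplicative.toAdd z.1).1 ∧
        σ (Multiplicative.toAdd z.1).2 = (Multiplicative.toAdd z.1).2 := by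
      rintro ⟨_, ⟨x, hx⟩, rfl⟩
      exact hcoord x hx
    refine Nat.card_le_card_of_injective (fun z : f.range =>
      ((⟨_, (this z).1⟩, ⟨_, (this z).2⟩) : K × K)) ?_
    rintro z w hzw
    have h3 := Prod.mk.inj hzw
    apply Subtype.ext
    apply Multiplicative.toAdd.injective
    exact Prod.ext (congrArg Subtype.val h3.1) (congrArg Subtype.val h3.2)
  have hker : Nat.card f.ker ≤ Nat.card K * Nat.card K := by
    rw [← Nat.card_prod]
    have hz : ∀ x : f.ker, x.1.1.w1.re = 0 ∧ x.1.1.d.re = 0 := by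
      rintro ⟨x, hx⟩
      have h3 : Multiplicative.ofAdd (x.1.w1.re, x.1.d.re) = 1 := hx
      have h4 : (x.1.w1.re, x.1.d.re) = (0, 0) := h3
      exact Prod.mk.inj h4
    have : ∀ x : f.ker, σ x.1.1.w3.re = x.1.1.w3.re ∧ σ x.1.1.c.re = x.1.1.c.re := by
      intro x
      obtain ⟨c1, c3, cc, cd⟩ := co x.1.1 x.1.2
      obtain ⟨hu, hs⟩ := hz x
      rw [hu, map_zero] at c1
      rw [hs, map_zero] at cd
      have e1 := congrArg (fun z : T5 (Rg E) => z.w3.re) (hY x.1.1 x.1.2)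
      have e2 := congrArg (fun z : T5 (Rg E) => z.c.re) (hY x.1.1 x.1.2)
      rw [(U_mul hy (s.m_mem_U (hYU x.1.2))).2.1, (U_mul (hYU x.1.2) hy).2.1, c1, c3, hs] at e1
      rw [(U_mul hy (s.m_mem_U (hYU x.1.2))).2.2.1, (U_mul (hYU x.1.2) hy).2.2.1, c1, c3, cc, hs, hu] at e2
      have e3 : σ x.1.1.w3.re = x.1.1.w3.re := by linear_combination e1
      rw [e3] at e2
      exact ⟨e3, by linear_combination e2⟩
    refine Nat.card_le_card_of_injective (fun x : f.ker =>
      ((⟨_, (this x).1⟩, ⟨_, (this x).2⟩) : K × K)) ?_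
    rintro x x' hxx
    have h3 := Prod.mk.inj hxx
    have h4 := hz x
    have h5 := hz x'
    exact Subtype.ext (Subtype.ext (U_ext (hYU x.1.2) (hYU x'.1.2) (h4.1.trans h5.1.symm)
      (congrArg Subtype.val h3.1) (congrArg Subtype.val h3.2) (h4.2.trans h5.2.symm)))
  have hmul : Nat.card Y = Nat.card f.ker * Nat.card f.range := by
    have h3 := f.ker.card_mul_index
    rw [Subgroup.index_ker] at h3
    exact h3.symm
  rw [hmul, pow_two]
  rw [hKc] at hrange hker
  exact Nat.mul_le_mul hker hrange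

theorem card_U [Finite F] : Nat.card (U E) ≤ Nat.card F ^ 4 := by
  have hcard : Nat.card (F × F × F × F) = Nat.card F ^ 4 := by
    simp only [Nat.card_prod]; ring
  rw [← hcard]
  refine Nat.card_le_card_of_injective (fun x : U E => (x.1.w1.re, x.1.w3.re, x.1.c.re, x.1.d.re)) ?_
  rintro ⟨x, hx⟩ ⟨y, hy⟩ hxy
  have h1 := Prod.mk.inj hxy
  have h2 := Prod.mk.inj h1.2
  have h3 := Prod.mk.inj h2.2
  exact Subtype.ext (U_ext hx hy h1.1 h2.1 h3.1 h3.2)

theorem Sem.theta (s : Sem E σ) : (s.s th).im = 1 := by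
  have h1 : star (s.s th) = s.s th + 1 := by
    rw [← s.hs, ← map_one s.s, ← map_add]
    congr 1
    have := th_add (E := E)
    linear_combination (norm := c2n) this
  have h2 := congrArg QuadraticAlgebra.re h1
  rw [re_star, re_add, re_one] at h2
  linear_combination h2

/-- an element of trace `1` fixed by `s` -/
theorem exists_theta [Finite F] (h2 : σ * σ = 1) (h1 : σ ≠ 1) (s : Sem E σ) (hss : ∀ w, s.s (s.s w) = w) :
    ∃ b : F, s.s ⟨b, 1⟩ = ⟨b, 1⟩ := by
  set δ := (s.s th).re with hδ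
  have e1 : s.s th = ⟨δ, 1⟩ := by
    ext
    · rfl
    · exact s.theta
  have e2 : ∀ a : F, (⟨a, 1⟩ : Rg E) = ⟨a, 0⟩ + th := by
    intro a; ext <;> cm <;> ring
  have h3 : σ δ = δ := by
    have h4 := hss th
    rw [e1, e2, map_add, s.hC, e1] at h4
    have h5 := congrArg re h4
    have h6 : (th : Rg E).re = 0 := rfl
    rw [re_add, h6] at h5
    have h7 : σ δ + δ = 0 := h5
    exact eq_of_add h7
  obtain ⟨b, hb⟩ := exists_trace h2 h1 h3
  refine ⟨b, ?_⟩
  rw [e2, map_add, s.hC, e1]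
  ext <;> cm
  linear_combination (norm := c2n) hb

/-- an element fixed by `s` -/
def mkF (θ : Rg E) (hθ : θ + star θ = 1) (w1 w2 w3 y : Rg E) (r : F) : T5 (Rg E) where
  w1 := w1
  w2 := w2
  w3 := w3
  y := y
  c := (w1 * star w3 + w2 * star w2 + w3 * star w1) * θ + ⟨r, 0⟩
  d := y * star y * θ
  hc := by
    simp only [star_add, star_mul', star_star, star_ofF]
    linear_combination (norm := c2n) (w1 * star w3 + w2 * star w2 + w3 * star w1) * hθ
  hd := by
    simp only [star_mul', star_star]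
    linear_combination (norm := c2n) (y * star y) * hθ

/-- **fixed points of a semilinear involution on `T`**: more than `q⁴` -/
theorem card_fix_T [Finite F] (hF : 4 ≤ Nat.card F) (h2 : σ * σ = 1) (h1 : σ ≠ 1) (s : Sem E σ)
    (hss : ∀ w, s.s (s.s w) = w) : Nat.card F ^ 4 < Nat.card {x : T5 (Rg E) // s.m x = x} := by
  obtain ⟨b, hb⟩ := exists_theta h2 h1 s hss
  set θ : Rg E := ⟨b, 1⟩ with hθ
  have hθ1 : θ + star θ = 1 := by
    rw [hθ]; ext <;> cm <;> linear_combination (norm := c2n)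
  set K := {x : F // σ x = x} with hK
  have hKc : Nat.card K * Nat.card K = Nat.card F := card_fix h2 h1
  let w : K × K → Rg E := fun a => ⟨a.1.1, 0⟩ + ⟨a.2.1, 0⟩ * θ
  have hw : ∀ a, s.s (w a) = w a := by
    rintro ⟨⟨a, ha⟩, ⟨a', ha'⟩⟩
    show s.s (⟨a, 0⟩ + ⟨a', 0⟩ * θ) = ⟨a, 0⟩ + ⟨a', 0⟩ * θ
    rw [map_add, map_mul, s.hC, s.hC, hb, ha, ha']
  have winj : Function.Injective w := by
    rintro ⟨⟨a, ha⟩, ⟨a', ha'⟩⟩ ⟨⟨a2, ha2⟩, ⟨a2', ha2'⟩⟩ h
    have h3 := congrArg re h
    have h4 := congrArg im h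
    simp only [w, hθ, re_add, re_mul, im_add, im_mul] at h3 h4
    have h5 : a' = a2' := by linear_combination h4
    subst h5
    have h6 : a = a2 := by linear_combination h3
    subst h6
    rfl
  let f : (K × K) × (K × K) × (K × K) × (K × K) × K → {x : T5 (Rg E) // s.m x = x} := fun p =>
    ⟨mkF θ hθ1 (w p.1) (w p.2.1) (w p.2.2.1) (w p.2.2.2.1) p.2.2.2.2.1, by
      obtain ⟨p1, p2, p3, p4, ⟨r, hr⟩⟩ := p
      ext1
      · exact hw p1
      · exact hw p2
      · exact hw p3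
      · show s.s ((w p1 * star (w p3) + w p2 * star (w p2) + w p3 * star (w p1)) * θ + ⟨r, 0⟩) = _
        simp only [map_add, map_mul, s.hs, hw, hb, s.hC, hr]
        rfl
      · exact hw p4
      · show s.s (w p4 * star (w p4) * θ) = _
        simp only [map_mul, s.hs, hw, hb]
        rfl⟩
  have finj : Function.Injective f := by
    rintro ⟨p1, p2, p3, p4, ⟨r, hr⟩⟩ ⟨q1, q2, q3, q4, ⟨r', hr'⟩⟩ h
    have h3 := congrArg Subtype.val h
    have e1 : p1 = q1 := winj (congrArg T5.w1 h3)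
    have e2 : p2 = q2 := winj (congrArg T5.w2 h3)
    have e3 : p3 = q3 := winj (congrArg T5.w3 h3)
    have e4 : p4 = q4 := winj (congrArg T5.y h3)
    subst e1 e2 e3 e4
    have e5 : (w p1 * star (w p3) + w p2 * star (w p2) + w p3 * star (w p1)) * θ + (⟨r, 0⟩ : Rg E) =
      (w p1 * star (w p3) + w p2 * star (w p2) + w p3 * star (w p1)) * θ + ⟨r', 0⟩ := congrArg T5.c h3
    have e6 := congrArg re (add_left_cancel e5)
    have e7 : r = r' := e6
    subst e7
    rfl
  have h3 := Nat.card_le_card_of_injective f finj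
  simp only [Nat.card_prod] at h3
  refine lt_of_lt_of_le ?_ h3
  have h4 : 2 ≤ Nat.card K := by
    by_contra hlt
    have h5 : Nat.card K ≤ 1 := by omega
    have h6 : Nat.card K * Nat.card K ≤ 1 * 1 := Nat.mul_le_mul h5 h5
    rw [hKc] at h6
    omega
  have h5 : Nat.card K * Nat.card K * (Nat.card K * Nat.card K * (Nat.card K * Nat.card K *
      (Nat.card K * Nat.card K * Nat.card K))) = Nat.card F ^ 4 * Nat.card K := by
    rw [hKc]; ring
  rw [h5]
  have h6 : 0 < Nat.card F ^ 4 := by positivity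
  nlinarith

/-! ### the centraliser of an involution of `T` -/

theorem sq_rel {x : T5 (Rg E)} (hx : x * x = 1) : x.y * x.w1 = 0 ∧ star x.y * x.w2 + x.d * x.w1 = 0 ∧
    x.w1 * star x.w3 + x.w2 * star x.w2 + x.w3 * star x.w1 = 0 ∧ x.y * star x.y = 0 := by
  have h2 := congrArg T5.w2 hx
  have h3 := congrArg T5.w3 hx
  have h4 := congrArg T5.c hx
  have h5 := congrArg T5.d hx
  rw [T5.mul_w2, T5.one_w2] at h2
  rw [T5.mul_w3, T5.one_w3] at h3
  rw [T5.mul_c, T5.one_c] at h4
  rw [T5.mul_d, T5.one_d] at h5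
  have e2 : x.y * x.w1 = 0 := by linear_combination (norm := c2n) h2
  have e3 : star x.y * x.w2 + x.d * x.w1 = 0 := by linear_combination (norm := c2n) h3
  refine ⟨e2, e3, ?_, by linear_combination (norm := c2n) h5⟩
  have e4 : x.w3 + star x.y * x.w2 + x.d * x.w1 = x.w3 := by linear_combination e3
  rw [e4, e2, add_zero] at h4
  linear_combination (norm := c2n) h4

section split

variable {θ : F} (hθ : θ ^ 2 + θ + E = 0)
include hθ

theorem ee : (⟨θ, 1⟩ : Rg E) * ⟨θ, 1⟩ = ⟨θ, 1⟩ := by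
  ext <;> cm
  · linear_combination (norm := c2n) hθ
  · linear_combination (norm := c2n)

theorem ee' : (⟨θ, 1⟩ : Rg E) * ⟨θ + 1, 1⟩ = 0 := by
  ext <;> cm
  · linear_combination (norm := c2n) hθ
  · linear_combination (norm := c2n)

omit hθ in
theorem star_e : star (⟨θ, 1⟩ : Rg E) = ⟨θ + 1, 1⟩ := by
  ext <;> cm
  · linear_combination (norm := c2n)
  · linear_combination (norm := c2n)

omit hθ in
theorem dec (w : Rg E) : w = ⟨w.re + w.im * θ, 0⟩ * ⟨θ + 1, 1⟩ + ⟨w.re + w.im * (θ + 1), 0⟩ * ⟨θ, 1⟩ := by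
  ext <;> cm
  · linear_combination (norm := c2n)
  · linear_combination (norm := c2n)

/-- the abelian normal subgroup of order `q⁶` -/
def V6 (E θ : F) : Subgroup (T5 (Rg E)) where
  carrier := {x | x.w1 = 0 ∧ x.y * ⟨θ, 1⟩ = 0 ∧ x.w2 * ⟨θ, 1⟩ = 0}
  one_mem' := ⟨rfl, zero_mul _, zero_mul _⟩
  mul_mem' := by
    rintro x y ⟨h1, h2, h3⟩ ⟨h4, h5, h6⟩
    refine ⟨by t5; rw [h1, h4, add_zero], ?_, ?_⟩
    · rw [T5.mul_y]; linear_combination h2 + h5
    · rw [T5.mul_w2, h4]; linear_combination h3 + h6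
  inv_mem' := by
    rintro x ⟨h1, h2, h3⟩
    refine ⟨h1, h2, ?_⟩
    rw [T5.inv_w2, h1]; linear_combination h3

theorem V6_aux {x y : T5 (Rg E)} (hx : x ∈ V6 E θ) (hy : y ∈ V6 E θ) : star x.y * y.w2 = 0 ∧ x.w2 * star y.w2 = 0 ∧
    star x.y * y.y = 0 := by
  obtain ⟨-, h2, h3⟩ := hx
  obtain ⟨-, h5, h6⟩ := hy
  have e1 : (⟨θ, 1⟩ : Rg E) + ⟨θ + 1, 1⟩ = 1 := by
    ext <;> cm
    · linear_combination (norm := c2n)
    · linear_combination (norm := c2n)
  have k : ∀ a b : Rg E, a * ⟨θ, 1⟩ = 0 → b * ⟨θ, 1⟩ = 0 → star a * b = 0 := by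
    intro a b ha hb
    have ha' : star a * ⟨θ + 1, 1⟩ = 0 := by
      rw [← star_e, mul_comm, ← star_mul, ha, star_zero]
    calc star a * b = star a * b * (⟨θ, 1⟩ + ⟨θ + 1, 1⟩) := by rw [e1, mul_one]
      _ = star a * (b * ⟨θ, 1⟩) + b * (star a * ⟨θ + 1, 1⟩) := by ring
      _ = 0 := by rw [ha', hb, mul_zero, mul_zero, add_zero]
  refine ⟨k _ _ h2 h6, ?_, k _ _ h2 h5⟩
  rw [mul_comm]
  exact k _ _ h6 h3

theorem V6_comm {x y : T5 (Rg E)} (hx : x ∈ V6 E θ) (hy : y ∈ V6 E θ) : x * y = y * x := by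
  obtain ⟨a1, a2, a3⟩ := V6_aux hθ hx hy
  obtain ⟨b1, b2, b3⟩ := V6_aux hθ hy hx
  have h1 := hx.1
  have h2 := hy.1
  ext1
  · t5; rw [h1, h2]
  · t5; rw [h1, h2]; ring
  · t5; rw [h1, h2, a1, b1]; ring
  · t5; rw [h1, h2]; t5; rw [a2, b2]; ring
  · t5; ring
  · t5; rw [a3, b3]; ring

theorem V6_sq {x : T5 (Rg E)} (hx : x ∈ V6 E θ) : x * x = 1 := by
  obtain ⟨a1, a2, a3⟩ := V6_aux hθ hx hx
  have h1 := hx.1
  ext1
  · t5; rw [h1, add_zero]
  · t5; rw [h1]; linear_combination (norm := c2n)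
  · t5; rw [h1, a1]; linear_combination (norm := c2n)
  · t5; rw [h1]; t5; rw [a2]; linear_combination (norm := c2n)
  · t5; linear_combination (norm := c2n)
  · t5; rw [a3]; linear_combination (norm := c2n)

/-- a group of order `q⁴` in `V6` centralising an involution `x` with `w1 = a e`, `a ≠ 0` -/
theorem exists_W [Finite F] {x : T5 (Rg E)} (hx : x * x = 1) {a : F} (ha : a ≠ 0) (hw1 : x.w1 = ⟨a, 0⟩ * ⟨θ, 1⟩) :
    Nat.card F ^ 4 ≤ Nat.card (V6 E θ ⊓ Subgroup.centralizer {x} : Subgroup (T5 (Rg E))) := by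
  obtain ⟨r1, r2, -, -⟩ := sq_rel hx
  have h0 := ee hθ
  have h0' := ee' hθ
  have h0'' := ee (E := E) (θ := θ + 1) (by linear_combination (norm := c2n) hθ)
  set e : Rg E := ⟨θ, 1⟩ with he
  set e' : Rg E := ⟨θ + 1, 1⟩ with he'
  have hs : star e = e' := star_e
  have hs' : star e' = e := by rw [← hs, star_star]
  -- `y = b e'`
  set b := x.y.re + x.y.im * θ with hb
  set b' := x.y.re + x.y.im * (θ + 1) with hb'
  set k := x.w2.re + x.w2.im * (θ + 1) with hk
  set m := x.w2.re + x.w2.im * θ with hm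
  have dy : x.y = ⟨b, 0⟩ * e' + ⟨b', 0⟩ * e := dec x.y
  have dw : x.w2 = ⟨m, 0⟩ * e' + ⟨k, 0⟩ * e := dec x.w2
  have mulF : ∀ u v : F, (⟨u, 0⟩ : Rg E) * ⟨v, 0⟩ = ⟨u * v, 0⟩ := by
    intro u v; ext <;> cm <;> ring
  have hb0 : b' = 0 := by
    have h1 : (⟨b' * a, 0⟩ : Rg E) * e = 0 := by
      rw [← mulF]
      rw [dy, hw1] at r1
      linear_combination r1 - ⟨b, 0⟩ * ⟨a, 0⟩ * h0' - ⟨b', 0⟩ * ⟨a, 0⟩ * h0
    have h2 := congrArg im h1
    simp only [he, im_mul, im_zero] at h2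
    have h3 : b' * a = 0 := by linear_combination h2
    exact (mul_eq_zero.1 h3).resolve_right ha
  have z0 : (⟨0, 0⟩ : Rg E) = 0 := rfl
  rw [hb0, z0, zero_mul, add_zero] at dy
  have sF : ∀ u : F, star (⟨u, 0⟩ : Rg E) = ⟨u, 0⟩ := star_ofF
  -- the elements
  let g : F × F × F × F → T5 (Rg E) := fun p =>
    { w1 := 0
      w2 := ⟨p.1, 0⟩ * e'
      w3 := ⟨k / a, 0⟩ * ⟨p.1, 0⟩ * e' + ⟨p.2.2.1, 0⟩ * e
      c := ⟨p.2.2.2, 0⟩
      y := ⟨p.2.1, 0⟩ * e'
      d := ⟨k / a, 0⟩ * ⟨p.2.1, 0⟩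
      hc := by
        simp only [star_mul', sF, hs', star_zero, zero_mul, mul_zero, zero_add, add_zero]
        linear_combination (norm := c2n) (-(⟨p.1, 0⟩ * ⟨p.1, 0⟩ : Rg E)) * h0'
      hd := by
        simp only [star_mul', sF, hs']
        linear_combination (norm := c2n) (-(⟨p.2.1, 0⟩ * ⟨p.2.1, 0⟩ : Rg E)) * h0' }
  have hka : (⟨k / a, 0⟩ : Rg E) * ⟨a, 0⟩ = ⟨k, 0⟩ := by rw [mulF, div_mul_cancel₀ _ ha]
  have hg : ∀ p, g p ∈ (V6 E θ ⊓ Subgroup.centralizer {x} : Subgroup (T5 (Rg E))) := by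
    rintro ⟨p, u, v, r⟩
    refine ⟨⟨rfl, ?_, ?_⟩, ?_⟩
    · show ⟨u, 0⟩ * e' * e = 0
      linear_combination ⟨u, 0⟩ * h0'
    · show ⟨p, 0⟩ * e' * e = 0
      linear_combination ⟨p, 0⟩ * h0'
    · show g (p, u, v, r) ∈ Subgroup.centralizer {x}
      rw [Subgroup.mem_centralizer_singleton_iff]
      have g1 : (g (p, u, v, r)).w1 = 0 := rfl
      have g2 : (g (p, u, v, r)).w2 = ⟨p, 0⟩ * e' := rfl
      have g3 : (g (p, u, v, r)).w3 = ⟨k / a, 0⟩ * ⟨p, 0⟩ * e' + ⟨v, 0⟩ * e := rfl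
      have g4 : (g (p, u, v, r)).c = ⟨r, 0⟩ := rfl
      have g5 : (g (p, u, v, r)).y = ⟨u, 0⟩ * e' := rfl
      have g6 : (g (p, u, v, r)).d = ⟨k / a, 0⟩ * ⟨u, 0⟩ := rfl
      ext1
      · t5; rw [g1]; ring
      · t5
        rw [g1, g2, g5, hw1]
        linear_combination ⟨u, 0⟩ * ⟨a, 0⟩ * h0'
      · t5
        rw [g1, g2, g3, g5, g6, hw1, dw, dy]
        simp only [star_mul', sF, hs']
        linear_combination (norm := c2n) (⟨u, 0⟩ * ⟨m, 0⟩ - ⟨b, 0⟩ * ⟨p, 0⟩) * h0' + ⟨u, 0⟩ * ⟨k, 0⟩ * h0 + ⟨u, 0⟩ * e * hka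
      · t5
        rw [g1, g2, g3, g4, g5, hw1, dw, dy]
        simp only [star_mul', star_add, sF, hs', hs, star_zero]
        linear_combination (norm := c2n) (⟨p, 0⟩ * ⟨u, 0⟩ * ⟨a, 0⟩ * e' - ⟨a, 0⟩ * ⟨b, 0⟩ * ⟨p, 0⟩ * e) * h0' +
          (⟨p, 0⟩ * ⟨k, 0⟩ + ⟨k / a, 0⟩ * ⟨p, 0⟩ * ⟨a, 0⟩) * h0'' -
          (⟨k / a, 0⟩ * ⟨a, 0⟩ * ⟨p, 0⟩ + ⟨k, 0⟩ * ⟨p, 0⟩) * h0 + ⟨p, 0⟩ * e' * hka - ⟨p, 0⟩ * e * hka
      · t5; ring
      · t5
        rw [g5, g6, dy]
        simp only [star_mul', sF, hs']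
        ring
  have ginj : Function.Injective g := by
    rintro ⟨p, u, v, r⟩ ⟨p', u', v', r'⟩ h
    have e1 : (⟨p, 0⟩ : Rg E) * e' = ⟨p', 0⟩ * e' := congrArg T5.w2 h
    have e2 : (⟨u, 0⟩ : Rg E) * e' = ⟨u', 0⟩ * e' := congrArg T5.y h
    have e3 : (⟨k / a, 0⟩ : Rg E) * ⟨p, 0⟩ * e' + ⟨v, 0⟩ * e = ⟨k / a, 0⟩ * ⟨p', 0⟩ * e' + ⟨v', 0⟩ * e :=
      congrArg T5.w3 h
    have e4 : (⟨r, 0⟩ : Rg E) = ⟨r', 0⟩ := congrArg T5.c h
    have i1 := congrArg im e1
    have i2 := congrArg im e2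
    simp only [he', im_mul] at i1 i2
    have p1 : p = p' := by linear_combination i1
    have p2 : u = u' := by linear_combination i2
    subst p1 p2
    have i3 := congrArg im (add_left_cancel e3)
    simp only [he, im_mul] at i3
    have p3 : v = v' := by linear_combination i3
    have p4 : r = r' := congrArg re e4
    subst p3 p4
    rfl
  have hcard : Nat.card (F × F × F × F) = Nat.card F ^ 4 := by
    simp only [Nat.card_prod]; ring
  rw [← hcard]
  refine Nat.card_le_card_of_injective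
    (fun p => (⟨g p, hg p⟩ : ↥(V6 E θ ⊓ Subgroup.centralizer {x} : Subgroup (T5 (Rg E))))) ?_
  intro p p' h
  exact ginj (congrArg Subtype.val h)

end split

/-- **the centraliser of an involution of `T`** -/
theorem rank [Finite F] {x : T5 (Rg E)} (hx : x * x = 1) :
    (∃ W : Subgroup (T5 (Rg E)), Nat.card F ^ 4 ≤ Nat.card W ∧ (∀ w ∈ W, w * w = 1) ∧
      (∀ w ∈ W, ∀ w' ∈ W, w * w' = w' * w) ∧ ∀ w ∈ W, w * x = x * w) ∨
    ∃ (y : T5 (Rg E)) (w : Rg E) (c : F), x * y = y * mkT w 0 0 0 c 0 := by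
  obtain ⟨r1, r2, r3, r4⟩ := sq_rel hx
  by_cases h1 : x.w1 = 0
  · left
    exact ⟨V4 E, card_V4.ge, fun w hw => V4_sq hw, fun w hw w' hw' => V4_comm hw hw', fun w hw => V4_comm' hw h1⟩
  have hn : x.w1 * star x.w1 = ⟨nm x.w1, 0⟩ := by
    ext <;> cm <;> linear_combination (norm := c2n)
  by_cases h2 : nm x.w1 = 0
  · -- the split case
    left
    have him : x.w1.im ≠ 0 := by
      intro h3
      apply h1
      rw [nm, h3] at h2
      have h4 : x.w1.re ^ 2 = 0 := by linear_combination h2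
      ext
      · exact pow_eq_zero_iff (two_ne_zero) |>.1 h4
      · exact h3
    set θ := x.w1.re / x.w1.im with hθd
    have hθm : θ * x.w1.im = x.w1.re := div_mul_cancel₀ _ him
    have hθ : θ ^ 2 + θ + E = 0 := by
      have h3 : x.w1.im ^ 2 * (θ ^ 2 + θ + E) = 0 := by
        rw [nm, ← hθm] at h2
        linear_combination h2
      exact (mul_eq_zero.1 h3).resolve_left (pow_ne_zero 2 him)
    have hw1 : x.w1 = ⟨x.w1.im, 0⟩ * ⟨θ, 1⟩ := by
      ext <;> cm
      · linear_combination (-1 : F) * hθm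
      · ring
    refine ⟨V6 E θ ⊓ Subgroup.centralizer {x}, exists_W hθ hx him hw1, fun w hw => V6_sq hθ hw.1,
      fun w hw w' hw' => V6_comm hθ hw.1 hw'.1, fun w hw => ?_⟩
    have hw2 : w ∈ Subgroup.centralizer {x} := hw.2
    exact Subgroup.mem_centralizer_singleton_iff.1 hw2
  · right
    -- `w1` is a unit
    obtain ⟨v, hv⟩ : ∃ v : Rg E, x.w1 * v = 1 := by
      refine ⟨⟨(nm x.w1)⁻¹, 0⟩ * star x.w1, ?_⟩
      calc x.w1 * (⟨(nm x.w1)⁻¹, 0⟩ * star x.w1) = ⟨(nm x.w1)⁻¹, 0⟩ * (x.w1 * star x.w1) := by ring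
        _ = ⟨(nm x.w1)⁻¹, 0⟩ * ⟨nm x.w1, 0⟩ := by rw [hn]
        _ = 1 := by
          ext
          · rw [re_mul, re_one, inv_mul_cancel₀ h2]; ring
          · rw [im_mul, im_one]; ring
    have hv' : star x.w1 * star v = 1 := by rw [← star_mul', hv, star_one]
    have hy : x.y = 0 := by linear_combination v * r1 - x.y * hv
    have hd : x.d = 0 := by
      rw [hy] at r2
      simp only [star_zero] at r2
      linear_combination v * r2 - x.d * hv
    refine ⟨⟨0, 0, 0, 0, x.w2 * v, x.w3 * v, by simp, ?_⟩, x.w1, x.c.re, ?_⟩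
    · simp only [star_mul']
      have e1 : x.w3 * v + star x.w3 * star v = (v * star v) * (x.w3 * star x.w1 + x.w1 * star x.w3) := by
        linear_combination (-(x.w3 * v)) * hv' - (star x.w3 * star v) * hv
      rw [e1]
      linear_combination (norm := c2n) (v * star v) * r3
    · refine ext' ?_ ?_ ?_ ?_ ?_ ?_
      · show x.w1 + 0 = 0 + x.w1
        ring
      · show x.w2 + (0 + x.y * 0) = 0 + (0 + x.w2 * v * x.w1)
        linear_combination (-x.w2) * hv
      · show x.w3 + (0 + star x.y * 0 + x.d * 0) = 0 + (0 + star (x.w2 * v) * 0 + x.w3 * v * x.w1)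
        linear_combination (-x.w3) * hv
      · show x.y + x.w2 * v = x.w2 * v + 0
        rw [hy]; ring
      · rw [T5.mul_c, T5.mul_c]
        show (x.c + 0 + (x.w1 * star (0 + star x.y * 0 + x.d * 0) + x.w2 * star (0 + x.y * 0) + x.w3 * star 0)).re =
          (0 + (mkT x.w1 0 0 0 x.c.re 0).c + (0 * star (0 + star (x.w2 * v) * 0 + x.w3 * v * x.w1) +
            0 * star (0 + x.w2 * v * x.w1) + 0 * star x.w1)).re
        simp only [mul_zero, zero_mul, add_zero, zero_add, star_zero]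
        rfl
      · rw [T5.mul_d, T5.mul_d, hy, hd]
        show (0 + x.w3 * v + star 0 * (x.w2 * v)).re = (x.w3 * v + (mkT x.w1 0 0 0 x.c.re 0).d + star (x.w2 * v) * 0).re
        have : (mkT x.w1 0 0 0 x.c.re 0 : T5 (Rg E)).d = 0 := by
          ext
          · rfl
          · show (0 * star (0 : Rg E)).re = 0
            rw [zero_mul]; rfl
        rw [this]
        simp only [star_zero, zero_mul, mul_zero, add_zero, zero_add]

end concrete

end Cfsg.Agent.StdSpFour.CaseCInv
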