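import Cfsg.Agent.StdSpFour.Fusion
import Cfsg.Agent.StdSpFour.Swap
import Cfsg.Agent.StdSpFour.Weyl

/-!
`Env B A`: the facts on `A ≅ Sp₄(q)` (Bruhat decomposition, Sylow 2-subgroup, perfect subgroups of `C(t)`) from
which `PFacts` (hence the fusion lemma) follows, for `B` and for `swap B`.
-/
set_option autoImplicit false
set_option linter.unusedSectionVars false

open Subgroup Pointwise
open scoped commutatorElement

namespace Cfsg.Agent.StdSpFour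

namespace Env

variable {F G : Type*} [Field F] [Group G]

/-- membership in `U = X_a V₁` -/
def IsU (B : Base F G) (g : G) : Prop := ∃ u s m r, g = B.xa u * B.v1 s m r

/-- the eight Weyl representatives -/
def IsW (B : Base F G) (n : G) : Prop :=
  n = 1 ∨ n = B.na ∨ n = B.nb ∨ n = B.na * B.nb ∨ n = B.nb * B.na ∨ n = B.na * B.nb * B.na ∨
    n = B.nb * B.na * B.nb ∨ n = B.na * B.nb * B.na * B.nb

end Env

open Env

/-- The environment. -/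
structure Env {F G : Type*} [Field F] [Group G] (B : Base F G) (A : Subgroup G) : Prop where
  weyl : Weyl B
  self : B.Self
  xa_mem : ∀ u, B.xa u ∈ A
  xb_mem : ∀ u, B.xb u ∈ A
  zs_mem : ∀ u, B.zs u ∈ A
  zl_mem : ∀ u, B.zl u ∈ A
  na_mem : B.na ∈ A
  nb_mem : B.nb ∈ A
  h_mem : ∀ α β, B.h α β ∈ A
  comm : ∀ x ∈ A, Commute x B.t
  t_nm : B.t ∉ A
  maxA : ∀ Q : Subgroup G, ⁅Q, Q⁆ = Q → (∀ x ∈ Q, Commute x B.t) → Q ≤ A
  bruhat : ∀ g ∈ A, ∃ u, IsU B u ∧ ∃ α β n, IsW B n ∧ ∃ u', IsU B u' ∧ g = u * B.h α β * n * u'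
  syl : ∀ Q : Subgroup G, Q ≤ A → (∀ x ∈ Q, ∃ k : ℕ, x ^ 2 ^ k = 1) → (∀ u, IsU B u → u ∈ Q) → ∀ x ∈ Q, IsU B x
  conjU : ∀ x ∈ A, x * x = 1 → ∃ a ∈ A, IsU B (a⁻¹ * x * a)

namespace Env

variable {F G : Type*} [Field F] [CharP F 2] [Finite F] [Group G] {B : Base F G} {A : Subgroup G}

theorem v1_xa (B : Base F G) (s m r u : F) :
    B.v1 s m r * B.xa u = B.xa u * B.v1 s (m + u * s) (r + u ^ 2 * s) := by
  rw [B.xa_v1, add_assoc, CharTwo.add_self_eq_zero, add_zero, add_assoc, CharTwo.add_self_eq_zero, add_zero]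

theorem IsU.mul {g k : G} (hg : IsU B g) (hk : IsU B k) : IsU B (g * k) := by
  obtain ⟨u, s, m, r, rfl⟩ := hg
  obtain ⟨u', s', m', r', rfl⟩ := hk
  refine ⟨u + u', s + s', m + u' * s + m', r + u' ^ 2 * s + r', ?_⟩
  rw [B.xa_add, ← B.v1_mul]
  calc B.xa u * B.v1 s m r * (B.xa u' * B.v1 s' m' r') = B.xa u * (B.v1 s m r * B.xa u') * B.v1 s' m' r' := by group
    _ = _ := by rw [v1_xa]; group

theorem IsU.one : IsU B 1 := ⟨0, 0, 0, 0, by rw [B.xa_zero, B.v1_zero, one_mul]⟩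

theorem IsU.xa (u : F) : IsU B (B.xa u) := ⟨u, 0, 0, 0, by rw [B.v1_zero, mul_one]⟩

theorem IsU.v1 (s m r : F) : IsU B (B.v1 s m r) := ⟨0, s, m, r, by rw [B.xa_zero, one_mul]⟩

theorem IsU.inv {g : G} (hg : IsU B g) : IsU B g⁻¹ := by
  obtain ⟨u, s, m, r, rfl⟩ := hg
  rw [mul_inv_rev, B.v1_inv, B.xa_inv]
  exact (IsU.v1 s m r).mul (IsU.xa u)

theorem nf_inj {u s m r u' s' m' r' : F} (h : B.xa u * B.v1 s m r = B.xa u' * B.v1 s' m' r') :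
    u = u' ∧ s = s' ∧ m = m' ∧ r = r' := by
  have h1 : B.xa (u + u') * B.v1 (s + s') (m + m') (r + r') = 1 := by
    rw [B.xa_add, ← B.v1_mul]
    calc B.xa u * B.xa u' * (B.v1 s m r * B.v1 s' m' r')
        = B.xa u' * (B.xa u * B.v1 s m r) * B.v1 s' m' r' := by
          rw [show B.xa u * B.xa u' = B.xa u' * B.xa u by rw [← B.xa_add, ← B.xa_add, add_comm]]; group
      _ = (B.xa u' * B.xa u') * (B.v1 s' m' r' * B.v1 s' m' r') := by rw [h]; group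
      _ = 1 := by rw [B.xa_xa, B.v1_v1, one_mul]
  have h2 := B.inj (u + u') (s + s') (m + m') (r + r') (by
    rw [← h1, Base.v1]; group)
  exact ⟨FieldAux.eq_of_add_eq_zero h2.1, FieldAux.eq_of_add_eq_zero h2.2.1,
    FieldAux.eq_of_add_eq_zero h2.2.2.1, FieldAux.eq_of_add_eq_zero h2.2.2.2⟩

theorem IsU.conj_h {g : G} (hg : IsU B g) (α β : Fˣ) : IsU B (B.h α β * g * (B.h α β)⁻¹) := by
  obtain ⟨u, s, m, r, rfl⟩ := hg
  refine ⟨α * u, β * s, α * β * m, α ^ 2 * β * r, ?_⟩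
  calc B.h α β * (B.xa u * B.v1 s m r) * (B.h α β)⁻¹ = (B.h α β * B.xa u) * B.v1 s m r * (B.h α β)⁻¹ := by group
    _ = B.xa (α * u) * (B.h α β * B.v1 s m r) * (B.h α β)⁻¹ := by rw [B.h_xa]; group
    _ = _ := by rw [B.h_v1]; group

/-- conjugation by an element of `U` fixes the elements of `Z`. -/
theorem IsU.comm_z {g : G} (hg : IsU B g) (m r : F) : Commute g (B.v1 0 m r) := by
  obtain ⟨u, s, m', r', rfl⟩ := hg
  apply Commute.mul_left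
  · show B.xa u * B.v1 0 m r = B.v1 0 m r * B.xa u
    rw [B.xa_v1, mul_zero, mul_zero, add_zero, add_zero]
  · exact B.v1_comm _ _ _ _ _ _

theorem not_isU_na : ¬ IsU B B.na := by
  rintro ⟨u, s, m, r, h⟩
  have h1 := B.na_v1 1 0 0
  have h2 : B.na * B.v1 1 0 0 = B.v1 1 u (u ^ 2) * B.na := by
    rw [h]
    calc B.xa u * B.v1 s m r * B.v1 1 0 0 = B.xa u * (B.v1 s m r * B.v1 1 0 0) := by group
      _ = B.xa u * (B.v1 1 0 0 * B.v1 s m r) := by rw [(B.v1_comm s m r 1 0 0).eq]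
      _ = B.xa u * B.v1 1 0 0 * B.v1 s m r := by group
      _ = _ := by rw [B.xa_v1, mul_one, mul_one, zero_add, zero_add]; group
  rw [h1] at h2
  have h3 := mul_right_cancel h2
  exact zero_ne_one (B.v1_inj h3).1

variable (hE : Env B A)
include hE

theorem na_inv : B.na⁻¹ = B.na := inv_eq_of_mul_eq_one_right hE.weyl.na_sq

theorem nb_inv : B.nb⁻¹ = B.nb := inv_eq_of_mul_eq_one_right hE.weyl.nb_sq

/-- `na = x_a(1) (na x_a(1) na) x_a(1)` -/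
theorem na_eq : B.na = B.xa 1 * (B.na * B.xa 1 * B.na) * B.xa 1 := by
  have h := hE.weyl.na_xa
  have h1 : (B.na * B.xa 1 * B.na) * (B.xa 1 * B.na * B.xa 1) = 1 := by
    rw [← h, pow_succ, pow_two]; group
  have h2 : (B.na * B.xa 1 * B.na) = (B.xa 1 * B.na * B.xa 1)⁻¹ := eq_inv_of_mul_eq_one_left h1
  rw [h2, mul_inv_rev, mul_inv_rev, B.xa_inv, hE.na_inv]
  calc B.na = (B.xa 1 * B.xa 1) * B.na * (B.xa 1 * B.xa 1) := by rw [B.xa_xa, one_mul, mul_one]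
    _ = _ := by group

/-- `h(α,1)` moves `na x_a(u) na⁻¹` to `na x_a(α⁻¹u) na⁻¹`. -/
theorem conj_xma (α β : Fˣ) (u : F) : B.h α β * (B.na * B.xa u * B.na⁻¹) * (B.h α β)⁻¹ =
    B.na * B.xa ((α⁻¹ : Fˣ) * u) * B.na⁻¹ := by
  have h1 : B.h α β * B.na = B.na * B.h α⁻¹ (α ^ 2 * β) := by
    rw [B.na_h, inv_inv]; congr 2
    rw [inv_pow, inv_mul_cancel_left]
  have h2 : B.na⁻¹ * (B.h α β)⁻¹ = (B.h α⁻¹ (α ^ 2 * β))⁻¹ * B.na⁻¹ := by
    rw [← mul_inv_rev, h1, mul_inv_rev]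
  calc B.h α β * (B.na * B.xa u * B.na⁻¹) * (B.h α β)⁻¹
      = (B.h α β * B.na) * B.xa u * (B.na⁻¹ * (B.h α β)⁻¹) := by group
    _ = B.na * (B.h α⁻¹ (α ^ 2 * β) * B.xa u) * (B.h α⁻¹ (α ^ 2 * β))⁻¹ * B.na⁻¹ := by rw [h1, h2]; group
    _ = _ := by rw [B.h_xa]; group

theorem not_isU_xma {u : F} (hu : u ≠ 0) : ¬ IsU B (B.na * B.xa u * B.na⁻¹) := by
  intro h
  have h1 := h.conj_h (Units.mk0 u hu) 1
  rw [hE.conj_xma] at h1
  have e : ((Units.mk0 u hu)⁻¹ : Fˣ) * u = 1 := by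
    rw [Units.val_inv_eq_inv_val, Units.val_mk0, inv_mul_cancel₀ hu]
  rw [e, hE.na_inv] at h1
  apply not_isU_na (B := B)
  rw [hE.na_eq]
  exact ((IsU.xa 1).mul h1).mul (IsU.xa 1)

omit [CharP F 2] [Finite F] hE in
theorem comm_conj {n x y : G} (h : Commute x y) : Commute (n * x * n⁻¹) (n * y * n⁻¹) := by
  show n * x * n⁻¹ * (n * y * n⁻¹) = n * y * n⁻¹ * (n * x * n⁻¹)
  calc n * x * n⁻¹ * (n * y * n⁻¹) = n * (x * y) * n⁻¹ := by group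
    _ = _ := by rw [h.eq]; group

/-! ### the subgroups `L₁`, `P₁` -/

omit hE in
/-- generators of `P₁` -/
def PS (B : Base F G) : Set G := {x | x = B.na ∨ (∃ u, x = B.xa u) ∨ ∃ s m r, x = B.v1 s m r}

omit hE in
/-- `P₁ = ⟨na, X_a, V₁⟩` -/
def P1 (B : Base F G) : Subgroup G := closure (PS B)

omit hE in
/-- `L₁ = ⟨na, X_a⟩` -/
def L1 (B : Base F G) : Subgroup G := closure ({B.na} ∪ Set.range B.xa)

omit hE in
theorem na_P1 : B.na ∈ P1 B := subset_closure (Or.inl rfl)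
omit hE in
theorem xa_P1 (u : F) : B.xa u ∈ P1 B := subset_closure (Or.inr (Or.inl ⟨u, rfl⟩))
omit hE in
theorem v1_P1 (s m r : F) : B.v1 s m r ∈ P1 B := subset_closure (Or.inr (Or.inr ⟨s, m, r, rfl⟩))
omit hE in
theorem na_L1 : B.na ∈ L1 B := subset_closure (Or.inl rfl)
omit hE in
theorem xa_L1 (u : F) : B.xa u ∈ L1 B := subset_closure (Or.inr ⟨u, rfl⟩)

omit hE in
theorem L1_le : L1 B ≤ P1 B := by
  rw [L1, closure_le]
  rintro _ (rfl | ⟨u, rfl⟩)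
  · exact na_P1
  · exact xa_P1 u

omit hE in
theorem isU_P1 {g : G} (hg : IsU B g) : g ∈ P1 B := by
  obtain ⟨u, s, m, r, rfl⟩ := hg
  exact mul_mem (xa_P1 u) (v1_P1 s m r)

theorem P1_le : P1 B ≤ A := by
  rw [P1, closure_le]
  rintro _ (rfl | ⟨u, rfl⟩ | ⟨s, m, r, rfl⟩)
  · exact hE.na_mem
  · exact hE.xa_mem u
  · exact mul_mem (mul_mem (hE.xb_mem s) (hE.zs_mem m)) (hE.zl_mem r)

theorem isU_mem {g : G} (hg : IsU B g) : g ∈ A := hE.P1_le (isU_P1 hg)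

theorem v_norm_both {x : G} (hx : x ∈ P1 B) : ∀ s m r, (∃ s' m' r', x⁻¹ * B.v1 s m r * x = B.v1 s' m' r') ∧
    ∃ s' m' r', x * B.v1 s m r * x⁻¹ = B.v1 s' m' r' := by
  rw [P1] at hx
  induction hx using closure_induction with
  | mem y hy =>
    intro s m r
    rcases hy with rfl | ⟨u, rfl⟩ | ⟨s', m', r', rfl⟩
    · have h1 : B.na * B.v1 s m r * B.na⁻¹ = B.v1 r m s := by rw [B.na_v1]; group
      refine ⟨⟨r, m, s, ?_⟩, ⟨r, m, s, h1⟩⟩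
      rw [← h1, hE.na_inv]
    · have h1 : B.xa u * B.v1 s m r * (B.xa u)⁻¹ = B.v1 s (m + u * s) (r + u ^ 2 * s) := by rw [B.xa_v1]; group
      refine ⟨⟨s, m + u * s, r + u ^ 2 * s, ?_⟩, ⟨_, _, _, h1⟩⟩
      rw [← h1, B.xa_inv]
    · have h1 : B.v1 s' m' r' * B.v1 s m r * (B.v1 s' m' r')⁻¹ = B.v1 s m r := by
        rw [(B.v1_comm s' m' r' s m r).eq]; group
      have h2 : (B.v1 s' m' r')⁻¹ * B.v1 s m r * B.v1 s' m' r' = B.v1 s m r := by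
        rw [mul_assoc, (B.v1_comm s m r s' m' r').eq]; group
      exact ⟨⟨_, _, _, h2⟩, ⟨_, _, _, h1⟩⟩
  | one => intro s m r; exact ⟨⟨s, m, r, by group⟩, ⟨s, m, r, by group⟩⟩
  | mul x y _ _ hx hy =>
    intro s m r
    obtain ⟨⟨s1, m1, r1, h1⟩, -⟩ := hx s m r
    obtain ⟨⟨s2, m2, r2, h2⟩, -⟩ := hy s1 m1 r1
    obtain ⟨-, ⟨s3, m3, r3, h3⟩⟩ := hy s m r
    obtain ⟨-, ⟨s4, m4, r4, h4⟩⟩ := hx s3 m3 r3
    refine ⟨⟨s2, m2, r2, ?_⟩, ⟨s4, m4, r4, ?_⟩⟩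
    · rw [← h2, ← h1]; group
    · rw [← h4, ← h3]; group
  | inv x _ hx =>
    intro s m r
    obtain ⟨⟨s1, m1, r1, h1⟩, ⟨s2, m2, r2, h2⟩⟩ := hx s m r
    refine ⟨⟨s2, m2, r2, ?_⟩, ⟨s1, m1, r1, ?_⟩⟩
    · rw [← h2]; group
    · rw [← h1]; group

theorem split {x : G} (hx : x ∈ P1 B) : ∃ l ∈ L1 B, ∃ s m r, x = l * B.v1 s m r := by
  rw [P1] at hx
  induction hx using closure_induction with
  | mem y hy =>
    rcases hy with rfl | ⟨u, rfl⟩ | ⟨s', m', r', rfl⟩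
    · exact ⟨B.na, na_L1, 0, 0, 0, by rw [B.v1_zero, mul_one]⟩
    · exact ⟨B.xa u, xa_L1 u, 0, 0, 0, by rw [B.v1_zero, mul_one]⟩
    · exact ⟨1, one_mem _, s', m', r', by rw [one_mul]⟩
  | one => exact ⟨1, one_mem _, 0, 0, 0, by rw [B.v1_zero, mul_one]⟩
  | mul x y _ _ hx hy =>
    obtain ⟨l, hl, s, m, r, rfl⟩ := hx
    obtain ⟨l', hl', s', m', r', rfl⟩ := hy
    obtain ⟨⟨s1, m1, r1, h1⟩, -⟩ := hE.v_norm_both (L1_le hl') s m r
    refine ⟨l * l', mul_mem hl hl', s1 + s', m1 + m', r1 + r', ?_⟩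
    rw [← B.v1_mul, ← h1]; group
  | inv x _ hx =>
    obtain ⟨l, hl, s, m, r, rfl⟩ := hx
    obtain ⟨-, ⟨s1, m1, r1, h1⟩⟩ := hE.v_norm_both (L1_le hl) s m r
    refine ⟨l⁻¹, inv_mem hl, s1, m1, r1, ?_⟩
    rw [← h1, mul_inv_rev, B.v1_inv]; group

theorem z1 {x : G} (hx : x ∈ P1 B) (w : F) : Commute x (B.zs w) := by
  rw [P1] at hx
  induction hx using closure_induction with
  | mem y hy =>
    rcases hy with rfl | ⟨u, rfl⟩ | ⟨s', m', r', rfl⟩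
    · exact B.na_zs w
    · exact B.xa_zs u w
    · rw [← Base.v1_zs]; exact B.v1_comm _ _ _ _ _ _
  | one => exact Commute.one_left _
  | mul x y _ _ hx hy => exact hx.mul_left hy
  | inv x _ hx => exact hx.inv_left

/-- the torus of `L₁` -/
theorem tor (α : Fˣ) : B.h α α⁻¹ ∈ L1 B := by
  obtain ⟨β, hβ⟩ : ∃ β : Fˣ, β ^ 2 = α := ⟨Swap.rtU α, Swap.sq_rtU α⟩
  have h1 : B.h β 1 * B.na * (B.h β 1)⁻¹ = B.h (β ^ 2) (β ^ 2)⁻¹ * B.na := by
    rw [B.h_inv, mul_assoc, B.na_h, ← mul_assoc, ← B.h_mul]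
    congr 2
    · rw [inv_inv, sq]
    · rw [inv_one, mul_one, one_mul, inv_pow]
  have h2 : B.h β 1 * B.na * (B.h β 1)⁻¹ = B.xa β * (B.na * B.xa ((β⁻¹ : Fˣ) : F) * B.na⁻¹) * B.xa β := by
    have h3 := hE.conj_xma β 1 1
    rw [mul_one] at h3
    have h4 : B.h β 1 * B.xa 1 * (B.h β 1)⁻¹ = B.xa β := by rw [B.h_xa, mul_one]; group
    conv_lhs => rw [hE.na_eq]
    calc B.h β 1 * (B.xa 1 * (B.na * B.xa 1 * B.na) * B.xa 1) * (B.h β 1)⁻¹
        = (B.h β 1 * B.xa 1 * (B.h β 1)⁻¹) * (B.h β 1 * (B.na * B.xa 1 * B.na) * (B.h β 1)⁻¹) *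
          (B.h β 1 * B.xa 1 * (B.h β 1)⁻¹) := by group
      _ = _ := by rw [h4, ← h3, hE.na_inv]
  rw [← hβ]
  have h5 : B.h (β ^ 2) (β ^ 2)⁻¹ = B.xa β * (B.na * B.xa ((β⁻¹ : Fˣ) : F) * B.na⁻¹) * B.xa β * B.na⁻¹ := by
    rw [← h2, h1]; group
  rw [h5]
  exact mul_mem (mul_mem (mul_mem (xa_L1 _) (mul_mem (mul_mem na_L1 (xa_L1 _)) (inv_mem na_L1))) (xa_L1 _))
    (inv_mem na_L1)

omit hE in
theorem comm_le (P : Subgroup G) : ⁅P, P⁆ ≤ P := by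
  rw [commutator_le]
  intro g hg k hk
  exact mul_mem (mul_mem (mul_mem hg hk) (inv_mem hg)) (inv_mem hk)

omit hE in
theorem conj_comm {P : Subgroup G} {g c : G} (hg : g ∈ P) (hc : c ∈ ⁅P, P⁆) : g * c * g⁻¹ ∈ ⁅P, P⁆ := by
  have h1 : g * c * g⁻¹ = ⁅g, c⁆ * c := by rw [commutatorElement_def]; group
  rw [h1]
  exact mul_mem (commutator_mem_commutator hg (comm_le P hc)) hc

theorem perf1 (hF : 4 ≤ Nat.card F) : ⁅P1 B, P1 B⁆ = P1 B := by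
  have := Fintype.ofFinite F
  rw [Nat.card_eq_fintype_card] at hF
  obtain ⟨α, hα⟩ := Base.exists_unit_ne hF
  have hα' : ((α : F) + 1) ≠ 0 := by
    intro h
    exact hα (Units.ext (by rw [Units.val_one]; exact FieldAux.eq_of_add_eq_zero h))
  have hβ' : (((α⁻¹ : Fˣ) : F) + 1) ≠ 0 := by
    intro h
    have h1 : ((α⁻¹ : Fˣ) : F) = 1 := FieldAux.eq_of_add_eq_zero h
    have h2 : α⁻¹ = 1 := Units.ext (by rw [h1, Units.val_one])
    exact hα (inv_eq_one.1 h2)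
  have hh : B.h α α⁻¹ ∈ P1 B := L1_le (hE.tor α)
  apply le_antisymm (comm_le _)
  set C := ⁅P1 B, P1 B⁆ with hC
  have hxa : ∀ u, B.xa u ∈ C := by
    intro u
    have h1 : ⁅B.h α α⁻¹, B.xa (((α : F) + 1)⁻¹ * u)⁆ = B.xa u := by
      rw [commutatorElement_def, B.h_xa, B.xa_inv]
      have : B.xa (α * (((α : F) + 1)⁻¹ * u)) * B.xa (((α : F) + 1)⁻¹ * u) = B.xa u := by
        rw [← B.xa_add]; congr 1
        field_simp
      rw [← this]; group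
    rw [← h1]
    exact commutator_mem_commutator hh (xa_P1 _)
  have hxb : ∀ u, B.xb u ∈ C := by
    intro u
    have h1 : ⁅B.h α α⁻¹, B.v1 ((((α⁻¹ : Fˣ) : F) + 1)⁻¹ * u) 0 0⁆ = B.xb u := by
      rw [commutatorElement_def, Base.v1_xb, B.h_xb, B.xb_inv]
      have : B.xb ((α⁻¹ : Fˣ) * ((((α⁻¹ : Fˣ) : F) + 1)⁻¹ * u)) * B.xb ((((α⁻¹ : Fˣ) : F) + 1)⁻¹ * u) = B.xb u := by
        rw [← B.xb_add]; congr 1
        field_simp
      rw [← this]; group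
    rw [← h1]
    exact commutator_mem_commutator hh (v1_P1 _ _ _)
  have hzl : ∀ u, B.zl u ∈ C := by
    intro u
    have h1 : B.na * B.xb u * B.na⁻¹ = B.zl u := by rw [B.na_xb]; group
    rw [← h1]
    exact conj_comm na_P1 (hxb u)
  have hzs : ∀ u, B.zs u ∈ C := by
    intro u
    have h1 : B.zs u = (B.xb u * B.xa 1)⁻¹ * (B.xa 1 * B.xb u) * (B.zl u)⁻¹ := by
      rw [B.xa_xb, one_mul, one_pow, one_mul]; group
    rw [h1]
    exact mul_mem (mul_mem (inv_mem (mul_mem (hxb u) (hxa 1))) (mul_mem (hxa 1) (hxb u))) (inv_mem (hzl u))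
  rw [P1, closure_le]
  rintro _ (rfl | ⟨u, rfl⟩ | ⟨s, m, r, rfl⟩)
  · show B.na ∈ C
    rw [hE.na_eq]
    have h1 := conj_comm (P := P1 B) na_P1 (hxa 1)
    rw [hE.na_inv] at h1
    exact mul_mem (mul_mem (hxa 1) h1) (hxa 1)
  · exact hxa u
  · exact mul_mem (mul_mem (hxb s) (hzs m)) (hzl r)

theorem conj_h {x : G} (hx : x ∈ P1 B) (α β : Fˣ) : B.h α β * x * (B.h α β)⁻¹ ∈ P1 B := by
  rw [P1] at hx
  induction hx using closure_induction with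
  | mem y hy =>
    rcases hy with rfl | ⟨u, rfl⟩ | ⟨s', m', r', rfl⟩
    · have h1 : B.h α β * B.na * (B.h α β)⁻¹ = B.h (α ^ 2) (α ^ 2)⁻¹ * B.na := by
        rw [B.h_inv, mul_assoc, B.na_h, ← mul_assoc, ← B.h_mul]
        congr 2
        · rw [inv_inv, sq]
        · rw [inv_pow, mul_comm (α ^ 2)⁻¹, mul_inv_cancel_left]
      rw [h1]
      exact mul_mem (L1_le (hE.tor _)) na_P1
    · have h1 : B.h α β * B.xa u * (B.h α β)⁻¹ = B.xa (α * u) := by rw [B.h_xa]; group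
      rw [h1]; exact xa_P1 _
    · have h1 : B.h α β * B.v1 s' m' r' * (B.h α β)⁻¹ = B.v1 (β * s') (α * β * m') (α ^ 2 * β * r') := by
        rw [B.h_v1]; group
      rw [h1]; exact v1_P1 _ _ _
  | one => rw [mul_one, mul_inv_cancel]; exact one_mem _
  | mul x y _ _ hx hy =>
    have h1 : B.h α β * (x * y) * (B.h α β)⁻¹ = (B.h α β * x * (B.h α β)⁻¹) * (B.h α β * y * (B.h α β)⁻¹) := by group
    rw [h1]; exact mul_mem hx hy
  | inv x _ hx =>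
    have h1 : B.h α β * x⁻¹ * (B.h α β)⁻¹ = (B.h α β * x * (B.h α β)⁻¹)⁻¹ := by group
    rw [h1]; exact inv_mem hx

/-- `C_{P₁}(P₁) = Z_s` -/
theorem center1 {x : G} (hx : x ∈ P1 B) (hc : ∀ y ∈ P1 B, Commute x y) : ∃ m, x = B.zs m := by
  have h1 : ∃ s m r, x = B.v1 s m r := by
    obtain ⟨s, m, r, h⟩ := hE.self.cent1 x (hE.comm x (hE.P1_le hx))
      (fun u => by rw [← Base.v1_xb]; exact hc _ (v1_P1 _ _ _))
      (fun u => by rw [← Base.v1_zs]; exact hc _ (v1_P1 _ _ _))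
      (fun u => by rw [← Base.v1_zl]; exact hc _ (v1_P1 _ _ _))
    refine ⟨s, m, r, ?_⟩
    rcases h with h | h
    · exact h
    · exfalso
      apply hE.t_nm
      have h2 : B.t = x * (B.v1 s m r)⁻¹ := by rw [h, Base.v1]; group
      rw [h2]
      exact mul_mem (hE.P1_le hx) (inv_mem (hE.P1_le (v1_P1 s m r)))
  obtain ⟨s, m, r, rfl⟩ := h1
  have h2 := (hc _ (xa_P1 1)).eq
  rw [B.xa_v1, one_mul, one_pow, one_mul] at h2
  have h2' : B.v1 s m r * B.xa 1 = B.v1 s (m + s) (r + s) * B.xa 1 := h2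
  have h3 := (B.v1_inj (mul_right_cancel h2')).2.1
  have hs : s = 0 := by
    have h4 : m + 0 = m + s := by rw [add_zero]; exact h3
    exact (add_left_cancel h4).symm
  have h4 := (hc _ na_P1).eq
  rw [B.na_v1] at h4
  have h5 := (B.v1_inj (mul_right_cancel h4)).1
  rw [hs] at h5
  refine ⟨m, ?_⟩
  rw [hs, ← h5, Base.v1_zs]

end Env

end Cfsg.Agent.StdSpFour
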