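import Cfsg.Agent.StdSpFour.CaseCHom
import Cfsg.Agent.StdSpFour.Env
import Cfsg.Agent.StdSpFour.Lift

/-!
# S1778, type Sp₄(q), case (C): lifting `T5 (Rg E)` from `X = N_G(O)/O` to `G`
-/
set_option autoImplicit false
set_option linter.unusedSectionVars false
set_option linter.unusedSimpArgs false
set_option linter.style.haveILetI false

namespace Cfsg.Agent.StdSpFour.CaseC

open Cfsg.Agent.StdSpFour Cfsg.Agent.StdSpFour.Comm QuadraticAlgebra Cfsg.Agent.StdSpFour.UFiveModel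

section mem

variable {F G : Type*} [Field F] [Group G] {B : Base F G} {E : F} [CharP F 2] (D : Three B E)

namespace Three

/-- the image of the model is contained in every normal subgroup containing `h`, `x_b`, `z_l` -/
theorem hom_mem [Finite F] (hF : 4 ≤ Nat.card F) (N : Subgroup G) [hN : N.Normal] (hh : ∀ α β, B.h α β ∈ N)
    (hxb : ∀ s, B.xb s ∈ N) (hzl : ∀ s, B.zl s ∈ N) (g : T5 (Rg E)) : D.hom g ∈ N := by
  obtain ⟨x, hx0, hx1⟩ := Two.exists_ne01 hF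
  have hx2 : x + 1 ≠ 0 := fun h => hx1 (FieldAux.eq_of_add_eq_zero h)
  set α : Fˣ := Units.mk0 x hx0 with hα
  -- commutators
  have com : ∀ y, B.h α 1 * y * (B.h α 1)⁻¹ * y⁻¹ ∈ N := by
    intro y
    have h1 : y * (B.h α 1)⁻¹ * y⁻¹ ∈ N := hN.conj_mem _ (inv_mem (hh _ _)) y
    have h2 := mul_mem (hh α 1) h1
    simpa only [mul_assoc] using h2
  have e : ∀ w : Rg E, (α : F) • (x + 1)⁻¹ • w + (x + 1)⁻¹ • w = w := by
    intro w
    rw [hα, Units.val_mk0, smul_smul, ← add_smul, ← add_one_mul, mul_inv_cancel₀ hx2, one_smul]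
  have hA : ∀ w, D.A w ∈ N := by
    intro w
    have h1 := com (D.A ((x + 1)⁻¹ • w))
    have h2 := D.h_A α 1 ((x + 1)⁻¹ • w)
    rw [h2, mul_inv_cancel_right, Two.A_inv, ← D.A_add, e] at h1
    exact h1
  have hX : ∀ w, D.X w ∈ N := by
    intro w
    have h1 := com (D.X ((x + 1)⁻¹ • w))
    have h2 := D.h_X α 1 ((x + 1)⁻¹ • w)
    rw [Units.val_one, mul_one] at h2
    rw [h2, mul_inv_cancel_right, Two.X_eq, Two.X_eq, Two.v4_inv, Two.v4_mul, e, add_zero, ← Two.X_eq] at h1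
    exact h1
  have hsg : ∀ w, D.sg w ∈ N := by
    intro w
    have h1 := com (D.sg ((x + 1)⁻¹ • w))
    have h2 := D.h_sg α 1 ((x + 1)⁻¹ • w)
    rw [one_pow, Units.val_one, mul_one] at h2
    rw [h2, mul_inv_cancel_right, Two.sg_inv, Two.sg_sg_a, Two.v4_mul, e, add_zero, add_zero, ← Two.zl_eq] at h1
    exact (Subgroup.mul_mem_cancel_right N (hzl _)).1 h1
  have hsg' : ∀ w, D.sg' w ∈ N := fun w => hN.conj_mem _ (hsg w) _
  have hv4 : ∀ s r c, D.v4 s r c ∈ N := fun s r c => mul_mem (mul_mem (hxb s) (hX r)) (hzl c)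
  rw [hom_apply]
  exact mul_mem (hA _) (mul_mem (hsg _) (mul_mem (hsg' _) (hv4 _ _ _)))

end Three

end mem

/-! ### the lift -/

section lift

open Cfsg Cfsg.Agent.StdEven.CoreQuot Cfsg.Agent.StdSpFour.Lift

variable {F : Type*} [Field F] [CharP F 2] [Finite F] {G : Type*} [Group G] [Finite G] {A : Subgroup G} {t : G}
  {T : Subgroup G}

theorem isPGroup_T5 (E : F) : IsPGroup 2 (T5 (Rg E)) := by
  haveI := Fintype.ofFinite F
  obtain ⟨n, -, hn⟩ := FiniteField.card F 2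
  refine IsPGroup.of_card (n := n * 10) ?_
  rw [card_T5, Nat.card_eq_fintype_card, hn, pow_mul]

/-- `(x_a(1) )⁻¹ ...` : the element with `w₁ = m` -/
def el1 {E : F} (m : Rg E) : T5 (Rg E) := ⟨m, 0, 0, 0, 0, 0, by simp, by simp⟩

/-- the element with `d = 1` -/
def eld (E : F) : T5 (Rg E) :=
  ⟨0, 0, 0, 0, 0, 1, by simp, by rw [star_one, star_zero, mul_zero, CharTwo.add_self_eq_zero]⟩

theorem hom_el1 {X : Type*} [Group X] {B : Base F X} {E : F} (D : Three B E) (m : Rg E) : D.hom (el1 m) = D.A m := by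
  rw [Three.hom_apply]
  have e1 : nm (0 : Rg E) = 0 := by cmp; ring
  show D.A m * (D.sg 0 * (D.sg' 0 * D.v4 ((0 : Rg E).re + nm (0 : Rg E)) 0 ((0 : Rg E) + m * star 0).re)) = _
  rw [e1, star_zero, mul_zero, add_zero, add_zero, re_zero, Two.sg_zero, Two.sg'_zero, Two.v4_zero, mul_one, mul_one,
    mul_one]

theorem hom_eld {X : Type*} [Group X] {B : Base F X} {E : F} (D : Three B E) : D.hom (eld E) = B.xb 1 := by
  rw [Three.hom_apply]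
  have e1 : nm (0 : Rg E) = 0 := by cmp; ring
  show D.A 0 * (D.sg 0 * (D.sg' 0 * D.v4 ((1 : Rg E).re + nm (0 : Rg E)) 0 ((0 : Rg E) + 0 * star 0).re)) = _
  rw [e1, star_zero, mul_zero, add_zero, add_zero, re_zero, Two.sg_zero, Two.sg'_zero, Two.A_zero, one_mul, one_mul,
    one_mul, ← Two.xb_eq]
  rfl

/-- The data lifted to `G`. -/
structure CLift (H : Hyp A t T) (B : Base F (XQ A t)) {E : F} (D : Three B E) where
  f : T5 (Rg E) →* G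
  f_mem : ∀ x, f x ∈ NO A t
  f_pr : ∀ x, pr A t ⟨f x, f_mem x⟩ = D.hom x
  f_core : ∀ x, ∀ o ∈ core A t, o * f x = f x * o
  f_two : ∀ x, Lift.Two (f x)
  f_rel : ∀ (g : ↥(NO A t)) x y, pr A t g * D.hom x * (pr A t g)⁻¹ = D.hom y → (g : G) * f x * (g : G)⁻¹ = f y
  f_uni : ∀ x (n : ↥(NO A t)), Lift.Two (n : G) → pr A t n = D.hom x → f x = n
  na : G
  nb : G
  na_mem : na ∈ A
  nb_mem : nb ∈ A
  na_two : Lift.Two na
  nb_two : Lift.Two nb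
  na_pr : pr A t ⟨na, H.A_le na_mem⟩ = B.na
  nb_pr : pr A t ⟨nb, H.A_le nb_mem⟩ = B.nb
  h : Fˣ → Fˣ → G
  h_mem : ∀ α γ, h α γ ∈ A
  h_pr : ∀ α γ, pr A t ⟨h α γ, H.A_le (h_mem α γ)⟩ = B.h α γ

theorem exists_CLift (H : Hyp A t T) {B : Base F (XQ A t)} (hE : Env B (im A t A)) {E : F} (D : Three B E)
    (hF : 4 ≤ Nat.card F) : Nonempty (CLift H B D) := by
  have hle := im_A_le H
  obtain ⟨f, hf, h1, h2, h3, h4, h5⟩ := exists_lift_core H (isPGroup_T5 E) D.hom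
    (fun x => D.hom_mem hF (Cb A t) (fun α β => hle (hE.h_mem α β)) (fun s => hle (hE.xb_mem s))
      (fun s => hle (hE.zl_mem s)) x)
  obtain ⟨a, ha, ha2, hap⟩ := exists_two_A H hE.na_mem ⟨1, by rw [pow_one, pow_two, hE.weyl.na_sq]⟩
  obtain ⟨b, hb, hb2, hbp⟩ := exists_two_A H hE.nb_mem ⟨1, by rw [pow_one, pow_two, hE.weyl.nb_sq]⟩
  have h6 : ∀ α γ, ∃ (n : G) (hn : n ∈ A), pr A t ⟨n, H.A_le hn⟩ = B.h α γ := by
    intro α γ
    obtain ⟨n, hn, e⟩ := mem_im.mp (hE.h_mem α γ)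
    exact ⟨n, hn, e⟩
  choose h hh hhp using h6
  exact ⟨⟨f, hf, h1, h2, h3, h4, h5, a, b, ha, hb, ha2, hb2, hap, hbp, h, hh, hhp⟩⟩

namespace CLift

variable {H : Hyp A t T} {B : Base F (XQ A t)} {E : F} {D : Three B E} (L : CLift H B D)

theorem f_inj : Function.Injective L.f := by
  intro x y hxy
  apply D.hom_inj
  rw [← L.f_pr, ← L.f_pr]
  congr 1
  exact Subtype.ext hxy

omit [CharP F 2] [Finite F] in
include H in
/-- 2-elements of `C_G(O)` are determined by their images in `X` -/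
theorem uni {x y : ↥(NO A t)} (hx : ∀ o ∈ core A t, o * (x : G) = x * o) (h2x : Lift.Two (x : G))
    (h2y : Lift.Two (y : G)) (h : pr A t x = pr A t y) : (x : G) = y := by
  obtain ⟨k, hk⟩ := h2x
  obtain ⟨l, hl⟩ := h2y
  exact congrArg Subtype.val (Lift.unique (pr A t) H.odd_ker (mem_C.2 hx) ⟨k, Subtype.ext hk⟩ ⟨l, Subtype.ext hl⟩ h)

include H in
theorem A_core {a : G} (ha : a ∈ A) : ∀ o ∈ core A t, o * a = a * o := fun _ ho =>
  ((Subgroup.mem_centralizer_iff.1 (H.core_le ho)) a ha).symm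

include H in
theorem t_A {a : G} (ha : a ∈ A) : t * a = a * t := ((Subgroup.mem_centralizer_iff.1 H.htA) a ha).symm

theorem two_one : Lift.Two (1 : G) := ⟨0, one_pow _⟩

theorem two_sq {x : G} (h : Lift.Two x) : Lift.Two (x * x) := by
  obtain ⟨k, hk⟩ := h
  exact ⟨k, by rw [← pow_two, ← pow_mul, mul_comm, pow_mul, hk, one_pow]⟩

theorem two_conj {x : G} (h : Lift.Two x) (g : G) : Lift.Two (g * x * g⁻¹) := h.conj g

theorem two_of_sq {x : G} (h : x * x = 1) : Lift.Two x := ⟨1, by rw [pow_one, pow_two, h]⟩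

variable (hE : Env B (im A t A))
include hE

theorem na_na : L.na * L.na = 1 := by
  refine uni (H := H) (x := ⟨L.na * L.na, mul_mem (H.A_le L.na_mem) (H.A_le L.na_mem)⟩) (y := 1)
    (A_core (H := H) (mul_mem L.na_mem L.na_mem)) (two_sq L.na_two) two_one ?_
  have e : (⟨L.na * L.na, mul_mem (H.A_le L.na_mem) (H.A_le L.na_mem)⟩ : ↥(NO A t)) =
    ⟨L.na, H.A_le L.na_mem⟩ * ⟨L.na, H.A_le L.na_mem⟩ := rfl
  rw [e, map_mul, L.na_pr, map_one]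
  exact hE.weyl.na_sq

theorem nb_nb : L.nb * L.nb = 1 := by
  refine uni (H := H) (x := ⟨L.nb * L.nb, mul_mem (H.A_le L.nb_mem) (H.A_le L.nb_mem)⟩) (y := 1)
    (A_core (H := H) (mul_mem L.nb_mem L.nb_mem)) (two_sq L.nb_two) two_one ?_
  have e : (⟨L.nb * L.nb, mul_mem (H.A_le L.nb_mem) (H.A_le L.nb_mem)⟩ : ↥(NO A t)) =
    ⟨L.nb, H.A_le L.nb_mem⟩ * ⟨L.nb, H.A_le L.nb_mem⟩ := rfl
  rw [e, map_mul, L.nb_pr, map_one]
  exact hE.weyl.nb_sq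

omit hE

theorem t_na : Commute t L.na := t_A (H := H) L.na_mem
theorem t_nb : Commute t L.nb := t_A (H := H) L.nb_mem
theorem t_h (α γ : Fˣ) : Commute t (L.h α γ) := t_A (H := H) (L.h_mem α γ)

theorem t_f (hBt : B.t = H.tX) (x : T5 (Rg E)) : t * L.f x * t⁻¹ = L.f (Three.st x) := by
  refine L.f_rel ⟨t, H.t_mem⟩ x _ ?_
  have h1 := D.t_hom x
  rw [hBt] at h1
  change H.tX * D.hom x * (H.tX)⁻¹ = _
  rw [h1, mul_inv_cancel_right]

theorem nb_q {x : T5 (Rg E)} (hy : x.y = 0) (hd : x.d = 0) : L.nb * L.f x * L.nb⁻¹ = L.f (Three.nbT x) := by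
  refine L.f_rel ⟨L.nb, H.A_le L.nb_mem⟩ x _ ?_
  rw [L.nb_pr, D.nb_hom hy hd, mul_inv_cancel_right]

theorem na_r (hE : Env B (im A t A)) {x : T5 (Rg E)} (hx : x.w1 = 0) :
    L.na * L.f x * L.na⁻¹ = L.f (Three.naT x hx) := by
  refine L.f_rel ⟨L.na, H.A_le L.na_mem⟩ x _ ?_
  rw [L.na_pr, D.na_hom hE.weyl.na_sq hx, mul_inv_cancel_right]

theorem h_f (α γ : Fˣ) (x : T5 (Rg E)) :
    L.h α (γ ^ 2) * L.f x * (L.h α (γ ^ 2))⁻¹ = L.f (Three.hT (α : F) (γ : F) x) := by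
  refine L.f_rel ⟨L.h α (γ ^ 2), H.A_le (L.h_mem _ _)⟩ x _ ?_
  rw [L.h_pr, D.h_hom, mul_inv_cancel_right]

/-- 2-elements `x` of the model with `hom x ∈ im A` have `f x ∈ A` -/
theorem f_mem_A {x : T5 (Rg E)} (hx : D.hom x ∈ im A t A) : L.f x ∈ A := by
  obtain ⟨k, hk⟩ := isPGroup_T5 E x
  obtain ⟨a, ha, ha2, hap⟩ := exists_two_A H hx ⟨k, by rw [← map_pow, hk, map_one]⟩
  rw [L.f_uni x ⟨a, H.A_le ha⟩ ha2 hap]
  exact ha

theorem f_sq {x : T5 (Rg E)} (hx : x * x = 1) : L.f x * L.f x = 1 := by rw [← map_mul, hx, map_one]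

theorem el1_sq (m : Rg E) : el1 m * el1 m = 1 := by
  apply T5.ext
  · simp only [T5.mul_w1, el1, T5.one_w1]; exact Two.radd m
  · simp [T5.mul_w2, el1, T5.one_w2]
  · simp [T5.mul_w3, el1, T5.one_w3]
  · simp [T5.mul_c, el1, T5.one_c]
  · simp [T5.mul_y, el1, T5.one_y]
  · simp [T5.mul_d, el1, T5.one_d]

theorem eld_sq : eld E * eld E = 1 := by
  apply T5.ext
  · simp [T5.mul_w1, eld, T5.one_w1]
  · simp [T5.mul_w2, eld, T5.one_w2]
  · simp [T5.mul_w3, eld, T5.one_w3]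
  · simp [T5.mul_c, eld, T5.one_c]
  · simp [T5.mul_y, eld, T5.one_y]
  · simp only [T5.mul_d, eld, T5.one_d, mul_zero, star_zero, add_zero]; exact Two.radd 1

/-- `n = x (n x n⁻¹) x` from `(n x)³ = 1`, `n² = 1` -/
theorem eq_of_cube {X : Type*} [Group X] {n x : X} (hn : n * n = 1) (h : (n * x) ^ 3 = 1) :
    n = x * (n * x * n⁻¹) * x := by
  have e : n⁻¹ = n := inv_eq_of_mul_eq_one_left hn
  rw [e]
  have h1 : n * (n * x * (n * x) * (n * x)) = n := by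
    have : n * x * (n * x) * (n * x) = (n * x) ^ 3 := by rw [pow_succ, pow_two]
    rw [this, h, mul_one]
  calc n = n * (n * x * (n * x) * (n * x)) := h1.symm
    _ = (n * n) * x * (n * x * n) * x := by group
    _ = _ := by rw [hn, one_mul]

include hE

theorem na_eq : L.na = L.f (el1 1) * (L.na * L.f (el1 1) * L.na⁻¹) * L.f (el1 1) := by
  have hA : L.f (el1 1) ∈ A := by
    apply L.f_mem_A
    rw [hom_el1]
    have e : (1 : Rg E) = ⟨1, 0⟩ := rfl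
    rw [e, D.A_re]
    exact hE.xa_mem 1
  have hsq := L.f_sq (el1_sq (E := E) 1)
  have hinv : L.f (el1 1) = (L.f (el1 1))⁻¹ := (inv_eq_of_mul_eq_one_left hsq).symm
  have hmem : L.f (el1 1) * (L.na * L.f (el1 1) * L.na⁻¹) * L.f (el1 1) ∈ A :=
    mul_mem (mul_mem hA (mul_mem (mul_mem L.na_mem hA) (inv_mem L.na_mem))) hA
  refine uni (H := H) (x := ⟨L.na, H.A_le L.na_mem⟩)
    (y := ⟨L.f (el1 1) * (L.na * L.f (el1 1) * L.na⁻¹) * L.f (el1 1), H.A_le hmem⟩)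
    (A_core (H := H) L.na_mem) L.na_two ?_ ?_
  · show Lift.Two (L.f (el1 1) * (L.na * L.f (el1 1) * L.na⁻¹) * L.f (el1 1))
    nth_rewrite 3 [hinv]
    exact two_conj (two_conj (two_of_sq hsq) _) _
  · have e : (⟨L.f (el1 1) * (L.na * L.f (el1 1) * L.na⁻¹) * L.f (el1 1), H.A_le hmem⟩ : ↥(NO A t)) =
      ⟨L.f (el1 1), L.f_mem _⟩ * (⟨L.na, H.A_le L.na_mem⟩ * ⟨L.f (el1 1), L.f_mem _⟩ * ⟨L.na, H.A_le L.na_mem⟩⁻¹) *
        ⟨L.f (el1 1), L.f_mem _⟩ := rfl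
    rw [e, map_mul, map_mul, map_mul, map_mul, map_inv, L.na_pr, L.f_pr, hom_el1]
    have e : (1 : Rg E) = ⟨1, 0⟩ := rfl
    rw [e, D.A_re]
    exact eq_of_cube hE.weyl.na_sq hE.weyl.na_xa

theorem nb_eq : L.nb = L.f (eld E) * (L.nb * L.f (eld E) * L.nb⁻¹) * L.f (eld E) := by
  have hA : L.f (eld E) ∈ A := by
    apply L.f_mem_A
    rw [hom_eld]
    exact hE.xb_mem 1
  have hsq := L.f_sq (eld_sq (E := E))
  have hinv : L.f (eld E) = (L.f (eld E))⁻¹ := (inv_eq_of_mul_eq_one_left hsq).symm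
  have hmem : L.f (eld E) * (L.nb * L.f (eld E) * L.nb⁻¹) * L.f (eld E) ∈ A :=
    mul_mem (mul_mem hA (mul_mem (mul_mem L.nb_mem hA) (inv_mem L.nb_mem))) hA
  refine uni (H := H) (x := ⟨L.nb, H.A_le L.nb_mem⟩)
    (y := ⟨L.f (eld E) * (L.nb * L.f (eld E) * L.nb⁻¹) * L.f (eld E), H.A_le hmem⟩)
    (A_core (H := H) L.nb_mem) L.nb_two ?_ ?_
  · show Lift.Two (L.f (eld E) * (L.nb * L.f (eld E) * L.nb⁻¹) * L.f (eld E))
    nth_rewrite 3 [hinv]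
    exact two_conj (two_conj (two_of_sq hsq) _) _
  · have e : (⟨L.f (eld E) * (L.nb * L.f (eld E) * L.nb⁻¹) * L.f (eld E), H.A_le hmem⟩ : ↥(NO A t)) =
      ⟨L.f (eld E), L.f_mem _⟩ * (⟨L.nb, H.A_le L.nb_mem⟩ * ⟨L.f (eld E), L.f_mem _⟩ * ⟨L.nb, H.A_le L.nb_mem⟩⁻¹) *
        ⟨L.f (eld E), L.f_mem _⟩ := rfl
    rw [e, map_mul, map_mul, map_mul, map_mul, map_inv, L.nb_pr, L.f_pr, hom_eld]
    exact eq_of_cube hE.weyl.nb_sq hE.weyl.nb_xb

omit hE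

/-! ### the centre of `A` -/

/-- `Z(A) = A ∩ O` -/
def Cn (A : Subgroup G) (t : G) : Subgroup G := A ⊓ core A t

include H in
theorem Cn_odd {k : G} (hk : k ∈ Cn A t) (h : k * k = 1) : k = 1 :=
  eq_one_of_sq_of_odd h (H.mem_core.1 hk.2).2.2

theorem Cn_f {k : G} (hk : k ∈ Cn A t) (x : T5 (Rg E)) : k * L.f x = L.f x * k := L.f_core x k hk.2

include H in
theorem Cn_A {k : G} (hk : k ∈ Cn A t) {a : G} (ha : a ∈ A) : k * a = a * k := A_core (H := H) ha k hk.2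

theorem mod_Cn {a b : G} (ha : a ∈ A) (hb : b ∈ A)
    (h : pr A t ⟨a, H.A_le ha⟩ = pr A t ⟨b, H.A_le hb⟩) : ∃ k ∈ Cn A t, a = b * k := by
  refine ⟨b⁻¹ * a, ⟨A.mul_mem (A.inv_mem hb) ha, ?_⟩, by group⟩
  have h1 : pr A t (⟨b, H.A_le hb⟩⁻¹ * ⟨a, H.A_le ha⟩) = 1 := by rw [map_mul, map_inv, h, inv_mul_cancel]
  exact pr_eq_one.1 h1

theorem na_h (α γ : Fˣ) : ∃ k ∈ Cn A t, L.na * L.h α γ = L.h α⁻¹ (α ^ 2 * γ) * L.na * k := by
  apply mod_Cn (H := H) (mul_mem L.na_mem (L.h_mem _ _)) (mul_mem (L.h_mem _ _) L.na_mem)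
  have e1 : (⟨L.na * L.h α γ, H.A_le (mul_mem L.na_mem (L.h_mem _ _))⟩ : ↥(NO A t)) =
    ⟨L.na, H.A_le L.na_mem⟩ * ⟨L.h α γ, H.A_le (L.h_mem _ _)⟩ := rfl
  have e2 : (⟨L.h α⁻¹ (α ^ 2 * γ) * L.na, H.A_le (mul_mem (L.h_mem _ _) L.na_mem)⟩ : ↥(NO A t)) =
    ⟨L.h α⁻¹ (α ^ 2 * γ), H.A_le (L.h_mem _ _)⟩ * ⟨L.na, H.A_le L.na_mem⟩ := rfl
  rw [e1, e2, map_mul, map_mul, L.na_pr, L.h_pr, L.h_pr]
  exact B.na_h α γ

theorem nb_h (α γ : Fˣ) : ∃ k ∈ Cn A t, L.nb * L.h α γ = L.h (α * γ) γ⁻¹ * L.nb * k := by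
  apply mod_Cn (H := H) (mul_mem L.nb_mem (L.h_mem _ _)) (mul_mem (L.h_mem _ _) L.nb_mem)
  have e1 : (⟨L.nb * L.h α γ, H.A_le (mul_mem L.nb_mem (L.h_mem _ _))⟩ : ↥(NO A t)) =
    ⟨L.nb, H.A_le L.nb_mem⟩ * ⟨L.h α γ, H.A_le (L.h_mem _ _)⟩ := rfl
  have e2 : (⟨L.h (α * γ) γ⁻¹ * L.nb, H.A_le (mul_mem (L.h_mem _ _) L.nb_mem)⟩ : ↥(NO A t)) =
    ⟨L.h (α * γ) γ⁻¹, H.A_le (L.h_mem _ _)⟩ * ⟨L.nb, H.A_le L.nb_mem⟩ := rfl
  rw [e1, e2, map_mul, map_mul, L.nb_pr, L.h_pr, L.h_pr]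
  exact B.nb_h α γ

end CLift

end lift

end Cfsg.Agent.StdSpFour.CaseC
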