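import Cfsg.Agent.StdSpFour.UFourGroup

/-!
# S1778, type Sp₄(q), target U₄(q): the groups `Ka`, `Kb`
-/

set_option autoImplicit false
set_option linter.unusedSectionVars false

namespace Cfsg.Agent.StdSpFour.UFour

open Cfsg.Agent.StdSpFour.CaseBModel Subgroup Cfsg.Agent.StdSpFour.RootEight

theorem mem_norm {G : Type*} [Group G] {g : G} {H : Subgroup G} (h1 : ∀ x ∈ H, cg g x ∈ H)
    (h2 : ∀ x ∈ H, cg g⁻¹ x ∈ H) : g ∈ normalizer (H : Set G) := by
  rw [mem_normalizer_iff]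
  intro x
  constructor
  · exact h1 x
  · intro h
    have := h2 _ h
    rwa [show cg g⁻¹ (g * x * g⁻¹) = x from cg_inv_cg g x] at this

namespace Env

variable {F G : Type*} [Field F] [CharP F 2] {c : F} [Group G] (V : Env c G)

/-! ### `Ka` -/

theorem na_mem : V.na ∈ V.Ka := by
  have h1 : V.f ⟨1, 0, 0, 0, 0, 0⟩ ∈ V.X0 := V.f_X0.2 ⟨rfl, rfl, rfl, rfl⟩
  rw [V.na_eq]
  exact mul_mem (mul_mem (mem_sup_left h1) (mem_sup_right ⟨_, h1, rfl⟩)) (mem_sup_left h1)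

theorem nb_mem : V.nb ∈ V.Kb := by
  have h1 : V.f ⟨0, 0, 1, 0, 0, 0⟩ ∈ V.X3 := V.f_X3.2 ⟨rfl, rfl, rfl, rfl, rfl⟩
  rw [V.nb_eq]
  exact mul_mem (mul_mem (mem_sup_left h1) (mem_sup_right ⟨_, h1, rfl⟩)) (mem_sup_left h1)

/-- a subgroup containing `X 0` and `na` contains `Ka` -/
theorem Ka_le_of {H : Subgroup G} (h0 : V.X0 ≤ H) (hn : V.na ∈ H) : V.Ka ≤ H := by
  refine sup_le h0 ?_
  rintro _ ⟨x, hx, rfl⟩
  exact mul_mem (mul_mem hn (h0 hx)) (inv_mem hn)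

theorem Kb_le_of {H : Subgroup G} (h0 : V.X3 ≤ H) (hn : V.nb ∈ H) : V.Kb ≤ H := by
  refine sup_le h0 ?_
  rintro _ ⟨x, hx, rfl⟩
  exact mul_mem (mul_mem hn (h0 hx)) (inv_mem hn)

/-- `k` preserves the determinant -/
def Dt (k : G) : Prop := ∀ s m n r, ∃ s' m' n' r', cg k (V.f ⟨0, 0, s, m, n, r⟩) = V.f ⟨0, 0, s', m', n', r'⟩ ∧
  s' * r' + N c m' n' = s * r + N c m n

/-- the stabiliser of the determinant -/
def dStab : Subgroup G where
  carrier := {k | V.Dt k ∧ V.Dt k⁻¹}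
  mul_mem' := by
    have key : ∀ k k', V.Dt k → V.Dt k' → V.Dt (k * k') := by
      intro k k' h h' s m n r
      obtain ⟨s1, m1, n1, r1, e1, d1⟩ := h' s m n r
      obtain ⟨s2, m2, n2, r2, e2, d2⟩ := h s1 m1 n1 r1
      exact ⟨s2, m2, n2, r2, by rw [cg_comp, e1, e2], d2.trans d1⟩
    rintro k k' ⟨h1, h2⟩ ⟨h3, h4⟩
    exact ⟨key _ _ h1 h3, by rw [mul_inv_rev]; exact key _ _ h4 h2⟩
  one_mem' := by
    have : V.Dt 1 := fun s m n r => ⟨s, m, n, r, by simp [cg], rfl⟩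
    exact ⟨this, by rw [inv_one]; exact this⟩
  inv_mem' := by
    rintro k ⟨h1, h2⟩
    exact ⟨h2, by rwa [inv_inv]⟩

theorem Ka_le_dStab : V.Ka ≤ V.dStab := by
  have h2 := two_eq (F := F)
  apply V.Ka_le_of
  · have key : ∀ x ∈ V.X0, V.Dt x := by
      intro x hx s m n r
      obtain ⟨u, v, rfl⟩ := V.mem_X0 hx
      refine ⟨_, _, _, _, V.a_w _ s m n r, ?_⟩
      simp only [N]
      linear_combination (s * u * n + s * v * m + s ^ 2 * u * v + s ^ 2 * u ^ 2 + c * s ^ 2 * v ^ 2 + s * u * m +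
        s * v * n * c) * h2
    exact fun x hx => ⟨key x hx, key _ (inv_mem hx)⟩
  · have : V.Dt V.na := by
      intro s m n r
      refine ⟨_, _, _, _, V.na_w s m n r, ?_⟩
      simp only [N]
      linear_combination (m * n + n ^ 2) * h2
    exact ⟨this, by rw [V.na_inv]; exact this⟩

theorem Ka_W' {k : G} (hk : k ∈ V.Ka) {w : G} (hw : w ∈ V.W) : cg k w ∈ V.W := by
  obtain ⟨s, m, n, r, rfl⟩ := V.mem_W hw
  obtain ⟨s1, m1, n1, r1, e1, -⟩ := (V.Ka_le_dStab hk).1 s m n r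
  rw [e1]
  exact V.f_W.2 ⟨rfl, rfl⟩

/-- `h 1 β` centralises `Ka` -/
theorem h_Ka (β : Fˣ) {k : G} (hk : k ∈ V.Ka) : V.h 1 β * k = k * V.h 1 β := by
  have : V.Ka ≤ centralizer ({V.h 1 β} : Set G) := by
    apply V.Ka_le_of
    · intro x hx
      obtain ⟨u, v, rfl⟩ := V.mem_X0 hx
      rw [mem_centralizer_singleton_iff]
      have h1 := V.h_f 1 β u v 0 0 0 0
      simp only [Units.val_one, one_mul, mul_zero] at h1
      exact (comm_of_cg h1).symm
    · rw [mem_centralizer_singleton_iff]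
      obtain ⟨k, hk, this⟩ := V.na_h 1 β
      simp only [inv_one, one_pow, one_mul] at this
      have h1 : V.h 1 β * (k * k) = V.h 1 β := by
        calc V.h 1 β * (k * k) = V.h 1 β * (V.na * V.na) * (k * k) := by rw [V.na_na, mul_one]
          _ = (V.h 1 β * V.na * (V.na * k)) * k := by group
          _ = (V.h 1 β * V.na * (k * V.na)) * k := by rw [V.Cn_na k hk]
          _ = (V.h 1 β * V.na * k) * V.na * k := by group
          _ = (V.na * V.h 1 β) * V.na * k := by rw [← this]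
          _ = V.na * (V.h 1 β * V.na * k) := by group
          _ = V.na * (V.na * V.h 1 β) := by rw [← this]
          _ = (V.na * V.na) * V.h 1 β := by group
          _ = V.h 1 β := by rw [V.na_na, one_mul]
      have h2 : k = 1 := V.Cn_odd k hk (mul_eq_left.1 h1)
      rw [h2, mul_one] at this
      exact this
  exact (mem_centralizer_singleton_iff.1 (this hk)).symm

theorem Ka_TI' {k : G} (hk : k ∈ V.Ka) {z : G} (hz : z ∈ V.Z) (hz1 : z ≠ 1) (h : cg k z ∈ V.Z) {z' : G}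
    (hz' : z' ∈ V.Z) : cg k z' ∈ V.Z := by
  obtain ⟨r, rfl⟩ := V.mem_Z hz
  obtain ⟨r', rfl⟩ := V.mem_Z hz'
  have hr : r ≠ 0 := by
    rintro rfl
    exact hz1 (map_one V.f)
  by_cases hr' : r' = 0
  · subst hr'
    have e : V.f ⟨0, 0, 0, 0, 0, 0⟩ = 1 := map_one V.f
    rw [e, cg_one]
    exact one_mem _
  · set β : Fˣ := Units.mk0 (r' / r) (div_ne_zero hr' hr)
    have e1 := V.h_f 1 β 0 0 0 0 0 r
    have e2 : (β : F) * r = r' := div_mul_cancel₀ _ hr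
    simp only [Units.val_one, one_pow, one_mul, mul_zero] at e1
    rw [e2] at e1
    rw [← e1, ← cg_comp, ← V.h_Ka β hk, cg_comp]
    obtain ⟨r1, e3⟩ := V.mem_Z h
    rw [e3, V.h_f]
    refine V.f_Z.2 ⟨?_, ?_, ?_, ?_, ?_⟩ <;> simp

theorem S_iff' (hc : Irr c) (x : G) : x ∈ V.S ↔ ∃ k ∈ V.Ka, ∃ z ∈ V.Z, z ≠ 1 ∧ x = cg k z := by
  have h2 := two_eq (F := F)
  constructor
  · rintro ⟨⟨u, v, s, m, n, r⟩, ⟨h1, h3, h4, h5⟩, rfl⟩
    simp only at h1 h3 h4
    subst h1 h3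
    by_cases hs : s = 0
    · subst hs
      rw [zero_mul] at h4
      obtain ⟨h6, h7⟩ := N_eq_zero hc h4.symm
      subst h6 h7
      refine ⟨1, one_mem _, V.f ⟨0, 0, 0, 0, 0, r⟩, V.f_Z.2 ⟨rfl, rfl, rfl, rfl, rfl⟩, ?_, by simp [cg]⟩
      intro h8
      exact h5 (V.inj (h8.trans (map_one V.f).symm))
    · refine ⟨V.f ⟨m / s, n / s, 0, 0, 0, 0⟩ * V.na, mul_mem (mem_sup_left (V.f_X0.2 ⟨rfl, rfl, rfl, rfl⟩)) V.na_mem,
        V.f ⟨0, 0, 0, 0, 0, s⟩, V.f_Z.2 ⟨rfl, rfl, rfl, rfl, rfl⟩, ?_, ?_⟩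
      · intro h8
        exact hs (congrArg TB.r (V.inj (h8.trans (map_one V.f).symm)))
      · rw [cg_comp, V.na_w, V.a_w]
        congr 1
        ext
        · rfl
        · rfl
        · rfl
        · simp only; field_simp; ring
        · simp only; field_simp; ring
        · simp only [N] at h4 ⊢
          field_simp
          linear_combination h4
  · rintro ⟨k, hk, z, hz, hz1, rfl⟩
    obtain ⟨r, rfl⟩ := V.mem_Z hz
    obtain ⟨s1, m1, n1, r1, e1, e2⟩ := (V.Ka_le_dStab hk).1 0 0 0 r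
    rw [e1]
    refine V.f_S.2 ⟨rfl, rfl, ?_, ?_⟩
    · simp only
      rw [zero_mul, N_zero, add_zero] at e2
      exact eq_of_add e2
    · intro h3
      rw [h3, map_one] at e1
      exact hz1 (cg_inj (g := k) (e1.trans (cg_one k).symm))

theorem S_Ka (hc : Irr c) {k : G} (hk : k ∈ V.Ka) {x : G} (hx : x ∈ V.S) : cg k x ∈ V.S := by
  obtain ⟨k', hk', z, hz, hz1, rfl⟩ := (V.S_iff' hc x).1 hx
  exact (V.S_iff' hc _).2 ⟨k * k', mul_mem hk hk', z, hz, hz1, (cg_comp k k' z).symm⟩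

/-! ### `Kb` -/

theorem Kb_Z' {k : G} (hk : k ∈ V.Kb) {z : G} (hz : z ∈ V.Z) : k * z = z * k := by
  have : V.Kb ≤ centralizer (V.Z : Set G) := by
    apply V.Kb_le_of
    · rintro _ ⟨x, hx, rfl⟩
      rw [mem_centralizer_iff]
      rintro _ ⟨z, hz, rfl⟩
      rw [← map_mul, ← map_mul, TZ_central hz]
    · rw [mem_centralizer_iff]
      intro z hz
      obtain ⟨r, rfl⟩ := V.mem_Z hz
      have := V.nb_q 0 0 0 0 r
      simp only [mul_zero, add_zero] at this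
      exact (comm_of_cg this).symm
  exact (mem_centralizer_iff.1 (this hk) z hz).symm

theorem T_norm_Q {x : G} (hx : x ∈ V.T) {y : G} (hy : y ∈ V.Q) : cg x y ∈ V.Q := by
  obtain ⟨x, rfl⟩ := hx
  obtain ⟨y, hy, rfl⟩ := hy
  have hy' : y.s = 0 := hy
  rw [V.cg_f]
  apply V.f_Q.2
  simp only [mul_s, inv_s, hy']
  linear_combination x.s * two_eq (F := F)

theorem nb_Q {y : G} (hy : y ∈ V.Q) : cg V.nb y ∈ V.Q := by
  obtain ⟨u, v, m, n, r, rfl⟩ := V.mem_Q hy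
  rw [V.nb_q]
  exact V.f_Q.2 rfl

theorem Kb_norm : V.Kb ≤ normalizer (V.Q : Set G) := by
  apply V.Kb_le_of
  · intro x hx
    exact mem_norm (fun y hy => V.T_norm_Q (V.X3_le hx) hy) (fun y hy => V.T_norm_Q (V.X3_le (inv_mem hx)) hy)
  · refine mem_norm (fun y hy => V.nb_Q hy) (fun y hy => ?_)
    rw [V.nb_inv]
    exact V.nb_Q hy

theorem Kb_Q' {k : G} (hk : k ∈ V.Kb) {x : G} (hx : x ∈ V.Q) : cg k x ∈ V.Q :=
  (mem_normalizer_iff.1 (V.Kb_norm hk) x).1 hx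

theorem inv_Q' {v : G} (hv : v ∈ V.Q) (hv1 : v * v = 1) : ∃ k ∈ V.Kb, cg k v ∈ V.W := by
  obtain ⟨a, b, m, n, r, rfl⟩ := V.mem_Q hv
  have h1 : (⟨a, b, 0, m, n, r⟩ : TB c) * ⟨a, b, 0, m, n, r⟩ = 1 := V.inj (by rw [map_mul, hv1, map_one])
  rw [sq_eq] at h1
  have h3 : a * n + b * m = 0 := by
    have := congrArg TB.r h1
    simp only [mul_zero, add_zero, one_r] at this
    exact this
  by_cases hab : a = 0 ∧ b = 0
  · exact ⟨1, one_mem _, by simp only [cg, one_mul, inv_one, mul_one]; exact V.f_W.2 hab⟩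
  · obtain ⟨s, hs1, hs2⟩ : ∃ s, m = s * a ∧ n = s * b := by
      have h2 := two_eq (F := F)
      by_cases ha : a = 0
      · have hb : b ≠ 0 := fun hb => hab ⟨ha, hb⟩
        refine ⟨n / b, ?_, by field_simp⟩
        rw [ha] at h3
        rw [ha, mul_zero]
        exact (mul_eq_zero.1 (by linear_combination h3 : b * m = 0)).resolve_left hb
      · refine ⟨m / a, by field_simp, ?_⟩
        field_simp
        linear_combination h3 - b * m * h2
    subst hs1 hs2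
    refine ⟨V.nb * V.f ⟨0, 0, s, 0, 0, 0⟩, mul_mem V.nb_mem (mem_sup_left (V.f_X3.2 ⟨rfl, rfl, rfl, rfl, rfl⟩)), ?_⟩
    have h4 := mul_q (⟨0, 0, s, 0, 0, 0⟩ : TB c) ⟨a, b, 0, s * a, s * b, r⟩ rfl
    have h5 : (⟨0, 0, s, 0, 0, 0⟩ : TB c) * ⟨a, b, 0, s * a, s * b, r⟩ * (⟨0, 0, s, 0, 0, 0⟩ : TB c)⁻¹ =
        ⟨a, b, 0, 0, 0, N c a b * s + (a * (b * s) + b * (a * s)) +
          (a * (s * b) + b * (s * a)) + (a * (b * s) + b * (a * s)) * 0 + r + 0 + (a * (b * s) + b * (a * s))⟩ := by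
      have h2 := two_eq (F := F)
      rw [mul_inv_eq_iff_eq_mul]
      ext
      · simp only [mul_u]; ring
      · simp only [mul_v]; ring
      · simp only [mul_s]; ring
      · simp only [mul_m]; linear_combination (a * s) * h2
      · simp only [mul_n]; linear_combination (b * s) * h2
      · simp only [mul_r, N]
        linear_combination (-(3 * a * b * s)) * h2
    rw [cg_comp, V.cg_f, h5, V.nb_q]
    exact V.f_W.2 ⟨rfl, rfl⟩

end Env

end Cfsg.Agent.StdSpFour.UFour
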