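import Cfsg.Agent.StdSpFour.UFiveS
import Cfsg.Agent.StdSpFour.UFourKa

/-!
# S1778, type Sp₄(q), target U₅(q): the data inside the group

`UFive.Env K G`: the 2-group `T = f (T5 K)`, the reflections `na`, `nb`, the torus `h`, the involution `t`.
-/

set_option autoImplicit false
set_option linter.unusedSectionVars false
set_option linter.unusedSimpArgs false

namespace Cfsg.Agent.StdSpFour.UFive

open Cfsg.Agent.StdSpFour.UFiveModel Cfsg.Agent.StdSpFour.UFiveModel.T5 Cfsg.Agent.StdSpFour.StarField Subgroup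
open Cfsg.Agent.StdSpFour.UFour (cg cg_mul cg_one cg_inv cg_comp cg_inv_cg cg_cg_inv cg_inj cg_eq_self comm_of_cg mem_norm)

variable {K : Type*} [Field K] [StarRing K] [CharP K 2]

/-- `star` on all coordinates -/
def tau (x : T5 K) : T5 K where
  w1 := star x.w1
  w2 := star x.w2
  w3 := star x.w3
  c := star x.c
  y := star x.y
  d := star x.d
  hc := by
    have h := congrArg star x.hc
    simp only [star_add, star_mul', star_star] at h ⊢
    linear_combination h
  hd := by
    have h := congrArg star x.hd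
    simp only [star_add, star_mul', star_star] at h ⊢
    linear_combination h

/-- `na` on `w1 = 0` -/
def swR (x : T5 K) (h : x.w1 = 0) : T5 K where
  w1 := 0
  w2 := x.y
  w3 := star x.w3 + star x.w2 * x.y
  c := star x.d
  y := x.w2
  d := star x.c
  hc := by
    have h := x.hd
    simp only [star_add, star_mul', star_star, zero_mul, star_zero, mul_zero]
    linear_combination h
  hd := by
    have h1 := x.hc
    rw [h, star_zero, zero_mul, mul_zero, zero_add, add_zero] at h1
    rw [star_star]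
    linear_combination h1

/-- `nb` on `y = d = 0` -/
def swQ (x : T5 K) : T5 K where
  w1 := x.w3
  w2 := x.w2
  w3 := x.w1
  c := x.c
  y := 0
  d := 0
  hc := by
    have h := x.hc
    linear_combination h
  hd := by simp

/-- the torus -/
def dia (α γ : K) (hα : α ∈ Fx K) (hγ : γ ∈ Fx K) (x : T5 K) : T5 K where
  w1 := α * x.w1
  w2 := α * γ * x.w2
  w3 := α * γ ^ 2 * x.w3
  c := α ^ 2 * γ ^ 2 * x.c
  y := γ * x.y
  d := γ ^ 2 * x.d
  hc := by
    have h := x.hc
    have ha : star α = α := hα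
    have hg : star γ = γ := hγ
    simp only [star_mul', star_pow, ha, hg]
    linear_combination α ^ 2 * γ ^ 2 * h
  hd := by
    have h := x.hd
    have hg : star γ = γ := hγ
    simp only [star_mul', star_pow, hg]
    linear_combination γ ^ 2 * h

/-- the data inside `G` -/
structure Env (K : Type*) [Field K] [StarRing K] [CharP K 2] (G : Type*) [Group G] where
  f : T5 K →* G
  inj : Function.Injective f
  t : G
  na : G
  nb : G
  /-- `h α γ` : the torus element with weights `a ↦ α`, `b ↦ γ²` (`α`, `γ` fixed by `star`, nonzero) -/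
  h : K → K → G
  tt : t * t = 1
  t_f : ∀ x, cg t (f x) = f (tau x)
  t_na : Commute t na
  t_nb : Commute t nb
  na_na : na * na = 1
  nb_nb : nb * nb = 1
  na_r : ∀ (x : T5 K) (hx : x.w1 = 0), cg na (f x) = f (swR x hx)
  nb_q : ∀ x : T5 K, x.y = 0 → x.d = 0 → cg nb (f x) = f (swQ x)
  /-- `na = x x' x` -/
  na_eq : na = f (e1 1) * cg na (f (e1 1)) * f (e1 1)
  nb_eq : nb = f oned * cg nb (f oned) * f oned
  h_f : ∀ (α γ : K) (hα : α ∈ Fx K) (hγ : γ ∈ Fx K), α ≠ 0 → γ ≠ 0 → ∀ x, cg (h α γ) (f x) = f (dia α γ hα hγ x)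
  /-- (the centre of `A`): a group of odd order centralising everything -/
  Cn : Subgroup G
  Cn_odd : ∀ k ∈ Cn, k * k = 1 → k = 1
  Cn_f : ∀ k ∈ Cn, ∀ x, k * f x = f x * k
  Cn_na : ∀ k ∈ Cn, k * na = na * k
  Cn_nb : ∀ k ∈ Cn, k * nb = nb * k
  na_h : ∀ α γ : K, α ∈ Fx K → γ ∈ Fx K → α ≠ 0 → γ ≠ 0 → ∃ k ∈ Cn, na * h α γ = h α⁻¹ (α * γ) * na * k
  nb_h : ∀ α γ : K, α ∈ Fx K → γ ∈ Fx K → α ≠ 0 → γ ≠ 0 → ∃ k ∈ Cn, nb * h α γ = h (α * γ ^ 2) γ⁻¹ * nb * k

end Cfsg.Agent.StdSpFour.UFive
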