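import Cfsg.Agent.StdSpFour.CaseCLift
import Cfsg.Agent.StdSpFour.UFiveEnv

/-!
# S1778, type Sp₄(q), case (C), `R` a field: the environment `UFive.Env (Rg E) G`
-/
set_option autoImplicit false
set_option linter.unusedSectionVars false
set_option linter.unusedSimpArgs false
set_option linter.style.haveILetI false

namespace Cfsg.Agent.StdSpFour.CaseC

open Cfsg.Agent.StdSpFour Cfsg.Agent.StdSpFour.Comm QuadraticAlgebra Cfsg.Agent.StdSpFour.UFiveModel
open Cfsg.Agent.StdSpFour.UFiveModel.T5 Cfsg.Agent.StdSpFour.StarField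

section fld

variable {F : Type*} [Field F] {E : F} [Hab : Fact (∀ r : F, r ^ 2 ≠ E + 1 * r)]

theorem im_of_mem {α : Rg E} (h : α ∈ Fx (Rg E)) : α.im = 0 := by
  have h1 : star α = α := h
  have h2 := congrArg QuadraticAlgebra.re h1
  rw [re_star, one_mul] at h2
  exact left_eq_add.1 h2.symm

theorem eq_re_of_mem {α : Rg E} (h : α ∈ Fx (Rg E)) : α = ⟨α.re, 0⟩ := by
  ext
  · rfl
  · exact im_of_mem h

theorem re_ne {α : Rg E} (h : α ∈ Fx (Rg E)) (h0 : α ≠ 0) : α.re ≠ 0 := by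
  intro h1
  apply h0
  rw [eq_re_of_mem h, h1]
  rfl

theorem mul_eq_smul {α : Rg E} (h : α ∈ Fx (Rg E)) (w : Rg E) : α * w = α.re • w := by
  have h1 := im_of_mem h
  ext
  · cmp; rw [h1]; ring
  · cmp; rw [h1]; ring

theorem inv_re {α : Rg E} (h : α ∈ Fx (Rg E)) (h0 : α ≠ 0) : (α⁻¹).re = (α.re)⁻¹ := by
  have h1 : α⁻¹ = ⟨(α.re)⁻¹, 0⟩ := by
    apply inv_eq_of_mul_eq_one_right
    rw [mul_eq_smul h]
    ext
    · cmp; exact mul_inv_cancel₀ (re_ne h h0)
    · cmp; rw [mul_zero]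
  rw [h1]

end fld

open Cfsg Cfsg.Agent.StdEven.CoreQuot Cfsg.Agent.StdSpFour.Lift

variable {F : Type*} [Field F] [CharP F 2] [Finite F] {G : Type*} [Group G] [Finite G] {A : Subgroup G} {t : G}
  {T : Subgroup G} {H : Hyp A t T} {B : Base F (XQ A t)} {E : F} {D : Three B E} (L : CLift H B D)
  [Hab : Fact (∀ r : F, r ^ 2 ≠ E + 1 * r)]

open Classical in
/-- the torus elements -/
noncomputable def CLift.hK (α γ : Rg E) : G :=
  if h : α.re ≠ 0 ∧ γ.re ≠ 0 then L.h (Units.mk0 α.re h.1) ((Units.mk0 γ.re h.2) ^ 2) else 1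

omit Hab in
theorem CLift.hK_eq {α γ : Rg E} (h1 : α.re ≠ 0) (h2 : γ.re ≠ 0) :
    L.hK α γ = L.h (Units.mk0 α.re h1) ((Units.mk0 γ.re h2) ^ 2) := dif_pos ⟨h1, h2⟩

/-- **the environment** -/
noncomputable def CLift.toEnv (hE : Env B (im A t A)) (hBt : B.t = H.tX) : UFive.Env (Rg E) G where
  f := L.f
  inj := L.f_inj
  t := t
  na := L.na
  nb := L.nb
  h := L.hK
  tt := H.tt
  t_f x := L.t_f hBt x
  t_na := L.t_na
  t_nb := L.t_nb
  na_na := L.na_na hE
  nb_nb := L.nb_nb hE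
  na_r x hx := by
    have h := L.na_r hE hx
    have e : Three.naT x hx = UFive.swR x hx := by
      apply T5.ext
      · rfl
      · rfl
      · show star x.w3 + x.y * star x.w2 = star x.w3 + star x.w2 * x.y
        rw [mul_comm]
      · rfl
      · rfl
      · rfl
    rw [← e]
    exact h
  nb_q x hy hd := L.nb_q hy hd
  na_eq := L.na_eq hE
  nb_eq := L.nb_eq hE
  h_f α γ hα hγ h1 h2 x := by
    have h := L.h_f (Units.mk0 α.re (re_ne hα h1)) (Units.mk0 γ.re (re_ne hγ h2)) x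
    rw [UFour.cg, L.hK_eq (re_ne hα h1) (re_ne hγ h2), h]
    congr 1
    have e := eq_re_of_mem hα
    have e' := eq_re_of_mem hγ
    apply T5.ext
    · show α.re • x.w1 = α * x.w1
      rw [mul_eq_smul hα]
    · show (α.re * γ.re) • x.w2 = α * γ * x.w2
      rw [mul_assoc, mul_eq_smul hα, mul_eq_smul hγ, smul_smul]
    · show (α.re * γ.re ^ 2) • x.w3 = α * γ ^ 2 * x.w3
      rw [mul_assoc, mul_eq_smul hα, pow_two γ, mul_assoc, mul_eq_smul hγ, mul_eq_smul hγ, smul_smul, smul_smul]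
      congr 1; ring
    · show ((α.re * γ.re) ^ 2) • x.c = α ^ 2 * γ ^ 2 * x.c
      rw [pow_two α, pow_two γ]
      simp only [mul_assoc]
      rw [mul_eq_smul hα, mul_eq_smul hα, mul_eq_smul hγ, mul_eq_smul hγ, smul_smul, smul_smul, smul_smul]
      congr 1; ring
    · show γ.re • x.y = γ * x.y
      rw [mul_eq_smul hγ]
    · show (γ.re ^ 2) • x.d = γ ^ 2 * x.d
      rw [pow_two γ, mul_assoc, mul_eq_smul hγ, mul_eq_smul hγ, smul_smul]
      congr 1; ring
  Cn := CLift.Cn A t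
  Cn_odd k hk h := CLift.Cn_odd (H := H) hk h
  Cn_f k hk x := L.Cn_f hk x
  Cn_na k hk := CLift.Cn_A (H := H) hk L.na_mem
  Cn_nb k hk := CLift.Cn_A (H := H) hk L.nb_mem
  na_h α γ hα hγ h1 h2 := by
    obtain ⟨k, hk, e⟩ := L.na_h (Units.mk0 α.re (re_ne hα h1)) ((Units.mk0 γ.re (re_ne hγ h2)) ^ 2)
    refine ⟨k, hk, ?_⟩
    have a1 : (α⁻¹).re ≠ 0 := by rw [inv_re hα h1]; exact inv_ne_zero (re_ne hα h1)
    have a2 : (α * γ).re = α.re * γ.re := by rw [mul_eq_smul hα]; rfl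
    have a3 : (α * γ).re ≠ 0 := by rw [a2]; exact mul_ne_zero (re_ne hα h1) (re_ne hγ h2)
    rw [L.hK_eq (re_ne hα h1) (re_ne hγ h2), L.hK_eq a1 a3, e]
    congr 3
    · apply Units.ext
      rw [Units.val_inv_eq_inv_val, Units.val_mk0, Units.val_mk0, inv_re hα h1]
    · apply Units.ext
      rw [Units.val_mul, Units.val_pow_eq_pow_val, Units.val_pow_eq_pow_val, Units.val_pow_eq_pow_val, Units.val_mk0,
        Units.val_mk0, Units.val_mk0, a2, mul_pow]
  nb_h α γ hα hγ h1 h2 := by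
    obtain ⟨k, hk, e⟩ := L.nb_h (Units.mk0 α.re (re_ne hα h1)) ((Units.mk0 γ.re (re_ne hγ h2)) ^ 2)
    refine ⟨k, hk, ?_⟩
    have a1 : (γ⁻¹).re ≠ 0 := by rw [inv_re hγ h2]; exact inv_ne_zero (re_ne hγ h2)
    have a2 : (α * γ ^ 2).re = α.re * γ.re ^ 2 := by
      rw [pow_two γ, mul_eq_smul hα, mul_eq_smul hγ, re_smul, re_smul, smul_eq_mul, smul_eq_mul, pow_two]
    have a3 : (α * γ ^ 2).re ≠ 0 := by
      rw [a2]; exact mul_ne_zero (re_ne hα h1) (pow_ne_zero _ (re_ne hγ h2))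
    rw [L.hK_eq (re_ne hα h1) (re_ne hγ h2), L.hK_eq a3 a1, e]
    congr 3
    · apply Units.ext
      rw [Units.val_mul, Units.val_pow_eq_pow_val, Units.val_mk0, Units.val_mk0, Units.val_mk0, a2]
    · apply Units.ext
      rw [Units.val_inv_eq_inv_val, Units.val_pow_eq_pow_val, Units.val_pow_eq_pow_val, Units.val_mk0, Units.val_mk0,
        inv_re hγ h2, inv_pow]

end Cfsg.Agent.StdSpFour.CaseC
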