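import Cfsg.Agent.StdSpFour.CloseComp
import Cfsg.Agent.Lib.LocalCore

/-!
# S1778, closing of `U₄(q)`, `U₅(q)`: the local theorem

`Loc X T Z Q`: the centraliser `X` of an involution `z ∈ Z`, `T ∈ Syl₂(X)`, `Z ≤ Z(T)`, `Q/Z` elementary abelian.
`normal_of_central`: the case `Z ≤ Z(X)`, `O(X) = 1`.
-/

set_option autoImplicit false
set_option linter.style.haveILetI false

namespace Cfsg.Agent.StdSpFour.CloseLoc

open Subgroup
open Cfsg.Agent.Lib Cfsg.Agent.Lib.GoldschmidtFusion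
open Cfsg.Agent.TwoFusion.Gold (TProp)
open Cfsg.Agent.StdSpFour.CloseComp

universe u

/-- the configuration in the centraliser of an involution of `Z` -/
structure Loc (X : Type u) [Group X] (T : Sylow 2 X) (Z Q : Subgroup X) : Prop where
  ZQ : Z ≤ Q
  QT : Q ≤ T
  Zc : ∀ z ∈ Z, ∀ x ∈ (T : Subgroup X), z * x = x * z
  Zsq : ∀ z ∈ Z, z * z = 1
  Zsc : ∀ z ∈ Z, ∀ g : X, g * z * g⁻¹ ∈ (T : Subgroup X) → g * z * g⁻¹ ∈ Z
  Qsc : ∀ g : X, (∀ z ∈ Z, g * z = z * g) → ∀ x ∈ Q, g * x * g⁻¹ ∈ (T : Subgroup X) → g * x * g⁻¹ ∈ Q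
  Qsq : ∀ x ∈ Q, x * x ∈ Z
  Qcent : ∀ x ∈ (T : Subgroup X), (∀ y ∈ Q, x * y = y * x) → x ∈ Z
  Qmod : ∀ x ∈ (T : Subgroup X), (∀ y ∈ Q, x * y * x⁻¹ * y⁻¹ ∈ Z) → x ∈ Q
  wide : ∀ d ∈ Q, d ∉ Z → ∃ e ∈ Q, ∃ e' ∈ Q,
    d * e * d⁻¹ * e⁻¹ ≠ 1 ∧ d * e' * d⁻¹ * e'⁻¹ ≠ 1 ∧ d * e * d⁻¹ * e⁻¹ ≠ d * e' * d⁻¹ * e'⁻¹
  ne : ∃ x ∈ Q, x ∉ Z
  perf : ∃ L : Subgroup X, Q ≤ L ∧ L ≤ ⁅L, L⁆ ∧ ∀ x ∈ L, ∀ z ∈ Z, x * z = z * x
  irr : ∀ R : Subgroup X, Z ≤ R → R ≤ Q → (∃ x ∈ R, x ∉ Z) →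
    (∀ g : X, (∀ z ∈ Z, g * z = z * g) → (∀ x ∈ Q, g * x * g⁻¹ ∈ Q) → ∀ x ∈ R, g * x * g⁻¹ ∈ R) → R = Q
  norm : ∀ g ∈ normalizer ((T : Subgroup X) : Set X), ∀ x ∈ Q, g * x * g⁻¹ ∈ Q

/-! ### central quotients -/

section central

variable {X : Type u} [Group X] [Finite X]

/-- `O(X/Z) = 1` if `O(X) = 1` and `Z` is a central 2-subgroup -/
theorem oddCore_quotient (hO : Cfsg.oddCore X = ⊥) (Z : Subgroup X) [Z.Normal] (hZ : ∀ z ∈ Z, ∀ x : X, z * x = x * z)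
    (hZ2 : IsPGroup 2 Z) : Cfsg.oddCore (X ⧸ Z) = ⊥ := by
  haveI : Fact (Nat.Prime 2) := ⟨Nat.prime_two⟩
  set π := QuotientGroup.mk' Z with hπ
  have hπs : Function.Surjective π := QuotientGroup.mk'_surjective Z
  set K : Subgroup X := (Cfsg.pPrimeCore 2 (X ⧸ Z)).comap π with hK
  have hKn : K.Normal := (Cores.pPrimeCore_normal (G := X ⧸ Z) 2).comap π
  have hZK : Z ≤ K := by
    intro z hz
    rw [hK, mem_comap]
    have : π z = 1 := (QuotientGroup.eq_one_iff z).2 hz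
    rw [this]; exact one_mem _
  have hcard : Nat.card K = Nat.card Z * Nat.card (Cfsg.pPrimeCore 2 (X ⧸ Z)) :=
    QuotientGroup.card_preimage_mk Z (Cfsg.pPrimeCore 2 (X ⧸ Z) : Set (X ⧸ Z))
  have hcop := Cores.pPrimeCore_coprime (G := X ⧸ Z) 2
  have hidx : ¬ 2 ∣ Z.relIndex K := by
    have h1 := SylowNormalInf.card_mul_relIndex Z K hZK
    rw [hcard] at h1
    have h2 : Z.relIndex K = Nat.card (Cfsg.pPrimeCore 2 (X ⧸ Z)) :=
      Nat.eq_of_mul_eq_mul_left Nat.card_pos h1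
    rw [h2]
    exact (Nat.Prime.coprime_iff_not_dvd Nat.prime_two).1 hcop.symm
  let P : Sylow 2 K := (hZ2.comap_of_injective K.subtype K.subtype_injective).toSylow hidx
  have hPm : ∀ x : K, x ∈ (P : Subgroup K) ↔ (x : X) ∈ Z := fun x => Iff.rfl
  have hNC : normalizer ((P : Subgroup K) : Set K) ≤ centralizer ((P : Subgroup K) : Set K) := by
    intro n _
    rw [mem_centralizer_iff]
    intro x hx
    exact Subtype.ext (hZ x hx n)
  have hcomp := MonoidHom.ker_transferSylow_isComplement' P hNC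
  have hnd := MonoidHom.not_dvd_card_ker_transferSylow P hNC
  have h1 : (MonoidHom.transferSylow P hNC).ker ≤ Cfsg.pPrimeCore 2 K :=
    Cores.le_pPrimeCore inferInstance ((Nat.Prime.coprime_iff_not_dvd Nat.prime_two).2 hnd |>.symm)
  have h2 : (Cfsg.pPrimeCore 2 K).map K.subtype = ⊥ := by
    rw [Cores.map_subtype_pPrimeCore 2 hKn]
    change K ⊓ Cfsg.oddCore X = ⊥
    rw [hO, inf_bot_eq]
  have h3 : Cfsg.pPrimeCore 2 K = ⊥ := (map_eq_bot_iff_of_injective _ K.subtype_injective).1 h2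
  rw [h3, le_bot_iff] at h1
  rw [h1] at hcomp
  have h4 : (P : Subgroup K) = ⊤ := isComplement'_bot_left.1 hcomp
  have h5 : K ≤ Z := by
    intro x hx
    have h6 : (⟨x, hx⟩ : K) ∈ (P : Subgroup K) := by rw [h4]; exact mem_top _
    exact h6
  rw [Cfsg.oddCore, eq_bot_iff]
  intro x hx
  obtain ⟨y, rfl⟩ := hπs x
  rw [mem_bot]
  exact (QuotientGroup.eq_one_iff y).2 (h5 hx)

/-- The square map modulo `Z`. -/
noncomputable def hmap (Z : Subgroup X) [Z.Normal] (x : X ⧸ Z) : Z := by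
  classical
  exact if hx : x.out * x.out ∈ Z then ⟨x.out * x.out, hx⟩ else 1

/-- The commutator form modulo `Z`. -/
noncomputable def fmap (Z : Subgroup X) [Z.Normal] (x y : X ⧸ Z) : Z := by
  classical
  exact if hx : x.out * y.out * x.out⁻¹ * y.out⁻¹ ∈ Z then ⟨x.out * y.out * x.out⁻¹ * y.out⁻¹, hx⟩ else 1

variable {Z : Subgroup X} [Z.Normal]

omit [Finite X] in
theorem out_eq (a : X) : ∃ z ∈ Z, (QuotientGroup.mk' Z a).out = a * z := by
  have h1 : QuotientGroup.mk' Z ((QuotientGroup.mk' Z a).out) = QuotientGroup.mk' Z a :=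
    Quotient.out_eq' _
  obtain ⟨z, hz, h2⟩ := (QuotientGroup.mk'_eq_mk' Z).1 h1.symm
  exact ⟨z, hz, h2.symm⟩

omit [Finite X] in
theorem hmap_mk (hZ : ∀ z ∈ Z, ∀ x : X, z * x = x * z) (hZ2 : ∀ z ∈ Z, z * z = 1) {a : X} (ha : a * a ∈ Z) :
    hmap Z (QuotientGroup.mk' Z a) = ⟨a * a, ha⟩ := by
  obtain ⟨z, hz, h1⟩ := out_eq (Z := Z) a
  have h2 : (QuotientGroup.mk' Z a).out * (QuotientGroup.mk' Z a).out = a * a := by
    rw [h1]
    calc a * z * (a * z) = a * (z * a) * z := by group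
      _ = a * a * (z * z) := by rw [hZ z hz a]; group
      _ = a * a := by rw [hZ2 z hz, mul_one]
  unfold hmap
  rw [dif_pos (by rw [h2]; exact ha)]
  exact Subtype.ext h2

omit [Finite X] in
theorem fmap_mk (hZ : ∀ z ∈ Z, ∀ x : X, z * x = x * z) {a b : X} (hab : a * b * a⁻¹ * b⁻¹ ∈ Z) :
    fmap Z (QuotientGroup.mk' Z a) (QuotientGroup.mk' Z b) = ⟨a * b * a⁻¹ * b⁻¹, hab⟩ := by
  obtain ⟨z, hz, h1⟩ := out_eq (Z := Z) a
  obtain ⟨w, hw, h3⟩ := out_eq (Z := Z) b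
  have h2 : (QuotientGroup.mk' Z a).out * (QuotientGroup.mk' Z b).out * (QuotientGroup.mk' Z a).out⁻¹ *
      (QuotientGroup.mk' Z b).out⁻¹ = a * b * a⁻¹ * b⁻¹ := by
    rw [h1, h3]
    calc a * z * (b * w) * (a * z)⁻¹ * (b * w)⁻¹ = a * (z * (b * w)) * z⁻¹ * a⁻¹ * w⁻¹ * b⁻¹ := by group
      _ = a * b * (w * a⁻¹) * w⁻¹ * b⁻¹ := by rw [hZ z hz (b * w)]; group
      _ = a * b * a⁻¹ * b⁻¹ := by rw [hZ w hw a⁻¹]; group
  unfold fmap
  rw [dif_pos (by rw [h2]; exact hab)]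
  exact Subtype.ext h2

omit [Finite X] [Z.Normal] in
/-- commutator calculus modulo a central subgroup -/
theorem comm_id (hZ : ∀ z ∈ Z, ∀ x : X, z * x = x * z) (hZ2 : ∀ z ∈ Z, z * z = 1) (a b : X)
    (hab : a * b * a⁻¹ * b⁻¹ ∈ Z) : (a * b) * (a * b) = (a * a) * (b * b) * (a * b * a⁻¹ * b⁻¹) := by
  set c := a * b * a⁻¹ * b⁻¹ with hc
  have h1 : a * b = c * (b * a) := by rw [hc]; group
  have h2 : c⁻¹ = c := inv_eq_of_mul_eq_one_left (hZ2 c hab)
  have h3 : b * a = c * (a * b) := by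
    calc b * a = c⁻¹ * (c * (b * a)) := by group
      _ = c * (a * b) := by rw [← h1, h2]
  calc (a * b) * (a * b) = a * (b * a) * b := by group
    _ = a * (c * (a * b)) * b := by rw [h3]
    _ = (a * c) * (a * b * b) := by group
    _ = (c * a) * (a * b * b) := by rw [hZ c hab a]
    _ = c * ((a * a) * (b * b)) := by group
    _ = (a * a) * (b * b) * c := by rw [hZ c hab]

/-- **The central case.** -/
theorem normal_of_central (hZS : ZStarStmt.{u})
    (hT : ∀ (G : Type u) [Group G] [Finite G], IsSimpleGroup G → (∃ a b : G, a * b ≠ b * a) → TProp G)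
    (hO : Cfsg.oddCore X = ⊥) (T : Sylow 2 X) {Q : Subgroup X}
    (hZ : ∀ z ∈ Z, ∀ x : X, z * x = x * z) (hZ2 : ∀ z ∈ Z, z * z = 1) (hZQ : Z ≤ Q) (hQT : Q ≤ T)
    (hQsc : ∀ g : X, ∀ x ∈ Q, g * x * g⁻¹ ∈ (T : Subgroup X) → g * x * g⁻¹ ∈ Q)
    (hQsq : ∀ x ∈ Q, x * x ∈ Z)
    (hQmod : ∀ x ∈ (T : Subgroup X), (∀ y ∈ Q, x * y * x⁻¹ * y⁻¹ ∈ Z) → x ∈ Q)
    (hwide : ∀ d ∈ Q, d ∉ Z → ∃ e ∈ Q, ∃ e' ∈ Q,
      d * e * d⁻¹ * e⁻¹ ≠ 1 ∧ d * e' * d⁻¹ * e'⁻¹ ≠ 1 ∧ d * e * d⁻¹ * e⁻¹ ≠ d * e' * d⁻¹ * e'⁻¹)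
    (hne : ∃ x ∈ Q, x ∉ Z)
    (hirr : ∀ R : Subgroup X, Z ≤ R → R ≤ Q → (∃ x ∈ R, x ∉ Z) → R.Normal → R = Q) : Q.Normal := by
  classical
  haveI : Fact (Nat.Prime 2) := ⟨Nat.prime_two⟩
  set π := QuotientGroup.mk' Z with hπ
  have hπs : Function.Surjective π := QuotientGroup.mk'_surjective Z
  have hπ1 : ∀ x : X, π x = 1 ↔ x ∈ Z := fun x => QuotientGroup.eq_one_iff x
  have hZT : Z ≤ (T : Subgroup X) := hZQ.trans hQT
  -- images
  have hmem : ∀ (H : Subgroup X), Z ≤ H → ∀ x : X, π x ∈ H.map π ↔ x ∈ H := by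
    intro H hH x
    constructor
    · rintro ⟨y, hy, hyx⟩
      obtain ⟨z, hz, h1⟩ := (QuotientGroup.mk'_eq_mk' Z).1 hyx
      rw [← h1]
      exact H.mul_mem hy (hH hz)
    · intro hx
      exact mem_map_of_mem _ hx
  -- squares and commutators in `Q`
  have hcomm : ∀ a ∈ Q, ∀ b ∈ Q, a * b * a⁻¹ * b⁻¹ ∈ Z := by
    intro a ha b hb
    have h1 := hQsq _ (Q.mul_mem ha hb)
    have h2 : a * b * a⁻¹ * b⁻¹ = (a * b * (a * b)) * ((b * b)⁻¹ * (b * (a * a)⁻¹ * b⁻¹)) := by group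
    have h3 : b * (a * a)⁻¹ * b⁻¹ = (a * a)⁻¹ := by
      rw [← hZ _ (Z.inv_mem (hQsq a ha)) b]; group
    rw [h2, h3]
    exact Z.mul_mem h1 (Z.mul_mem (Z.inv_mem (hQsq b hb)) (Z.inv_mem (hQsq a ha)))
  have hZ2p : IsPGroup 2 Z := T.isPGroup'.to_le hZT
  -- the quotient configuration
  let T' : Sylow 2 (X ⧸ Z) := T.mapSurjective hπs
  have hT' : (T' : Subgroup (X ⧸ Z)) = (T : Subgroup X).map π := rfl
  have hsc : Cfsg.IsStronglyClosed (Q.map π) (T' : Subgroup (X ⧸ Z)) := by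
    refine ⟨by rw [hT']; exact map_mono hQT, ?_⟩
    rintro _ ⟨x, hx, rfl⟩ g' hg'
    obtain ⟨g, rfl⟩ := hπs g'
    rw [← map_mul, ← map_inv, ← map_mul, hT', hmem _ hZT] at hg'
    rw [← map_mul, ← map_inv, ← map_mul]
    exact mem_map_of_mem _ (hQsc g x hx hg')
  have hsq : ∀ x ∈ Q.map π, x * x = 1 := by
    rintro _ ⟨x, hx, rfl⟩
    rw [← map_mul, hπ1]
    exact hQsq x hx
  have hcent : ∀ x ∈ (T' : Subgroup (X ⧸ Z)), (∀ y ∈ Q.map π, x * y = y * x) → x ∈ Q.map π := by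
    rintro x' hx' h
    rw [hT'] at hx'
    obtain ⟨x, hx, rfl⟩ := hx'
    refine mem_map_of_mem _ (hQmod x hx fun y hy => ?_)
    have h1 := h (π y) (mem_map_of_mem _ hy)
    rw [← hπ1, map_mul, map_mul, map_mul, map_inv, map_inv, h1]
    group
  have hodd := oddCore_quotient hO Z hZ hZ2p
  have hQne : Q.map π ≠ ⊥ := by
    intro h0
    obtain ⟨x, hx, hxZ⟩ := hne
    apply hxZ
    rw [← hπ1, ← mem_bot, ← h0]
    exact mem_map_of_mem _ hx
  have hQn : ∀ t ∈ (T : Subgroup X), ∀ x ∈ Q, t * x * t⁻¹ ∈ Q := fun t ht x hx =>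
    hQsc t x hx ((T : Subgroup X).mul_mem ((T : Subgroup X).mul_mem ht (hQT hx)) ((T : Subgroup X).inv_mem ht))
  by_cases htwo : Cfsg.pCore 2 (X ⧸ Z) = ⊥
  · -- components
    exfalso
    have hyp : Hyp (X ⧸ Z) T' (Q.map π) := ⟨hsc, hsq, hcent, hodd, htwo, hQne⟩
    letI : CommGroup Z := { (inferInstance : Group Z) with
      mul_comm := fun a b => Subtype.ext (hZ a a.2 b) }
    have F : Forms (X ⧸ Z) (Q.map π) Z (hmap Z) (fmap Z) := by
      refine ⟨fun a => Subtype.ext (hZ2 a a.2), ?_, ?_, ?_, ?_, ?_, ?_, ?_⟩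
      · rintro _ ⟨a, ha, rfl⟩ _ ⟨b, hb, rfl⟩
        rw [← map_mul, hmap_mk hZ hZ2 (hQsq _ (Q.mul_mem ha hb)), hmap_mk hZ hZ2 (hQsq a ha),
          hmap_mk hZ hZ2 (hQsq b hb), fmap_mk hZ (hcomm a ha b hb)]
        exact Subtype.ext (comm_id hZ hZ2 a b (hcomm a ha b hb))
      · rintro _ ⟨a, ha, rfl⟩ _ ⟨b, hb, rfl⟩ _ ⟨c, hc, rfl⟩
        rw [← map_mul, fmap_mk hZ (hcomm _ (Q.mul_mem ha hb) c hc), fmap_mk hZ (hcomm a ha c hc),
          fmap_mk hZ (hcomm b hb c hc)]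
        apply Subtype.ext
        change a * b * c * (a * b)⁻¹ * c⁻¹ = (a * c * a⁻¹ * c⁻¹) * (b * c * b⁻¹ * c⁻¹)
        have h1 := hZ _ (hcomm b hb c hc)
        calc a * b * c * (a * b)⁻¹ * c⁻¹ = a * ((b * c * b⁻¹ * c⁻¹) * (c * a⁻¹)) * c⁻¹ := by group
          _ = a * ((c * a⁻¹) * (b * c * b⁻¹ * c⁻¹)) * c⁻¹ := by rw [h1]
          _ = a * c * a⁻¹ * ((b * c * b⁻¹ * c⁻¹) * c⁻¹) := by group
          _ = a * c * a⁻¹ * (c⁻¹ * (b * c * b⁻¹ * c⁻¹)) := by rw [h1]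
          _ = _ := by group
      · rintro _ ⟨a, ha, rfl⟩ _ ⟨b, hb, rfl⟩ _ ⟨c, hc, rfl⟩
        rw [← map_mul, fmap_mk hZ (hcomm a ha _ (Q.mul_mem hb hc)), fmap_mk hZ (hcomm a ha b hb),
          fmap_mk hZ (hcomm a ha c hc)]
        apply Subtype.ext
        change a * (b * c) * a⁻¹ * (b * c)⁻¹ = (a * b * a⁻¹ * b⁻¹) * (a * c * a⁻¹ * c⁻¹)
        have h1 := hZ _ (hcomm a ha c hc)
        calc a * (b * c) * a⁻¹ * (b * c)⁻¹ = a * b * a⁻¹ * ((a * c * a⁻¹ * c⁻¹) * b⁻¹) := by group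
          _ = a * b * a⁻¹ * (b⁻¹ * (a * c * a⁻¹ * c⁻¹)) := by rw [h1]
          _ = _ := by group
      · rintro _ ⟨a, ha, rfl⟩
        rw [fmap_mk hZ (hcomm a ha a ha)]
        apply Subtype.ext
        change a * a * a⁻¹ * a⁻¹ = 1
        group
      · rintro g' hg' _ ⟨a, ha, rfl⟩
        obtain ⟨g, rfl⟩ := hπs g'
        have hga : g * a * g⁻¹ ∈ Q := by
          have h1 := (mem_normalizer_iff.1 hg' (π a)).1 (mem_map_of_mem _ ha)
          rwa [← map_mul, ← map_inv, ← map_mul, hmem _ hZQ] at h1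
        rw [← map_mul, ← map_inv, ← map_mul, hmap_mk hZ hZ2 (hQsq _ hga), hmap_mk hZ hZ2 (hQsq a ha)]
        apply Subtype.ext
        change g * a * g⁻¹ * (g * a * g⁻¹) = a * a
        calc g * a * g⁻¹ * (g * a * g⁻¹) = g * (a * a) * g⁻¹ := by group
          _ = a * a := by rw [← hZ _ (hQsq a ha) g]; group
      · rintro g' hg' _ ⟨a, ha, rfl⟩ _ ⟨b, hb, rfl⟩
        obtain ⟨g, rfl⟩ := hπs g'
        have hga : ∀ c ∈ Q, g * c * g⁻¹ ∈ Q := by
          intro c hc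
          have h1 := (mem_normalizer_iff.1 hg' (π c)).1 (mem_map_of_mem _ hc)
          rwa [← map_mul, ← map_inv, ← map_mul, hmem _ hZQ] at h1
        rw [← map_mul, ← map_inv, ← map_mul, ← map_mul, ← map_mul,
          fmap_mk hZ (hcomm _ (hga a ha) _ (hga b hb)), fmap_mk hZ (hcomm a ha b hb)]
        apply Subtype.ext
        change g * a * g⁻¹ * (g * b * g⁻¹) * (g * a * g⁻¹)⁻¹ * (g * b * g⁻¹)⁻¹ = a * b * a⁻¹ * b⁻¹
        calc g * a * g⁻¹ * (g * b * g⁻¹) * (g * a * g⁻¹)⁻¹ * (g * b * g⁻¹)⁻¹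
            = g * (a * b * a⁻¹ * b⁻¹) * g⁻¹ := by group
          _ = _ := by rw [← hZ _ (hcomm a ha b hb) g]; group
      · rintro _ ⟨d, hd, rfl⟩ hd1 c
        have hdZ : d ∉ Z := fun h => hd1 ((hπ1 d).2 h)
        obtain ⟨e, he, e', he', h1, h2, h3⟩ := hwide d hd hdZ
        by_cases hc : (⟨d * e * d⁻¹ * e⁻¹, hcomm d hd e he⟩ : Z) = c
        · refine ⟨π e', mem_map_of_mem _ he', ?_, ?_⟩
          · rw [fmap_mk hZ (hcomm d hd e' he')]
            intro h4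
            exact h2 (congrArg Subtype.val h4)
          · rw [fmap_mk hZ (hcomm d hd e' he'), ← hc]
            intro h4
            exact h3 (congrArg Subtype.val h4).symm
        · refine ⟨π e, mem_map_of_mem _ he, ?_, ?_⟩
          · rw [fmap_mk hZ (hcomm d hd e he)]
            intro h4
            exact h1 (congrArg Subtype.val h4)
          · rw [fmap_mk hZ (hcomm d hd e he)]
            exact hc
    exact false_of_forms hZS hT hyp F
  · -- `O₂(X/Z) ≠ 1`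
    set O2 := Cfsg.pCore 2 (X ⧸ Z) with hO2
    have hO2n : O2.Normal := Cores.pCore_normal (G := X ⧸ Z) 2
    have hO2T : O2 ≤ (T' : Subgroup (X ⧸ Z)) := Cores.pCore_le_sylow T'
    set M : Subgroup X := O2.comap π ⊓ Q with hM
    have hMn : M.Normal := by
      refine ⟨fun m hm g => ?_⟩
      have h1 : g * m * g⁻¹ ∈ O2.comap π := (hO2n.comap π).conj_mem m hm.1 g
      refine ⟨h1, hQsc g m hm.2 ?_⟩
      have h2 : π (g * m * g⁻¹) ∈ (T' : Subgroup (X ⧸ Z)) := hO2T h1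
      rwa [hT', hmem _ hZT] at h2
    have hZM : Z ≤ M := by
      refine le_inf (fun z hz => ?_) hZQ
      rw [mem_comap, (hπ1 z).2 hz]
      exact one_mem _
    have hMne : ∃ x ∈ M, x ∉ Z := by
      by_contra hcon
      push Not at hcon
      apply htwo
      rw [eq_bot_iff]
      intro y hy
      obtain ⟨x, rfl⟩ := hπs y
      have hxT : x ∈ (T : Subgroup X) := by
        have h2 := hO2T hy
        rwa [hT', hmem _ hZT] at h2
      have hxQ : x ∈ Q := by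
        apply hQmod x hxT
        intro z hz
        apply hcon
        refine ⟨?_, ?_⟩
        · change π (x * z * x⁻¹ * z⁻¹) ∈ O2
          have h3 : π (x * z * x⁻¹ * z⁻¹) = π x * (π z * (π x)⁻¹ * (π z)⁻¹) := by
            rw [map_mul, map_mul, map_mul, map_inv, map_inv]; group
          rw [h3]
          exact O2.mul_mem hy (hO2n.conj_mem _ (O2.inv_mem hy) (π z))
        · exact Q.mul_mem (hQn x hxT z hz) (Q.inv_mem hz)
      rw [mem_bot, hπ1]
      exact hcon x ⟨hy, hxQ⟩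
    rw [← hirr M hZM inf_le_right hMne hMn]
    exact hMn

end central

/-- the statement of S1173 -/
def S1173Stmt : Prop :=
  ∀ (G : Type u) [Group G] [Finite G], Cfsg.oddCore G = ⊥ → ∀ (S : Sylow 2 G) (T : Subgroup G),
    Cfsg.IsStronglyClosed T (S : Subgroup G) →
      ((⨅ n : ℕ, derivedSeries ↥(Subgroup.centralizer (T : Set G)) n).map
        (Subgroup.centralizer (T : Set G)).subtype).Normal

section reduce

variable {X : Type u} [Group X] [Finite X] {T : Sylow 2 X} {Z Q : Subgroup X}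

omit [Finite X] in
theorem Loc.QcommZ (h : Loc X T Z Q) : ∀ a ∈ Q, ∀ b ∈ Q, a * b * a⁻¹ * b⁻¹ ∈ Z := by
  intro a ha b hb
  have h1 := h.Qsq _ (Q.mul_mem ha hb)
  have h2 : a * b * a⁻¹ * b⁻¹ = (a * b * (a * b)) * ((b * b)⁻¹ * (b * (a * a)⁻¹ * b⁻¹)) := by group
  have h3 : b * (a * a)⁻¹ * b⁻¹ = (a * a)⁻¹ := by
    rw [← h.Zc _ (Z.inv_mem (h.Qsq a ha)) b (h.QT hb)]; group
  rw [h2, h3]
  exact Z.mul_mem h1 (Z.mul_mem (Z.inv_mem (h.Qsq b hb)) (Z.inv_mem (h.Qsq a ha)))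

/-- `Z` is normal if `O(X) = 1`. -/
theorem Loc.Z_normal (h1173 : S1173Stmt.{u}) (h : Loc X T Z Q) (hO : Cfsg.oddCore X = ⊥) : Z.Normal := by
  classical
  haveI : Fact (Nat.Prime 2) := ⟨Nat.prime_two⟩
  have hZT : Z ≤ (T : Subgroup X) := h.ZQ.trans h.QT
  have hsc : Cfsg.IsStronglyClosed Z (T : Subgroup X) := ⟨hZT, fun z hz g hg => h.Zsc z hz g hg⟩
  have hP := h1173 X hO T Z hsc
  set C := centralizer (Z : Set X) with hC
  set P := (⨅ n : ℕ, derivedSeries ↥C n).map C.subtype with hPdef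
  obtain ⟨L, hQL, hLL, hLZ⟩ := h.perf
  have hLC : L ≤ C := by
    intro x hx
    rw [hC, mem_centralizer_iff]
    intro z hz
    exact (hLZ x hx z hz).symm
  have hLn : ∀ n : ℕ, L.subgroupOf C ≤ derivedSeries ↥C n := by
    intro n
    induction n with
    | zero => rw [derivedSeries_zero]; exact le_top
    | succ n ih =>
      rw [derivedSeries_succ]
      refine le_trans ?_ (commutator_mono ih ih)
      have h1 : (⁅L.subgroupOf C, L.subgroupOf C⁆).map C.subtype = ⁅L, L⁆ := by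
        rw [map_commutator, subgroupOf_map_subtype, inf_eq_left.2 hLC]
      intro x hx
      have h2 : (x : X) ∈ (⁅L.subgroupOf C, L.subgroupOf C⁆).map C.subtype := by
        rw [h1]; exact hLL hx
      obtain ⟨y, hy, hyx⟩ := h2
      have : y = x := Subtype.ext hyx
      rwa [← this]
  have hLP : L ≤ P := by
    intro x hx
    refine ⟨⟨x, hLC hx⟩, ?_, rfl⟩
    rw [SetLike.mem_coe, mem_iInf]
    exact fun n => hLn n hx
  have hPC : P ≤ C := map_subtype_le _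
  set Y := P ⊓ centralizer (P : Set X) with hY
  have hYn : Y.Normal := by
    haveI := hP
    infer_instance
  have hZY : Z ≤ Y := by
    refine le_inf (h.ZQ.trans (hQL.trans hLP)) ?_
    intro z hz
    rw [mem_centralizer_iff]
    intro p hp
    have h1 := hPC hp
    rw [hC, mem_centralizer_iff] at h1
    exact (h1 z hz).symm
  have hYcomm : ∀ a ∈ Y, ∀ b ∈ Y, a * b = b * a := by
    intro a ha b hb
    exact (mem_centralizer_iff.1 hb.2 a ha.1)
  have hY2 : IsPGroup 2 Y := by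
    have h1 : (Cfsg.pPrimeCore 2 ↥Y).map Y.subtype = ⊥ := by
      rw [Cores.map_subtype_pPrimeCore 2 hYn]
      change Y ⊓ Cfsg.oddCore X = ⊥
      rw [hO, inf_bot_eq]
    have h2 : Cfsg.pPrimeCore 2 ↥Y = ⊥ := (map_eq_bot_iff_of_injective _ Y.subtype_injective).1 h1
    intro y
    obtain ⟨k, m, hm, hkm⟩ := Nat.exists_eq_two_pow_mul_odd (n := orderOf y) (orderOf_pos y).ne'
    refine ⟨k, ?_⟩
    have h3 : orderOf (y ^ 2 ^ k) = m := by
      rw [orderOf_pow' y (pow_ne_zero k two_ne_zero), hkm, Nat.gcd_eq_right (Dvd.intro _ rfl),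
        Nat.mul_div_cancel_left _ (pow_pos two_pos k)]
    have h4 : zpowers (y ^ 2 ^ k) ≤ Cfsg.pPrimeCore 2 ↥Y := by
      apply Cores.le_pPrimeCore
      · refine ⟨fun a _ g => ?_⟩
        have h5 : g * a * g⁻¹ = a := by
          rw [Subtype.ext_iff]
          change (g : X) * a * (g : X)⁻¹ = a
          rw [hYcomm g g.2 a a.2]; group
        rwa [h5]
      · rw [Nat.card_zpowers, h3]
        exact Nat.coprime_two_right.2 hm
    rw [h2, le_bot_iff, zpowers_eq_bot] at h4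
    exact h4
  have hYZ : Y ≤ Z := by
    intro y hy
    have hyT : y ∈ (T : Subgroup X) :=
      Cores.pCore_le_sylow T (Cores.le_pCore hYn hY2 hy)
    apply h.Qcent y hyT
    intro q hq
    have h1 := mem_centralizer_iff.1 hy.2 q (hLP (hQL hq))
    exact h1.symm
  rw [le_antisymm hZY hYZ]
  exact hYn

/-- `Q` is normal if `O(X) = 1`. -/
theorem Loc.Q_normal (hZS : ZStarStmt.{u})
    (hT : ∀ (G : Type u) [Group G] [Finite G], IsSimpleGroup G → (∃ a b : G, a * b ≠ b * a) → TProp G)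
    (h1173 : S1173Stmt.{u}) (h : Loc X T Z Q) (hO : Cfsg.oddCore X = ⊥) : Q.Normal := by
  classical
  haveI : Fact (Nat.Prime 2) := ⟨Nat.prime_two⟩
  have hZn : Z.Normal := h.Z_normal h1173 hO
  have hZT : Z ≤ (T : Subgroup X) := h.ZQ.trans h.QT
  set C := centralizer (Z : Set X) with hC
  have hCn : C.Normal := inferInstance
  have hTC : (T : Subgroup X) ≤ C := by
    intro x hx
    rw [hC, mem_centralizer_iff]
    exact fun z hz => h.Zc z hz x hx
  have hQC : Q ≤ C := h.QT.trans hTC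
  have hZC : Z ≤ C := hZT.trans hTC
  have hCm : ∀ x : C, ∀ z ∈ Z, (x : X) * z = z * x := by
    intro x z hz
    exact (mem_centralizer_iff.1 x.2 z hz).symm
  let T' : Sylow 2 C := T.subtype hTC
  have hT' : ∀ x : C, x ∈ (T' : Subgroup C) ↔ (x : X) ∈ (T : Subgroup X) := fun x => Iff.rfl
  have hOC : Cfsg.oddCore ↥C = ⊥ := by
    have h1 : (Cfsg.pPrimeCore 2 ↥C).map C.subtype = ⊥ := by
      rw [Cores.map_subtype_pPrimeCore 2 hCn]
      change C ⊓ Cfsg.oddCore X = ⊥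
      rw [hO, inf_bot_eq]
    exact (map_eq_bot_iff_of_injective _ C.subtype_injective).1 h1
  haveI : (Z.subgroupOf C).Normal := inferInstance
  have key : (Q.subgroupOf C).Normal := by
    refine normal_of_central (Z := Z.subgroupOf C) hZS hT hOC T' ?_ ?_ ?_ ?_ ?_ ?_ ?_ ?_ ?_ ?_
    · intro z hz x
      exact Subtype.ext (hCm x z hz).symm
    · intro z hz
      exact Subtype.ext (h.Zsq z hz)
    · intro z hz
      exact h.ZQ hz
    · intro z hz
      exact h.QT hz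
    · intro g x hx hg
      exact h.Qsc g (hCm g) x hx hg
    · intro x hx
      exact h.Qsq x hx
    · intro x hx hy
      refine h.Qmod x hx fun y hyQ => ?_
      exact hy ⟨y, hQC hyQ⟩ hyQ
    · intro d hd hdZ
      obtain ⟨e, he, e', he', h1, h2, h3⟩ := h.wide d hd hdZ
      exact ⟨⟨e, hQC he⟩, he, ⟨e', hQC he'⟩, he', fun h4 => h1 (congrArg Subtype.val h4),
        fun h4 => h2 (congrArg Subtype.val h4), fun h4 => h3 (congrArg Subtype.val h4)⟩
    · obtain ⟨x, hx, hxZ⟩ := h.ne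
      exact ⟨⟨x, hQC hx⟩, hx, hxZ⟩
    · intro R hZR hRQ hRne hRn
      have h1 : R.map C.subtype = Q := by
        apply h.irr
        · intro z hz
          exact ⟨⟨z, hZC hz⟩, hZR hz, rfl⟩
        · rintro _ ⟨x, hx, rfl⟩
          exact hRQ hx
        · obtain ⟨x, hx, hxZ⟩ := hRne
          exact ⟨x, ⟨x, hx, rfl⟩, hxZ⟩
        · rintro g hg - _ ⟨x, hx, rfl⟩
          have hgC : g ∈ C := by
            rw [hC, mem_centralizer_iff]
            exact fun z hz => (hg z hz).symm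
          exact ⟨⟨g, hgC⟩ * x * ⟨g, hgC⟩⁻¹, hRn.conj_mem x hx _, rfl⟩
      rw [← h1]
      exact (comap_map_eq_self_of_injective C.subtype_injective R).symm
  -- Frattini
  have hNC : normalizer ((T : Subgroup X) : Set X) ⊔ C = ⊤ := by
    have h1 := SylowNormalInf.normalizer_inf_sup_eq_top T C
    rwa [inf_eq_left.2 hTC] at h1
  have h2 : C ≤ normalizer (Q : Set X) := by
    rw [le_normalizer_iff]
    intro g hg x hx
    have h3 := key.conj_mem ⟨x, hQC hx⟩ hx ⟨g, hg⟩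
    exact h3
  have h3 : normalizer ((T : Subgroup X) : Set X) ≤ normalizer (Q : Set X) := by
    rw [le_normalizer_iff]
    exact h.norm
  rw [← normalizer_eq_top_iff, eq_top_iff, ← hNC]
  exact sup_le h3 h2

/-- pull a conjugate into `T` inside a subgroup `H` containing `T` -/
theorem exists_conj_mem {H : Subgroup X} (hTH : (T : Subgroup X) ≤ H) {y : X} (hy : y ∈ H)
    (hy2 : IsPGroup 2 (zpowers y)) : ∃ n ∈ H, n * y * n⁻¹ ∈ (T : Subgroup X) := by
  haveI : Fact (Nat.Prime 2) := ⟨Nat.prime_two⟩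
  have h1 : ¬ 2 ∣ (T : Subgroup X).relIndex H := by
    intro h
    exact T.not_dvd_index (h.trans (relIndex_dvd_index_of_le hTH))
  obtain ⟨n, hn, hnT⟩ := exists_conj_le_in T.isPGroup' h1 (zpowers_le.2 hy) hy2
  exact ⟨n, hn, hnT (conj_mem_map_conj (mem_zpowers y) n)⟩

omit [Finite X] in
theorem isPGroup_zpowers_conj {P : Subgroup X} (hP : IsPGroup 2 P) {x : X} (hx : x ∈ P) (g : X) :
    IsPGroup 2 (zpowers (g * x * g⁻¹)) := by
  have h1 : zpowers (g * x * g⁻¹) ≤ P.map (MulAut.conj g).toMonoidHom := by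
    rw [zpowers_le]
    exact conj_mem_map_conj hx g
  exact (hP.map _).to_le h1

/-- the quotient by the odd core satisfies the same hypotheses -/
theorem Loc.quotient (h : Loc X T Z Q) :
    Loc (X ⧸ Cfsg.oddCore X) (T.mapSurjective (QuotientGroup.mk'_surjective (Cfsg.oddCore X)))
      (Z.map (QuotientGroup.mk' (Cfsg.oddCore X))) (Q.map (QuotientGroup.mk' (Cfsg.oddCore X))) := by
  classical
  haveI : Fact (Nat.Prime 2) := ⟨Nat.prime_two⟩
  set O := Cfsg.oddCore X with hOdef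
  have hOcop : (Nat.card O).Coprime 2 := Cores.pPrimeCore_coprime (G := X) 2
  set π := QuotientGroup.mk' O with hπ
  have hπs : Function.Surjective π := QuotientGroup.mk'_surjective O
  have hπ1 : ∀ x : X, π x = 1 ↔ x ∈ O := fun x => QuotientGroup.eq_one_iff x
  have hZT : Z ≤ (T : Subgroup X) := h.ZQ.trans h.QT
  have hT' : ((T.mapSurjective hπs : Sylow 2 (X ⧸ O)) : Subgroup (X ⧸ O)) = (T : Subgroup X).map π := rfl
  have hTO : ∀ x ∈ (T : Subgroup X), x ∈ O → x = 1 := by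
    intro x hx hxO
    have h1 : (Nat.card (T : Subgroup X)).Coprime (Nat.card O) := by
      obtain ⟨k, hk⟩ := IsPGroup.iff_card.1 T.isPGroup'
      rw [hk]
      exact (Nat.Coprime.pow_right k hOcop).symm
    have h2 := (disjoint_of_coprime_natCard h1).eq_bot
    have h3 : x ∈ (T : Subgroup X) ⊓ O := ⟨hx, hxO⟩
    rwa [h2, mem_bot] at h3
  have hinj : ∀ x ∈ (T : Subgroup X), ∀ y ∈ (T : Subgroup X), π x = π y → x = y := by
    intro x hx y hy hxy
    have h1 : x * y⁻¹ ∈ O := by rw [← hπ1, map_mul, map_inv, hxy, mul_inv_cancel]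
    exact mul_inv_eq_one.1 (hTO _ ((T : Subgroup X).mul_mem hx ((T : Subgroup X).inv_mem hy)) h1)
  have hmem : ∀ H : Subgroup X, H ≤ (T : Subgroup X) → ∀ x ∈ (T : Subgroup X), π x ∈ H.map π ↔ x ∈ H := by
    intro H hH x hx
    constructor
    · rintro ⟨y, hy, hyx⟩
      rwa [← hinj y (hH hy) x hx hyx]
    · exact fun hxH => mem_map_of_mem _ hxH
  have hsup : ∀ (H : Subgroup X) (x : X), π x ∈ H.map π → x ∈ H ⊔ O := by
    rintro H x ⟨y, hy, hyx⟩
    obtain ⟨z, hz, h1⟩ := (QuotientGroup.mk'_eq_mk' O).1 hyx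
    rw [← h1]
    exact mul_mem_sup hy hz
  have hsup' : ∀ (H : Subgroup X) (x : X), x ∈ H ⊔ O → π x ∈ H.map π := by
    intro H x hx
    obtain ⟨y, hy, z, hz, rfl⟩ := mem_sup_of_normal_right.1 hx
    rw [map_mul, (hπ1 z).2 hz, mul_one]
    exact mem_map_of_mem _ hy
  have hQn : ∀ t ∈ (T : Subgroup X), ∀ x ∈ Q, t * x * t⁻¹ ∈ Q := fun t ht x hx =>
    h.Qsc t (fun z hz => (h.Zc z hz t ht).symm) x hx
      ((T : Subgroup X).mul_mem ((T : Subgroup X).mul_mem ht (h.QT hx)) ((T : Subgroup X).inv_mem ht))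
  -- lifting elements centralising `Z`
  have hlift : ∀ g' : X ⧸ O, (∀ z ∈ Z, g' * π z = π z * g') → ∃ g : X, π g = g' ∧ ∀ z ∈ Z, g * z = z * g := by
    intro g' hg'
    obtain ⟨g, rfl⟩ := hπs g'
    have hZp : IsPGroup 2 Z := T.isPGroup'.to_le hZT
    have h1 : ∀ z ∈ Z, g * z * g⁻¹ ∈ Z ⊔ O := by
      intro z hz
      apply hsup
      rw [map_mul, map_mul, map_inv, hg' z hz]
      have : π z * π g * (π g)⁻¹ = π z := by group
      rw [this]
      exact mem_map_of_mem _ hz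
    obtain ⟨n, hn, hng⟩ := LocalCore.exists_mul_mem_normalizer 2 O Z hOcop hZp h1
    refine ⟨n * g, by rw [map_mul, (hπ1 n).2 hn, one_mul], fun z hz => ?_⟩
    have h2 : n * g * z * (n * g)⁻¹ ∈ Z := (mem_normalizer_iff.1 hng z).1 hz
    have h3 : n * g * z * (n * g)⁻¹ = z := by
      apply hinj _ (hZT h2) _ (hZT hz)
      rw [map_mul, map_mul, map_inv, map_mul, (hπ1 n).2 hn, one_mul, hg' z hz]
      group
    calc n * g * z = n * g * z * (n * g)⁻¹ * (n * g) := by group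
      _ = z * (n * g) := by rw [h3]
  refine
    { ZQ := map_mono h.ZQ
      QT := by rw [hT']; exact map_mono h.QT
      Zc := ?_
      Zsq := ?_
      Zsc := ?_
      Qsc := ?_
      Qsq := ?_
      Qcent := ?_
      Qmod := ?_
      wide := ?_
      ne := ?_
      perf := ?_
      irr := ?_
      norm := ?_ }
  · rintro _ ⟨z, hz, rfl⟩ x' hx'
    rw [hT'] at hx'
    obtain ⟨x, hx, rfl⟩ := hx'
    rw [← map_mul, ← map_mul, h.Zc z hz x hx]
  · rintro _ ⟨z, hz, rfl⟩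
    rw [← map_mul, h.Zsq z hz, map_one]
  · rintro _ ⟨z, hz, rfl⟩ g' hg'
    obtain ⟨g, rfl⟩ := hπs g'
    rw [← map_mul, ← map_inv, ← map_mul, hT'] at hg'
    obtain ⟨n, hn, hnT⟩ := exists_conj_mem (H := (T : Subgroup X) ⊔ O) le_sup_left (hsup _ _ hg')
      (isPGroup_zpowers_conj T.isPGroup' (hZT hz) g)
    obtain ⟨s, hs, o, ho, rfl⟩ := mem_sup_of_normal_right.1 hn
    have h1 : (o * g) * z * (o * g)⁻¹ ∈ (T : Subgroup X) := by
      have h2 := (T : Subgroup X).mul_mem ((T : Subgroup X).mul_mem ((T : Subgroup X).inv_mem hs) hnT) hs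
      have h3 : s⁻¹ * (s * o * (g * z * g⁻¹) * (s * o)⁻¹) * s = (o * g) * z * (o * g)⁻¹ := by group
      rwa [h3] at h2
    have h2 := h.Zsc z hz _ h1
    have h3 : π g * π z * (π g)⁻¹ = π ((o * g) * z * (o * g)⁻¹) := by
      rw [map_mul, map_mul, map_inv, map_mul, (hπ1 o).2 ho, one_mul]
    rw [h3]
    exact mem_map_of_mem _ h2
  · rintro g' hg'Z _ ⟨x, hx, rfl⟩ hg'
    obtain ⟨g, rfl, hgZ⟩ := hlift g' fun z hz => hg'Z _ (mem_map_of_mem _ hz)
    rw [← map_mul, ← map_inv, ← map_mul, hT'] at hg'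
    have hTc : (T : Subgroup X) ≤ ((T : Subgroup X) ⊔ O) ⊓ centralizer (Z : Set X) := by
      refine le_inf le_sup_left fun s hs => ?_
      rw [mem_centralizer_iff]
      exact fun z hz => h.Zc z hz s hs
    have hgx : g * x * g⁻¹ ∈ ((T : Subgroup X) ⊔ O) ⊓ centralizer (Z : Set X) := by
      refine ⟨hsup _ _ hg', ?_⟩
      change g * x * g⁻¹ ∈ centralizer (Z : Set X)
      rw [mem_centralizer_iff]
      intro z hz
      have h1 := hgZ z hz
      have h2 := h.Zc z hz x (h.QT hx)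
      calc z * (g * x * g⁻¹) = (z * g) * x * g⁻¹ := by group
        _ = g * (z * x) * g⁻¹ := by rw [← h1]; group
        _ = g * x * g⁻¹ * (g * z) * g⁻¹ := by rw [h2]; group
        _ = g * x * g⁻¹ * z := by rw [h1]; group
    obtain ⟨n, hn, hnT⟩ := exists_conj_mem hTc hgx (isPGroup_zpowers_conj T.isPGroup' (h.QT hx) g)
    have hnZ : ∀ z ∈ Z, n * z = z * n := fun z hz => (mem_centralizer_iff.1 hn.2 z hz).symm
    have h1 : (n * g) * x * (n * g)⁻¹ ∈ Q := by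
      apply h.Qsc (n * g)
      · intro z hz
        rw [mul_assoc, hgZ z hz, ← mul_assoc, hnZ z hz, mul_assoc]
      · exact hx
      · have h2 : n * (g * x * g⁻¹) * n⁻¹ = (n * g) * x * (n * g)⁻¹ := by group
        rwa [h2] at hnT
    obtain ⟨s, hs, o, ho, rfl⟩ := mem_sup_of_normal_right.1 hn.1
    have h3 : π g * π x * (π g)⁻¹ = π (s⁻¹ * ((s * o * g) * x * (s * o * g)⁻¹) * (s⁻¹)⁻¹) := by
      have h4 : s⁻¹ * ((s * o * g) * x * (s * o * g)⁻¹) * (s⁻¹)⁻¹ = (o * g) * x * (o * g)⁻¹ := by group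
      rw [h4, map_mul, map_mul, map_inv, map_mul, (hπ1 o).2 ho, one_mul]
    rw [h3]
    exact mem_map_of_mem _ (hQn _ ((T : Subgroup X).inv_mem hs) _ h1)
  · rintro _ ⟨x, hx, rfl⟩
    rw [← map_mul]
    exact mem_map_of_mem _ (h.Qsq x hx)
  · intro x' hx' hc
    rw [hT'] at hx'
    obtain ⟨x, hx, rfl⟩ := hx'
    refine mem_map_of_mem _ (h.Qcent x hx fun y hy => ?_)
    apply hinj _ ((T : Subgroup X).mul_mem hx (h.QT hy)) _ ((T : Subgroup X).mul_mem (h.QT hy) hx)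
    rw [map_mul, map_mul]
    exact hc _ (mem_map_of_mem _ hy)
  · intro x' hx' hc
    rw [hT'] at hx'
    obtain ⟨x, hx, rfl⟩ := hx'
    refine mem_map_of_mem _ (h.Qmod x hx fun y hy => ?_)
    have hyT := h.QT hy
    rw [← hmem Z hZT _ ((T : Subgroup X).mul_mem ((T : Subgroup X).mul_mem ((T : Subgroup X).mul_mem hx hyT)
      ((T : Subgroup X).inv_mem hx)) ((T : Subgroup X).inv_mem hyT)), map_mul, map_mul, map_mul, map_inv, map_inv]
    exact hc _ (mem_map_of_mem _ hy)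
  · rintro _ ⟨d, hd, rfl⟩ hdZ
    have hdZ' : d ∉ Z := fun h1 => hdZ (mem_map_of_mem _ h1)
    obtain ⟨e, he, e', he', h1, h2, h3⟩ := h.wide d hd hdZ'
    have hcT : ∀ y ∈ Q, d * y * d⁻¹ * y⁻¹ ∈ (T : Subgroup X) := fun y hy => hZT (h.QcommZ d hd y hy)
    have hπc : ∀ y : X, π d * π y * (π d)⁻¹ * (π y)⁻¹ = π (d * y * d⁻¹ * y⁻¹) := by
      intro y
      rw [map_mul, map_mul, map_mul, map_inv, map_inv]
    refine ⟨π e, mem_map_of_mem _ he, π e', mem_map_of_mem _ he', ?_, ?_, ?_⟩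
    · rw [hπc]
      intro h4
      exact h1 (hTO _ (hcT e he) ((hπ1 _).1 h4))
    · rw [hπc]
      intro h4
      exact h2 (hTO _ (hcT e' he') ((hπ1 _).1 h4))
    · rw [hπc, hπc]
      intro h4
      exact h3 (hinj _ (hcT e he) _ (hcT e' he') h4)
  · obtain ⟨x, hx, hxZ⟩ := h.ne
    refine ⟨π x, mem_map_of_mem _ hx, ?_⟩
    rwa [hmem Z hZT x (h.QT hx)]
  · obtain ⟨L, hQL, hLL, hLZ⟩ := h.perf
    refine ⟨L.map π, map_mono hQL, ?_, ?_⟩
    · rw [← map_commutator]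
      exact map_mono hLL
    · rintro _ ⟨x, hx, rfl⟩ _ ⟨z, hz, rfl⟩
      rw [← map_mul, ← map_mul, hLZ x hx z hz]
  · intro R hZR hRQ hRne hRinv
    have h1 : R.comap π ⊓ Q = Q := by
      apply h.irr
      · refine le_inf (fun z hz => ?_) h.ZQ
        rw [mem_comap]
        exact hZR (mem_map_of_mem _ hz)
      · exact inf_le_right
      · obtain ⟨x', hx', hxZ⟩ := hRne
        obtain ⟨x, hx, rfl⟩ := hRQ hx'
        exact ⟨x, ⟨hx', hx⟩, fun h2 => hxZ (mem_map_of_mem _ h2)⟩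
      · intro g hgZ hgQ x hx
        refine ⟨?_, hgQ x hx.2⟩
        change π (g * x * g⁻¹) ∈ R
        rw [map_mul, map_mul, map_inv]
        apply hRinv
        · rintro _ ⟨z, hz, rfl⟩
          rw [← map_mul, ← map_mul, hgZ z hz]
        · rintro _ ⟨y, hy, rfl⟩
          rw [← map_inv, ← map_mul, ← map_mul]
          exact mem_map_of_mem _ (hgQ y hy)
        · exact hx.1
    apply le_antisymm hRQ
    rintro _ ⟨x, hx, rfl⟩
    have h2 : x ∈ R.comap π ⊓ Q := by rw [h1]; exact hx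
    exact h2.1
  · intro g' hg' _ hx
    obtain ⟨x, hx, rfl⟩ := hx
    obtain ⟨g, rfl⟩ := hπs g'
    rw [hT'] at hg'
    have h1 : ∀ s ∈ (T : Subgroup X), g * s * g⁻¹ ∈ (T : Subgroup X) ⊔ O := by
      intro s hs
      apply hsup
      rw [map_mul, map_mul, map_inv]
      exact (mem_normalizer_iff.1 hg' (π s)).1 (mem_map_of_mem _ hs)
    obtain ⟨n, hn, hng⟩ := LocalCore.exists_mul_mem_normalizer 2 O (T : Subgroup X) hOcop T.isPGroup' h1
    have h2 := h.norm _ hng x hx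
    have h3 : π g * π x * (π g)⁻¹ = π (n * g * x * (n * g)⁻¹) := by
      rw [map_mul, map_mul, map_inv, map_mul, (hπ1 n).2 hn, one_mul]
    rw [h3]
    exact mem_map_of_mem _ h2

/-- **The local theorem**: `X = O(X) N_X(Q)`. -/
theorem Loc.main (hZS : ZStarStmt.{u})
    (hT : ∀ (G : Type u) [Group G] [Finite G], IsSimpleGroup G → (∃ a b : G, a * b ≠ b * a) → TProp G)
    (h1173 : S1173Stmt.{u}) (h : Loc X T Z Q) (g : X) :
    ∃ n ∈ Cfsg.oddCore X, n * g ∈ normalizer (Q : Set X) := by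
  haveI : Fact (Nat.Prime 2) := ⟨Nat.prime_two⟩
  have h1 := h.quotient.Q_normal hZS hT h1173 (Cores.pPrimeCore_quotient_pPrimeCore (G := X) 2)
  have hQp : IsPGroup 2 Q := T.isPGroup'.to_le h.QT
  apply LocalCore.exists_mul_mem_normalizer 2 (Cfsg.oddCore X) Q (Cores.pPrimeCore_coprime (G := X) 2) hQp
  intro x hx
  have h2 := h1.conj_mem _ (mem_map_of_mem (QuotientGroup.mk' (Cfsg.oddCore X)) hx)
    (QuotientGroup.mk' (Cfsg.oddCore X) g)
  rw [← map_inv, ← map_mul, ← map_mul] at h2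
  obtain ⟨y, hy, hyx⟩ := h2
  obtain ⟨z, hz, h3⟩ := (QuotientGroup.mk'_eq_mk' _).1 hyx
  rw [← h3]
  exact mul_mem_sup hy hz

end reduce

end Cfsg.Agent.StdSpFour.CloseLoc
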