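import Cfsg.Agent.StdSpFour.CloseComp
import Cfsg.Agent.WeakTI.PslTwo
import Cfsg.Agent.SmallSimple.PSLTwoPart

/-!
# S1778, closing of `U₄(q)`, `U₅(q)`: counting Sylow 2-subgroups

`card_sylow_main`: `A` an elementary abelian Sylow 2-subgroup of `M` of order at least 16, `N_M(A)` transitive on
`A \ {1}`, `O(M)` centralises `A`, `A ∩ A^n = 1` for some `n`: then `M` has exactly `|A| + 1` Sylow 2-subgroups.
-/

set_option autoImplicit false
set_option linter.style.haveILetI false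

namespace Cfsg.Agent.StdSpFour.CloseSyl

open Subgroup
open Cfsg.Agent.Lib Cfsg.Agent.Lib.GoldschmidtFusion
open Cfsg.Agent.StdSpFour.CloseComp

universe u

/-- the statement of S0506 -/
def S0506Stmt : Prop :=
  ∀ (G : Type u) [Group G] [Finite G] [IsSimpleGroup G], ¬ IsMulCommutative G → ∀ (S : Sylow 2 G),
    IsMulCommutative (S : Subgroup G) →
    (∃ a : ℕ, 2 ≤ a ∧ ∃ (F : Type) (_ : Field F) (_ : Fintype F), Fintype.card F = 2 ^ a ∧ Nonempty (G ≃* Matrix.ProjectiveSpecialLinearGroup (Fin 2) F)) ∨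
      (∃ (F : Type) (_ : Field F) (_ : Fintype F), (Fintype.card F % 8 = 3 ∨ Fintype.card F % 8 = 5) ∧ Nonempty (G ≃* Matrix.ProjectiveSpecialLinearGroup (Fin 2) F)) ∨
      Cfsg.IsRee G ∨ Cfsg.IsJ1 G

/-- `|PSL(2,K)|` is not divisible by 8 if `|K| ≡ 3, 5 mod 8`. -/
theorem not_eight_dvd_psl {K : Type*} [Field K] [Fintype K] (hK : Fintype.card K % 8 = 3 ∨ Fintype.card K % 8 = 5) :
    ¬ 8 ∣ Nat.card (Matrix.ProjectiveSpecialLinearGroup (Fin 2) K) := by
  have h1 := Cfsg.Agent.SmallSimple.PSLTwoPart.card_psl_two_odd (F := K) (by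
      rw [Nat.odd_iff]; omega)
  rintro ⟨c, hc⟩
  rw [hc] at h1
  generalize Fintype.card K = r at h1 hK
  rcases hK with hK | hK
  · obtain ⟨d, rfl⟩ : ∃ d, r = 8 * d + 3 := ⟨r / 8, by omega⟩
    have h2 : (8 * d + 3) ^ 2 - 1 = 8 * (8 * d ^ 2 + 6 * d + 1) := by
      rw [Nat.sub_eq_iff_eq_add (by nlinarith)]; ring
    rw [h2] at h1
    have h3 : 2 * c = (8 * d + 3) * (8 * d ^ 2 + 6 * d + 1) := by nlinarith
    have h4 : (8 * d + 3) * (8 * d ^ 2 + 6 * d + 1) =
      2 * (32 * d ^ 3 + 36 * d ^ 2 + 13 * d + 1) + 1 := by ring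
    omega
  · obtain ⟨d, rfl⟩ : ∃ d, r = 8 * d + 5 := ⟨r / 8, by omega⟩
    have h2 : (8 * d + 5) ^ 2 - 1 = 8 * (8 * d ^ 2 + 10 * d + 3) := by
      rw [Nat.sub_eq_iff_eq_add (by nlinarith)]; ring
    rw [h2] at h1
    have h3 : 2 * c = (8 * d + 5) * (8 * d ^ 2 + 10 * d + 3) := by nlinarith
    have h4 : (8 * d + 5) * (8 * d ^ 2 + 10 * d + 3) =
      2 * (32 * d ^ 3 + 60 * d ^ 2 + 37 * d + 7) + 1 := by ring
    omega

/-- the order of a Ree group is not divisible by 16 -/
theorem not_sixteen_dvd_ree (m : ℕ) :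
    ¬ 16 ∣ (3 ^ (2 * m + 1)) ^ 3 * ((3 ^ (2 * m + 1)) ^ 3 + 1) * (3 ^ (2 * m + 1) - 1) := by
  -- `3^(2m+1) ≡ 3 mod 8`
  obtain ⟨d, hd⟩ : ∃ d, 3 ^ (2 * m + 1) = 8 * d + 3 := by
    induction m with
    | zero => exact ⟨0, by norm_num⟩
    | succ n ih =>
      obtain ⟨d, hd⟩ := ih
      refine ⟨9 * d + 3, ?_⟩
      have : 3 ^ (2 * (n + 1) + 1) = 9 * 3 ^ (2 * n + 1) := by ring
      rw [this, hd]; ring
  rw [hd]
  have h1 : 8 * d + 3 - 1 = 2 * (4 * d + 1) := by omega
  rw [h1]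
  rintro ⟨c, hc⟩
  have h2 : (8 * d + 3) ^ 3 * ((8 * d + 3) ^ 3 + 1) * (2 * (4 * d + 1)) =
      8 * (((8 * d + 3) ^ 3) * (128 * d ^ 3 + 144 * d ^ 2 + 54 * d + 7) * (4 * d + 1)) := by ring
  rw [h2] at hc
  have h3 : ((8 * d + 3) ^ 3) * (128 * d ^ 3 + 144 * d ^ 2 + 54 * d + 7) * (4 * d + 1) = 2 * c := by
    have : 8 * (((8 * d + 3) ^ 3) * (128 * d ^ 3 + 144 * d ^ 2 + 54 * d + 7) * (4 * d + 1)) = 8 * (2 * c) := by
      rw [hc]; ring
    exact Nat.eq_of_mul_eq_mul_left (by norm_num) this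
  have h4 : Odd (((8 * d + 3) ^ 3) * (128 * d ^ 3 + 144 * d ^ 2 + 54 * d + 7) * (4 * d + 1)) := by
    refine Odd.mul (Odd.mul (Odd.pow ?_) ?_) ?_
    · exact ⟨4 * d + 1, by ring⟩
    · exact ⟨64 * d ^ 3 + 72 * d ^ 2 + 27 * d + 3, by ring⟩
    · exact ⟨2 * d, by ring⟩
  rw [h3] at h4
  exact (Nat.not_odd_iff_even.2 (even_two_mul c)) h4

/-- a map with the fibres of `G → G/K` -/
theorem card_eq_index {G : Type*} {Y : Type*} [Group G] (K : Subgroup G) (f : G → Y)
    (hf : Function.Surjective f) (h : ∀ a b, f a = f b ↔ a⁻¹ * b ∈ K) : Nat.card Y = K.index := by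
  have hl : ∀ a b : G, (QuotientGroup.leftRel K) a b → f a = f b := by
    intro a b hab
    rw [QuotientGroup.leftRel_apply] at hab
    exact (h a b).2 hab
  let g : G ⧸ K → Y := Quotient.lift f hl
  have hg : Function.Bijective g := by
    refine ⟨?_, ?_⟩
    · intro x y
      induction x using QuotientGroup.induction_on
      induction y using QuotientGroup.induction_on
      intro hxy
      exact QuotientGroup.eq.2 ((h _ _).1 hxy)
    · intro y
      obtain ⟨x, hx⟩ := hf y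
      exact ⟨QuotientGroup.mk x, hx⟩
  rw [Subgroup.index]
  exact (Nat.card_congr (Equiv.ofBijective g hg)).symm

/-- the number of Sylow 2-subgroups from the centralisers of involutions -/
theorem card_sylow_of_cent {L : Type u} [Group L] [Finite L] (S : Sylow 2 L)
    (hc : ∀ x y : L, x * x = 1 → x ≠ 1 → x * y = y * x → y * y = 1)
    (hconj : ∀ x y : L, x * x = 1 → x ≠ 1 → y * y = 1 → y ≠ 1 → ∃ g : L, g * x * g⁻¹ = y) {q : ℕ} (hq : 2 ≤ q)
    (hcard : Nat.card L = q * (q ^ 2 - 1)) (hS : Nat.card (S : Subgroup L) = q) :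
    Nat.card (Sylow 2 L) = q + 1 := by
  haveI : Fact (Nat.Prime 2) := ⟨Nat.prime_two⟩
  have hSne : (S : Subgroup L) ≠ ⊥ := by
    intro h
    rw [h, card_bot] at hS
    omega
  -- an involution in the centre of `S`
  obtain ⟨z, hzS, hz1, hz2, hzc⟩ : ∃ z ∈ (S : Subgroup L), z ≠ 1 ∧ z * z = 1 ∧ ∀ y ∈ (S : Subgroup L), z * y = y * z := by
    haveI : Nontrivial (S : Subgroup L) := (Subgroup.nontrivial_iff_ne_bot _).2 hSne
    have h1 : Nontrivial (center (S : Subgroup L)) := S.isPGroup'.center_nontrivial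
    obtain ⟨n, hn0, hn⟩ := (S.isPGroup'.to_subgroup (center (S : Subgroup L))).nontrivial_iff_card.1 h1
    obtain ⟨z, hz⟩ := exists_prime_orderOf_dvd_card' (G := center (S : Subgroup L)) 2 (by
      rw [hn]; exact dvd_pow_self 2 hn0.ne')
    have h2 : z ^ 2 = 1 := by
      have h0 := pow_orderOf_eq_one z
      rwa [hz] at h0
    refine ⟨(z : (S : Subgroup L)), (z : (S : Subgroup L)).2, ?_, ?_, ?_⟩
    · intro h3
      have : z = 1 := Subtype.ext (Subtype.ext h3)
      rw [this, orderOf_one] at hz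
      omega
    · rw [pow_two] at h2
      exact congrArg (fun w : center (S : Subgroup L) => ((w : (S : Subgroup L)) : L)) h2
    · intro y hy
      have h3 := mem_center_iff.1 z.2 ⟨y, hy⟩
      exact (congrArg Subtype.val h3).symm
  have hS2 : ∀ y ∈ (S : Subgroup L), y * y = 1 := fun y hy => hc z y hz2 hz1 (hzc y hy)
  have hScomm : ∀ x ∈ (S : Subgroup L), ∀ y ∈ (S : Subgroup L), x * y = y * x :=
    fun x hx y hy => comm_of_sq hS2 hx hy
  -- centralisers
  have hcent : ∀ x ∈ (S : Subgroup L), x ≠ 1 → ∀ y : L, x * y = y * x → y ∈ (S : Subgroup L) := by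
    intro x hx hx1 y hxy
    have h1 : (S : Subgroup L) ≤ centralizer ({x} : Set L) := by
      intro s hs
      rw [mem_centralizer_singleton_iff]
      exact hScomm s hs x hx
    have h2 : IsPGroup 2 (centralizer ({x} : Set L)) := by
      intro s
      refine ⟨1, Subtype.ext ?_⟩
      rw [pow_one, pow_two]
      exact hc x s (hS2 x hx) hx1 (mem_centralizer_singleton_iff.1 s.2).symm
    have h3 := S.is_maximal' h2 h1
    rw [← h3, mem_centralizer_singleton_iff]
    exact hxy.symm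
  have hN : ∀ x ∈ (S : Subgroup L), x ≠ 1 → ∀ g : L, g * x * g⁻¹ ∈ (S : Subgroup L) →
      g ∈ normalizer ((S : Subgroup L) : Set L) := by
    intro x hx hx1 g hg
    rw [mem_normalizer_iff_map_conj]
    apply map_conj_le_of_le_normalizer
    rintro _ ⟨s, hs, rfl⟩
    change g * s * g⁻¹ ∈ (S : Subgroup L)
    apply hcent _ hg
    · intro h
      rw [mul_inv_eq_one, mul_eq_left] at h
      exact hx1 h
    · have := hScomm x hx s hs
      calc g * x * g⁻¹ * (g * s * g⁻¹) = g * (x * s) * g⁻¹ := by group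
        _ = g * (s * x) * g⁻¹ := by rw [this]
        _ = _ := by group
  -- the order of the normaliser
  set N := normalizer ((S : Subgroup L) : Set L) with hNdef
  let f : N → {y : L // y ∈ (S : Subgroup L) ∧ y ≠ 1} := fun n =>
    ⟨n * z * (n : L)⁻¹, (mem_normalizer_iff.1 n.2 z).1 hzS, by
      intro h
      rw [mul_inv_eq_one, mul_eq_left] at h
      exact hz1 h⟩
  have hf : Function.Surjective f := by
    rintro ⟨y, hy, hy1⟩
    obtain ⟨g, hg⟩ := hconj z y hz2 hz1 (hS2 y hy) hy1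
    refine ⟨⟨g, hN z hzS hz1 g (by rw [hg]; exact hy)⟩, Subtype.ext hg⟩
  have hfib : ∀ a b : N, f a = f b ↔ a⁻¹ * b ∈ (S : Subgroup L).subgroupOf N := by
    intro a b
    rw [mem_subgroupOf]
    constructor
    · intro h
      have h1 : (a : L) * z * (a : L)⁻¹ = b * z * (b : L)⁻¹ := congrArg Subtype.val h
      apply hcent z hzS hz1
      change z * ((a : L)⁻¹ * b) = (a : L)⁻¹ * b * z
      calc z * ((a : L)⁻¹ * b) = (a : L)⁻¹ * ((a : L) * z * (a : L)⁻¹) * b := by group
        _ = (a : L)⁻¹ * (b * z * (b : L)⁻¹) * b := by rw [h1]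
        _ = _ := by group
    · intro h
      apply Subtype.ext
      change (a : L) * z * (a : L)⁻¹ = b * z * (b : L)⁻¹
      have h1 : z * ((a : L)⁻¹ * b) = (a : L)⁻¹ * b * z := hzc _ h
      calc (a : L) * z * (a : L)⁻¹ = a * (z * ((a : L)⁻¹ * b)) * (b : L)⁻¹ := by group
        _ = a * ((a : L)⁻¹ * b * z) * (b : L)⁻¹ := by rw [h1]
        _ = _ := by group
  have h1 := card_eq_index _ f hf hfib
  have h2 : Nat.card {y : L // y ∈ (S : Subgroup L) ∧ y ≠ 1} + 1 = q := by
    classical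
    haveI := Fintype.ofFinite L
    have e1 : Nat.card {y : L // y ∈ (S : Subgroup L) ∧ y ≠ 1} =
        ((Finset.univ.filter fun y : L => y ∈ (S : Subgroup L)).erase 1).card := by
      rw [Nat.card_eq_fintype_card, Fintype.card_subtype]
      congr 1
      ext y
      simp [and_comm]
    have e2 : Nat.card (S : Subgroup L) = (Finset.univ.filter fun y : L => y ∈ (S : Subgroup L)).card := by
      rw [Nat.card_eq_fintype_card, ← Fintype.card_subtype]
    rw [e1, Finset.card_erase_of_mem (by simp), ← e2, hS]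
    omega
  have h3 : Nat.card (S : Subgroup L) * (S : Subgroup L).relIndex N = Nat.card N :=
    SylowNormalInf.card_mul_relIndex _ _ le_normalizer
  have h4 : Nat.card (Sylow 2 L) * Nat.card N = Nat.card L := by
    rw [S.card_eq_index_normalizer]
    exact N.index_mul_card
  have h5 : (S : Subgroup L).relIndex N = q - 1 := by
    rw [Subgroup.relIndex, ← h1]; omega
  rw [← h3, hS, h5, hcard] at h4
  have h6 : q ^ 2 - 1 = (q + 1) * (q - 1) := by
    obtain ⟨r, rfl⟩ : ∃ r, q = r + 1 := ⟨q - 1, by omega⟩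
    rw [Nat.add_sub_cancel, Nat.sub_eq_iff_eq_add (by nlinarith)]
    ring
  rw [h6] at h4
  have h7 : 0 < q * (q - 1) := Nat.mul_pos (by omega) (by omega)
  have h8 : Nat.card (Sylow 2 L) * (q * (q - 1)) = (q + 1) * (q * (q - 1)) := by
    rw [h4]; ring
  exact Nat.eq_of_mul_eq_mul_right h7 h8

/-- a simple group with an elementary abelian Sylow 2-subgroup of order at least 16 -/
theorem card_sylow_simple (h0506 : S0506Stmt.{u}) {L : Type u} [Group L] [Finite L] [IsSimpleGroup L]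
    (hna : ∃ a b : L, a * b ≠ b * a) (S : Sylow 2 L) (hS : ∀ x ∈ (S : Subgroup L), x * x = 1)
    (h16 : 16 ≤ Nat.card (S : Subgroup L)) : Nat.card (Sylow 2 L) = Nat.card (S : Subgroup L) + 1 := by
  haveI : Fact (Nat.Prime 2) := ⟨Nat.prime_two⟩
  obtain ⟨k, hk⟩ := IsPGroup.iff_card.1 S.isPGroup'
  have h16L : 16 ∣ Nat.card L := by
    have h1 : 4 ≤ k := by
      by_contra hcon
      have : 2 ^ k ≤ 2 ^ 3 := Nat.pow_le_pow_right (by norm_num) (by omega)
      rw [hk] at h16
      omega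
    have h2 : (16 : ℕ) ∣ 2 ^ k := by
      have : (16 : ℕ) = 2 ^ 4 := by norm_num
      rw [this]
      exact pow_dvd_pow 2 h1
    exact h2.trans (hk ▸ Subgroup.card_subgroup_dvd_card _)
  have hnc : ¬ IsMulCommutative L := by
    intro h
    obtain ⟨a, b, hab⟩ := hna
    exact hab (h.is_comm.comm a b)
  have hSc : IsMulCommutative (S : Subgroup L) :=
    ⟨⟨fun x y => Subtype.ext (comm_of_sq hS x.2 y.2)⟩⟩
  rcases h0506 L hnc S hSc with ⟨a, ha, F, iF, iF', hF, ⟨e⟩⟩ | ⟨F, iF, iF', hF, ⟨e⟩⟩ | h | h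
  · have h2 : CharP F 2 := by
      have h3 : (Fintype.card F : F) = 0 := Nat.cast_card_eq_zero F
      rw [hF, Nat.cast_pow, Nat.cast_two] at h3
      have h4 : (2 : F) = 0 := by
        have := pow_eq_zero_iff (n := a) (by omega) |>.1 h3
        exact this
      exact CharTwo.of_one_ne_zero_of_two_eq_zero one_ne_zero h4
    have hcard := Cfsg.Agent.WeakTI.PslTwo.card_eq e
    rw [hF] at hcard
    have hka : Nat.card (S : Subgroup L) = 2 ^ a := by
      have h3 : Nat.card (S : Subgroup L) * (S : Subgroup L).index = 2 ^ a * ((2 ^ a) ^ 2 - 1) := by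
        rw [← hcard]; exact (S : Subgroup L).card_mul_index
      have hodd1 : Nat.Coprime 2 (S : Subgroup L).index :=
        (Nat.Prime.coprime_iff_not_dvd Nat.prime_two).2 S.not_dvd_index
      have hodd2 : Nat.Coprime 2 ((2 ^ a) ^ 2 - 1) := by
        rw [Nat.Prime.coprime_iff_not_dvd Nat.prime_two]
        intro h4
        have h5 : 2 ∣ (2 ^ a) ^ 2 := by
          rw [← pow_mul]
          exact dvd_pow_self 2 (by omega)
        have h6 : 1 ≤ (2 ^ a) ^ 2 := Nat.one_le_iff_ne_zero.2 (by positivity)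
        omega
      rw [hk] at h3 ⊢
      apply Nat.dvd_antisymm
      · exact Nat.Coprime.dvd_of_dvd_mul_right (Nat.Coprime.pow_left k hodd2) (Dvd.intro _ h3)
      · exact Nat.Coprime.dvd_of_dvd_mul_right (Nat.Coprime.pow_left a hodd1) (Dvd.intro _ h3.symm)
    rw [hka]
    apply card_sylow_of_cent S
    · intro x y hx hx1 hxy
      exact Cfsg.Agent.WeakTI.PslTwo.cent e hx hx1 hxy
    · intro x y hx hx1 hy hy1
      exact Cfsg.Agent.WeakTI.PslTwo.exists_conj e hx hx1 hy hy1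
    · calc 2 = 2 ^ 1 := by norm_num
        _ ≤ 2 ^ a := Nat.pow_le_pow_right (by norm_num) (by omega)
    · exact hcard
    · exact hka
  · exfalso
    apply not_eight_dvd_psl (K := F) hF
    rw [← Nat.card_congr e.toEquiv]
    exact Dvd.dvd.trans (by norm_num) h16L
  · exfalso
    obtain ⟨-, m, -, hm⟩ := h
    rw [hm] at h16L
    exact not_sixteen_dvd_ree m h16L
  · exfalso
    obtain ⟨-, hm⟩ := h
    rw [hm] at h16L
    omega

/-- the case `O(M) = 1` -/
theorem card_sylow_aux (h0506 : S0506Stmt.{u}) {M : Type u} [Group M] [Finite M] (A : Sylow 2 M)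
    (hA : ∀ x ∈ (A : Subgroup M), x * x = 1) (h16 : 16 ≤ Nat.card (A : Subgroup M))
    (htr : ∀ x ∈ (A : Subgroup M), x ≠ 1 → ∀ y ∈ (A : Subgroup M), y ≠ 1 →
      ∃ n ∈ normalizer ((A : Subgroup M) : Set M), n * x * n⁻¹ = y)
    (hO : Cfsg.oddCore M = ⊥)
    (hTI : ∃ n : M, ∀ x ∈ (A : Subgroup M), n * x * n⁻¹ ∈ (A : Subgroup M) → x = 1) :
    Nat.card (Sylow 2 M) = Nat.card (A : Subgroup M) + 1 := by
  haveI : Fact (Nat.Prime 2) := ⟨Nat.prime_two⟩
  have htwo : Cfsg.pCore 2 M = ⊥ := by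
    obtain ⟨n, hn⟩ := hTI
    rw [eq_bot_iff]
    intro x hx
    rw [mem_bot]
    exact hn x (Cores.pCore_le_sylow A hx)
      (Cores.pCore_le_sylow A ((Cores.pCore_normal (G := M) 2).conj_mem x hx n))
  obtain ⟨a0, ha0, ha01⟩ : ∃ x ∈ (A : Subgroup M), x ≠ 1 := by
    by_contra hcon
    push Not at hcon
    have h1 : (A : Subgroup M) = ⊥ := eq_bot_iff.2 fun x hx => by rw [mem_bot]; exact hcon x hx
    rw [h1, card_bot] at h16
    omega
  obtain ⟨N, hN, hN0, hmin, hna⟩ := exists_min_of hO htwo ⟨a0, ha01⟩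
  obtain ⟨⟨L, hL⟩, hind, hsup, hsimple, hcentre, hconj⟩ := MinNormalNonabelian.nonabelian_structure N hmin hna
  -- `A ≤ N`
  have hex : ∀ L ∈ MinNormalNonabelian.minSet N, ∃ x ∈ (A : Subgroup M), x ∈ L ∧ x ≠ 1 := by
    intro L hL
    by_contra hcon
    push Not at hcon
    apply inf_ne_bot_of hL hO A
    rw [eq_bot_iff]
    intro x hx
    rw [mem_bot]
    exact hcon x hx.1 hx.2
  have hAN : (A : Subgroup M) ≤ N := by
    obtain ⟨x, hxA, hxL, hx1⟩ := hex L hL
    intro y hy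
    by_cases hy1 : y = 1
    · rw [hy1]; exact N.one_mem
    obtain ⟨n, -, hn⟩ := htr x hxA hx1 y hy hy1
    rw [← hn]
    exact hN.conj_mem x (hL.1 hxL) n
  -- only one factor
  have huniq : ∀ L' ∈ MinNormalNonabelian.minSet N, L' = L := by
    intro L' hL'
    by_contra hne
    obtain ⟨d, hdA, hdL, hd1⟩ := hex L hL
    obtain ⟨e, heA, heL, he1⟩ := hex L' hL'
    have hcommut : ∀ L₁ ∈ MinNormalNonabelian.minSet N, ∀ L₂ ∈ MinNormalNonabelian.minSet N, L₁ ≠ L₂ →
        ∀ x ∈ L₁, ∀ y ∈ L₂, Commute x y := fun L₁ h₁ L₂ h₂ h₃ x hx y hy =>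
      MinNormal.commute_of_mem hind (fun S hS => hS.2.2.1) (fun S hS => hS.1) h₁ h₂ h₃ hx hy
    have hde1 : d * e ≠ 1 := by
      intro h
      have h1 : e = d⁻¹ := (inv_eq_of_mul_eq_one_right h).symm
      have h2 : e ∈ L := by rw [h1]; exact L.inv_mem hdL
      exact he1 (hcentre L' hL' e heL fun t ht => (hcommut L hL L' hL' (Ne.symm hne) e h2 t ht))
    obtain ⟨n, -, hn⟩ := htr d hdA hd1 (d * e) ((A : Subgroup M).mul_mem hdA heA) hde1
    have hL3 := MinNormalNonabelian.map_conj_mem_minSet hL n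
    have hmem : d * e ∈ L.map (MulAut.conj n).toMonoidHom := by
      rw [← hn]; exact conj_mem_map_conj hdL n
    by_cases h3 : L.map (MulAut.conj n).toMonoidHom = L
    · rw [h3] at hmem
      have h4 : e ∈ L := by
        have h5 := L.mul_mem (L.inv_mem hdL) hmem
        rwa [inv_mul_cancel_left] at h5
      exact he1 (hcentre L' hL' e heL fun t ht => (hcommut L hL L' hL' (Ne.symm hne) e h4 t ht))
    · apply hd1
      apply hcentre L hL d hdL
      intro t ht
      have h4 : Commute (d * e) t := hcommut _ hL3 L hL h3 _ hmem t ht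
      have h5 : Commute e t := hcommut L' hL' L hL hne e heL t ht
      have h6 : d = d * e * e⁻¹ := by group
      rw [h6]
      exact h4.mul_left h5.inv_left
  have hNL : N = L := by
    rw [← hsup]
    apply le_antisymm
    · apply sSup_le
      intro L' hL'
      rw [huniq L' hL']
    · exact le_sSup hL
  have hs := hsimple L hL
  have hc := hcentre L hL
  rw [← hNL] at hs hc
  let P : Sylow 2 N := A.subtype hAN
  have hPA : (P : Subgroup N).map N.subtype = (A : Subgroup M) := by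
    change ((A : Subgroup M).subgroupOf N).map N.subtype = _
    rw [subgroupOf_map_subtype, inf_eq_left.2 hAN]
  have hPcard : Nat.card (P : Subgroup N) = Nat.card (A : Subgroup M) := by
    rw [← hPA]
    exact Nat.card_congr ((P : Subgroup N).equivMapOfInjective N.subtype N.subtype_injective).toEquiv
  have key := card_sylow_simple h0506 (L := N) (nonab hs hc) P
    (fun x hx => Subtype.ext (hA x hx)) (by rw [hPcard]; exact h16)
  rw [hPcard] at key
  rw [← key]
  -- all Sylow 2-subgroups of `M` lie in `N`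
  have hle : ∀ B : Sylow 2 M, (B : Subgroup M) ≤ N := by
    intro B x hx
    obtain ⟨g, hg⟩ := MulAction.exists_smul_eq M A B
    rw [← hg, Sylow.coe_subgroup_smul] at hx
    obtain ⟨y, hy, rfl⟩ := hx
    exact hN.conj_mem y (hAN hy) g
  refine Nat.card_congr (Equiv.ofBijective (fun B : Sylow 2 M => B.subtype (hle B)) ⟨?_, ?_⟩)
  · intro B C hBC
    exact Sylow.subtype_injective hBC
  · intro P'
    obtain ⟨n, hn⟩ := MulAction.exists_smul_eq N P P'
    refine ⟨(n : M) • A, ?_⟩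
    apply Sylow.ext
    rw [← hn, Sylow.coe_subgroup_smul]
    ext x
    constructor
    · intro hx
      have h1 : (x : M) ∈ (((n : M) • A : Sylow 2 M) : Subgroup M) := hx
      rw [Sylow.coe_subgroup_smul] at h1
      obtain ⟨y, hy, hyx⟩ := h1
      exact ⟨⟨y, hAN hy⟩, hy, Subtype.ext hyx⟩
    · rintro ⟨y, hy, rfl⟩
      change ((n * y * n⁻¹ : N) : M) ∈ (((n : M) • A : Sylow 2 M) : Subgroup M)
      rw [Sylow.coe_subgroup_smul]
      exact ⟨y, hy, rfl⟩

/-- **Counting Sylow 2-subgroups.** -/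
theorem card_sylow_main (h0506 : S0506Stmt.{u}) {M : Type u} [Group M] [Finite M] (A : Sylow 2 M)
    (hA : ∀ x ∈ (A : Subgroup M), x * x = 1) (h16 : 16 ≤ Nat.card (A : Subgroup M))
    (htr : ∀ x ∈ (A : Subgroup M), x ≠ 1 → ∀ y ∈ (A : Subgroup M), y ≠ 1 →
      ∃ n ∈ normalizer ((A : Subgroup M) : Set M), n * x * n⁻¹ = y)
    (hO : ∀ o ∈ Cfsg.oddCore M, ∀ x ∈ (A : Subgroup M), o * x = x * o)
    (hTI : ∃ n : M, ∀ x ∈ (A : Subgroup M), n * x * n⁻¹ ∈ (A : Subgroup M) → x = 1) :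
    Nat.card (Sylow 2 M) = Nat.card (A : Subgroup M) + 1 := by
  classical
  haveI : Fact (Nat.Prime 2) := ⟨Nat.prime_two⟩
  set O := Cfsg.oddCore M with hOdef
  have hOcop : (Nat.card O).Coprime 2 := Cores.pPrimeCore_coprime (G := M) 2
  have hOn : O.Normal := Cores.pPrimeCore_normal (G := M) 2
  set π := QuotientGroup.mk' O with hπ
  have hπs : Function.Surjective π := QuotientGroup.mk'_surjective O
  have hπ1 : ∀ x : M, π x = 1 ↔ x ∈ O := fun x => QuotientGroup.eq_one_iff x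
  have hAO : ∀ x ∈ (A : Subgroup M), x ∈ O → x = 1 := by
    intro x hx hxO
    have h1 : (Nat.card (A : Subgroup M)).Coprime (Nat.card O) := by
      obtain ⟨k, hk⟩ := IsPGroup.iff_card.1 A.isPGroup'
      rw [hk]
      exact (Nat.Coprime.pow_right k hOcop).symm
    have h2 := (disjoint_of_coprime_natCard h1).eq_bot
    have h3 : x ∈ (A : Subgroup M) ⊓ O := ⟨hx, hxO⟩
    rwa [h2, mem_bot] at h3
  have hinj : ∀ x ∈ (A : Subgroup M), ∀ y ∈ (A : Subgroup M), π x = π y → x = y := by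
    intro x hx y hy hxy
    have h1 : x * y⁻¹ ∈ O := by rw [← hπ1, map_mul, map_inv, hxy, mul_inv_cancel]
    exact mul_inv_eq_one.1 (hAO _ ((A : Subgroup M).mul_mem hx ((A : Subgroup M).inv_mem hy)) h1)
  -- elements of order two of `A O`
  have hinv : ∀ x : M, x * x = 1 → π x ∈ (A : Subgroup M).map π → x ∈ (A : Subgroup M) := by
    rintro x hx ⟨a, ha, hax⟩
    obtain ⟨o, ho, h1⟩ := (QuotientGroup.mk'_eq_mk' O).1 hax
    have h2 : o * o = 1 := by
      rw [← h1] at hx
      calc o * o = (a * a)⁻¹ * (a * (a * o) * o) := by group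
        _ = (a * a)⁻¹ * (a * (o * a) * o) := by rw [hO o ho a ha]
        _ = (a * a)⁻¹ * ((a * o) * (a * o)) := by group
        _ = 1 := by rw [hx, hA a ha]; group
    have h3 : o = 1 := by
      have h4 : orderOf o ∣ 2 := orderOf_dvd_of_pow_eq_one (by rw [pow_two]; exact h2)
      have h5 : orderOf o ∣ Nat.card O := by
        rw [← Subgroup.orderOf_mk o ho]; exact orderOf_dvd_natCard _
      have h6 : orderOf o ∣ 1 := by
        rw [← hOcop]; exact Nat.dvd_gcd h5 h4
      exact orderOf_eq_one_iff.1 (Nat.dvd_one.1 h6)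
    rw [← h1, h3, mul_one]
    exact ha
  let A' : Sylow 2 (M ⧸ O) := A.mapSurjective hπs
  have hA' : (A' : Subgroup (M ⧸ O)) = (A : Subgroup M).map π := rfl
  have hcardA : Nat.card (A' : Subgroup (M ⧸ O)) = Nat.card (A : Subgroup M) := by
    rw [hA']
    refine (Nat.card_congr (Equiv.ofBijective
      (fun x : (A : Subgroup M) => (⟨π x, mem_map_of_mem _ x.2⟩ : (A : Subgroup M).map π)) ⟨?_, ?_⟩)).symm
    · intro x y hxy
      exact Subtype.ext (hinj x x.2 y y.2 (congrArg Subtype.val hxy))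
    · rintro ⟨_, x, hx, rfl⟩
      exact ⟨⟨x, hx⟩, rfl⟩
  have hconj2 : ∀ g x : M, x * x = 1 → g * x * g⁻¹ * (g * x * g⁻¹) = 1 := by
    intro g x hx
    calc g * x * g⁻¹ * (g * x * g⁻¹) = g * (x * x) * g⁻¹ := by group
      _ = 1 := by rw [hx]; group
  have hnorm : (normalizer ((A' : Subgroup (M ⧸ O)) : Set (M ⧸ O))).comap π =
      normalizer ((A : Subgroup M) : Set M) := by
    apply le_antisymm
    · intro g hg
      rw [mem_normalizer_iff_map_conj]
      apply map_conj_le_of_le_normalizer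
      rintro _ ⟨x, hx, rfl⟩
      change g * x * g⁻¹ ∈ (A : Subgroup M)
      apply hinv _ (hconj2 g x (hA x hx))
      have h1 := (mem_normalizer_iff.1 hg (π x)).1 (mem_map_of_mem _ hx)
      rw [map_mul, map_mul, map_inv]
      exact h1
    · intro g hg
      change π g ∈ normalizer ((A' : Subgroup (M ⧸ O)) : Set (M ⧸ O))
      rw [mem_normalizer_iff_map_conj]
      apply map_conj_le_of_le_normalizer
      rintro _ ⟨_, ⟨x, hx, rfl⟩, rfl⟩
      change π g * π x * (π g)⁻¹ ∈ (A : Subgroup M).map π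
      rw [← map_mul, ← map_inv, ← map_mul]
      exact mem_map_of_mem _ ((mem_normalizer_iff.1 hg x).1 hx)
  have hcardS : Nat.card (Sylow 2 M) = Nat.card (Sylow 2 (M ⧸ O)) := by
    rw [A.card_eq_index_normalizer, A'.card_eq_index_normalizer]
    change (normalizer ((A : Subgroup M) : Set M)).index = (normalizer ((A' : Subgroup (M ⧸ O)) : Set (M ⧸ O))).index
    rw [← hnorm, index_comap_of_surjective _ hπs]
  have key := card_sylow_aux h0506 A' ?_ (by rw [hcardA]; exact h16) ?_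
    (Cores.pPrimeCore_quotient_pPrimeCore (G := M) 2) ?_
  · rw [hcardS, key, hcardA]
  · rintro _ ⟨x, hx, rfl⟩
    rw [← map_mul, hA x hx, map_one]
  · rintro _ ⟨x, hx, rfl⟩ hx1 _ ⟨y, hy, rfl⟩ hy1
    obtain ⟨n, hn, hnx⟩ := htr x hx (fun h => hx1 (by rw [h, map_one])) y hy (fun h => hy1 (by rw [h, map_one]))
    refine ⟨π n, ?_, ?_⟩
    · rw [← hnorm] at hn
      exact hn
    · rw [← map_mul, ← map_inv, ← map_mul, hnx]
  · obtain ⟨n, hn⟩ := hTI
    refine ⟨π n, ?_⟩
    rintro _ ⟨x, hx, rfl⟩ h1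
    rw [← map_mul, ← map_inv, ← map_mul] at h1
    have h2 := hn x hx (hinv _ (hconj2 n x (hA x hx)) h1)
    rw [h2, map_one]

end Cfsg.Agent.StdSpFour.CloseSyl
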