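import Cfsg.Agent.StdSpFour.CloseFacts
import Cfsg.Agent.StdSpFour.CloseSyl
import Cfsg.Agent.StdSpFour.CloseLoc

/-!
# S1778, closing of `U₄(q)`, `U₅(q)`: basic consequences of the T-facts

Weak closure of `W` and `Q`, fusion in `W` (Burnside), `C_W(T) = Z`.
-/

set_option autoImplicit false
set_option linter.style.haveILetI false

namespace Cfsg.Agent.StdSpFour.CloseBase

open Subgroup
open Cfsg.Agent.Lib Cfsg.Agent.Lib.GoldschmidtFusion
open Cfsg.Agent.StdSpFour.CloseComp Cfsg.Agent.StdSpFour.CloseFacts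

universe u

section general

variable {E : Type u} [Group E] [Finite E]

/-- conjugate of a subgroup -/
abbrev cj (g : E) (U : Subgroup E) : Subgroup E := U.map (MulAut.conj g).toMonoidHom

omit [Finite E] in
theorem isPGroup_map_conj {U : Subgroup E} (hU : IsPGroup 2 U) (g : E) :
    IsPGroup 2 (U.map (MulAut.conj g).toMonoidHom : Subgroup E) := hU.map _

/-- weakly closed subgroups of a Sylow subgroup, in arbitrary 2-subgroups -/
theorem weak_of {T : Sylow 2 E} {U R : Subgroup E}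
    (hw : ∀ g : E, U.map (MulAut.conj g).toMonoidHom ≤ (T : Subgroup E) → U.map (MulAut.conj g).toMonoidHom = U)
    (hR : IsPGroup 2 R) (hUR : U ≤ R) {g : E} (hg : U.map (MulAut.conj g).toMonoidHom ≤ R) :
    U.map (MulAut.conj g).toMonoidHom = U := by
  haveI : Fact (Nat.Prime 2) := ⟨Nat.prime_two⟩
  have hT : ¬ 2 ∣ (T : Subgroup E).relIndex ⊤ := by
    rw [relIndex_top_right]; exact T.not_dvd_index
  obtain ⟨x, -, hx⟩ := exists_conj_le_in T.isPGroup' hT (le_top : R ≤ ⊤) hR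
  have h1 := hw x ((map_conj_mono hUR x).trans hx)
  have h2 : U.map (MulAut.conj (x * g)).toMonoidHom = U := by
    apply hw
    rw [← map_conj_map_conj]
    exact (map_conj_mono hg x).trans hx
  rw [← map_conj_map_conj] at h2
  have h3 := congrArg (fun K => K.map (MulAut.conj x⁻¹).toMonoidHom) (h2.trans h1.symm)
  simp only [map_conj_map_conj] at h3
  rw [← mul_assoc, inv_mul_cancel, one_mul] at h3
  rw [h3, map_conj_one]

/-- Burnside's argument: two conjugates of a weakly closed subgroup inside `H` are conjugate in `H`. -/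
theorem exists_mul_mem_normalizer {T : Sylow 2 E} {U H : Subgroup E} (hUT : U ≤ (T : Subgroup E))
    (hw : ∀ g : E, U.map (MulAut.conj g).toMonoidHom ≤ (T : Subgroup E) → U.map (MulAut.conj g).toMonoidHom = U)
    (hUH : U ≤ H) {g : E} (hg : U.map (MulAut.conj g).toMonoidHom ≤ H) :
    ∃ c ∈ H, c * g ∈ normalizer (U : Set E) := by
  haveI : Fact (Nat.Prime 2) := ⟨Nat.prime_two⟩
  have hU : IsPGroup 2 U := T.isPGroup'.to_le hUT
  obtain ⟨R, hUR, hRH, hR, hRi⟩ := exists_sylow_in hUH hU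
  obtain ⟨c, hc, hcR⟩ := exists_conj_le_in hR hRi hg (hU.map _)
  rw [map_conj_map_conj] at hcR
  exact ⟨c, hc, mem_normalizer_iff_map_conj.2 (weak_of hw hR hUR hcR)⟩

/-- a 2-subgroup of `H ≥ T` is `H`-conjugate into `T` -/
theorem exists_conj_le (T : Sylow 2 E) {H R : Subgroup E} (hTH : (T : Subgroup E) ≤ H) (hRH : R ≤ H)
    (hR : IsPGroup 2 R) : ∃ n ∈ H, R.map (MulAut.conj n).toMonoidHom ≤ (T : Subgroup E) := by
  haveI : Fact (Nat.Prime 2) := ⟨Nat.prime_two⟩
  have h1 : ¬ 2 ∣ (T : Subgroup E).relIndex H := by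
    intro h
    exact T.not_dvd_index (h.trans (relIndex_dvd_index_of_le hTH))
  exact exists_conj_le_in T.isPGroup' h1 hRH hR

omit [Finite E] in
theorem conj_mem_iff_of_normalizer {U : Subgroup E} {g : E} (hg : g ∈ normalizer (U : Set E)) (x : E) :
    g * x * g⁻¹ ∈ U ↔ x ∈ U := (mem_normalizer_iff.1 hg x).symm

/-- `g` normalises a finite subgroup as soon as it maps it into itself -/
theorem mem_normalizer_of {U : Subgroup E} {g : E} (h : ∀ x ∈ U, g * x * g⁻¹ ∈ U) :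
    g ∈ normalizer (U : Set E) := by
  rw [mem_normalizer_iff_map_conj]
  apply map_conj_le_of_le_normalizer
  rintro _ ⟨x, hx, rfl⟩
  exact h x hx

theorem odd_iff_coprime (n : ℕ) : Odd n ↔ n.Coprime 2 := Nat.coprime_two_right.symm

end general

variable {E : Type u} [Group E] [Finite E] (F : Facts E)

namespace Facts

open Cfsg.Agent.StdSpFour.CloseFacts.Facts

theorem W_comm {x y : E} (hx : x ∈ F.W) (hy : y ∈ F.W) : x * y = y * x := comm_of_sq F.W_sq hx hy

theorem Z_comm_T {z x : E} (hz : z ∈ F.Z) (hx : x ∈ (F.T : Subgroup E)) : z * x = x * z := F.Z_cent z hz x hx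

/-- `C_W(T) = Z` -/
theorem mem_Z_of_comm {x : E} (hx : x ∈ (F.T : Subgroup E)) (h : ∀ y ∈ (F.T : Subgroup E), x * y = y * x) : x ∈ F.Z :=
  F.Q_cent x hx fun y hy => h y (F.Q_le hy)

theorem W_weak (g : E) (h : F.W.map (MulAut.conj g).toMonoidHom ≤ (F.T : Subgroup E)) :
    F.W.map (MulAut.conj g).toMonoidHom = F.W := by
  apply F.W_uniq _ h
  · rintro _ ⟨x, hx, rfl⟩
    change g * x * g⁻¹ * (g * x * g⁻¹) = 1
    calc g * x * g⁻¹ * (g * x * g⁻¹) = g * (x * x) * g⁻¹ := by group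
      _ = 1 := by rw [F.W_sq x hx]; group
  · rw [card_map_conj, F.W_card]

theorem T_le_NW : (F.T : Subgroup E) ≤ normalizer (F.W : Set E) := by
  intro g hg
  rw [mem_normalizer_iff_map_conj]
  apply W_weak F
  rintro _ ⟨x, hx, rfl⟩
  exact (F.T : Subgroup E).mul_mem ((F.T : Subgroup E).mul_mem hg (F.W_le hx)) ((F.T : Subgroup E).inv_mem hg)

theorem NT_le_NW : normalizer ((F.T : Subgroup E) : Set E) ≤ normalizer (F.W : Set E) := by
  intro g hg
  rw [mem_normalizer_iff_map_conj]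
  apply W_weak F
  rintro _ ⟨x, hx, rfl⟩
  exact (mem_normalizer_iff.1 hg x).1 (F.W_le hx)

/-- `N(T)` normalises `Z = Z(T)`. -/
theorem NT_le_NZ : normalizer ((F.T : Subgroup E) : Set E) ≤ normalizer (F.Z : Set E) := by
  intro g hg
  apply mem_normalizer_of
  intro z hz
  have hzT : z ∈ (F.T : Subgroup E) := F.W_le (F.Z_le_W hz)
  apply mem_Z_of_comm F ((mem_normalizer_iff.1 hg z).1 hzT)
  intro y hy
  have hy' : g⁻¹ * y * g ∈ (F.T : Subgroup E) := by
    have h1 := (mem_normalizer_iff.1 ((normalizer ((F.T : Subgroup E) : Set E)).inv_mem hg) y).1 hy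
    rwa [inv_inv] at h1
  have h2 := F.Z_cent z hz _ hy'
  calc g * z * g⁻¹ * y = g * (z * (g⁻¹ * y * g)) * g⁻¹ := by group
    _ = g * ((g⁻¹ * y * g) * z) * g⁻¹ := by rw [h2]
    _ = y * (g * z * g⁻¹) := by group

theorem Q_weak_of {g : E} (hgZ : ∀ z ∈ F.Z, g * z * g⁻¹ ∈ F.Z)
    (h : F.Q.map (MulAut.conj g).toMonoidHom ≤ (F.T : Subgroup E)) : F.Q.map (MulAut.conj g).toMonoidHom = F.Q := by
  apply F.Q_uniq _ h
  · have h1 := mem_normalizer_iff_map_conj.1 (mem_normalizer_of hgZ)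
    rw [← h1]
    exact map_conj_mono F.Z_le_Q g
  · rintro _ ⟨x, hx, rfl⟩
    change g * x * g⁻¹ * (g * x * g⁻¹) ∈ F.Z
    have h2 : g * x * g⁻¹ * (g * x * g⁻¹) = g * (x * x) * g⁻¹ := by group
    rw [h2]
    exact hgZ _ (F.Q_sq x hx)
  · rw [card_map_conj]

theorem NT_le_NQ : normalizer ((F.T : Subgroup E) : Set E) ≤ normalizer (F.Q : Set E) := by
  intro g hg
  rw [mem_normalizer_iff_map_conj]
  apply Q_weak_of F
  · intro z hz
    exact (mem_normalizer_iff.1 (NT_le_NZ F hg) z).1 hz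
  rintro _ ⟨x, hx, rfl⟩
  exact (mem_normalizer_iff.1 hg x).1 (F.Q_le hx)

theorem T_le_NQ : (F.T : Subgroup E) ≤ normalizer (F.Q : Set E) := le_normalizer.trans (NT_le_NQ F)

theorem Q_conj {t x : E} (ht : t ∈ (F.T : Subgroup E)) (hx : x ∈ F.Q) : t * x * t⁻¹ ∈ F.Q :=
  (mem_normalizer_iff.1 (T_le_NQ F ht) x).1 hx

theorem W_conj {t x : E} (ht : t ∈ (F.T : Subgroup E)) (hx : x ∈ F.W) : t * x * t⁻¹ ∈ F.W :=
  (mem_normalizer_iff.1 (T_le_NW F ht) x).1 hx

theorem Ka_le_NW : F.Ka ≤ normalizer (F.W : Set E) := fun k hk => mem_normalizer_of (F.Ka_W k hk)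

theorem Kb_le_NQ : F.Kb ≤ normalizer (F.Q : Set E) := fun k hk => mem_normalizer_of (F.Kb_Q k hk)

theorem S_le_W {x : E} (hx : x ∈ F.S) : x ∈ F.W := by
  obtain ⟨k, hk, z, hz, -, rfl⟩ := (F.S_iff x).1 hx
  exact F.Ka_W k hk z (F.Z_le_W hz)

theorem S_ne_one {x : E} (hx : x ∈ F.S) : x ≠ 1 := by
  obtain ⟨k, hk, z, hz, hz1, rfl⟩ := (F.S_iff x).1 hx
  intro h
  rw [mul_inv_eq_one, mul_eq_left] at h
  exact hz1 h

theorem mem_S_of_Z {z : E} (hz : z ∈ F.Z) (hz1 : z ≠ 1) : z ∈ F.S :=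
  (F.S_iff z).2 ⟨1, F.Ka.one_mem, z, hz, hz1, by group⟩

theorem exists_Z_ne : ∃ z ∈ F.Z, z ≠ 1 := by
  by_contra hcon
  push Not at hcon
  have h1 : F.Z = ⊥ := eq_bot_iff.2 fun w hw => by rw [mem_bot]; exact hcon w hw
  have h2 := F.Z_card
  have h4 := F.h4
  rw [h1, card_bot] at h2
  omega

/-- fusion in `W` -/
theorem exists_NW_of_conj {x g : E} (hx : x ∈ F.W) (hg : g * x * g⁻¹ ∈ F.W) :
    ∃ c : E, c * (g * x * g⁻¹) = (g * x * g⁻¹) * c ∧ c * g ∈ normalizer (F.W : Set E) := by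
  set y := g * x * g⁻¹ with hy
  obtain ⟨c, hc, hcg⟩ := exists_mul_mem_normalizer (T := F.T) (U := F.W) (H := centralizer ({y} : Set E)) F.W_le
    (W_weak F) (by
      intro w hw
      rw [mem_centralizer_singleton_iff]
      exact W_comm F hw hg) (g := g) (by
      rintro _ ⟨w, hw, rfl⟩
      change g * w * g⁻¹ ∈ centralizer ({y} : Set E)
      rw [mem_centralizer_singleton_iff, hy]
      have := W_comm F hw hx
      calc g * w * g⁻¹ * (g * x * g⁻¹) = g * (w * x) * g⁻¹ := by group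
        _ = g * (x * w) * g⁻¹ := by rw [this]
        _ = _ := by group)
  exact ⟨c, mem_centralizer_singleton_iff.1 hc, hcg⟩

end Facts

end Cfsg.Agent.StdSpFour.CloseBase
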