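import Mathlib
import Cfsg.Prelude.Def_CaseTheorems
import Cfsg.Prelude.Def_TwoFusion
import Cfsg.Agent.Lib.Cores
import Cfsg.Agent.Lib.MinNormalNonabelian
import Cfsg.Agent.Lib.GoldschmidtFusion
import Cfsg.Agent.Lib.SylowNormalInf
import Cfsg.Agent.TwoFusion.GoldControl
import Cfsg.Agent.TwoFusion.GoldDefs
import Cfsg.Agent.TwoFusion.GoldDefs

/-!
# S1778, closing of `U₄(q)`, `U₅(q)`: no components modulo `Z`

`X` finite, `O(X) = 1 = O₂(X)`, `Q ≤ T ∈ Syl₂(X)` strongly closed elementary abelian with `C_T(Q) ≤ Q`, and a square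
map `h` and a commutator form `f` on `Q`, invariant under `N_X(Q)`, with values in a group of exponent two, such that
`f(d, Q)` has more than two elements for `1 ≠ d ∈ Q`. This is impossible.
-/

set_option autoImplicit false
set_option linter.style.haveILetI false

namespace Cfsg.Agent.StdSpFour.CloseComp

open Subgroup
open Cfsg.Agent.Lib Cfsg.Agent.Lib.GoldschmidtFusion
open Cfsg.Agent.TwoFusion Cfsg.Agent.TwoFusion.ClosedFam
open Cfsg.Agent.TwoFusion.Gold (TProp TCon IsElemFam)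

universe u

/-- Burnside's transfer theorem: a Sylow 2-subgroup of a finite simple nonabelian group of even order is not centralised
by its normaliser. -/
theorem exists_not_comm {L : Type u} [Group L] [Finite L] [IsSimpleGroup L] (hna : ∃ a b : L, a * b ≠ b * a)
    (P : Sylow 2 L) (hP : (P : Subgroup L) ≠ ⊥) :
    ∃ n ∈ normalizer ((P : Subgroup L) : Set L), ∃ x ∈ (P : Subgroup L), n * x * n⁻¹ ≠ x := by
  haveI : Fact (Nat.Prime 2) := ⟨Nat.prime_two⟩
  by_contra hcon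
  push Not at hcon
  have hNC : normalizer ((P : Subgroup L) : Set L) ≤ centralizer ((P : Subgroup L) : Set L) := by
    intro n hn
    rw [mem_centralizer_iff]
    intro x hx
    have h1 := hcon n hn x hx
    calc x * n = n * x * n⁻¹ * n := by rw [h1]
      _ = n * x := by group
  have hcomp := MonoidHom.ker_transferSylow_isComplement' P hNC
  have hnd := MonoidHom.not_dvd_card_ker_transferSylow P hNC
  rcases (inferInstance : (MonoidHom.transferSylow P hNC).ker.Normal).eq_bot_or_eq_top with h | h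
  · rw [h] at hcomp
    have h2 := isComplement'_bot_left.1 hcomp
    obtain ⟨a, b, hab⟩ := hna
    apply hab
    have ha : a ∈ (P : Subgroup L) := by rw [h2]; exact mem_top a
    have hb : b ∈ normalizer ((P : Subgroup L) : Set L) := by rw [h2, normalizer_eq_top]; exact mem_top b
    have h3 := hcon b hb a ha
    calc a * b = b * a * b⁻¹ * b := by rw [h3]
      _ = b * a := by group
  · rw [h] at hcomp
    exact hP (isComplement'_top_left.1 hcomp)

/-- weak closure of a strongly closed subgroup in 2-subgroups -/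
theorem map_conj_eq_of_le {X : Type u} [Group X] [Finite X] (T : Sylow 2 X) {Q R : Subgroup X}
    (hsc : Cfsg.IsStronglyClosed Q (T : Subgroup X)) (hR : IsPGroup 2 R) (hQR : Q ≤ R) {g : X}
    (hg : Q.map (MulAut.conj g).toMonoidHom ≤ R) : Q.map (MulAut.conj g).toMonoidHom = Q := by
  haveI : Fact (Nat.Prime 2) := ⟨Nat.prime_two⟩
  have hT : ¬ 2 ∣ (T : Subgroup X).relIndex ⊤ := by
    rw [relIndex_top_right]; exact T.not_dvd_index
  obtain ⟨x, -, hx⟩ := exists_conj_le_in T.isPGroup' hT (le_top : R ≤ ⊤) hR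
  have h1 := GoldControl.map_conj_eq_of_sc hsc ((map_conj_mono hQR x).trans hx)
  have h2 : Q.map (MulAut.conj (x * g)).toMonoidHom = Q := by
    apply GoldControl.map_conj_eq_of_sc hsc
    rw [← map_conj_map_conj]
    exact (map_conj_mono hg x).trans hx
  rw [← map_conj_map_conj] at h2
  have h3 := congrArg (fun K => K.map (MulAut.conj x⁻¹).toMonoidHom) (h2.trans h1.symm)
  simp only [map_conj_map_conj] at h3
  rw [← mul_assoc, inv_mul_cancel, one_mul] at h3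
  rw [h3, map_conj_one]

theorem mem_sup_of_conj {X : Type u} [Group X] {Q L : Subgroup X} (h : ∀ e ∈ Q, ∀ x ∈ L, e * x * e⁻¹ ∈ L) {x : X}
    (hx : x ∈ Q ⊔ L) : ∃ a ∈ Q, ∃ n ∈ L, a * n = x := by
  let K : Subgroup X :=
    { carrier := {x | ∃ a ∈ Q, ∃ n ∈ L, a * n = x}
      one_mem' := ⟨1, Q.one_mem, 1, L.one_mem, one_mul 1⟩
      mul_mem' := by
        rintro _ _ ⟨a, ha, n, hn, rfl⟩ ⟨a', ha', n', hn', rfl⟩
        refine ⟨a * a', Q.mul_mem ha ha', a'⁻¹ * n * a' * n', L.mul_mem ?_ hn', by group⟩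
        have := h a'⁻¹ (Q.inv_mem ha') n hn
        rwa [inv_inv] at this
      inv_mem' := by
        rintro _ ⟨a, ha, n, hn, rfl⟩
        exact ⟨a⁻¹, Q.inv_mem ha, a * n⁻¹ * a⁻¹, h a ha _ (L.inv_mem hn), by group⟩ }
  have h1 : Q ⊔ L ≤ K := sup_le (fun a ha => ⟨a, ha, 1, L.one_mem, mul_one a⟩)
    (fun n hn => ⟨1, Q.one_mem, n, hn, one_mul n⟩)
  exact h1 hx

/-- the hypotheses -/
structure Hyp (X : Type u) [Group X] [Finite X] (T : Sylow 2 X) (Q : Subgroup X) : Prop where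
  sc : Cfsg.IsStronglyClosed Q (T : Subgroup X)
  sq : ∀ x ∈ Q, x * x = 1
  cent : ∀ x ∈ (T : Subgroup X), (∀ y ∈ Q, x * y = y * x) → x ∈ Q
  odd : Cfsg.oddCore X = ⊥
  two : Cfsg.pCore 2 X = ⊥
  ne : Q ≠ ⊥

/-- square map and commutator form on `Q` -/
structure Forms (X : Type u) [Group X] (Q : Subgroup X) (A : Type*) [CommGroup A] (h : X → A) (f : X → X → A) :
    Prop where
  two : ∀ a : A, a * a = 1
  h_mul : ∀ x ∈ Q, ∀ y ∈ Q, h (x * y) = h x * h y * f x y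
  f_mul_left : ∀ x ∈ Q, ∀ y ∈ Q, ∀ z ∈ Q, f (x * y) z = f x z * f y z
  f_mul_right : ∀ x ∈ Q, ∀ y ∈ Q, ∀ z ∈ Q, f x (y * z) = f x y * f x z
  f_self : ∀ x ∈ Q, f x x = 1
  h_inv : ∀ g ∈ normalizer (Q : Set X), ∀ x ∈ Q, h (g * x * g⁻¹) = h x
  f_inv : ∀ g ∈ normalizer (Q : Set X), ∀ x ∈ Q, ∀ y ∈ Q, f (g * x * g⁻¹) (g * y * g⁻¹) = f x y
  wide : ∀ d ∈ Q, d ≠ 1 → ∀ c : A, ∃ e ∈ Q, f d e ≠ 1 ∧ f d e ≠ c

section

variable {X : Type u} [Group X] [Finite X] {T : Sylow 2 X} {Q : Subgroup X}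

omit [Finite X] in
theorem comm_of_sq (hsq : ∀ x ∈ Q, x * x = 1) {x y : X} (hx : x ∈ Q) (hy : y ∈ Q) : x * y = y * x := by
  have h1 := hsq _ (Q.mul_mem hx hy)
  have h2 := hsq x hx
  have h3 := hsq y hy
  calc x * y = (x * x) * (x * y) * (y * y) := by rw [h2, h3, one_mul, mul_one]
    _ = x * (x * (x * y) * y) * y := by group
    _ = x * ((x * x) * (y * y)) * y := by group
    _ = x * y := by rw [h2, h3, mul_one, mul_one]
    _ = (x * y) * 1 := by rw [mul_one]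
    _ = (x * x) * (x * y) * (y * y) := by rw [h2, h3]; group
    _ = y * x := by
      have h4 : y * x = (x * y)⁻¹ := by
        rw [mul_inv_rev, inv_eq_of_mul_eq_one_left h2, inv_eq_of_mul_eq_one_left h3]
      rw [h2, h3, one_mul, mul_one, h4]
      exact (inv_eq_of_mul_eq_one_left h1).symm

/-- a minimal normal subgroup -/
theorem exists_min_of (hodd : Cfsg.oddCore X = ⊥) (htwo : Cfsg.pCore 2 X = ⊥) (hne : ∃ x : X, x ≠ 1) :
    ∃ N : Subgroup X, N.Normal ∧ N ≠ ⊥ ∧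
      (∀ M : Subgroup X, M.Normal → M ≤ N → M = ⊥ ∨ M = N) ∧ ¬ ∀ x ∈ N, ∀ y ∈ N, Commute x y := by
  have htop : (⊤ : Subgroup X) ≠ ⊥ := by
    intro h0
    obtain ⟨x, hx⟩ := hne
    exact hx (by rw [← mem_bot, ← h0]; exact mem_top x)
  obtain ⟨N, -, hN, hNn, hmin⟩ := MinNormal.exists_minimal_normal_le (⊤ : Subgroup X) htop
  have hnor : ∀ M : Subgroup X, M.Normal ↔ (⊤ : Subgroup X) ≤ normalizer (M : Set X) := fun M => by
    rw [← normalizer_eq_top_iff, top_le_iff]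
  have hNN : N.Normal := (hnor N).2 hNn
  have hmin' : ∀ M : Subgroup X, M.Normal → M ≤ N → M = ⊥ ∨ M = N :=
    fun M hM hMN => hmin M hMN ((hnor M).1 hM)
  refine ⟨N, hNN, hN, hmin', fun hab => ?_⟩
  obtain ⟨p, hp, hpN, -⟩ := MinNormalNonabelian.abelian_structure N hN hmin' hab
  by_cases h2 : p = 2
  · subst h2
    have h1 := Cores.le_pCore hNN hpN
    rw [htwo, le_bot_iff] at h1
    exact hN h1
  · haveI : Fact p.Prime := ⟨hp⟩
    have h1 : N ≤ Cfsg.pPrimeCore 2 X := by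
      apply Cores.le_pPrimeCore hNN
      obtain ⟨k, hk⟩ := IsPGroup.iff_card.1 hpN
      rw [hk]
      exact Nat.Coprime.pow_left k ((Nat.coprime_primes hp Nat.prime_two).2 h2)
    rw [Cfsg.oddCore] at hodd
    rw [hodd, le_bot_iff] at h1
    exact hN h1

theorem exists_min (h : Hyp X T Q) : ∃ N : Subgroup X, N.Normal ∧ N ≠ ⊥ ∧
    (∀ M : Subgroup X, M.Normal → M ≤ N → M = ⊥ ∨ M = N) ∧ ¬ ∀ x ∈ N, ∀ y ∈ N, Commute x y := by
  refine exists_min_of h.odd h.two ?_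
  by_contra hcon
  push Not at hcon
  exact h.ne (eq_bot_iff.2 fun x _ => by rw [mem_bot]; exact hcon x)

/-- the statement of S0215 -/
def ZStarStmt : Prop :=
  ∀ (G : Type u) [Group G] [Finite G] (P : Sylow 2 G) (v : G), orderOf v = 2 → v ∈ P →
    (∀ g : G, g * v * g⁻¹ ∈ P → g * v * g⁻¹ = v) →
    ∃ N : Subgroup G, N.Normal ∧ Odd (Nat.card N) ∧ ∀ g : G, (v * g * v⁻¹ * g⁻¹) ∈ N

variable {N : Subgroup X} [N.Normal] (hmin : ∀ M : Subgroup X, M.Normal → M ≤ N → M = ⊥ ∨ M = N)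
  (hna : ¬ ∀ x ∈ N, ∀ y ∈ N, Commute x y)

section factor

variable {L : Subgroup X} (hL : L ∈ MinNormalNonabelian.minSet N)
include hL

/-- `T ∩ L` is a Sylow 2-subgroup of `L` -/
theorem not_dvd (T : Sylow 2 X) : ¬ 2 ∣ (T : Subgroup X).relIndex L := by
  haveI : Fact (Nat.Prime 2) := ⟨Nat.prime_two⟩
  have h := GoldControl.not_dvd_relIndex_of_normal (p := 2) (N := N) (Q := L) (P := (T : Subgroup X)) hL.1 hL.2.2.1
    (by rw [inf_relIndex_right]; exact SylowNormalInf.not_dvd_relIndex T N)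
  rwa [inf_relIndex_right] at h

theorem inf_ne_bot_of (hodd : Cfsg.oddCore X = ⊥) (T : Sylow 2 X) : (T : Subgroup X) ⊓ L ≠ ⊥ := by
  intro h0
  have h1 := not_dvd hL T
  rw [← inf_relIndex_right, h0, relIndex_bot_left] at h1
  have hLn : (L.subgroupOf N).Normal := (normal_subgroupOf_iff_le_normalizer hL.1).2 hL.2.2.1
  have h2 : (Cfsg.pPrimeCore 2 ↥N).map N.subtype = ⊥ := by
    rw [Cores.map_subtype_pPrimeCore 2 (inferInstance : N.Normal)]
    change N ⊓ Cfsg.oddCore X = ⊥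
    rw [hodd, inf_bot_eq]
  have h3 : L.subgroupOf N ≤ Cfsg.pPrimeCore 2 ↥N := by
    apply Cores.le_pPrimeCore hLn
    rw [← Nat.card_congr (subgroupOfEquivOfLe hL.1).toEquiv.symm]
    exact (Nat.Prime.coprime_iff_not_dvd Nat.prime_two).2 h1 |>.symm
  have h4 : (L.subgroupOf N).map N.subtype ≤ ⊥ := by
    rw [← h2]; exact map_mono h3
  rw [subgroupOf_map_subtype, inf_eq_left.2 hL.1, le_bot_iff] at h4
  exact hL.2.1 h4

theorem inf_ne_bot (h : Hyp X T Q) : (T : Subgroup X) ⊓ L ≠ ⊥ := inf_ne_bot_of hL h.odd T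

omit hL [Finite X] in
theorem nonab (hs : IsSimpleGroup L) (hc : ∀ z ∈ L, (∀ t ∈ L, Commute z t) → z = 1) :
    ∃ a b : L, a * b ≠ b * a := by
  by_contra hcon
  push Not at hcon
  haveI := hs
  obtain ⟨a, ha⟩ := exists_ne (1 : L)
  apply ha
  apply Subtype.ext
  exact hc a a.2 fun t ht => congrArg Subtype.val (hcon a ⟨t, ht⟩)

/-- `Q ∩ L ≠ 1` -/
theorem Q_inf_ne (h : Hyp X T Q) (hQL : ∀ e ∈ Q, ∀ x ∈ L, e * x * e⁻¹ ∈ L) : Q ⊓ L ≠ ⊥ := by
  intro h0
  apply inf_ne_bot hL h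
  rw [eq_bot_iff]
  intro x hx
  have hQT : ∀ s ∈ (T : Subgroup X), ∀ y ∈ Q, s * y * s⁻¹ ∈ Q := fun s hs y hy =>
    h.sc.2 y hy s ((T : Subgroup X).mul_mem ((T : Subgroup X).mul_mem hs (h.sc.1 hy)) ((T : Subgroup X).inv_mem hs))
  have hxQ : x ∈ Q := by
    apply h.cent x hx.1
    intro y hy
    have h1 : x * y * x⁻¹ * y⁻¹ ∈ Q ⊓ L := by
      refine ⟨Q.mul_mem (hQT x hx.1 y hy) (Q.inv_mem hy), ?_⟩
      have h2 : x * y * x⁻¹ * y⁻¹ = x * (y * x⁻¹ * y⁻¹) := by group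
      rw [h2]
      exact L.mul_mem hx.2 (hQL y hy _ (L.inv_mem hx.2))
    rw [h0, mem_bot] at h1
    calc x * y = x * y * x⁻¹ * y⁻¹ * (y * x) := by group
      _ = y * x := by rw [h1, one_mul]
  have h2 : x ∈ Q ⊓ L := ⟨hxQ, hx.2⟩
  rwa [h0] at h2

end factor

/-- `Q` normalises the simple factors of a minimal normal subgroup. -/
theorem Q_normalizes (h : Hyp X T Q) (hmin : ∀ M : Subgroup X, M.Normal → M ≤ N → M = ⊥ ∨ M = N)
    (hna : ¬ ∀ x ∈ N, ∀ y ∈ N, Commute x y) {L : Subgroup X} (hL : L ∈ MinNormalNonabelian.minSet N) {e : X}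
    (he : e ∈ Q) : L.map (MulAut.conj e).toMonoidHom = L := by
  haveI : Fact (Nat.Prime 2) := ⟨Nat.prime_two⟩
  obtain ⟨-, hind, -, hsimple, hcentre, -⟩ := MinNormalNonabelian.nonabelian_structure N hmin hna
  by_contra hne
  set L' := L.map (MulAut.conj e).toMonoidHom with hL'
  have hL'm : L' ∈ MinNormalNonabelian.minSet N := MinNormalNonabelian.map_conj_mem_minSet hL e
  have hcomm : ∀ x ∈ L, ∀ y ∈ L', Commute x y := fun x hx y hy =>
    MinNormal.commute_of_mem hind (fun S hS => hS.2.2.1) (fun S hS => hS.1) hL hL'm (Ne.symm hne) hx hy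
  haveI := hsimple L hL
  -- the Sylow subgroup of `L`
  let P : Sylow 2 L := (T.isPGroup'.comap_of_injective L.subtype L.subtype_injective).toSylow (not_dvd hL T)
  have hPmem : ∀ x : L, x ∈ (P : Subgroup L) ↔ (x : X) ∈ (T : Subgroup X) := fun x => Iff.rfl
  have hPne : (P : Subgroup L) ≠ ⊥ := by
    intro h0
    apply inf_ne_bot hL h
    rw [eq_bot_iff]
    intro x hx
    have h1 : (⟨x, hx.2⟩ : L) ∈ (P : Subgroup L) := hx.1
    rw [h0, mem_bot] at h1
    exact congrArg Subtype.val h1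
  obtain ⟨n, hn, l, hl, hne'⟩ := exists_not_comm (nonab (hsimple L hL) (hcentre L hL)) P hPne
  apply hne'
  have hnl : n * l * n⁻¹ ∈ (P : Subgroup L) := (mem_normalizer_iff.1 hn l).1 hl
  have heT := h.sc.1 he
  have hlT : (l : X) ∈ (T : Subgroup X) := hl
  -- `q₁ = l⁻¹ · e l e⁻¹`
  have hq1 : (l : X)⁻¹ * (e * l * e⁻¹) ∈ Q := by
    have h1 : (l : X)⁻¹ * (e * l * e⁻¹) = ((l : X)⁻¹ * e * ((l : X)⁻¹)⁻¹) * e⁻¹ := by group
    rw [h1]
    refine Q.mul_mem (h.sc.2 e he _ ?_) (Q.inv_mem he)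
    exact (T : Subgroup X).mul_mem ((T : Subgroup X).mul_mem ((T : Subgroup X).inv_mem hlT) heT)
      ((T : Subgroup X).inv_mem ((T : Subgroup X).inv_mem hlT))
  have hel : e * l * e⁻¹ ∈ L' := conj_mem_map_conj l.2 e
  have hcn : (n : X) * (e * l * e⁻¹) * (n : X)⁻¹ = e * l * e⁻¹ := by
    rw [(hcomm n n.2 _ hel).eq]; group
  have hq2 : ((n * l * n⁻¹ : L) : X)⁻¹ * (e * l * e⁻¹) ∈ Q := by
    have h1 : ((n * l * n⁻¹ : L) : X)⁻¹ * (e * l * e⁻¹) = n * ((l : X)⁻¹ * (e * l * e⁻¹)) * (n : X)⁻¹ := by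
      calc ((n * l * n⁻¹ : L) : X)⁻¹ * (e * l * e⁻¹)
          = ((n : X) * l * (n : X)⁻¹)⁻¹ * ((n : X) * (e * l * e⁻¹) * (n : X)⁻¹) := by rw [hcn]; rfl
        _ = _ := by group
    rw [h1]
    apply h.sc.2 _ hq1
    rw [← h1]
    exact (T : Subgroup X).mul_mem ((T : Subgroup X).inv_mem hnl)
      ((T : Subgroup X).mul_mem ((T : Subgroup X).mul_mem heT hlT) ((T : Subgroup X).inv_mem heT))
  have hr : ((n * l * n⁻¹ : L) : X)⁻¹ * l ∈ Q := by
    have h1 : ((n * l * n⁻¹ : L) : X)⁻¹ * l =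
        (((n * l * n⁻¹ : L) : X)⁻¹ * (e * l * e⁻¹)) * ((l : X)⁻¹ * (e * l * e⁻¹))⁻¹ := by group
    rw [h1]
    exact Q.mul_mem hq2 (Q.inv_mem hq1)
  have hr2 : ((n * l * n⁻¹ : L) : X)⁻¹ * l ∈ L := L.mul_mem (L.inv_mem (n * l * n⁻¹ : L).2) l.2
  have hr3 : e * (((n * l * n⁻¹ : L) : X)⁻¹ * l) * e⁻¹ = ((n * l * n⁻¹ : L) : X)⁻¹ * l := by
    rw [comm_of_sq h.sq he hr]; group
  have hr4 : ((n * l * n⁻¹ : L) : X)⁻¹ * l ∈ L' := by
    rw [← hr3]; exact conj_mem_map_conj hr2 e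
  have hr5 : ((n * l * n⁻¹ : L) : X)⁻¹ * l = 1 := hcentre L hL _ hr2 fun t ht => (hcomm t ht _ hr4).symm
  apply Subtype.ext
  exact (inv_mul_eq_one.1 hr5)

/-- **No components**: the configuration is impossible. -/
theorem false_of_forms (hZS : ZStarStmt.{u})
    (hT : ∀ (G : Type u) [Group G] [Finite G], IsSimpleGroup G → (∃ a b : G, a * b ≠ b * a) → TProp G)
    (hyp : Hyp X T Q) {A : Type*} [CommGroup A] {h : X → A} {f : X → X → A} (F : Forms X Q A h f) : False := by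
  haveI : Fact (Nat.Prime 2) := ⟨Nat.prime_two⟩
  obtain ⟨N, hN, hN0, hmin, hna⟩ := exists_min hyp
  obtain ⟨⟨L, hL⟩, hind, -, hsimple, hcentre, -⟩ := MinNormalNonabelian.nonabelian_structure N hmin hna
  haveI := hsimple L hL
  have hQL : ∀ e ∈ Q, ∀ x ∈ L, e * x * e⁻¹ ∈ L := by
    intro e he x hx
    have h1 := conj_mem_map_conj hx e
    rwa [Q_normalizes hyp hmin hna hL he] at h1
  have hnab := nonab (hsimple L hL) (hcentre L hL)
  let P : Sylow 2 L := (T.isPGroup'.comap_of_injective L.subtype L.subtype_injective).toSylow (not_dvd hL T)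
  -- a nontrivial element of `Q ∩ L`
  obtain ⟨d, hd, hd1⟩ : ∃ d ∈ Q ⊓ L, d ≠ 1 := by
    by_contra hcon
    push Not at hcon
    exact Q_inf_ne hL hyp hQL (eq_bot_iff.2 fun x hx => by rw [mem_bot]; exact hcon x hx)
  -- one class of involutions
  have hfam : IsElemFam {x : X | ∃ g : X, g * x * g⁻¹ ∈ Q} := by
    refine { toIsClosedFam := isClosedFam_of_isStronglyClosed T Q hyp.sc, sq := ?_ }
    rintro x ⟨g, hg⟩
    have h1 := hyp.sq _ hg
    have h2 : g * x * g⁻¹ * (g * x * g⁻¹) = g * (x * x) * g⁻¹ := by group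
    rw [h2, mul_inv_eq_one, mul_eq_left] at h1
    exact h1
  have hcon : TCon L := hT L (hsimple L hL) hnab _ (hfam.restrict L)
    ⟨⟨d, hd.2⟩, ⟨1, by simpa using hd.1⟩, fun h1 => hd1 (congrArg Subtype.val h1)⟩
  have hord : ∀ x ∈ Q ⊓ L, ∀ hx : x ∈ L, x ≠ 1 → orderOf (⟨x, hx⟩ : L) = 2 := by
    intro x hx hxL hx1
    apply orderOf_eq_prime
    · apply Subtype.ext
      rw [pow_two]
      exact hyp.sq x hx.1
    · intro h1
      exact hx1 (congrArg Subtype.val h1)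
  -- a second element
  obtain ⟨d', hd', hd'1, hdd'⟩ : ∃ d' ∈ Q ⊓ L, d' ≠ 1 ∧ d' ≠ d := by
    by_contra hcon2
    push Not at hcon2
    have hdP : (⟨d, hd.2⟩ : L) ∈ P := hyp.sc.1 hd.1
    obtain ⟨M, hM, hModd, hMc⟩ := hZS L P ⟨d, hd.2⟩ (hord d hd hd.2 hd1) hdP (by
      intro g hg
      have h1 : ((g * ⟨d, hd.2⟩ * g⁻¹ : L) : X) ∈ Q ⊓ L :=
        ⟨hyp.sc.2 d hd.1 g hg, (g * ⟨d, hd.2⟩ * g⁻¹ : L).2⟩
      have h2 : ((g * ⟨d, hd.2⟩ * g⁻¹ : L) : X) ≠ 1 := by
        intro h3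
        have h4 : (g : X) * d * (g : X)⁻¹ = 1 := h3
        rw [mul_inv_eq_one, mul_eq_left] at h4
        exact hd1 h4
      exact Subtype.ext (hcon2 _ h1 h2))
    rcases hM.eq_bot_or_eq_top with h1 | h1
    · apply hd1
      apply hcentre L hL d hd.2
      intro t ht
      have h2 := hMc ⟨t, ht⟩
      rw [h1, mem_bot] at h2
      have h3 : d * t * d⁻¹ * t⁻¹ = 1 := congrArg Subtype.val h2
      change d * t = t * d
      calc d * t = d * t * d⁻¹ * t⁻¹ * (t * d) := by group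
        _ = t * d := by rw [h3, one_mul]
    · rw [h1, card_top] at hModd
      have h2 := hord d hd hd.2 hd1
      have h3 : 2 ∣ Nat.card L := by rw [← h2]; exact orderOf_dvd_natCard _
      exact (Nat.not_even_iff_odd.2 hModd) (even_iff_two_dvd.2 h3)
  -- fusion in `N_L(Q)`
  have hfus : ∀ x ∈ Q ⊓ L, x ≠ 1 → ∀ y ∈ Q ⊓ L, y ≠ 1 →
      ∃ n ∈ L, n ∈ normalizer (Q : Set X) ∧ n * x * n⁻¹ = y := by
    intro x hx hx1 y hy hy1
    obtain ⟨g, hg⟩ := hcon.conj ⟨x, hx.2⟩ ⟨y, hy.2⟩ (hord x hx hx.2 hx1) (hord y hy hy.2 hy1)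
    have hg' : (g : X) * x * (g : X)⁻¹ = y := congrArg Subtype.val hg
    set C := (Q ⊔ L) ⊓ centralizer ({y} : Set X) with hC
    have hQp : IsPGroup 2 Q := T.isPGroup'.to_le hyp.sc.1
    have hQC : Q ≤ C := by
      refine le_inf le_sup_left fun a ha => ?_
      rw [mem_centralizer_singleton_iff]
      exact comm_of_sq hyp.sq ha hy.1
    have hQgC : Q.map (MulAut.conj (g : X)).toMonoidHom ≤ C := by
      rintro _ ⟨a, ha, rfl⟩
      refine ⟨?_, ?_⟩
      · exact (Q ⊔ L).mul_mem ((Q ⊔ L).mul_mem (mem_sup_right g.2) (mem_sup_left ha))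
          ((Q ⊔ L).inv_mem (mem_sup_right g.2))
      · change (g : X) * a * (g : X)⁻¹ ∈ centralizer ({y} : Set X)
        rw [mem_centralizer_singleton_iff, ← hg']
        have := comm_of_sq hyp.sq ha hx.1
        calc (g : X) * a * (g : X)⁻¹ * ((g : X) * x * (g : X)⁻¹) = (g : X) * (a * x) * (g : X)⁻¹ := by group
          _ = (g : X) * (x * a) * (g : X)⁻¹ := by rw [this]
          _ = _ := by group
    obtain ⟨R, hQR, hRC, hR, hRi⟩ := exists_sylow_in hQC hQp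
    obtain ⟨c, hc, hcR⟩ := exists_conj_le_in hR hRi hQgC (hQp.map _)
    rw [map_conj_map_conj] at hcR
    have h1 := map_conj_eq_of_le T hyp.sc hR hQR hcR
    have h2 : c * (g : X) ∈ normalizer (Q : Set X) := mem_normalizer_iff_map_conj.2 h1
    have h3 : c * (g : X) ∈ Q ⊔ L := (Q ⊔ L).mul_mem hc.1 (mem_sup_right g.2)
    obtain ⟨a, ha, n, hn, han⟩ := mem_sup_of_conj hQL h3
    have hn' : n = a⁻¹ * (c * (g : X)) := by rw [← han]; group
    refine ⟨n, hn, ?_, ?_⟩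
    · rw [hn']
      exact (normalizer (Q : Set X)).mul_mem ((normalizer (Q : Set X)).inv_mem (le_normalizer ha)) h2
    · have hcy : c * y * c⁻¹ = y := by
        have h4 := mem_centralizer_singleton_iff.1 hc.2
        rw [h4]; group
      have hay : a⁻¹ * y * a = y := by
        rw [comm_of_sq hyp.sq (Q.inv_mem ha) hy.1]; group
      calc n * x * n⁻¹ = a⁻¹ * (c * ((g : X) * x * (g : X)⁻¹) * c⁻¹) * a := by rw [hn']; group
        _ = y := by rw [hg', hcy, hay]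
  -- the form on `D = Q ∩ L`
  have hconst : ∀ x ∈ Q ⊓ L, x ≠ 1 → h x = h d := by
    intro x hx hx1
    obtain ⟨n, -, hn, hnx⟩ := hfus d hd hd1 x hx hx1
    rw [← hnx, F.h_inv n hn d hd.1]
  set c := h d with hc
  have hfD : ∀ x ∈ Q ⊓ L, ∀ y ∈ Q ⊓ L, f x y = 1 ∨ f x y = c := by
    intro x hx y hy
    have hf1 : ∀ z ∈ Q, f 1 z = 1 := by
      intro z hz
      have h1 := F.f_mul_left 1 Q.one_mem 1 Q.one_mem z hz
      rw [one_mul] at h1
      exact (mul_eq_left.1 h1.symm)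
    have hf2 : ∀ z ∈ Q, f z 1 = 1 := by
      intro z hz
      have h1 := F.f_mul_right z hz 1 Q.one_mem 1 Q.one_mem
      rw [one_mul] at h1
      exact (mul_eq_left.1 h1.symm)
    by_cases hx1 : x = 1
    · left; rw [hx1]; exact hf1 y hy.1
    by_cases hy1 : y = 1
    · left; rw [hy1]; exact hf2 x hx.1
    by_cases hxy : x = y
    · left; rw [hxy]; exact F.f_self y hy.1
    right
    have hxy1 : x * y ≠ 1 := by
      intro h0
      apply hxy
      have h1 := hyp.sq y hy.1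
      calc x = x * y * y⁻¹ := by group
        _ = y⁻¹ := by rw [h0, one_mul]
        _ = y := inv_eq_of_mul_eq_one_left h1
    have h1 := F.h_mul x hx.1 y hy.1
    rw [hconst x hx hx1, hconst y hy hy1, hconst _ (mul_mem hx hy) hxy1, F.two, one_mul] at h1
    exact h1.symm
  have hmove : ∀ x ∈ Q ⊓ L, x ≠ 1 → ∀ y ∈ Q ⊓ L, y ≠ 1 → ∀ e ∈ Q, f y e = f x e ∨ f y e = f x e * c := by
    intro x hx hx1 y hy hy1 e he
    obtain ⟨n, hnL, hn, hnx⟩ := hfus x hx hx1 y hy hy1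
    have hne : n⁻¹ * e * n ∈ Q := by
      have h1 := (mem_normalizer_iff.1 ((normalizer (Q : Set X)).inv_mem hn) e).1 he
      rwa [inv_inv] at h1
    have hδ : e⁻¹ * (n⁻¹ * e * n) ∈ Q ⊓ L := by
      refine ⟨Q.mul_mem (Q.inv_mem he) hne, ?_⟩
      have h1 : e⁻¹ * (n⁻¹ * e * n) = (e⁻¹ * n⁻¹ * (e⁻¹)⁻¹) * n := by group
      rw [h1]
      exact L.mul_mem (hQL _ (Q.inv_mem he) _ (L.inv_mem hnL)) hnL
    have h1 : f y e = f x (n⁻¹ * e * n) := by
      have h2 := F.f_inv n hn x hx.1 (n⁻¹ * e * n) hne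
      rw [hnx] at h2
      rw [← h2]
      congr 1
      group
    have h3 : n⁻¹ * e * n = e * (e⁻¹ * (n⁻¹ * e * n)) := by group
    rw [h1, h3, F.f_mul_right x hx.1 e he _ hδ.1]
    rcases hfD x hx _ hδ with h4 | h4
    · left; rw [h4, mul_one]
    · right; rw [h4]
  have hdd1 : d * d' ≠ 1 := by
    intro h0
    apply hdd'
    have h1 := hyp.sq d hd.1
    calc d' = d⁻¹ * (d * d') := by group
      _ = d⁻¹ := by rw [h0, mul_one]
      _ = d := inv_eq_of_mul_eq_one_left h1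
  obtain ⟨e, he, he1, hec⟩ := F.wide (d * d') (Q.mul_mem hd.1 hd'.1) hdd1 c
  have h1 := F.f_mul_left d hd.1 d' hd'.1 e he
  rcases hmove d hd hd1 d' hd' hd'1 e he with h2 | h2
  · rw [h2, F.two] at h1
    exact he1 h1
  · rw [h2, ← mul_assoc, F.two, one_mul] at h1
    exact hec h1

end

end Cfsg.Agent.StdSpFour.CloseComp
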