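import Cfsg.Agent.StdSpFour.CloseNTwo
import Mathlib.Combinatorics.Enumerative.DoubleCounting

/-!
# S1778, closing of `U₄(q)`, `U₅(q)`: the centralisers of the elements of `W \ S`

`cent_W`: `C_E(u) ≤ N_E(W)` for `u ∈ W \ S`, `u ≠ 1`.
-/

set_option autoImplicit false
set_option linter.style.haveILetI false

namespace Cfsg.Agent.StdSpFour.CloseCu

open Subgroup
open Cfsg.Agent.Lib Cfsg.Agent.Lib.GoldschmidtFusion
open Cfsg.Agent.TwoFusion.Gold (TProp)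
open Cfsg.Agent.StdSpFour.CloseComp Cfsg.Agent.StdSpFour.CloseFacts
open Cfsg.Agent.StdSpFour.CloseBase Cfsg.Agent.StdSpFour.CloseBase.Facts
open Cfsg.Agent.StdSpFour.CloseNOne Cfsg.Agent.StdSpFour.CloseFus Cfsg.Agent.StdSpFour.CloseLoc
open Cfsg.Agent.StdSpFour.CloseCz Cfsg.Agent.StdSpFour.CloseNTwo
open Cfsg.Agent.StdSpFour.CloseSyl (S0506Stmt card_eq_index)

universe u

/-- `2 ^ (2n) + 1` does not divide `2 ^ k - 1` for `0 < k < 4n` -/
theorem not_dvd_two_pow {n k : ℕ} (hk : 0 < k) (hkn : k < 4 * n) : ¬ (2 ^ n) ^ 2 + 1 ∣ 2 ^ k - 1 := by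
  intro h
  have hq : (2 ^ n) ^ 2 = 2 ^ (2 * n) := by rw [← pow_mul, mul_comm]
  rw [hq] at h
  have h1 : 1 < 2 ^ k := Nat.one_lt_two_pow (by omega)
  rcases le_or_gt k (2 * n) with h2 | h2
  · have h3 := Nat.le_of_dvd (by omega) h
    have h4 : 2 ^ k ≤ 2 ^ (2 * n) := Nat.pow_le_pow_right (by norm_num) h2
    omega
  · have h3 : 2 ^ k + 2 ^ (k - 2 * n) = 2 ^ (k - 2 * n) * (2 ^ (2 * n) + 1) := by
      have h4 : 2 ^ k = 2 ^ (k - 2 * n) * 2 ^ (2 * n) := by rw [← pow_add]; congr 1; omega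
      rw [h4]; ring
    have h4 : 2 ^ (2 * n) + 1 ∣ 2 ^ (k - 2 * n) + 1 := by
      have h5 : 2 ^ (2 * n) + 1 ∣ (2 ^ k - 1) + (2 ^ (k - 2 * n) + 1) := by
        have h6 : (2 ^ k - 1) + (2 ^ (k - 2 * n) + 1) = 2 ^ k + 2 ^ (k - 2 * n) := by omega
        rw [h6, h3]
        exact dvd_mul_left _ _
      exact (Nat.dvd_add_right h).1 h5
    have h5 := Nat.le_of_dvd (Nat.succ_pos _) h4
    have h6 : 2 ^ (k - 2 * n) < 2 ^ (2 * n) := Nat.pow_lt_pow_right (by norm_num) (by omega)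
    omega

variable {E : Type u} [Group E] [Finite E] (F : Facts E)

/-- lines: conjugates of `W` -/
def IsLine (L : Subgroup E) : Prop := ∃ a : E, L = F.W.map (MulAut.conj a).toMonoidHom

theorem isLine_W : IsLine F F.W := ⟨1, (map_conj_one _).symm⟩

theorem isLine_conj {L : Subgroup E} (hL : IsLine F L) (g : E) : IsLine F (L.map (MulAut.conj g).toMonoidHom) := by
  obtain ⟨a, rfl⟩ := hL
  exact ⟨g * a, map_conj_map_conj _ _ _⟩

theorem line_comm {L : Subgroup E} (hL : IsLine F L) {x y : E} (hx : x ∈ L) (hy : y ∈ L) : x * y = y * x := by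
  obtain ⟨a, rfl⟩ := hL
  rw [mem_map_conj] at hx hy
  have h1 := W_comm F hx hy
  calc x * y = a * ((a⁻¹ * x * a) * (a⁻¹ * y * a)) * a⁻¹ := by group
    _ = a * ((a⁻¹ * y * a) * (a⁻¹ * x * a)) * a⁻¹ := by rw [h1]
    _ = y * x := by group

theorem isD_inv {x : E} (hx : IsD F x) : x⁻¹ = x := inv_eq_of_mul_eq_one_left (isD_sq F hx)

section main

variable (h0506 : S0506Stmt.{u}) (hZS : ZStarStmt.{u})
  (hT : ∀ (G : Type u) [Group G] [Finite G], IsSimpleGroup G → (∃ a b : G, a * b ≠ b * a) → TProp G)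
  (h1173 : S1173Stmt.{u})
include h0506 hZS hT h1173

theorem L1_base {g : E} (hg : g ∈ NQ F) {w : E} (hw : w ∈ F.W) (hwZ : w ∉ F.Z) (hgw : g * w * g⁻¹ ∈ F.W) :
    g ∈ normalizer ((F.T : Subgroup E) : Set E) := by
  apply norm_Q F h0506 hZS hT h1173 hg
  by_cases hwQ : w ∈ F.Q
  · exact disj F hg ⟨hw, hwQ⟩ hwZ ⟨hgw, NQ_Q F hg hwQ⟩
  · have hgQ : g * w * g⁻¹ ∉ F.Q := by
      intro h
      apply hwQ
      have h1 := NQ_Q' F hg h
      have h2 : g⁻¹ * (g * w * g⁻¹) * g = w := by group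
      rwa [h2] at h1
    apply mem_normalizer_of
    intro x hx
    rw [mem_U_iff F (F.W_le hw) hwQ (by rw [F.W_sq w hw]; exact F.Q.one_mem)] at hx
    obtain ⟨y, hy, z, hz, rfl⟩ := hx
    rw [mem_U_iff F (F.W_le hgw) hgQ (by rw [F.W_sq _ hgw]; exact F.Q.one_mem)]
    exact ⟨g * y * g⁻¹, NQ_Q F hg hy, g * z * g⁻¹, NQ_Z F hg hz, by group⟩

/-- distinct lines with a common element of `D` meet in `D ∪ {1}` -/
theorem L1 {L M : Subgroup E} (hL : IsLine F L) (hM : IsLine F M) {d w : E} (hd : IsD F d) (hdL : d ∈ L) (hdM : d ∈ M)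
    (hw : w ≠ 1) (hwD : ¬ IsD F w) (hwL : w ∈ L) (hwM : w ∈ M) : L = M := by
  -- normalise the conjugating elements
  have key : ∀ {L : Subgroup E}, IsLine F L → d ∈ L → ∃ a : E, L = F.W.map (MulAut.conj a).toMonoidHom ∧
      a⁻¹ * d * a ∈ F.Z := by
    rintro L ⟨a, rfl⟩ h
    rw [mem_map_conj] at h
    have h1 : IsD F (a⁻¹ * d * a) := by
      have h2 := isD_conj F hd a⁻¹
      rwa [inv_inv] at h2
    obtain ⟨k, hk, z, hz, -, h3⟩ := (F.S_iff _).1 (mem_S_of_W F h0506 h1 h)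
    refine ⟨a * k, ?_, ?_⟩
    · rw [← map_conj_map_conj, mem_normalizer_iff_map_conj.1 (Ka_le_NW F hk)]
    · have h4 : (a * k)⁻¹ * d * (a * k) = k⁻¹ * (a⁻¹ * d * a) * k := by group
      rw [h4, h3]
      have h5 : k⁻¹ * (k * z * k⁻¹) * k = z := by group
      rw [h5]
      exact hz
  obtain ⟨a, rfl, ha⟩ := key hL hdL
  obtain ⟨b, rfl, hb⟩ := key hM hdM
  rw [mem_map_conj] at hwL hwM
  have hz1 : a⁻¹ * d * a ≠ 1 := by
    intro h
    apply isD_ne F hd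
    calc d = a * (a⁻¹ * d * a) * a⁻¹ := by group
      _ = 1 := by rw [h]; group
  have h1 : (b⁻¹ * a) * (a⁻¹ * d * a) * (b⁻¹ * a)⁻¹ = b⁻¹ * d * b := by group
  have h2 := NZ_le_NQ F h0506 hZS hT h1173 (Z_TI F h0506 hZS hT h1173 ha hz1 (g := b⁻¹ * a) (by rw [h1]; exact hb))
  have hwZ : a⁻¹ * w * a ∉ F.Z := by
    intro h
    apply hwD
    refine ⟨a, a⁻¹ * w * a, h, ?_, by group⟩
    intro h3
    apply hw
    calc w = a * (a⁻¹ * w * a) * a⁻¹ := by group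
      _ = 1 := by rw [h3]; group
  have h3 : (b⁻¹ * a) * (a⁻¹ * w * a) * (b⁻¹ * a)⁻¹ = b⁻¹ * w * b := by group
  have h4 := NT_le_NW F (L1_base F h0506 hZS hT h1173 h2 hwL hwZ (by rw [h3]; exact hwM))
  have h5 : a = b * (b⁻¹ * a) := by group
  rw [h5, ← map_conj_map_conj, mem_normalizer_iff_map_conj.1 h4]

omit hZS hT h1173 in
/-- `D ∩ N_E(L) ⊆ L` -/
theorem L2 {L : Subgroup E} (hL : IsLine F L) {e : E} (he : IsD F e) (hn : e ∈ normalizer (L : Set E)) : e ∈ L := by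
  haveI : Fact (Nat.Prime 2) := ⟨Nat.prime_two⟩
  obtain ⟨a, rfl⟩ := hL
  rw [mem_map_conj]
  set e' := a⁻¹ * e * a with he'
  have heD : IsD F e' := by
    have h2 := isD_conj F he a⁻¹
    rwa [inv_inv] at h2
  have heN : e' ∈ normalizer (F.W : Set E) := by
    apply mem_normalizer_of
    intro x hx
    have h1 : a * x * a⁻¹ ∈ F.W.map (MulAut.conj a).toMonoidHom := conj_mem_map_conj hx a
    have h2 := (mem_normalizer_iff.1 hn _).1 h1
    rw [mem_map_conj] at h2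
    have h3 : a⁻¹ * (e * (a * x * a⁻¹) * e⁻¹) * a = e' * x * e'⁻¹ := by rw [he']; group
    rwa [h3] at h2
  have h1 : IsPGroup 2 (zpowers e') := by
    rintro ⟨y, hy⟩
    obtain ⟨k, rfl⟩ := mem_zpowers_iff.1 hy
    refine ⟨1, Subtype.ext ?_⟩
    change (e' ^ k) ^ 2 ^ 1 = 1
    rw [pow_one, ← zpow_natCast, ← zpow_mul, mul_comm, zpow_mul, zpow_natCast, pow_two, isD_sq F heD, one_zpow]
  obtain ⟨n, hn, hnT⟩ := exists_conj_le F.T (T_le_NW F) (by rw [zpowers_le]; exact heN) h1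
  have h2 : n * e' * n⁻¹ ∈ (F.T : Subgroup E) := hnT ⟨e', mem_zpowers e', rfl⟩
  have h3 := S_le_W F (mem_S F h0506 (isD_conj F heD n) h2)
  exact (mem_normalizer_iff.1 hn e').2 h3

/-- first dihedral lemma -/
theorem lem_A {L : Subgroup E} (hL : IsLine F L) {W0 : Subgroup E} (hW0 : W0 ≤ L) (hne : ∃ w ∈ W0, w ≠ 1)
    (hD : ∀ w ∈ W0, ¬ IsD F w) {d d' : E} (hd : IsD F d) (hdL : d ∈ L) (hd' : IsD F d')
    (hdc : ∀ w ∈ W0, d' * w = w * d') {m : ℕ} (hm : (d * d') ^ (2 * m) ∈ W0) : (d * d') ^ m ∈ L := by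
  set p := d * d' with hp
  have hdd := isD_sq F hd
  have hdd' := isD_sq F hd'
  have hdp : d * p * d = p⁻¹ := by
    rw [hp, mul_inv_rev, isD_inv F hd, isD_inv F hd']
    calc d * (d * d') * d = (d * d) * d' * d := by group
      _ = d' * d := by rw [hdd, one_mul]
  have hdpk : ∀ k : ℕ, d * p ^ k * d = (p ^ k)⁻¹ := by
    intro k
    have h1 : d * p ^ k * d⁻¹ = (d * p * d⁻¹) ^ k := (conj_pow).symm
    rw [isD_inv F hd, hdp, inv_pow] at h1
    exact h1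
  have hdpk' : ∀ k : ℕ, d * (p ^ k)⁻¹ = p ^ k * d := by
    intro k
    rw [← hdpk k]
    calc d * (d * p ^ k * d) = (d * d) * p ^ k * d := by group
      _ = p ^ k * d := by rw [hdd, one_mul]
  set e := p ^ m * d with he
  -- `e` is a conjugate of `d` or `d'`
  have heD : IsD F e := by
    rcases Nat.even_or_odd' m with ⟨k, hk | hk⟩
    · have h1 : e = p ^ k * d * (p ^ k)⁻¹ := by
        rw [he, hk, mul_assoc (p ^ k), hdpk' k, two_mul, pow_add, mul_assoc]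
      rw [h1]
      exact isD_conj F hd _
    · have h1 : e = p ^ k * (d * d' * d⁻¹) * (p ^ k)⁻¹ := by
        have h2 : d * d' * d⁻¹ = p * d := by rw [isD_inv F hd]
        rw [he, hk, h2, mul_assoc (p ^ k), mul_assoc p, hdpk' k]
        rw [show 2 * k + 1 = k + 1 + k by ring, pow_add, pow_add, pow_one]
        simp only [mul_assoc]
      rw [h1]
      exact isD_conj F (isD_conj F hd' d) _
  have hcd : ∀ w ∈ W0, Commute d w := fun w hw => line_comm F hL hdL (hW0 hw)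
  have hcd' : ∀ w ∈ W0, Commute d' w := hdc
  have hce : ∀ w ∈ W0, e * w = w * e := fun w hw =>
    (((hcd w hw).mul_left (hcd' w hw)).pow_left m).mul_left (hcd w hw)
  -- `e d e⁻¹ ∈ L`
  have hede : e * d * e⁻¹ = p ^ (2 * m) * d := by
    rw [he, mul_inv_rev, isD_inv F hd]
    calc p ^ m * d * d * (d * (p ^ m)⁻¹) = p ^ m * (d * d) * (d * (p ^ m)⁻¹) := by group
      _ = p ^ m * (p ^ m * d) := by rw [hdd, mul_one, hdpk' m]
      _ = p ^ (2 * m) * d := by rw [two_mul, pow_add, mul_assoc]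
  have h1 : e * d * e⁻¹ ∈ L := by rw [hede]; exact L.mul_mem (hW0 hm) hdL
  obtain ⟨w, hw, hw1⟩ := hne
  have h2 : w ∈ L.map (MulAut.conj e).toMonoidHom := by
    rw [mem_map_conj]
    have h3 := hce w hw
    have h4 : e⁻¹ * w * e = w := by
      calc e⁻¹ * w * e = e⁻¹ * (w * e) := by group
        _ = w := by rw [← h3]; group
    rw [h4]
    exact hW0 hw
  have h3 := L1 F h0506 hZS hT h1173 hL (isLine_conj F hL e) (isD_conj F hd e) h1 (conj_mem_map_conj hdL e) hw1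
    (hD w hw) (hW0 hw) h2
  have h4 := L2 F h0506 hL heD (mem_normalizer_iff_map_conj.2 h3.symm)
  have h5 : p ^ m = e * d := by
    rw [he, mul_assoc, hdd, mul_one]
  rw [h5]
  exact L.mul_mem h4 hdL

/-- second dihedral lemma -/
theorem lem_B {L M : Subgroup E} (hL : IsLine F L) (hM : IsLine F M) (hne : ∃ w ∈ L ⊓ M, w ≠ 1)
    (hD : ∀ w ∈ L ⊓ M, ¬ IsD F w) {d d' : E} (hd : IsD F d) (hdL : d ∈ L) (hd' : IsD F d') (hdM : d' ∈ M) :
    ∃ y : E, (∀ w ∈ L ⊓ M, y * w = w * y) ∧ ∃ w ∈ L ⊓ M, y * d * y⁻¹ = w * d' := by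
  have hcd : ∀ w ∈ L ⊓ M, d * w = w * d := fun w hw => line_comm F hL hdL hw.1
  have hcd' : ∀ w ∈ L ⊓ M, d' * w = w * d' := fun w hw => line_comm F hM hdM hw.2
  have hdd := isD_sq F hd
  have hdd' := isD_sq F hd'
  set p := d * d' with hp
  have hpi : p⁻¹ = d' * d := by rw [hp, mul_inv_rev, isD_inv F hd, isD_inv F hd']
  have hred : ∀ m : ℕ, p ^ (2 * m) ∈ L ⊓ M → p ^ m ∈ L ⊓ M := by
    intro m hm
    refine ⟨lem_A F h0506 hZS hT h1173 hL inf_le_left hne hD hd hdL hd' hcd' hm, ?_⟩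
    have h1 : (d' * d) ^ (2 * m) ∈ L ⊓ M := by
      rw [← hpi, inv_pow]
      exact (L ⊓ M).inv_mem hm
    have h2 := lem_A F h0506 hZS hT h1173 hM inf_le_right hne hD hd' hdM hd hcd h1
    rw [← hpi, inv_pow] at h2
    exact (M.inv_mem_iff).1 h2
  have hred' : ∀ s m : ℕ, p ^ (2 ^ s * m) ∈ L ⊓ M → p ^ m ∈ L ⊓ M := by
    intro s
    induction s with
    | zero => intro m hm; rwa [pow_zero, one_mul] at hm
    | succ s ih =>
      intro m hm
      apply hred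
      apply ih
      rwa [pow_succ, mul_assoc] at hm
  obtain ⟨s, r, hr, hsr⟩ := Nat.exists_eq_two_pow_mul_odd (n := orderOf p) (orderOf_pos p).ne'
  have h1 : p ^ r ∈ L ⊓ M := by
    apply hred' s
    rw [← hsr, pow_orderOf_eq_one]
    exact (L ⊓ M).one_mem
  obtain ⟨k, hk⟩ := hr
  have hcp : ∀ w ∈ L ⊓ M, Commute p w := fun w hw => Commute.mul_left (hcd w hw) (hcd' w hw)
  refine ⟨p ^ k, fun w hw => ((hcp w hw).pow_left k), p ^ r, h1, ?_⟩
  have hdp : d * p⁻¹ = p * d := by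
    rw [hpi, hp]
    group
  have hdpk : d * (p ^ k)⁻¹ = p ^ k * d := by
    have h2 : SemiconjBy d p⁻¹ p := hdp
    have h3 := h2.pow_right k
    rw [inv_pow] at h3
    exact h3
  rw [mul_assoc, hdpk, hk, ← mul_assoc, ← pow_add, pow_succ, ← two_mul, mul_assoc (p ^ (2 * k))]
  congr 1
  calc d = d * (d' * d') := by rw [hdd', mul_one]
    _ = p * d' := by rw [hp, mul_assoc]

/-- the number of elements of `D` in `m W₀` is constant -/
theorem card_le {L M : Subgroup E} (hL : IsLine F L) (hM : IsLine F M) (hne : ∃ w ∈ L ⊓ M, w ≠ 1)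
    (hD : ∀ w ∈ L ⊓ M, ¬ IsD F w) {m₁ m₂ : E} (hm₁ : IsD F m₁) (hm₁L : m₁ ∈ L) (hm₂ : IsD F m₂) (hm₂L : m₂ ∈ L) :
    Nat.card {w : E // w ∈ L ⊓ M ∧ IsD F (m₁ * w)} ≤ Nat.card {w : E // w ∈ L ⊓ M ∧ IsD F (m₂ * w)} := by
  obtain ⟨d', hd', hdM⟩ : ∃ d', IsD F d' ∧ d' ∈ M := by
    obtain ⟨a, rfl⟩ := hM
    obtain ⟨z, hz, hz1⟩ := exists_Z_ne F
    exact ⟨a * z * a⁻¹, ⟨a, z, hz, hz1, rfl⟩, conj_mem_map_conj (F.Z_le_W hz) a⟩
  obtain ⟨y₁, hy₁, w₁, hw₁, h₁⟩ := lem_B F h0506 hZS hT h1173 hL hM hne hD hm₁ hm₁L hd' hdM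
  obtain ⟨y₂, hy₂, w₂, hw₂, h₂⟩ := lem_B F h0506 hZS hT h1173 hL hM hne hD hm₂ hm₂L hd' hdM
  -- `y = y₂⁻¹ y₁` maps `m₁` to `(w₁ w₂⁻¹) m₂`
  have hcy₂ : ∀ w ∈ L ⊓ M, y₂⁻¹ * w = w * y₂⁻¹ := by
    intro w hw
    have h3 : Commute y₂ w := hy₂ w hw
    exact h3.inv_left
  have h3 : (y₂⁻¹ * y₁) * m₁ * (y₂⁻¹ * y₁)⁻¹ = (w₁ * w₂⁻¹) * m₂ := by
    have h4 : d' = w₂⁻¹ * (y₂ * m₂ * y₂⁻¹) := by rw [h₂]; group
    calc (y₂⁻¹ * y₁) * m₁ * (y₂⁻¹ * y₁)⁻¹ = y₂⁻¹ * (y₁ * m₁ * y₁⁻¹) * y₂ := by group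
      _ = y₂⁻¹ * (w₁ * (w₂⁻¹ * (y₂ * m₂ * y₂⁻¹))) * y₂ := by rw [h₁, ← h4]
      _ = (y₂⁻¹ * (w₁ * w₂⁻¹)) * (y₂ * m₂) := by group
      _ = ((w₁ * w₂⁻¹) * y₂⁻¹) * (y₂ * m₂) := by
        rw [hcy₂ _ ((L ⊓ M).mul_mem hw₁ ((L ⊓ M).inv_mem hw₂))]
      _ = _ := by group
  have hw3 : w₁ * w₂⁻¹ ∈ L ⊓ M := (L ⊓ M).mul_mem hw₁ ((L ⊓ M).inv_mem hw₂)
  have hcy : ∀ w ∈ L ⊓ M, (y₂⁻¹ * y₁) * w = w * (y₂⁻¹ * y₁) := by
    intro w hw
    have h4 : Commute y₁ w := hy₁ w hw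
    have h5 : Commute y₂ w := hy₂ w hw
    exact h5.inv_left.mul_left h4
  set y := y₂⁻¹ * y₁ with hy
  refine Nat.card_le_card_of_injective
    (fun w : {w : E // w ∈ L ⊓ M ∧ IsD F (m₁ * w)} =>
      (⟨(w₁ * w₂⁻¹) * w, (L ⊓ M).mul_mem hw3 w.2.1, ?_⟩ : {w : E // w ∈ L ⊓ M ∧ IsD F (m₂ * w)})) ?_
  · have h5 := isD_conj F w.2.2 y
    have h6 : y * (m₁ * w) * y⁻¹ = m₂ * ((w₁ * w₂⁻¹) * w) := by
      calc y * (m₁ * w) * y⁻¹ = (y * m₁ * y⁻¹) * (y * w * y⁻¹) := by group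
        _ = ((w₁ * w₂⁻¹) * m₂) * w := by
          rw [h3, hcy _ w.2.1, mul_inv_cancel_right]
        _ = (m₂ * (w₁ * w₂⁻¹)) * w := by rw [line_comm F hL hw3.1 hm₂L]
        _ = _ := by group
    rwa [h6] at h5
  · intro a b hab
    have h5 := congrArg Subtype.val hab
    exact Subtype.ext (mul_left_cancel h5)

/-- distinct lines through a nontrivial element outside `D` do not exist: base case `D ∩ W ∩ L = ∅` -/
theorem false_of {M : Subgroup E} (hM : IsLine F M) (hWM : F.W ≠ M) (hne : ∃ w ∈ F.W ⊓ M, w ≠ 1)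
    (hD : ∀ w ∈ F.W ⊓ M, ¬ IsD F w) : False := by
  classical
  haveI : Fact (Nat.Prime 2) := ⟨Nat.prime_two⟩
  obtain ⟨z, hz, hz1⟩ := exists_Z_ne F
  have hzS := mem_S_of_Z F hz hz1
  have h4 := F.h4
  set s : Finset E := (Set.toFinite F.S).toFinset with hs
  have hsm : ∀ x, x ∈ s ↔ x ∈ F.S := fun x => by rw [hs, Set.Finite.mem_toFinset]
  set t : Finset E := (Set.toFinite ((F.W ⊓ M : Subgroup E) : Set E)).toFinset with ht
  have htm : ∀ x, x ∈ t ↔ x ∈ F.W ⊓ M := fun x => by rw [ht, Set.Finite.mem_toFinset]; rfl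
  set N := Nat.card {w : E // w ∈ F.W ⊓ M ∧ IsD F (z * w)} with hN
  have hNc : ∀ m ∈ F.S, (t.filter fun w => m * w ∈ F.S).card = N := by
    intro m hm
    have h1 : Nat.card {w : E // w ∈ F.W ⊓ M ∧ IsD F (m * w)} = (t.filter fun w => m * w ∈ F.S).card := by
      apply Nat.subtype_card
      intro x
      rw [Finset.mem_filter, htm]
      constructor
      · rintro ⟨hx, h2⟩
        exact ⟨hx, isD_of_S F h2⟩
      · rintro ⟨hx, h2⟩
        exact ⟨hx, mem_S_of_W F h0506 h2 (F.W.mul_mem (S_le_W F hm) hx.1)⟩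
    rw [← h1]
    exact le_antisymm
      (card_le F h0506 hZS hT h1173 (isLine_W F) hM hne hD (isD_of_S F hm) (S_le_W F hm) (isD_of_S F hzS)
        (S_le_W F hzS))
      (card_le F h0506 hZS hT h1173 (isLine_W F) hM hne hD (isD_of_S F hzS) (S_le_W F hzS) (isD_of_S F hm)
        (S_le_W F hm))
  have hcard : s.card = (F.q ^ 2 + 1) * (F.q - 1) := by
    rw [← F.S_card, hs]
    exact (Set.ncard_eq_toFinset_card F.S (Set.toFinite F.S)).symm
  have htcard : t.card = Nat.card ↥(F.W ⊓ M) := by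
    rw [ht]
    exact (Set.ncard_eq_toFinset_card _ (Set.toFinite ((F.W ⊓ M : Subgroup E) : Set E))).symm
  have hcount := Finset.sum_card_bipartiteAbove_eq_sum_card_bipartiteBelow (s := s) (t := t) (fun m w => m * w ∈ F.S)
  have hl : ∑ a ∈ s, (t.bipartiteAbove (fun m w => m * w ∈ F.S) a).card = s.card * N := by
    rw [Finset.sum_const_nat (m := N)]
    intro x hx
    exact hNc x ((hsm x).1 hx)
  have h1t : (1 : E) ∈ t := (htm 1).2 (F.W ⊓ M).one_mem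
  have hr1 : (s.bipartiteBelow (fun m w => m * w ∈ F.S) 1).card = s.card := by
    congr 1
    unfold Finset.bipartiteBelow
    rw [Finset.filter_eq_self]
    intro x hx
    rw [mul_one]
    exact (hsm x).1 hx
  have hr : ∑ b ∈ t, (s.bipartiteBelow (fun m w => m * w ∈ F.S) b).card = s.card + (t.card - 1) * (F.q * (F.q - 1)) := by
    rw [← Finset.add_sum_erase t _ h1t, hr1, ← Finset.card_erase_of_mem h1t]
    congr 1
    apply Finset.sum_const_nat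
    intro w hw
    rw [Finset.mem_erase, htm] at hw
    rw [← F.S_count w hw.2.1 hw.1 (fun h => hD w hw.2 (isD_of_S F h))]
    symm
    apply Nat.subtype_card
    intro x
    unfold Finset.bipartiteBelow
    rw [Finset.mem_filter, hsm]
  rw [hl, hr, hcard, htcard] at hcount
  -- arithmetic
  obtain ⟨k, hk⟩ := IsPGroup.iff_card.1 (F.T.isPGroup'.to_le (inf_le_left.trans F.W_le : F.W ⊓ M ≤ (F.T : Subgroup E)))
  rw [hk] at hcount
  have hk0 : 0 < k := by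
    rcases Nat.eq_zero_or_pos k with h | h
    · exfalso
      rw [h, pow_zero] at hk
      obtain ⟨w, hw, hw1⟩ := hne
      rw [card_eq_one] at hk
      rw [hk] at hw
      exact hw1 (mem_bot.1 hw)
    · exact h
  have hkn : k < 4 * F.n := by
    have h1 : Nat.card ↥(F.W ⊓ M) < Nat.card F.W := by
      apply lt_of_le_of_ne (Nat.card_mono (Set.toFinite _) inf_le_left)
      intro h
      have h2 : F.W ⊓ M = F.W := eq_of_le_of_card_ge inf_le_left h.ge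
      have h3 : F.W ≤ M := inf_eq_left.1 h2
      apply hWM
      apply eq_of_le_of_card_ge h3
      obtain ⟨a, rfl⟩ := hM
      rw [card_map_conj]
    rw [hk, F.W_card, F.hq, ← pow_mul] at h1
    have h2 := (Nat.pow_lt_pow_iff_right (by norm_num : 1 < 2)).1 h1
    omega
  apply not_dvd_two_pow (n := F.n) hk0 hkn
  rw [← F.hq]
  have h5 : F.q ^ 2 + 1 ∣ (2 ^ k - 1) * F.q := by
    have h6 : 0 < F.q - 1 := by omega
    have h7 : (F.q ^ 2 + 1) * N = (F.q ^ 2 + 1) + (2 ^ k - 1) * F.q := by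
      apply Nat.eq_of_mul_eq_mul_right h6
      calc (F.q ^ 2 + 1) * N * (F.q - 1) = (F.q ^ 2 + 1) * (F.q - 1) * N := by ring
        _ = (F.q ^ 2 + 1) * (F.q - 1) + (2 ^ k - 1) * (F.q * (F.q - 1)) := hcount
        _ = _ := by ring
    have h8 : F.q ^ 2 + 1 ∣ (F.q ^ 2 + 1) + (2 ^ k - 1) * F.q := by rw [← h7]; exact dvd_mul_right _ _
    exact (Nat.dvd_add_right (dvd_refl _)).1 h8
  refine Nat.Coprime.dvd_of_dvd_mul_right ?_ h5
  have h6 : Nat.Coprime (F.q * F.q + 1) F.q := by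
    rw [Nat.coprime_mul_right_add_left]
    exact Nat.coprime_one_left _
  rwa [pow_two]

/-- `C_E(u) ≤ N_E(W)` -/
theorem cent_W {u : E} (hu : u ∈ F.W) (hu1 : u ≠ 1) (huS : u ∉ F.S) :
    centralizer ({u} : Set E) ≤ normalizer (F.W : Set E) := by
  intro c hc
  rw [mem_centralizer_singleton_iff] at hc
  have huD : ¬ IsD F u := fun h => huS (mem_S_of_W F h0506 h hu)
  have huc : u ∈ F.W.map (MulAut.conj c).toMonoidHom := by
    rw [mem_map_conj]
    have h1 : c⁻¹ * u * c = u := by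
      calc c⁻¹ * u * c = c⁻¹ * (u * c) := by group
        _ = u := by rw [← hc]; group
    rwa [h1]
  have hM := isLine_conj F (isLine_W F) c
  rw [mem_normalizer_iff_map_conj]
  by_contra hcon
  by_cases h : ∃ w ∈ F.W ⊓ F.W.map (MulAut.conj c).toMonoidHom, IsD F w
  · obtain ⟨d, hd, hdD⟩ := h
    exact hcon (L1 F h0506 hZS hT h1173 (isLine_W F) hM hdD hd.1 hd.2 hu1 huD hu huc).symm
  · push Not at h
    exact false_of F h0506 hZS hT h1173 hM (fun h1 => hcon h1.symm) ⟨u, ⟨hu, huc⟩, hu1⟩ h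

end main

end Cfsg.Agent.StdSpFour.CloseCu
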