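import Cfsg.Agent.StdSpFour.CloseFus

/-!
# S1778, closing of `U₄(q)`, `U₅(q)`: the centralisers of the elements of `Z`

`cent_le`: `C_E(z) ≤ N_E(Q)` for `1 ≠ z ∈ Z`; `NQ_eq_NZ`: `N_E(Q) = N_E(Z)`; `Z_TI`: `Z` is TI in `E`.
-/

set_option autoImplicit false
set_option linter.style.haveILetI false

namespace Cfsg.Agent.StdSpFour.CloseCz

open Subgroup
open Cfsg.Agent.Lib Cfsg.Agent.Lib.GoldschmidtFusion
open Cfsg.Agent.TwoFusion.Gold (TProp)
open Cfsg.Agent.StdSpFour.CloseComp Cfsg.Agent.StdSpFour.CloseFacts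
open Cfsg.Agent.StdSpFour.CloseBase Cfsg.Agent.StdSpFour.CloseBase.Facts
open Cfsg.Agent.StdSpFour.CloseNOne Cfsg.Agent.StdSpFour.CloseFus Cfsg.Agent.StdSpFour.CloseLoc
open Cfsg.Agent.StdSpFour.CloseSyl (S0506Stmt card_eq_index)

universe u

variable {E : Type u} [Group E] [Finite E] (F : Facts E)

theorem exists_two_Z : ∃ a ∈ F.Z, ∃ b ∈ F.Z, a ≠ 1 ∧ b ≠ 1 ∧ a ≠ b := by
  classical
  have h4 := F.h4
  obtain ⟨a, ha, ha1⟩ := exists_Z_ne F
  by_contra hcon
  push Not at hcon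
  have h1 : (F.Z : Set E) ⊆ ({1, a} : Finset E) := by
    intro b hb
    by_cases hb1 : b = 1
    · simp [hb1]
    · have h2 := hcon a ha b hb ha1 hb1
      simp [← h2]
  have h2 := Set.ncard_le_ncard h1 (Set.toFinite _)
  rw [Set.ncard_coe_finset] at h2
  have h3 : (F.Z : Set E).ncard = F.q := F.Z_card
  have h5 : ({1, a} : Finset E).card ≤ 2 := Finset.card_le_two
  omega

/-- the centraliser of `z ∈ Z` contains `T` -/
theorem T_le_cent {z : E} (hz : z ∈ F.Z) : (F.T : Subgroup E) ≤ centralizer ({z} : Set E) := by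
  intro x hx
  rw [mem_centralizer_singleton_iff]
  exact (F.Z_cent z hz x hx).symm

theorem mem_cent_of {z g : E} (hz : z ∈ F.Z) (hg : ∀ z ∈ F.Z, g * z = z * g) : g ∈ centralizer ({z} : Set E) := by
  rw [mem_centralizer_singleton_iff]
  exact hg z hz

variable (h0506 : S0506Stmt.{u})
include h0506

/-- the configuration in `C_E(z)` -/
theorem loc {z : E} (hz : z ∈ F.Z) (hz1 : z ≠ 1) :
    Loc (centralizer ({z} : Set E)) (F.T.subtype (T_le_cent F hz)) (F.Z.subgroupOf (centralizer ({z} : Set E)))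
      (F.Q.subgroupOf (centralizer ({z} : Set E))) := by
  classical
  have hTC := T_le_cent F hz
  set C := centralizer ({z} : Set E) with hC
  have hQC : F.Q ≤ C := F.Q_le.trans hTC
  have hZC : F.Z ≤ C := F.Z_le_Q.trans hQC
  have hgC : ∀ g : C, (g : E) * z = z * g := fun g => mem_centralizer_singleton_iff.1 g.2
  have hlow : ∀ g : C, (∀ w ∈ F.Z.subgroupOf C, g * w = w * g) → ∀ w ∈ F.Z, (g : E) * w = w * g :=
    fun g hg w hw => congrArg Subtype.val (hg ⟨w, hZC hw⟩ hw)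
  refine
    { ZQ := fun x hx => F.Z_le_Q hx
      QT := fun x hx => F.Q_le hx
      Zc := fun w hw x hx => Subtype.ext (F.Z_cent w hw x hx)
      Zsq := fun w hw => Subtype.ext (F.Z_sq w hw)
      Zsc := fun w hw g hg => Z_closed F h0506 hz hz1 (hgC g) hw hg
      Qsc := fun g hg x hx hgx => Q_closed F h0506 (hlow g hg) hx hgx
      Qsq := fun x hx => F.Q_sq x hx
      Qcent := fun x hx h => F.Q_cent x hx fun y hy => congrArg Subtype.val (h ⟨y, hQC hy⟩ hy)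
      Qmod := fun x hx h => F.Q_cent_mod x hx fun y hy => h ⟨y, hQC hy⟩ hy
      wide := ?_
      ne := ?_
      perf := ?_
      irr := ?_
      norm := ?_ }
  · intro d hd hdZ
    obtain ⟨a, ha, b, hb, ha1, hb1, hab⟩ := exists_two_Z F
    obtain ⟨e, he, h1⟩ := F.Q_pair d hd hdZ a ha
    obtain ⟨e', he', h2⟩ := F.Q_pair d hd hdZ b hb
    refine ⟨⟨e, hQC he⟩, he, ⟨e', hQC he'⟩, he', ?_, ?_, ?_⟩
    · intro h
      exact ha1 (by rw [← h1]; exact congrArg Subtype.val h)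
    · intro h
      exact hb1 (by rw [← h2]; exact congrArg Subtype.val h)
    · intro h
      exact hab (by rw [← h1, ← h2]; exact congrArg Subtype.val h)
  · obtain ⟨x, hx, hxZ⟩ := F.V_ne
    exact ⟨⟨x, hQC (F.V_Q hx)⟩, F.V_Q hx, hxZ⟩
  · obtain ⟨L, hQL, hLL, hLZ⟩ := F.perf
    have hLC : L ≤ C := fun x hx => mem_centralizer_singleton_iff.2 (hLZ x hx z hz)
    refine ⟨L.subgroupOf C, fun x hx => hQL hx, ?_, fun x hx w hw => Subtype.ext (hLZ x hx w hw)⟩
    have h1 : (⁅L.subgroupOf C, L.subgroupOf C⁆).map C.subtype = ⁅L, L⁆ := by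
      rw [map_commutator, subgroupOf_map_subtype, inf_eq_left.2 hLC]
    intro x hx
    have h2 : (x : E) ∈ (⁅L.subgroupOf C, L.subgroupOf C⁆).map C.subtype := by
      rw [h1]; exact hLL hx
    obtain ⟨y, hy, hyx⟩ := h2
    have : y = x := Subtype.ext hyx
    rwa [← this]
  · intro R hZR hRQ hne h
    have h1 : R.map C.subtype = F.Q := by
      apply F.irr
      · intro w hw
        exact ⟨⟨w, hZC hw⟩, hZR hw, rfl⟩
      · rintro _ ⟨x, hx, rfl⟩
        exact hRQ hx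
      · obtain ⟨x, hx, hxZ⟩ := hne
        exact ⟨x, ⟨x, hx, rfl⟩, hxZ⟩
      · rintro g hg hgQ _ ⟨x, hx, rfl⟩
        have hgC' : g ∈ C := mem_cent_of F hz hg
        exact ⟨_, h ⟨g, hgC'⟩ (fun w hw => Subtype.ext (hg w hw)) (fun y hy => hgQ y hy) x hx, rfl⟩
    rw [← h1]
    exact (comap_map_eq_self_of_injective C.subtype_injective R).symm
  · intro g hg x hx
    have h1 : (g : E) ∈ normalizer ((F.T : Subgroup E) : Set E) := by
      apply mem_normalizer_of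
      intro t ht
      exact (mem_normalizer_iff.1 hg ⟨t, hTC ht⟩).1 ht
    exact (mem_normalizer_iff.1 (NT_le_NQ F h1) x).1 hx

variable (hZS : ZStarStmt.{u})
  (hT : ∀ (G : Type u) [Group G] [Finite G], IsSimpleGroup G → (∃ a b : G, a * b ≠ b * a) → TProp G)
  (h1173 : S1173Stmt.{u})
include hZS hT h1173

/-- `C_E(z) ≤ N_E(Q)` -/
theorem cent_le {z : E} (hz : z ∈ F.Z) (hz1 : z ≠ 1) : centralizer ({z} : Set E) ≤ normalizer (F.Q : Set E) := by
  classical
  haveI : Fact (Nat.Prime 2) := ⟨Nat.prime_two⟩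
  have hmain := (loc F h0506 hz hz1).main hZS hT h1173
  have hTC := T_le_cent F hz
  set C := centralizer ({z} : Set E) with hC
  have hQC : F.Q ≤ C := F.Q_le.trans hTC
  have hZC : F.Z ≤ C := F.Z_le_Q.trans hQC
  set O : Subgroup E := (Cfsg.oddCore C).map C.subtype with hO
  have hOodd : Odd (Nat.card O) := by
    have h1 : Nat.card O = Nat.card (Cfsg.oddCore C) :=
      (Nat.card_congr ((Cfsg.oddCore C).equivMapOfInjective C.subtype C.subtype_injective).toEquiv).symm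
    rw [h1, ← Nat.coprime_two_right]
    exact Cores.pPrimeCore_coprime (G := C) 2
  have hOC : ∀ x ∈ O, x * z = z * x := by
    rintro _ ⟨x, -, rfl⟩
    exact mem_centralizer_singleton_iff.1 x.2
  have hOn : ∀ g : E, g * z = z * g → ∀ x ∈ O, g * x * g⁻¹ ∈ O := by
    rintro g hg _ ⟨x, hx, rfl⟩
    have hgC : g ∈ C := mem_centralizer_singleton_iff.2 hg
    exact ⟨⟨g, hgC⟩ * x * ⟨g, hgC⟩⁻¹, (Cores.pPrimeCore_normal (G := C) 2).conj_mem x hx _, rfl⟩
  -- invariance under `τ`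
  have hτC : ∀ x : E, x ∈ C → F.τ x ∈ C := by
    intro x hx
    rw [hC, mem_centralizer_singleton_iff] at hx ⊢
    have h1 := F.τ_Z z hz
    rw [← h1, ← map_mul, hx, map_mul, h1]
  have hτC' : ∀ x : E, F.τ x ∈ C → x ∈ C := by
    intro x hx
    rw [hC, mem_centralizer_singleton_iff] at hx ⊢
    have h1 := F.τ_Z z hz
    apply F.τ.injective
    rw [map_mul, map_mul, h1, hx]
  have hOτ : ∀ x ∈ O, F.τ x ∈ O := by
    let e : C ≃* C :=
      { toFun := fun x => ⟨F.τ (x : E), hτC x x.2⟩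
        invFun := fun x => ⟨F.τ.symm (x : E), hτC' _ (by rw [F.τ.apply_symm_apply]; exact x.2)⟩
        left_inv := fun x => Subtype.ext (F.τ.symm_apply_apply (x : E))
        right_inv := fun x => Subtype.ext (F.τ.apply_symm_apply (x : E))
        map_mul' := fun x y => Subtype.ext (map_mul F.τ (x : E) (y : E)) }
    rintro _ ⟨x, hx, rfl⟩
    have h1 : e x ∈ Cfsg.oddCore C := by
      have h2 := Cores.map_equiv_pPrimeCore e 2
      have h3 : e x ∈ (Cfsg.pPrimeCore 2 C).map e.toMonoidHom := ⟨x, hx, rfl⟩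
      rw [h2] at h3
      exact h3
    exact ⟨e x, h1, rfl⟩
  have hOV := F.core_V O hOodd z hz hz1 hOC hOn hOτ
  -- `O` centralises `Q`
  set R0 : Subgroup E := F.Q ⊓ centralizer (O : Set E) with hR0
  have hR0mem : ∀ x : E, x ∈ R0 ↔ x ∈ F.Q ∧ ∀ o ∈ O, o * x = x * o := by
    intro x
    rw [hR0, mem_inf, mem_centralizer_iff]
    rfl
  have hsup : ∀ x ∈ R0 ⊔ F.Z, ∃ r ∈ R0, ∃ w ∈ F.Z, r * w = x := by
    intro x hx
    apply mem_sup_of_conj (Q := R0) (L := F.Z) _ hx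
    intro e he w hw
    rw [← F.Z_cent w hw e (F.Q_le ((hR0mem e).1 he).1), mul_inv_cancel_right]
    exact hw
  have hQeq : R0 ⊔ F.Z = F.Q := by
    apply F.irr
    · exact le_sup_right
    · exact sup_le inf_le_left F.Z_le_Q
    · obtain ⟨x, hx, hxZ⟩ := F.V_ne
      exact ⟨x, mem_sup_left ((hR0mem x).2 ⟨F.V_Q hx, fun o ho => hOV o ho x hx⟩), hxZ⟩
    · intro g hgZ hgQ x hx
      obtain ⟨r, hr, w, hw, rfl⟩ := hsup x hx
      have h1 : g * (r * w) * g⁻¹ = (g * r * g⁻¹) * (g * w * g⁻¹) := by group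
      have h2 : g * w * g⁻¹ = w := by rw [hgZ w hw]; group
      rw [h1, h2]
      apply mul_mem_sup _ hw
      obtain ⟨hrQ, hrO⟩ := (hR0mem r).1 hr
      refine (hR0mem _).2 ⟨hgQ r hrQ, fun o ho => ?_⟩
      have hgi : g⁻¹ * z = z * g⁻¹ := by
        calc g⁻¹ * z = g⁻¹ * (z * g) * g⁻¹ := by group
          _ = z * g⁻¹ := by rw [← hgZ z hz]; group
      have h3 := hOn g⁻¹ hgi o ho
      rw [inv_inv] at h3
      have h4 := hrO _ h3
      calc o * (g * r * g⁻¹) = g * ((g⁻¹ * o * g) * r) * g⁻¹ := by group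
        _ = g * (r * (g⁻¹ * o * g)) * g⁻¹ := by rw [h4]
        _ = _ := by group
  have hZR : F.Z ≤ R0 := by
    intro w hw
    obtain ⟨d, hd, hdZ⟩ := F.V_ne
    obtain ⟨e, he, h1⟩ := F.Q_pair d (F.V_Q hd) hdZ w hw
    have h2 : d ∈ R0 ⊔ F.Z := by rw [hQeq]; exact F.V_Q hd
    have h3 : e ∈ R0 ⊔ F.Z := by rw [hQeq]; exact he
    obtain ⟨r, hr, a, ha, h4⟩ := hsup d h2
    obtain ⟨r', hr', b, hb, h5⟩ := hsup e h3
    have hrT := F.Q_le ((hR0mem r).1 hr).1
    have hrT' := F.Q_le ((hR0mem r').1 hr').1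
    have h6 : w = r * r' * r⁻¹ * r'⁻¹ := by
      rw [← h1, ← h4, ← h5]
      have h7 := F.Z_cent a ha (r' * b) ((F.T : Subgroup E).mul_mem hrT' (F.W_le (F.Z_le_W hb)))
      have h8 := F.Z_cent b hb (r⁻¹) ((F.T : Subgroup E).inv_mem hrT)
      calc r * a * (r' * b) * (r * a)⁻¹ * (r' * b)⁻¹ = r * (a * (r' * b)) * a⁻¹ * r⁻¹ * b⁻¹ * r'⁻¹ := by group
        _ = r * r' * (b * r⁻¹) * b⁻¹ * r'⁻¹ := by rw [h7]; group
        _ = r * r' * r⁻¹ * r'⁻¹ := by rw [h8]; group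
    rw [h6]
    exact R0.mul_mem (R0.mul_mem (R0.mul_mem hr hr') (R0.inv_mem hr)) (R0.inv_mem hr')
  have hQR : F.Q ≤ R0 := by
    rw [← hQeq]
    exact sup_le le_rfl hZR
  intro g hg
  obtain ⟨n, hn, hng⟩ := hmain ⟨g, hg⟩
  apply mem_normalizer_of
  intro x hx
  have h1 : (n : E) * g * x * (n * g)⁻¹ ∈ F.Q := (mem_normalizer_iff.1 hng ⟨x, hQC hx⟩).1 hx
  have hnO : (n : E)⁻¹ ∈ O := O.inv_mem ⟨n, hn, rfl⟩
  have h2 := ((hR0mem _).1 (hQR h1)).2 _ hnO
  have h3 : g * x * g⁻¹ = (n : E)⁻¹ * (n * g * x * (n * g)⁻¹) * n := by group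
  rw [h3, h2]
  have h4 : (n : E) * g * x * (n * g)⁻¹ * (n : E)⁻¹ * n = n * g * x * (n * g)⁻¹ := by group
  rw [h4]
  exact h1

omit h0506 hZS hT h1173 in
/-- `N_E(Q) ≤ N_E(Z)` -/
theorem NQ_le_NZ : normalizer (F.Q : Set E) ≤ normalizer (F.Z : Set E) := by
  intro g hg
  apply mem_normalizer_of
  intro z hz
  have h1 : g * z * g⁻¹ ∈ F.Q := (mem_normalizer_iff.1 hg z).1 (F.Z_le_Q hz)
  apply F.Q_cent _ (F.Q_le h1)
  intro y hy
  have h2 : g⁻¹ * y * g ∈ F.Q := by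
    have := (mem_normalizer_iff.1 ((normalizer (F.Q : Set E)).inv_mem hg) y).1 hy
    rwa [inv_inv] at this
  have h3 := F.Z_cent z hz _ (F.Q_le h2)
  calc g * z * g⁻¹ * y = g * (z * (g⁻¹ * y * g)) * g⁻¹ := by group
    _ = g * ((g⁻¹ * y * g) * z) * g⁻¹ := by rw [h3]
    _ = _ := by group

/-- `N_E(Z) ≤ N_E(Q)` -/
theorem NZ_le_NQ : normalizer (F.Z : Set E) ≤ normalizer (F.Q : Set E) := by
  intro g hg
  obtain ⟨z, hz, hz1⟩ := exists_Z_ne F
  have hTZ : (F.T : Subgroup E) ≤ centralizer (F.Z : Set E) := by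
    intro s hs
    rw [mem_centralizer_iff]
    exact fun z hz => F.Z_cent z hz s hs
  have hTg : (F.T : Subgroup E).map (MulAut.conj g).toMonoidHom ≤ centralizer (F.Z : Set E) := by
    rintro _ ⟨s, hs, rfl⟩
    change g * s * g⁻¹ ∈ centralizer (F.Z : Set E)
    rw [mem_centralizer_iff]
    intro w hw
    have h1 : g⁻¹ * w * g ∈ F.Z := by
      have := (mem_normalizer_iff.1 ((normalizer (F.Z : Set E)).inv_mem hg) w).1 hw
      rwa [inv_inv] at this
    have h2 := F.Z_cent _ h1 s hs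
    calc w * (g * s * g⁻¹) = g * ((g⁻¹ * w * g) * s) * g⁻¹ := by group
      _ = g * (s * (g⁻¹ * w * g)) * g⁻¹ := by rw [h2]
      _ = _ := by group
  obtain ⟨c, hc, hcT⟩ := exists_conj_le F.T hTZ hTg (F.T.isPGroup'.map _)
  rw [map_conj_map_conj] at hcT
  have h1 : c * g ∈ normalizer ((F.T : Subgroup E) : Set E) :=
    mem_normalizer_iff_map_conj.2 (map_conj_le_of_le_normalizer hcT)
  have h2 : c ∈ normalizer (F.Q : Set E) := by
    apply cent_le F h0506 hZS hT h1173 hz hz1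
    rw [mem_centralizer_singleton_iff]
    exact (mem_centralizer_iff.1 hc z hz).symm
  have h3 : g = c⁻¹ * (c * g) := by group
  rw [h3]
  exact (normalizer (F.Q : Set E)).mul_mem ((normalizer (F.Q : Set E)).inv_mem h2) (NT_le_NQ F h1)

/-- `Z` is TI in `E` -/
theorem Z_TI {z g : E} (hz : z ∈ F.Z) (hz1 : z ≠ 1) (hg : g * z * g⁻¹ ∈ F.Z) : g ∈ normalizer (F.Z : Set E) := by
  obtain ⟨c, hc, hcg⟩ := exists_NW_of_conj F (F.Z_le_W hz) (F.Z_le_W hg)
  have h1 : (c * g) * z * (c * g)⁻¹ = g * z * g⁻¹ := by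
    calc (c * g) * z * (c * g)⁻¹ = c * (g * z * g⁻¹) * c⁻¹ := by group
      _ = g * z * g⁻¹ := by rw [hc]; group
  have h2 := mem_NZ F h0506 hcg hz hz1 (by rw [h1]; exact hg)
  have hne : g * z * g⁻¹ ≠ 1 := by
    intro h
    rw [mul_inv_eq_one, mul_eq_left] at h
    exact hz1 h
  have h3 : c ∈ normalizer (F.Z : Set E) :=
    NQ_le_NZ F (cent_le F h0506 hZS hT h1173 hg hne (mem_centralizer_singleton_iff.2 hc))
  have h4 : g = c⁻¹ * (c * g) := by group
  rw [h4]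
  exact (normalizer (F.Z : Set E)).mul_mem ((normalizer (F.Z : Set E)).inv_mem h3) h2

end Cfsg.Agent.StdSpFour.CloseCz
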