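import Mathlib.GroupTheory.Sylow
import Mathlib.GroupTheory.Subgroup.Centralizer

/-!
# S1778, type `Sp₄(q)`, targets `U₄(q)`, `U₅(q)`, `q = 2ⁿ ≥ 4`: the interface of the closing

`RelFacts E t`: everything the closing uses about the Sylow 2-subgroup `T` of the simple group `E` (a normal subgroup
of `G`, normalised by the involution `t`). See `blueprints/S1778-UQ-closing-helper516.md`.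

* `Z = X_{2a+b}` (order `q`), `Q = X^_a X^_{a+b} Z` (order `q⁵` resp. `q⁷`), `W = X_b X^_{a+b} Z` (order `q⁴`, hermitian
  2×2 matrices over `F_{q²}`), `S` = the `(q²+1)(q-1)` rank one elements of `W` = the `Ka`-conjugates of `Z \ {1}`;
* `Ka = ⟨X^_a, X^_{-a}⟩`, `Kb = ⟨X^_b, X^_{-b}⟩`, `na ∈ Ka`, `nb ∈ Kb` the reflections;
* `P = C_A(Z)^∞ = X_a X_{a+b} X_{2a+b} L_b ≤ A ≤ C(t)`, `V = X_{a+b} ≤ A`.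
The conclusion of the closing is `E = T ⊔ Ka ⊔ Kb`.
-/

set_option autoImplicit false

namespace Cfsg.Agent.StdSpFour.CloseDefs

/-- the T-facts, inside a group `G` with the subgroup `E` (simple) normalised by `t` -/
structure RelFacts {G : Type*} [Group G] (E : Subgroup G) (t : G) where
  n : ℕ
  q : ℕ
  hq : q = 2 ^ n
  h4 : 4 ≤ q
  T : Subgroup G
  Z : Subgroup G
  Q : Subgroup G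
  W : Subgroup G
  S : Set G
  Ka : Subgroup G
  Kb : Subgroup G
  P : Subgroup G
  V : Subgroup G
  na : G
  nb : G
  -- position
  tt : t * t = 1
  E_t : ∀ x ∈ E, t * x * t⁻¹ ∈ E
  T_le : T ≤ E
  Ka_le : Ka ≤ E
  Kb_le : Kb ≤ E
  P_le : P ≤ E
  T_two : IsPGroup 2 T
  T_syl : ¬ 2 ∣ T.relIndex E
  Z_le_W : Z ≤ W
  Z_le_Q : Z ≤ Q
  W_le : W ≤ T
  Q_le : Q ≤ T
  na_mem : na ∈ Ka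
  nb_mem : nb ∈ Kb
  -- (T2) the group Z
  Z_card : Nat.card Z = q
  Z_sq : ∀ z ∈ Z, z * z = 1
  Z_cent : ∀ z ∈ Z, ∀ x ∈ T, z * x = x * z
  -- (T1) the group W
  W_sq : ∀ w ∈ W, w * w = 1
  W_card : Nat.card W = q ^ 4
  /-- `W` is the only elementary abelian subgroup of `T` of its order -/
  W_uniq : ∀ U : Subgroup G, U ≤ T → (∀ x ∈ U, x * x = 1) → Nat.card U = q ^ 4 → U = W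
  -- (T2) the group Q
  Q_sq : ∀ x ∈ Q, x * x ∈ Z
  /-- `Q/Z` is the only elementary abelian subgroup of `T/Z` of its order -/
  Q_uniq : ∀ U : Subgroup G, U ≤ T → Z ≤ U → (∀ x ∈ U, x * x ∈ Z) → Nat.card U = Nat.card Q → U = Q
  Q_cent : ∀ x ∈ T, (∀ y ∈ Q, x * y = y * x) → x ∈ Z
  Q_cent_mod : ∀ x ∈ T, (∀ y ∈ Q, x * y * x⁻¹ * y⁻¹ ∈ Z) → x ∈ Q
  /-- `[d, Q] = Z` for `d ∈ Q \ Z` -/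
  Q_pair : ∀ d ∈ Q, d ∉ Z → ∀ z ∈ Z, ∃ e ∈ Q, d * e * d⁻¹ * e⁻¹ = z
  WQ_card : Nat.card ↥(W ⊓ Q) = q ^ 3
  -- (T3) involutions of T
  inv_T : ∀ x ∈ T, x * x = 1 → x ∈ W ∨ x ∈ Q
  inv_Q : ∀ v ∈ Q, v * v = 1 → ∃ k ∈ Kb, k * v * k⁻¹ ∈ W
  -- (T6) the rank one elements of W
  S_iff : ∀ x, x ∈ S ↔ ∃ k ∈ Ka, ∃ z ∈ Z, z ≠ 1 ∧ x = k * z * k⁻¹
  S_Q : ∀ x ∈ S, x ∈ Q → x ∈ Z
  S_card : Nat.card S = (q ^ 2 + 1) * (q - 1)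
  S_count : ∀ w ∈ W, w ≠ 1 → w ∉ S → Nat.card {m : G // m ∈ S ∧ m * w ∈ S} = q * (q - 1)
  Ka_W : ∀ k ∈ Ka, ∀ w ∈ W, k * w * k⁻¹ ∈ W
  /-- `Z` is TI in `Ka` -/
  Ka_TI : ∀ k ∈ Ka, ∀ z ∈ Z, z ≠ 1 → k * z * k⁻¹ ∈ Z → ∀ z' ∈ Z, k * z' * k⁻¹ ∈ Z
  -- (T4)
  /-- first alternative: `U₄`; second alternative: `U₅` -/
  four : (∀ y ∈ T, y ∉ Q → y * y ∈ Z → ∃ z ∈ Z, y * z ∈ S) ∨
    ((∀ y ∈ T, y ∉ Q → y * y ∈ Z →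
        (∃ z ∈ Z, y * z ∈ S) ∨ (y * y ≠ 1 ∧ ∀ x ∈ T, y * x * y⁻¹ * x⁻¹ ∈ W ∧ y * x * y⁻¹ * x⁻¹ ∈ Q)) ∧
      ∀ v ∈ Q, v * v ≠ 1 → Nat.card {x : G // x ∈ T ∧ v * x * v⁻¹ * x⁻¹ ∈ Z} * q ^ 2 ≤ Nat.card T)
  -- (T5) the action of T on W; R = T ∩ C(W)
  R_sq : ∀ x ∈ T, ∀ w ∈ W, (x * x) * w = w * (x * x)
  R_card : Nat.card T = q ^ 2 * Nat.card ↥(T ⊓ Subgroup.centralizer (W : Set G))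
  T_WQ : ∀ x ∈ T, ∀ w ∈ W, w ∈ Q → x * w * x⁻¹ * w⁻¹ ∈ Z
  T_W : ∀ x ∈ T, ∀ w ∈ W, x * w * x⁻¹ * w⁻¹ ∈ Q
  /-- hyperplanes `B/R` of `T/R`: `C_W(B) = Z` -/
  hyp_one : ∀ B : Subgroup G, T ⊓ Subgroup.centralizer (W : Set G) ≤ B → B ≤ T → 2 * Nat.card B = Nat.card T →
    ∀ w ∈ W, (∀ x ∈ B, x * w = w * x) → w ∈ Z
  hyp_two : ∀ B : Subgroup G, T ⊓ Subgroup.centralizer (W : Set G) ≤ B → B ≤ T → 2 * Nat.card B = Nat.card T →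
    ∀ w ∈ W, (∀ x ∈ B, x * w * x⁻¹ * w⁻¹ ∈ Z) → w ∈ Q
  /-- elements of `T` centralising `X_b = na Z na⁻¹` centralise `W` -/
  Xb_cent : ∀ x ∈ T, (∀ z ∈ Z, x * (na * z * na⁻¹) = (na * z * na⁻¹) * x) → ∀ w ∈ W, x * w = w * x
  /-- torus elements `h ∈ N(T)` transitive on `(T/R) \ {1}` -/
  trans : ∀ x ∈ T, (∃ w ∈ W, x * w ≠ w * x) → ∀ y ∈ T, (∃ w ∈ W, y * w ≠ w * y) →
    ∃ h ∈ E, (∀ s ∈ T, h * s * h⁻¹ ∈ T) ∧ ∀ w ∈ W, (h * x * h⁻¹ * y⁻¹) * w = w * (h * x * h⁻¹ * y⁻¹)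
  -- (T7), (T8) the action on Q
  Kb_Z : ∀ k ∈ Kb, ∀ z ∈ Z, k * z = z * k
  Kb_Q : ∀ k ∈ Kb, ∀ x ∈ Q, k * x * k⁻¹ ∈ Q
  nb_WQ : ∀ x ∈ W, x ∈ Q → nb * x * nb⁻¹ ∈ W → x ∈ Z
  TQ_onto : ∀ x ∈ T, x ∉ Q → x * x ∈ Q → ∀ w ∈ W, w ∈ Q → ∃ y ∈ Q, ∃ z ∈ Z, w = x * y * x⁻¹ * y⁻¹ * z
  TQ_W : ∀ x ∈ T, x ∉ Q → x * x ∈ Q → ∀ y ∈ Q, x * y * x⁻¹ * y⁻¹ ∈ W
  chain_one : ∀ x ∈ T, ∀ y ∈ Q, ∀ w ∈ W, w ∈ Q → (x * y * x⁻¹ * y⁻¹) * w = w * (x * y * x⁻¹ * y⁻¹)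
  chain_two : ∀ x ∈ T, ∀ y ∈ Q, (∀ w ∈ W, w ∈ Q → y * w = w * y) → x * y * x⁻¹ * y⁻¹ ∈ W
  /-- a perfect subgroup of `C_E(Z)` containing `Q` (for instance `⟨Q, Kb⟩`) -/
  perf : ∃ L : Subgroup G, L ≤ E ∧ Q ≤ L ∧ L ≤ ⁅L, L⁆ ∧ ∀ x ∈ L, ∀ z ∈ Z, x * z = z * x
  /-- `N_E(Q) ∩ C_E(Z)` is irreducible on `Q/Z` -/
  irr : ∀ R : Subgroup G, Z ≤ R → R ≤ Q → (∃ x ∈ R, x ∉ Z) →
    (∀ g ∈ E, (∀ z ∈ Z, g * z = z * g) → (∀ x ∈ Q, g * x * g⁻¹ ∈ Q) → ∀ x ∈ R, g * x * g⁻¹ ∈ R) → R = Q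
  -- the involution t
  t_Z : ∀ z ∈ Z, t * z = z * t
  t_Q : ∀ x ∈ Q, t * x * t⁻¹ ∈ Q
  P_t : ∀ x ∈ P, t * x = x * t
  P_Z : ∀ x ∈ P, ∀ z ∈ Z, x * z = z * x
  P_Q : ∀ x ∈ P, ∀ y ∈ Q, x * y * x⁻¹ ∈ Q
  /-- elements of `C_E(t)` centralising some `z ∈ Z \ {1}` normalise `P = C_A(z)^∞` -/
  P_norm : ∀ g ∈ E, t * g = g * t → ∀ z ∈ Z, z ≠ 1 → g * z = z * g → ∀ x ∈ P, g * x * g⁻¹ ∈ P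
  /-- `C_P(P ∩ Q) ≤ Q` -/
  P_self : ∀ x ∈ P, (∀ y ∈ P, y ∈ Q → x * y = y * x) → x ∈ Q
  V_P : V ≤ P
  V_W : V ≤ W
  V_Q : V ≤ Q
  V_ne : ∃ x ∈ V, x ∉ Z
  /-- `t x = t ^ y` with `y ∈ X^_{a+b}` -/
  V_t : ∀ x ∈ V, ∃ y ∈ W, y ∈ Q ∧ t * y * t⁻¹ = y * x
  /-- `X_b = na Z na⁻¹ ≤ P` -/
  Xb_P : ∀ z ∈ Z, na * z * na⁻¹ ∈ P
  -- generation
  /-- `Kb` is generated by the conjugates of `X_b = na Z na⁻¹` -/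
  Kb_gen : ∀ C : Subgroup G, (∀ z ∈ Z, na * z * na⁻¹ ∈ C) → (∀ k ∈ Kb, ∀ x ∈ C, k * x * k⁻¹ ∈ C) → Kb ≤ C
  T_gen : T ≤ Q ⊔ Kb
  Ka_le' : Ka ≤ T ⊔ T.map (MulAut.conj na).toMonoidHom
  Kb_le' : Kb ≤ T ⊔ T.map (MulAut.conj nb).toMonoidHom

end Cfsg.Agent.StdSpFour.CloseDefs
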