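import Cfsg.Agent.StdSpFour.CloseNTwo
import Cfsg.Agent.S0223

/-!
# S1778, closing of `U₄(q)`, `U₅(q)`: the end

`Cu`: the centralisers of the elements of `W \ S` normalise `W`. Then `M = ⟨N_E(W), N_E(Q)⟩` is `E` (otherwise it is
strongly embedded, but `E` has two classes of involutions), and `⟨T, Ka, Kb⟩` is normal in `M`.
-/

set_option autoImplicit false

namespace Cfsg.Agent.StdSpFour.CloseEnd

open Subgroup
open Cfsg.Agent.Lib Cfsg.Agent.Lib.GoldschmidtFusion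
open Cfsg.Agent.TwoFusion.Gold (TProp)
open Cfsg.Agent.TwoFusion.StronglyEmbeddedBasic
open Cfsg.Agent.StdSpFour.CloseComp Cfsg.Agent.StdSpFour.CloseFacts
open Cfsg.Agent.StdSpFour.CloseBase Cfsg.Agent.StdSpFour.CloseBase.Facts
open Cfsg.Agent.StdSpFour.CloseNOne Cfsg.Agent.StdSpFour.CloseFus Cfsg.Agent.StdSpFour.CloseLoc
open Cfsg.Agent.StdSpFour.CloseCz Cfsg.Agent.StdSpFour.CloseNTwo
open Cfsg.Agent.StdSpFour.CloseSyl (S0506Stmt card_eq_index)

universe u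

variable {E : Type u} [Group E] [Finite E] (F : Facts E)

/-- the statement (Cu) -/
def CuStmt : Prop := ∀ u ∈ F.W, u ≠ 1 → u ∉ F.S → centralizer ({u} : Set E) ≤ normalizer (F.W : Set E)

/-- `M = ⟨N_E(W), N_E(Q)⟩` -/
abbrev M : Subgroup E := normalizer (F.W : Set E) ⊔ normalizer (F.Q : Set E)

theorem T_le_M : (F.T : Subgroup E) ≤ M F := (T_le_NW F).trans le_sup_left

/-- `W` has an element outside `S ∪ {1}` -/
theorem exists_W_not_S : ∃ w ∈ F.W, w ≠ 1 ∧ w ∉ F.S := by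
  classical
  by_contra hcon
  push Not at hcon
  have h4 := F.h4
  have h1 : Nat.card F.W ≤ Nat.card F.S + 1 := by
    have hfin : (F.S ∪ {1} : Set E).Finite := Set.toFinite _
    have h2 : (F.W : Set E) ⊆ F.S ∪ {1} := by
      intro w hw
      by_cases h : w = 1
      · exact Or.inr h
      · exact Or.inl (hcon w hw h)
    have h3 := Set.ncard_le_ncard h2 hfin
    have h5 := Set.ncard_union_le F.S {1}
    rw [Set.ncard_singleton] at h5
    have h6 : Set.ncard (F.W : Set E) = Nat.card F.W := rfl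
    have h7 : Set.ncard F.S = Nat.card F.S := rfl
    omega
  rw [F.W_card, F.S_card] at h1
  obtain ⟨k, hk⟩ : ∃ k, F.q = k + 4 := ⟨F.q - 4, by omega⟩
  rw [hk] at h1
  have h8 : k + 4 - 1 = k + 3 := by omega
  rw [h8] at h1
  nlinarith [Nat.zero_le k, Nat.zero_le (k ^ 2), Nat.zero_le (k ^ 3), Nat.zero_le (k ^ 4)]

/-- involutions of `M` are `M`-conjugate into `W` -/
theorem exists_M_W {x : E} (hx : x ∈ M F) (hxx : x * x = 1) : ∃ m ∈ M F, m * x * m⁻¹ ∈ F.W := by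
  haveI : Fact (Nat.Prime 2) := ⟨Nat.prime_two⟩
  have h1 : IsPGroup 2 (zpowers x) := by
    rintro ⟨y, hy⟩
    obtain ⟨i, rfl⟩ := mem_zpowers_iff.1 hy
    refine ⟨1, Subtype.ext ?_⟩
    show (x ^ i) ^ (2 ^ 1) = 1
    rw [pow_one, pow_two, ← zpow_add, ← two_mul, zpow_mul, zpow_ofNat, pow_two, hxx, one_zpow]
  obtain ⟨n, hn, hnT⟩ := exists_conj_le F.T (T_le_M F) (R := zpowers x) (by rwa [zpowers_le]) h1
  have h2 : n * x * n⁻¹ ∈ (F.T : Subgroup E) := hnT (conj_mem_map_conj (mem_zpowers x) n)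
  have h3 : n * x * n⁻¹ * (n * x * n⁻¹) = 1 := by
    calc n * x * n⁻¹ * (n * x * n⁻¹) = n * (x * x) * n⁻¹ := by group
      _ = 1 := by rw [hxx]; group
  rcases F.inv_T _ h2 h3 with h4 | h4
  · exact ⟨n, hn, h4⟩
  · obtain ⟨k, hk, hkW⟩ := F.inv_Q _ h4 h3
    refine ⟨k * n, (M F).mul_mem ((Kb_le_NQ F).trans le_sup_right hk) hn, ?_⟩
    have h5 : k * n * x * (k * n)⁻¹ = k * (n * x * n⁻¹) * k⁻¹ := by group
    rwa [h5]

section main

variable (h0506 : S0506Stmt.{u}) (hZS : ZStarStmt.{u})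
  (hT : ∀ (G : Type u) [Group G] [Finite G], IsSimpleGroup G → (∃ a b : G, a * b ≠ b * a) → TProp G)
  (h1173 : S1173Stmt.{u}) (hCu : CuStmt F)
include h0506 hZS hT h1173 hCu

/-- centralisers of the involutions of `W` -/
theorem cent_W {w : E} (hw : w ∈ F.W) (hw1 : w ≠ 1) : centralizer ({w} : Set E) ≤ M F := by
  by_cases hS : w ∈ F.S
  · obtain ⟨k, hk, z, hz, hz1, rfl⟩ := (F.S_iff w).1 hS
    have hkM : k ∈ M F := (Ka_le_NW F).trans le_sup_left hk
    intro g hg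
    rw [mem_centralizer_singleton_iff] at hg
    have h1 : k⁻¹ * g * k ∈ centralizer ({z} : Set E) := by
      rw [mem_centralizer_singleton_iff]
      calc k⁻¹ * g * k * z = k⁻¹ * (g * (k * z * k⁻¹)) * k := by group
        _ = k⁻¹ * ((k * z * k⁻¹) * g) * k := by rw [hg]
        _ = z * (k⁻¹ * g * k) := by group
    have h2 : k⁻¹ * g * k ∈ M F :=
      (cent_le F h0506 hZS hT h1173 hz hz1).trans le_sup_right h1
    have h3 : g = k * (k⁻¹ * g * k) * k⁻¹ := by group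
    rw [h3]
    exact (M F).mul_mem ((M F).mul_mem hkM h2) ((M F).inv_mem hkM)
  · exact (hCu w hw hw1 hS).trans le_sup_left

/-- centralisers of the involutions of `M` -/
theorem cent_M {x : E} (hx : x ∈ M F) (hx2 : orderOf x = 2) : centralizer ({x} : Set E) ≤ M F := by
  obtain ⟨m, hm, hmW⟩ := exists_M_W F hx (mul_self_of_orderOf hx2)
  have h1 : m * x * m⁻¹ ≠ 1 := by
    intro h
    have h2 := orderOf_conj m x
    rw [h, orderOf_one, hx2] at h2
    omega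
  intro g hg
  rw [mem_centralizer_singleton_iff] at hg
  have h3 : m * g * m⁻¹ ∈ M F := by
    refine cent_W F h0506 hZS hT h1173 hCu hmW h1 ?_
    rw [mem_centralizer_singleton_iff]
    calc m * g * m⁻¹ * (m * x * m⁻¹) = m * (g * x) * m⁻¹ := by group
      _ = m * (x * g) * m⁻¹ := by rw [hg]
      _ = m * x * m⁻¹ * (m * g * m⁻¹) := by group
  have h4 : g = m⁻¹ * (m * g * m⁻¹) * m := by group
  rw [h4]
  exact (M F).mul_mem ((M F).mul_mem ((M F).inv_mem hm) h3) hm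

/-- `M = E` -/
theorem M_top : M F = ⊤ := by
  classical
  haveI : Fact (Nat.Prime 2) := ⟨Nat.prime_two⟩
  by_contra hM
  obtain ⟨z, hz, hz1⟩ := exists_Z_ne F
  have hzS : z ∈ F.S := mem_S_of_Z F hz hz1
  have hz2 : orderOf z = 2 := orderOf_eq_two_of_mul_self (F.Z_sq z hz) hz1
  have hzM : z ∈ M F := T_le_M F (F.W_le (F.Z_le_W hz))
  have heven : Even (Nat.card (M F)) := by
    have h1 : orderOf (⟨z, hzM⟩ : M F) = 2 := by rw [← hz2]; exact Subgroup.orderOf_mk z hzM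
    have h2 : orderOf (⟨z, hzM⟩ : M F) ∣ Nat.card (M F) := orderOf_dvd_natCard _
    rw [h1] at h2
    exact even_iff_two_dvd.2 h2
  have hSE : Cfsg.IsStronglyEmbedded (M F) := by
    rw [Cfsg.Agent.S0223.result (M F) hM heven]
    refine ⟨fun t ht h2 => cent_M F h0506 hZS hT h1173 hCu ht h2, ?_⟩
    intro t ht s hs ht2 hs2 hts
    obtain ⟨m, hm, hmW⟩ := exists_M_W F ht (mul_self_of_orderOf ht2)
    obtain ⟨m', hm', hmW'⟩ := exists_M_W F hs (mul_self_of_orderOf hs2)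
    obtain ⟨g, hg⟩ := isConj_iff.1 hts
    have h1 : (m' * g * m⁻¹) * (m * t * m⁻¹) * (m' * g * m⁻¹)⁻¹ = m' * s * m'⁻¹ := by
      rw [← hg]; group
    obtain ⟨c, hc, hcg⟩ := exists_NW_of_conj F hmW (g := m' * g * m⁻¹) (by rw [h1]; exact hmW')
    rw [h1] at hc
    have h2 : (c * (m' * g * m⁻¹)) * (m * t * m⁻¹) * (c * (m' * g * m⁻¹))⁻¹ = m' * s * m'⁻¹ := by
      calc (c * (m' * g * m⁻¹)) * (m * t * m⁻¹) * (c * (m' * g * m⁻¹))⁻¹
          = c * ((m' * g * m⁻¹) * (m * t * m⁻¹) * (m' * g * m⁻¹)⁻¹) * c⁻¹ := by group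
        _ = c * (m' * s * m'⁻¹) * c⁻¹ := by rw [h1]
        _ = m' * s * m'⁻¹ := by rw [hc]; group
    have hcM : c * (m' * g * m⁻¹) ∈ M F := (le_sup_left : _ ≤ M F) hcg
    refine ⟨m'⁻¹ * (c * (m' * g * m⁻¹)) * m, (M F).mul_mem ((M F).mul_mem ((M F).inv_mem hm') hcM) hm, ?_⟩
    calc m'⁻¹ * (c * (m' * g * m⁻¹)) * m * t * (m'⁻¹ * (c * (m' * g * m⁻¹)) * m)⁻¹
        = m'⁻¹ * ((c * (m' * g * m⁻¹)) * (m * t * m⁻¹) * (c * (m' * g * m⁻¹))⁻¹) * m' := by group
      _ = m'⁻¹ * (m' * s * m'⁻¹) * m' := by rw [h2]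
      _ = s := by group
  obtain ⟨w, hw, hw1, hwS⟩ := exists_W_not_S F
  have hw2 : orderOf w = 2 := orderOf_eq_two_of_mul_self (F.W_sq w hw) hw1
  obtain ⟨g, hg⟩ := isConj_iff.1 (isConj_of_involutions hSE z w hz2 hw2)
  apply hwS
  rw [← hg]
  exact mem_S_of_conj F h0506 hzS (by rw [hg]; exact hw)

omit hCu in
/-- `N_E(W) = Ka · (N_E(W) ∩ N_E(T))` -/
theorem exists_Ka_NT {g : E} (hg : g ∈ normalizer (F.W : Set E)) :
    ∃ k ∈ F.Ka, k⁻¹ * g ∈ normalizer ((F.T : Subgroup E) : Set E) := by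
  obtain ⟨k, hk, h1⟩ := exists_Ka F h0506 hg
  refine ⟨k, hk, norm_W F h0506 hZS hT h1173
    ((normalizer (F.W : Set E)).mul_mem ((normalizer (F.W : Set E)).inv_mem (Ka_le_NW F hk)) hg) ?_⟩
  rw [mem_normalizer_iff_map_conj, ← map_conj_map_conj, h1, map_conj_map_conj, inv_mul_cancel]
  ext x
  simp

omit hCu in
/-- `N_E(Q) = Kb · (N_E(Q) ∩ N_E(T))` -/
theorem exists_Kb_NT {g : E} (hg : g ∈ normalizer (F.Q : Set E)) :
    ∃ k ∈ F.Kb, k * g ∈ normalizer ((F.T : Subgroup E) : Set E) := by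
  obtain ⟨k, hk, h1⟩ := exists_Kb F hg
  exact ⟨k, hk, norm_Q F h0506 hZS hT h1173 ((normalizer (F.Q : Set E)).mul_mem (Kb_le_NQ F hk) hg) h1⟩

/-- `⟨T, Ka, Kb⟩` is normal in `E` -/
theorem normal_gen : ((F.T : Subgroup E) ⊔ F.Ka ⊔ F.Kb).Normal := by
  set G0 : Subgroup E := (F.T : Subgroup E) ⊔ F.Ka ⊔ F.Kb with hG0
  have hTG : (F.T : Subgroup E) ≤ G0 := le_sup_left.trans le_sup_left
  have hKaG : F.Ka ≤ G0 := le_sup_right.trans le_sup_left
  have hKbG : F.Kb ≤ G0 := le_sup_right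
  have hconj : ∀ {k n : E}, k ∈ G0 → n ∈ normalizer ((F.T : Subgroup E) : Set E) →
      ∀ x ∈ (F.T : Subgroup E), (k * n) * x * (k * n)⁻¹ ∈ G0 := by
    intro k n hk hn x hx
    have h1 : (k * n) * x * (k * n)⁻¹ = k * (n * x * n⁻¹) * k⁻¹ := by group
    rw [h1]
    exact G0.mul_mem (G0.mul_mem hk (hTG ((mem_normalizer_iff.1 hn x).1 hx))) (G0.inv_mem hk)
  -- conjugates of `T` under `N(T) na` and `N(T) nb`
  have hKa : ∀ n ∈ normalizer ((F.T : Subgroup E) : Set E), ∀ x ∈ F.Ka, n * x * n⁻¹ ∈ G0 := by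
    intro n hn
    have hsub : F.Ka ≤ G0.comap (MulAut.conj n).toMonoidHom := by
      refine F.Ka_le'.trans (sup_le ?_ ?_)
      · intro x hx
        exact hTG ((mem_normalizer_iff.1 hn x).1 hx)
      · rintro _ ⟨x, hx, rfl⟩
        obtain ⟨k, hk, hkn⟩ := exists_Ka_NT F h0506 hZS hT h1173 (g := n * F.na)
          ((normalizer (F.W : Set E)).mul_mem (NT_le_NW F hn) (Ka_le_NW F F.na_mem))
        have h2 := hconj (hKaG hk) hkn x hx
        have h3 : k * (k⁻¹ * (n * F.na)) * x * (k * (k⁻¹ * (n * F.na)))⁻¹ =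
          n * (F.na * x * F.na⁻¹) * n⁻¹ := by group
        rw [h3] at h2
        exact h2
    intro x hx
    exact hsub hx
  have hKb : ∀ n ∈ normalizer ((F.T : Subgroup E) : Set E), ∀ x ∈ F.Kb, n * x * n⁻¹ ∈ G0 := by
    intro n hn
    have hsub : F.Kb ≤ G0.comap (MulAut.conj n).toMonoidHom := by
      refine F.Kb_le'.trans (sup_le ?_ ?_)
      · intro x hx
        exact hTG ((mem_normalizer_iff.1 hn x).1 hx)
      · rintro _ ⟨x, hx, rfl⟩
        obtain ⟨k, hk, hkn⟩ := exists_Kb_NT F h0506 hZS hT h1173 (g := n * F.nb)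
          ((normalizer (F.Q : Set E)).mul_mem (NT_le_NQ F hn) (Kb_le_NQ F F.nb_mem))
        have h2 := hconj (G0.inv_mem (hKbG hk)) hkn x hx
        have h3 : k⁻¹ * (k * (n * F.nb)) * x * (k⁻¹ * (k * (n * F.nb)))⁻¹ =
          n * (F.nb * x * F.nb⁻¹) * n⁻¹ := by group
        rw [h3] at h2
        exact h2
    intro x hx
    exact hsub hx
  have hNT : normalizer ((F.T : Subgroup E) : Set E) ≤ normalizer (G0 : Set E) := by
    intro n hn
    apply mem_normalizer_of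
    have : G0 ≤ G0.comap (MulAut.conj n).toMonoidHom := by
      refine sup_le (sup_le ?_ ?_) ?_
      · intro x hx
        exact hTG ((mem_normalizer_iff.1 hn x).1 hx)
      · exact fun x hx => hKa n hn x hx
      · exact fun x hx => hKb n hn x hx
    exact fun x hx => this hx
  have hG0N : G0 ≤ normalizer (G0 : Set E) := le_normalizer
  rw [← normalizer_eq_top_iff, eq_top_iff, ← M_top F h0506 hZS hT h1173 hCu]
  refine sup_le ?_ ?_
  · intro g hg
    obtain ⟨k, hk, hkg⟩ := exists_Ka_NT F h0506 hZS hT h1173 hg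
    have : g = k * (k⁻¹ * g) := by group
    rw [this]
    exact (normalizer (G0 : Set E)).mul_mem (hG0N (hKaG hk)) (hNT hkg)
  · intro g hg
    obtain ⟨k, hk, hkg⟩ := exists_Kb_NT F h0506 hZS hT h1173 hg
    have : g = k⁻¹ * (k * g) := by group
    rw [this]
    exact (normalizer (G0 : Set E)).mul_mem ((normalizer (G0 : Set E)).inv_mem (hG0N (hKbG hk))) (hNT hkg)

/-- **the end**: `E = ⟨T, Ka, Kb⟩` -/
theorem gen_top [IsSimpleGroup E] : (F.T : Subgroup E) ⊔ F.Ka ⊔ F.Kb = ⊤ := by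
  rcases (normal_gen F h0506 hZS hT h1173 hCu).eq_bot_or_eq_top with h | h
  · exfalso
    obtain ⟨z, hz, hz1⟩ := exists_Z_ne F
    have h1 : z ∈ (F.T : Subgroup E) ⊔ F.Ka ⊔ F.Kb :=
      (le_sup_left.trans le_sup_left : (F.T : Subgroup E) ≤ _) (F.W_le (F.Z_le_W hz))
    rw [h, mem_bot] at h1
    exact hz1 h1
  · exact h

end main

end Cfsg.Agent.StdSpFour.CloseEnd
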