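import Cfsg.Agent.StdSpFour.CloseTau
import Cfsg.Agent.Lib.GoldschmidtFusion
import Cfsg.Prelude.Def_CaseTheorems

/-!
# S1778, closing of `U₄(q)`, `U₅(q)`: the absolute form of the T-facts

`Facts E`: the T-facts for the finite group `E` as a type; `RelFacts.toFacts`.
-/

set_option autoImplicit false
set_option linter.style.haveILetI false

namespace Cfsg.Agent.StdSpFour.CloseFacts

open Subgroup
open Cfsg.Agent.StdSpFour.CloseDefs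

universe u

/-- the T-facts, absolute form -/
structure Facts (E : Type u) [Group E] [Finite E] where
  n : ℕ
  q : ℕ
  hq : q = 2 ^ n
  h4 : 4 ≤ q
  T : Sylow 2 E
  Z : Subgroup E
  Q : Subgroup E
  W : Subgroup E
  S : Set E
  Ka : Subgroup E
  Kb : Subgroup E
  V : Subgroup E
  na : E
  nb : E
  τ : E ≃* E
  Z_le_W : Z ≤ W
  Z_le_Q : Z ≤ Q
  W_le : W ≤ (T : Subgroup E)
  Q_le : Q ≤ (T : Subgroup E)
  na_mem : na ∈ Ka
  nb_mem : nb ∈ Kb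
  Z_card : Nat.card Z = q
  Z_sq : ∀ z ∈ Z, z * z = 1
  Z_cent : ∀ z ∈ Z, ∀ x ∈ (T : Subgroup E), z * x = x * z
  W_sq : ∀ w ∈ W, w * w = 1
  W_card : Nat.card W = q ^ 4
  W_uniq : ∀ U : Subgroup E, U ≤ (T : Subgroup E) → (∀ x ∈ U, x * x = 1) → Nat.card U = q ^ 4 → U = W
  Q_sq : ∀ x ∈ Q, x * x ∈ Z
  Q_uniq : ∀ U : Subgroup E, U ≤ (T : Subgroup E) → Z ≤ U → (∀ x ∈ U, x * x ∈ Z) →
    Nat.card U = Nat.card Q → U = Q
  Q_cent : ∀ x ∈ (T : Subgroup E), (∀ y ∈ Q, x * y = y * x) → x ∈ Z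
  Q_cent_mod : ∀ x ∈ (T : Subgroup E), (∀ y ∈ Q, x * y * x⁻¹ * y⁻¹ ∈ Z) → x ∈ Q
  Q_pair : ∀ d ∈ Q, d ∉ Z → ∀ z ∈ Z, ∃ e ∈ Q, d * e * d⁻¹ * e⁻¹ = z
  WQ_card : Nat.card ↥(W ⊓ Q) = q ^ 3
  inv_T : ∀ x ∈ (T : Subgroup E), x * x = 1 → x ∈ W ∨ x ∈ Q
  inv_Q : ∀ v ∈ Q, v * v = 1 → ∃ k ∈ Kb, k * v * k⁻¹ ∈ W
  S_iff : ∀ x, x ∈ S ↔ ∃ k ∈ Ka, ∃ z ∈ Z, z ≠ 1 ∧ x = k * z * k⁻¹
  S_Q : ∀ x ∈ S, x ∈ Q → x ∈ Z
  S_card : Nat.card S = (q ^ 2 + 1) * (q - 1)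
  S_count : ∀ w ∈ W, w ≠ 1 → w ∉ S → Nat.card {m : E // m ∈ S ∧ m * w ∈ S} = q * (q - 1)
  Ka_W : ∀ k ∈ Ka, ∀ w ∈ W, k * w * k⁻¹ ∈ W
  Ka_TI : ∀ k ∈ Ka, ∀ z ∈ Z, z ≠ 1 → k * z * k⁻¹ ∈ Z → ∀ z' ∈ Z, k * z' * k⁻¹ ∈ Z
  four : (∀ y ∈ (T : Subgroup E), y ∉ Q → y * y ∈ Z → ∃ z ∈ Z, y * z ∈ S) ∨
    ((∀ y ∈ (T : Subgroup E), y ∉ Q → y * y ∈ Z →
        (∃ z ∈ Z, y * z ∈ S) ∨
          (y * y ≠ 1 ∧ ∀ x ∈ (T : Subgroup E), y * x * y⁻¹ * x⁻¹ ∈ W ∧ y * x * y⁻¹ * x⁻¹ ∈ Q)) ∧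
      ∀ v ∈ Q, v * v ≠ 1 →
        Nat.card {x : E // x ∈ (T : Subgroup E) ∧ v * x * v⁻¹ * x⁻¹ ∈ Z} * q ^ 2 ≤ Nat.card (T : Subgroup E))
  R_sq : ∀ x ∈ (T : Subgroup E), ∀ w ∈ W, (x * x) * w = w * (x * x)
  R_card : Nat.card (T : Subgroup E) = q ^ 2 * Nat.card ↥((T : Subgroup E) ⊓ Subgroup.centralizer (W : Set E))
  T_WQ : ∀ x ∈ (T : Subgroup E), ∀ w ∈ W, w ∈ Q → x * w * x⁻¹ * w⁻¹ ∈ Z
  T_W : ∀ x ∈ (T : Subgroup E), ∀ w ∈ W, x * w * x⁻¹ * w⁻¹ ∈ Q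
  hyp_one : ∀ B : Subgroup E, (T : Subgroup E) ⊓ Subgroup.centralizer (W : Set E) ≤ B → B ≤ (T : Subgroup E) →
    2 * Nat.card B = Nat.card (T : Subgroup E) → ∀ w ∈ W, (∀ x ∈ B, x * w = w * x) → w ∈ Z
  hyp_two : ∀ B : Subgroup E, (T : Subgroup E) ⊓ Subgroup.centralizer (W : Set E) ≤ B → B ≤ (T : Subgroup E) →
    2 * Nat.card B = Nat.card (T : Subgroup E) → ∀ w ∈ W, (∀ x ∈ B, x * w * x⁻¹ * w⁻¹ ∈ Z) → w ∈ Q
  Xb_cent : ∀ x ∈ (T : Subgroup E), (∀ z ∈ Z, x * (na * z * na⁻¹) = (na * z * na⁻¹) * x) → ∀ w ∈ W, x * w = w * x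
  trans : ∀ x ∈ (T : Subgroup E), (∃ w ∈ W, x * w ≠ w * x) → ∀ y ∈ (T : Subgroup E), (∃ w ∈ W, y * w ≠ w * y) →
    ∃ h : E, (∀ s ∈ (T : Subgroup E), h * s * h⁻¹ ∈ (T : Subgroup E)) ∧
      ∀ w ∈ W, (h * x * h⁻¹ * y⁻¹) * w = w * (h * x * h⁻¹ * y⁻¹)
  Kb_Z : ∀ k ∈ Kb, ∀ z ∈ Z, k * z = z * k
  Kb_Q : ∀ k ∈ Kb, ∀ x ∈ Q, k * x * k⁻¹ ∈ Q
  nb_WQ : ∀ x ∈ W, x ∈ Q → nb * x * nb⁻¹ ∈ W → x ∈ Z
  TQ_onto : ∀ x ∈ (T : Subgroup E), x ∉ Q → x * x ∈ Q → ∀ w ∈ W, w ∈ Q →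
    ∃ y ∈ Q, ∃ z ∈ Z, w = x * y * x⁻¹ * y⁻¹ * z
  TQ_W : ∀ x ∈ (T : Subgroup E), x ∉ Q → x * x ∈ Q → ∀ y ∈ Q, x * y * x⁻¹ * y⁻¹ ∈ W
  chain_one : ∀ x ∈ (T : Subgroup E), ∀ y ∈ Q, ∀ w ∈ W, w ∈ Q → (x * y * x⁻¹ * y⁻¹) * w = w * (x * y * x⁻¹ * y⁻¹)
  chain_two : ∀ x ∈ (T : Subgroup E), ∀ y ∈ Q, (∀ w ∈ W, w ∈ Q → y * w = w * y) → x * y * x⁻¹ * y⁻¹ ∈ W
  perf : ∃ L : Subgroup E, Q ≤ L ∧ L ≤ ⁅L, L⁆ ∧ ∀ x ∈ L, ∀ z ∈ Z, x * z = z * x
  irr : ∀ R : Subgroup E, Z ≤ R → R ≤ Q → (∃ x ∈ R, x ∉ Z) →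
    (∀ g : E, (∀ z ∈ Z, g * z = z * g) → (∀ x ∈ Q, g * x * g⁻¹ ∈ Q) → ∀ x ∈ R, g * x * g⁻¹ ∈ R) → R = Q
  V_Q : V ≤ Q
  V_ne : ∃ x ∈ V, x ∉ Z
  τ_Z : ∀ z ∈ Z, τ z = z
  τ_Q : ∀ x ∈ Q, τ x ∈ Q
  core_V : ∀ O : Subgroup E, Odd (Nat.card O) → ∀ z ∈ Z, z ≠ 1 → (∀ x ∈ O, x * z = z * x) →
    (∀ g : E, g * z = z * g → ∀ x ∈ O, g * x * g⁻¹ ∈ O) → (∀ x ∈ O, τ x ∈ O) → ∀ x ∈ O, ∀ v ∈ V, x * v = v * x
  core_Xb : ∀ D : Subgroup E, Odd (Nat.card D) → (∀ x ∈ D, ∀ y ∈ Q, x * y = y * x) →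
    (∀ g : E, (∀ y ∈ Q, g * y * g⁻¹ ∈ Q) → ∀ x ∈ D, g * x * g⁻¹ ∈ D) → (∀ x ∈ D, τ x ∈ D) →
    (∀ z ∈ Z, z ≠ 1 → ∀ g : E, g * (na * z * na⁻¹) = (na * z * na⁻¹) * g →
      ∀ z' ∈ Z, ∃ z'' ∈ Z, g * (na * z' * na⁻¹) * g⁻¹ = na * z'' * na⁻¹) →
    ∀ x ∈ D, ∀ z ∈ Z, x * (na * z * na⁻¹) = (na * z * na⁻¹) * x
  Kb_gen : ∀ C : Subgroup E, (∀ z ∈ Z, na * z * na⁻¹ ∈ C) → (∀ k ∈ Kb, ∀ x ∈ C, k * x * k⁻¹ ∈ C) → Kb ≤ C
  T_gen : (T : Subgroup E) ≤ Q ⊔ Kb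
  Ka_le' : Ka ≤ (T : Subgroup E) ⊔ (T : Subgroup E).map (MulAut.conj na).toMonoidHom
  Kb_le' : Kb ≤ (T : Subgroup E) ⊔ (T : Subgroup E).map (MulAut.conj nb).toMonoidHom

section conversion

variable {G : Type u} [Group G] {E : Subgroup G} {t : G}

/-- `subgroupOf` and cardinalities -/
theorem card_subgroupOf {H : Subgroup G} (hH : H ≤ E) : Nat.card (H.subgroupOf E) = Nat.card H :=
  Nat.card_congr (subgroupOfEquivOfLe hH).toEquiv

theorem card_map {U : Subgroup E} : Nat.card (U.map E.subtype) = Nat.card U :=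
  (Nat.card_congr (U.equivMapOfInjective E.subtype E.subtype_injective).toEquiv).symm

theorem le_map_iff {U : Subgroup E} {H : Subgroup G} : U.map E.subtype ≤ H ↔ U ≤ H.subgroupOf E :=
  map_le_iff_le_comap

theorem subgroupOf_le_iff {U : Subgroup E} {H : Subgroup G} (hH : H ≤ E) :
    H ≤ U.map E.subtype ↔ H.subgroupOf E ≤ U := by
  constructor
  · intro h x hx
    obtain ⟨y, hy, hyx⟩ := h hx
    have : y = x := Subtype.ext hyx
    rwa [← this]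
  · intro h x hx
    exact ⟨⟨x, hH hx⟩, h hx, rfl⟩

theorem map_eq_iff {U : Subgroup E} {H : Subgroup G} (hH : H ≤ E) :
    U.map E.subtype = H ↔ U = H.subgroupOf E := by
  constructor
  · intro h
    exact le_antisymm (le_map_iff.1 h.le) ((subgroupOf_le_iff hH).1 h.ge)
  · intro h
    exact le_antisymm (le_map_iff.2 h.le) ((subgroupOf_le_iff hH).2 h.ge)

/-- conjugation by `t` -/
def tau (R : RelFacts E t) : E ≃* E where
  toFun x := ⟨t * x * t⁻¹, R.E_t x x.2⟩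
  invFun x := ⟨t * x * t⁻¹, R.E_t x x.2⟩
  left_inv x := by
    apply Subtype.ext
    change t * (t * x * t⁻¹) * t⁻¹ = x
    have h1 : t⁻¹ = t := inv_eq_of_mul_eq_one_left R.tt
    calc t * (t * x * t⁻¹) * t⁻¹ = (t * t) * x * (t⁻¹ * t⁻¹) := by group
      _ = (t * t) * x * (t * t) := by rw [h1]
      _ = x := by rw [R.tt, one_mul, mul_one]
  right_inv x := by
    apply Subtype.ext
    change t * (t * x * t⁻¹) * t⁻¹ = x
    have h1 : t⁻¹ = t := inv_eq_of_mul_eq_one_left R.tt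
    calc t * (t * x * t⁻¹) * t⁻¹ = (t * t) * x * (t⁻¹ * t⁻¹) := by group
      _ = (t * t) * x * (t * t) := by rw [h1]
      _ = x := by rw [R.tt, one_mul, mul_one]
  map_mul' x y := by
    apply Subtype.ext
    change t * (x * y) * t⁻¹ = t * x * t⁻¹ * (t * y * t⁻¹)
    group

theorem tau_coe (R : RelFacts E t) (x : E) : ((tau R x : E) : G) = t * x * t⁻¹ := rfl

theorem card_set {S : Set G} (hS : ∀ x ∈ S, x ∈ E) : Nat.card {x : E | (x : G) ∈ S} = Nat.card S :=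
  Nat.card_congr
    { toFun := fun x => ⟨x.1, x.2⟩
      invFun := fun x => ⟨⟨x.1, hS x x.2⟩, x.2⟩
      left_inv := fun _ => rfl
      right_inv := fun _ => rfl }

theorem card_sub {p : G → Prop} (hS : ∀ x, p x → x ∈ E) : Nat.card {x : E // p (x : G)} = Nat.card {x : G // p x} :=
  Nat.card_congr
    { toFun := fun x => ⟨x.1, x.2⟩
      invFun := fun x => ⟨⟨x.1, hS x x.2⟩, x.2⟩
      left_inv := fun _ => rfl
      right_inv := fun _ => rfl }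

theorem map_inf_centralizer {T W : Subgroup G} (hT : T ≤ E) (hW : W ≤ E) :
    (T.subgroupOf E ⊓ centralizer ((W.subgroupOf E : Subgroup E) : Set E)).map E.subtype =
      T ⊓ centralizer (W : Set G) := by
  ext x
  constructor
  · rintro ⟨y, ⟨hy, hyc⟩, rfl⟩
    refine ⟨hy, ?_⟩
    change (y : G) ∈ centralizer (W : Set G)
    rw [mem_centralizer_iff]
    intro w hw
    exact congrArg Subtype.val (mem_centralizer_iff.1 hyc ⟨w, hW hw⟩ hw)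
  · rintro ⟨hx, hxc⟩
    refine ⟨⟨x, hT hx⟩, ⟨hx, ?_⟩, rfl⟩
    change (⟨x, hT hx⟩ : E) ∈ centralizer ((W.subgroupOf E : Subgroup E) : Set E)
    rw [mem_centralizer_iff]
    intro w hw
    exact Subtype.ext (mem_centralizer_iff.1 hxc w hw)

/-- the absolute form -/
noncomputable def toFacts [Finite G] (R : RelFacts E t) : Facts E := by
  have hTE := R.T_le
  have hWE : R.W ≤ E := R.W_le.trans hTE
  have hQE : R.Q ≤ E := R.Q_le.trans hTE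
  have hZE : R.Z ≤ E := R.Z_le_W.trans hWE
  have hSE : ∀ x ∈ R.S, x ∈ E := by
    intro x hx
    obtain ⟨k, hk, z, hz, -, rfl⟩ := (R.S_iff x).1 hx
    exact E.mul_mem (E.mul_mem (R.Ka_le hk) (hZE hz)) (E.inv_mem (R.Ka_le hk))
  exact
  { n := R.n
    q := R.q
    hq := R.hq
    h4 := R.h4
    T := (R.T_two.comap_of_injective E.subtype E.subtype_injective).toSylow R.T_syl
    Z := R.Z.subgroupOf E
    Q := R.Q.subgroupOf E
    W := R.W.subgroupOf E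
    S := {x : E | (x : G) ∈ R.S}
    Ka := R.Ka.subgroupOf E
    Kb := R.Kb.subgroupOf E
    V := R.V.subgroupOf E
    na := ⟨R.na, R.Ka_le R.na_mem⟩
    nb := ⟨R.nb, R.Kb_le R.nb_mem⟩
    τ := tau R
    Z_le_W := fun x hx => R.Z_le_W hx
    Z_le_Q := fun x hx => R.Z_le_Q hx
    W_le := fun x hx => R.W_le hx
    Q_le := fun x hx => R.Q_le hx
    na_mem := R.na_mem
    nb_mem := R.nb_mem
    Z_card := by rw [card_subgroupOf hZE, R.Z_card]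
    Z_sq := fun z hz => Subtype.ext (R.Z_sq z hz)
    Z_cent := fun z hz x hx => Subtype.ext (R.Z_cent z hz x hx)
    W_sq := fun z hz => Subtype.ext (R.W_sq z hz)
    W_card := by rw [card_subgroupOf hWE, R.W_card]
    W_uniq := fun U hU hU2 hUc => by
      rw [← map_eq_iff hWE]
      apply R.W_uniq
      · rw [le_map_iff]; exact hU
      · rintro _ ⟨x, hx, rfl⟩
        exact congrArg Subtype.val (hU2 x hx)
      · rw [card_map, hUc]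
    Q_sq := fun x hx => R.Q_sq x hx
    Q_uniq := fun U hU hZU hU2 hUc => by
      rw [← map_eq_iff hQE]
      apply R.Q_uniq
      · rw [le_map_iff]; exact hU
      · rw [subgroupOf_le_iff hZE]; exact hZU
      · rintro _ ⟨x, hx, rfl⟩
        exact hU2 x hx
      · rw [card_map, hUc, card_subgroupOf hQE]
    Q_cent := fun x hx h => R.Q_cent x hx fun y hy => congrArg Subtype.val (h ⟨y, hQE hy⟩ hy)
    Q_cent_mod := fun x hx h => R.Q_cent_mod x hx fun y hy => h ⟨y, hQE hy⟩ hy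
    Q_pair := fun d hd hdZ z hz => by
      obtain ⟨e, he, h1⟩ := R.Q_pair d hd hdZ z hz
      exact ⟨⟨e, hQE he⟩, he, Subtype.ext h1⟩
    WQ_card := by
      have h1 : R.W.subgroupOf E ⊓ R.Q.subgroupOf E = (R.W ⊓ R.Q).subgroupOf E := rfl
      rw [h1, card_subgroupOf (inf_le_left.trans hWE), R.WQ_card]
    inv_T := fun x hx hx2 => R.inv_T x hx (congrArg Subtype.val hx2)
    inv_Q := fun v hv hv2 => by
      obtain ⟨k, hk, h1⟩ := R.inv_Q v hv (congrArg Subtype.val hv2)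
      exact ⟨⟨k, R.Kb_le hk⟩, hk, h1⟩
    S_iff := fun x => by
      constructor
      · intro hx
        obtain ⟨k, hk, z, hz, hz1, h1⟩ := (R.S_iff x).1 hx
        exact ⟨⟨k, R.Ka_le hk⟩, hk, ⟨z, hZE hz⟩, hz, fun h => hz1 (congrArg Subtype.val h), Subtype.ext h1⟩
      · rintro ⟨k, hk, z, hz, hz1, rfl⟩
        exact (R.S_iff _).2 ⟨k, hk, z, hz, fun h => hz1 (Subtype.ext h), rfl⟩
    S_Q := fun x hx hxQ => R.S_Q x hx hxQ
    S_card := by rw [card_set hSE, R.S_card]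
    S_count := fun w hw hw1 hwS => by
      rw [← R.S_count w hw (fun h => hw1 (Subtype.ext h)) hwS]
      exact card_sub (E := E) (p := fun m => m ∈ R.S ∧ m * w ∈ R.S) (fun x hx => hSE x hx.1)
    Ka_W := fun k hk w hw => R.Ka_W k hk w hw
    Ka_TI := fun k hk z hz hz1 h z' hz' => R.Ka_TI k hk z hz (fun h => hz1 (Subtype.ext h)) h z' hz'
    four := by
      rcases R.four with h | ⟨h1, h2⟩
      · left
        intro y hy hyQ hyZ
        obtain ⟨z, hz, h3⟩ := h y hy hyQ hyZ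
        exact ⟨⟨z, hZE hz⟩, hz, h3⟩
      · right
        refine ⟨fun y hy hyQ hyZ => ?_, fun v hv hv2 => ?_⟩
        · rcases h1 y hy hyQ hyZ with ⟨z, hz, h3⟩ | ⟨h3, h4⟩
          · exact Or.inl ⟨⟨z, hZE hz⟩, hz, h3⟩
          · exact Or.inr ⟨fun h5 => h3 (congrArg Subtype.val h5), fun x hx => h4 x hx⟩
        · have h3 := h2 v hv (fun h => hv2 (Subtype.ext h))
          rw [← card_sub (E := E) (p := fun x => x ∈ R.T ∧ (v : G) * x * (v : G)⁻¹ * x⁻¹ ∈ R.Z) (fun x hx => hTE hx.1),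
            ← card_subgroupOf hTE] at h3
          exact h3
    R_sq := fun x hx w hw => Subtype.ext (R.R_sq x hx w hw)
    R_card := by
      change Nat.card (R.T.subgroupOf E) = R.q ^ 2 *
        Nat.card ↥(R.T.subgroupOf E ⊓ Subgroup.centralizer ((R.W.subgroupOf E : Subgroup E) : Set E))
      rw [card_subgroupOf hTE, R.R_card, ← map_inf_centralizer hTE hWE, card_map]
    T_WQ := fun x hx w hw hwQ => R.T_WQ x hx w hw hwQ
    T_W := fun x hx w hw => R.T_W x hx w hw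
    hyp_one := fun B hB1 hB2 hB3 w hw h => by
      refine R.hyp_one (B.map E.subtype) ?_ ?_ ?_ w hw ?_
      · rw [← map_inf_centralizer hTE hWE]; exact map_mono hB1
      · rw [le_map_iff]; exact hB2
      · rw [card_map, hB3]; exact card_subgroupOf hTE
      · rintro _ ⟨x, hx, rfl⟩
        exact congrArg Subtype.val (h x hx)
    hyp_two := fun B hB1 hB2 hB3 w hw h => by
      refine R.hyp_two (B.map E.subtype) ?_ ?_ ?_ w hw ?_
      · rw [← map_inf_centralizer hTE hWE]; exact map_mono hB1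
      · rw [le_map_iff]; exact hB2
      · rw [card_map, hB3]; exact card_subgroupOf hTE
      · rintro _ ⟨x, hx, rfl⟩
        exact h x hx
    Xb_cent := fun x hx h w hw => Subtype.ext (R.Xb_cent x hx
      (fun z hz => congrArg Subtype.val (h ⟨z, hZE hz⟩ hz)) w hw)
    trans := fun x hx hxw y hy hyw => by
      obtain ⟨w, hw, h1⟩ := hxw
      obtain ⟨w', hw', h2⟩ := hyw
      obtain ⟨h, hE, hT, hW⟩ := R.trans x hx ⟨w, hw, fun h => h1 (Subtype.ext h)⟩ y hy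
        ⟨w', hw', fun h => h2 (Subtype.ext h)⟩
      exact ⟨⟨h, hE⟩, fun s hs => hT s hs, fun w hw => Subtype.ext (hW w hw)⟩
    Kb_Z := fun k hk z hz => Subtype.ext (R.Kb_Z k hk z hz)
    Kb_Q := fun k hk x hx => R.Kb_Q k hk x hx
    nb_WQ := fun x hx hxQ h => R.nb_WQ x hx hxQ h
    TQ_onto := fun x hx hxQ hx2 w hw hwQ => by
      obtain ⟨y, hy, z, hz, h1⟩ := R.TQ_onto x hx hxQ hx2 w hw hwQ
      exact ⟨⟨y, hQE hy⟩, hy, ⟨z, hZE hz⟩, hz, Subtype.ext h1⟩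
    TQ_W := fun x hx hxQ hx2 y hy => R.TQ_W x hx hxQ hx2 y hy
    chain_one := fun x hx y hy w hw hwQ => Subtype.ext (R.chain_one x hx y hy w hw hwQ)
    chain_two := fun x hx y hy h => R.chain_two x hx y hy fun w hw hwQ =>
      congrArg Subtype.val (h ⟨w, hWE hw⟩ hw hwQ)
    perf := by
      obtain ⟨L, hLE, hQL, hLL, hLZ⟩ := R.perf
      refine ⟨L.subgroupOf E, fun x hx => hQL hx, ?_, fun x hx z hz => Subtype.ext (hLZ x hx z hz)⟩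
      have h1 : (⁅L.subgroupOf E, L.subgroupOf E⁆).map E.subtype = ⁅L, L⁆ := by
        rw [map_commutator, subgroupOf_map_subtype, inf_eq_left.2 hLE]
      intro x hx
      have h2 : (x : G) ∈ (⁅L.subgroupOf E, L.subgroupOf E⁆).map E.subtype := by
        rw [h1]; exact hLL hx
      obtain ⟨y, hy, hyx⟩ := h2
      have : y = x := Subtype.ext hyx
      rwa [← this]
    irr := fun R' hZR hRQ hne h => by
      rw [← map_eq_iff hQE]
      apply R.irr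
      · rw [subgroupOf_le_iff hZE]; exact hZR
      · rw [le_map_iff]; exact hRQ
      · obtain ⟨x, hx, hxZ⟩ := hne
        exact ⟨x, ⟨x, hx, rfl⟩, hxZ⟩
      · rintro g hg hgZ hgQ _ ⟨x, hx, rfl⟩
        have h1 := h ⟨g, hg⟩ (fun z hz => Subtype.ext (hgZ z hz)) (fun x hx => hgQ x hx) x hx
        exact ⟨_, h1, rfl⟩
    V_Q := fun x hx => R.V_Q hx
    V_ne := by
      obtain ⟨x, hx, hxZ⟩ := R.V_ne
      exact ⟨⟨x, hQE (R.V_Q hx)⟩, hx, hxZ⟩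
    τ_Z := fun z hz => by
      apply Subtype.ext
      rw [tau_coe, R.t_Z z hz]
      group
    τ_Q := fun x hx => R.t_Q x hx
    core_V := fun O hO z hz hz1 hOz hn hτ x hx v hv => by
      have hOE : O.map E.subtype ≤ E := map_subtype_le O
      have h1 := CloseTau.RelFacts.comm_V R (O := O.map E.subtype) (by rw [card_map]; exact hO) hOE hz
        (fun h => hz1 (Subtype.ext h)) (by
          rintro _ ⟨y, hy, rfl⟩
          exact congrArg Subtype.val (hOz y hy)) (by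
          rintro g hg hgz _ ⟨y, hy, rfl⟩
          exact ⟨_, hn ⟨g, hg⟩ (Subtype.ext hgz) y hy, rfl⟩) (by
          rintro _ ⟨y, hy, rfl⟩
          exact ⟨_, hτ y hy, rfl⟩) (x := x) (v := v) ⟨x, hx, rfl⟩ hv
      exact Subtype.ext h1
    core_Xb := fun D hD hDQ hn hτ hX x hx z hz => by
      have hDE : D.map E.subtype ≤ E := map_subtype_le D
      have h1 := CloseTau.RelFacts.comm_Xb R (D := D.map E.subtype) (by rw [card_map]; exact hD) hDE (by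
          rintro _ ⟨y, hy, rfl⟩ w hw
          exact congrArg Subtype.val (hDQ y hy ⟨w, hQE hw⟩ hw)) (by
          rintro p hp _ ⟨y, hy, rfl⟩
          exact ⟨_, hn ⟨p, R.P_le hp⟩ (fun w hw => R.P_Q p hp w hw) y hy, rfl⟩) (by
          rintro _ ⟨y, hy, rfl⟩
          exact ⟨_, hτ y hy, rfl⟩) (by
          intro z hz hz1 g hg hgz z' hz'
          obtain ⟨z'', hz'', h2⟩ := hX ⟨z, hZE hz⟩ hz (fun h => hz1 (congrArg Subtype.val h)) ⟨g, hg⟩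
            (Subtype.ext hgz) ⟨z', hZE hz'⟩ hz'
          exact ⟨z'', hz'', congrArg Subtype.val h2⟩) (x := x) (z := z) ⟨x, hx, rfl⟩ hz
      exact Subtype.ext h1
    Kb_gen := fun C h1 h2 => by
      rw [← subgroupOf_le_iff R.Kb_le]
      apply R.Kb_gen
      · intro z hz
        exact ⟨_, h1 ⟨z, hZE hz⟩ hz, rfl⟩
      · rintro k hk _ ⟨x, hx, rfl⟩
        exact ⟨_, h2 ⟨k, R.Kb_le hk⟩ hk x hx, rfl⟩
    T_gen := by
      change R.T.subgroupOf E ≤ R.Q.subgroupOf E ⊔ R.Kb.subgroupOf E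
      rw [← subgroupOf_le_iff hTE, Subgroup.map_sup, subgroupOf_map_subtype, subgroupOf_map_subtype,
        inf_eq_left.2 hQE, inf_eq_left.2 R.Kb_le]
      exact R.T_gen
    Ka_le' := by
      change R.Ka.subgroupOf E ≤ R.T.subgroupOf E ⊔ (R.T.subgroupOf E).map _
      rw [← subgroupOf_le_iff R.Ka_le, Subgroup.map_sup, subgroupOf_map_subtype, inf_eq_left.2 hTE, map_map]
      refine R.Ka_le'.trans (sup_le_sup_left ?_ _)
      rintro _ ⟨x, hx, rfl⟩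
      exact ⟨⟨x, hTE hx⟩, hx, rfl⟩
    Kb_le' := by
      change R.Kb.subgroupOf E ≤ R.T.subgroupOf E ⊔ (R.T.subgroupOf E).map _
      rw [← subgroupOf_le_iff R.Kb_le, Subgroup.map_sup, subgroupOf_map_subtype, inf_eq_left.2 hTE, map_map]
      refine R.Kb_le'.trans (sup_le_sup_left ?_ _)
      rintro _ ⟨x, hx, rfl⟩
      exact ⟨⟨x, hTE hx⟩, hx, rfl⟩ }

end conversion

end Cfsg.Agent.StdSpFour.CloseFacts
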