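import Cfsg.Agent.StdSpFour.CloseNOne

/-!
# S1778, closing of `U₄(q)`, `U₅(q)`: fusion

`IsD x`: `x` is conjugate to an element of `Z \ {1}`.
* `mem_S`: `D ∩ T = S`;
* `Z_closed`: `Z` is strongly closed in `T` with respect to `C_E(z)`;
* `Q_closed`: `Q` is strongly closed in `T` with respect to `C_E(Z)`.
-/

set_option autoImplicit false
set_option linter.style.haveILetI false

namespace Cfsg.Agent.StdSpFour.CloseFus

open Subgroup
open Cfsg.Agent.Lib Cfsg.Agent.Lib.GoldschmidtFusion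
open Cfsg.Agent.StdSpFour.CloseComp Cfsg.Agent.StdSpFour.CloseFacts
open Cfsg.Agent.StdSpFour.CloseBase Cfsg.Agent.StdSpFour.CloseBase.Facts
open Cfsg.Agent.StdSpFour.CloseNOne
open Cfsg.Agent.StdSpFour.CloseSyl (S0506Stmt card_eq_index)

universe u

variable {E : Type u} [Group E] [Finite E] (F : Facts E)

/-- the class(es) `D` of the elements of `Z` -/
def IsD (x : E) : Prop := ∃ g : E, ∃ z ∈ F.Z, z ≠ 1 ∧ x = g * z * g⁻¹

theorem isD_conj {x : E} (hx : IsD F x) (g : E) : IsD F (g * x * g⁻¹) := by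
  obtain ⟨h, z, hz, hz1, rfl⟩ := hx
  exact ⟨g * h, z, hz, hz1, by group⟩

theorem isD_conj_iff {x : E} (g : E) : IsD F (g * x * g⁻¹) ↔ IsD F x := by
  refine ⟨fun h => ?_, fun h => isD_conj F h g⟩
  have h1 := isD_conj F h g⁻¹
  have h2 : g⁻¹ * (g * x * g⁻¹) * g⁻¹⁻¹ = x := by group
  rwa [h2] at h1

theorem isD_of_S {x : E} (hx : x ∈ F.S) : IsD F x := by
  obtain ⟨k, -, z, hz, hz1, rfl⟩ := (F.S_iff x).1 hx
  exact ⟨k, z, hz, hz1, rfl⟩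

theorem isD_sq {x : E} (hx : IsD F x) : x * x = 1 := by
  obtain ⟨g, z, hz, -, rfl⟩ := hx
  calc g * z * g⁻¹ * (g * z * g⁻¹) = g * (z * z) * g⁻¹ := by group
    _ = 1 := by rw [F.Z_sq z hz]; group

theorem isD_ne {x : E} (hx : IsD F x) : x ≠ 1 := by
  obtain ⟨g, z, hz, hz1, rfl⟩ := hx
  intro h
  rw [mul_inv_eq_one, mul_eq_left] at h
  exact hz1 h

variable (h0506 : S0506Stmt.{u})
include h0506

theorem mem_S_of_W {x : E} (hx : IsD F x) (hxW : x ∈ F.W) : x ∈ F.S := by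
  obtain ⟨g, z, hz, hz1, rfl⟩ := hx
  exact mem_S_of_conj F h0506 (mem_S_of_Z F hz hz1) hxW

/-- `D ∩ T = S` -/
theorem mem_S {x : E} (hx : IsD F x) (hxT : x ∈ (F.T : Subgroup E)) : x ∈ F.S := by
  rcases F.inv_T x hxT (isD_sq F hx) with h | h
  · exact mem_S_of_W F h0506 hx h
  · obtain ⟨k, hk, h1⟩ := F.inv_Q x h (isD_sq F hx)
    have h2 := mem_S_of_W F h0506 (isD_conj F hx k) h1
    have h3 := F.S_Q _ h2 (F.Kb_Q k hk x h)
    have h4 := F.Kb_Z k hk _ h3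
    have h5 : x = k * x * k⁻¹ := by
      calc x = k⁻¹ * (k * x * k⁻¹ * k) := by group
        _ = k⁻¹ * (k * (k * x * k⁻¹)) := by rw [h4]
        _ = k * x * k⁻¹ := by group
    rw [h5]
    exact h2

/-- `D ∩ Q = Z \ {1}` -/
theorem mem_Z_of_Q {x : E} (hx : IsD F x) (hxQ : x ∈ F.Q) : x ∈ F.Z :=
  F.S_Q x (mem_S F h0506 hx (F.Q_le hxQ)) hxQ

/-- (F1) -/
theorem Z_closed {z : E} (hz : z ∈ F.Z) (hz1 : z ≠ 1) {g : E} (hg : g * z = z * g) {z' : E} (hz' : z' ∈ F.Z)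
    (hT : g * z' * g⁻¹ ∈ (F.T : Subgroup E)) : g * z' * g⁻¹ ∈ F.Z := by
  by_cases hz'1 : z' = 1
  · rw [hz'1, mul_one, mul_inv_cancel]; exact F.Z.one_mem
  set y := g * z' * g⁻¹ with hy
  have hyS : y ∈ F.S := mem_S F h0506 ⟨g, z', hz', hz'1, rfl⟩ hT
  have hyW := S_le_W F hyS
  have hzW := F.Z_le_W hz
  obtain ⟨c, hc, hcg⟩ := exists_mul_mem_normalizer (T := F.T) (U := F.W)
    (H := centralizer ({z} : Set E) ⊓ centralizer ({y} : Set E)) F.W_le (W_weak F) (by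
      intro w hw
      refine ⟨?_, ?_⟩
      · change w ∈ centralizer ({z} : Set E)
        rw [mem_centralizer_singleton_iff]
        exact W_comm F hw hzW
      · change w ∈ centralizer ({y} : Set E)
        rw [mem_centralizer_singleton_iff]
        exact W_comm F hw hyW) (g := g) (by
      rintro _ ⟨w, hw, rfl⟩
      have h1 := W_comm F hw hzW
      have h2 := W_comm F hw (F.Z_le_W hz')
      refine ⟨?_, ?_⟩
      · change g * w * g⁻¹ ∈ centralizer ({z} : Set E)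
        rw [mem_centralizer_singleton_iff]
        have h3 : g * z * g⁻¹ = z := by rw [hg]; group
        calc g * w * g⁻¹ * z = g * w * g⁻¹ * (g * z * g⁻¹) := by rw [h3]
          _ = g * (w * z) * g⁻¹ := by group
          _ = g * (z * w) * g⁻¹ := by rw [h1]
          _ = (g * z * g⁻¹) * (g * w * g⁻¹) := by group
          _ = z * (g * w * g⁻¹) := by rw [h3]
      · change g * w * g⁻¹ ∈ centralizer ({y} : Set E)
        rw [mem_centralizer_singleton_iff, hy]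
        calc g * w * g⁻¹ * (g * z' * g⁻¹) = g * (w * z') * g⁻¹ := by group
          _ = g * (z' * w) * g⁻¹ := by rw [h2]
          _ = _ := by group)
  have hcz : c * z = z * c := mem_centralizer_singleton_iff.1 hc.1
  have hcy : c * y = y * c := mem_centralizer_singleton_iff.1 hc.2
  have h1 : (c * g) * z * (c * g)⁻¹ = z := by
    calc (c * g) * z * (c * g)⁻¹ = c * (g * z) * g⁻¹ * c⁻¹ := by group
      _ = (c * z) * c⁻¹ := by rw [hg]; group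
      _ = z := by rw [hcz]; group
  have h2 := mem_NZ F h0506 hcg hz hz1 (by rw [h1]; exact hz)
  have h3 := (mem_normalizer_iff.1 h2 z').1 hz'
  have h4 : (c * g) * z' * (c * g)⁻¹ = y := by
    calc (c * g) * z' * (c * g)⁻¹ = c * y * c⁻¹ := by rw [hy]; group
      _ = y := by rw [hcy]; group
  rwa [h4] at h3

omit h0506

/-- `{s ∈ T : [v, s] ∈ Z}` -/
def CZ (v : E) : Subgroup E where
  carrier := {s | s ∈ (F.T : Subgroup E) ∧ v * s * v⁻¹ * s⁻¹ ∈ F.Z}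
  one_mem' := ⟨one_mem _, by rw [mul_one, inv_one, mul_one, mul_inv_cancel]; exact F.Z.one_mem⟩
  mul_mem' := by
    rintro a b ⟨ha, ha'⟩ ⟨hb, hb'⟩
    refine ⟨mul_mem ha hb, ?_⟩
    have h1 := F.Z_cent _ hb' a ha
    have h2 : v * (a * b) * v⁻¹ * (a * b)⁻¹ = (v * a * v⁻¹ * a⁻¹) * (a * (v * b * v⁻¹ * b⁻¹) * a⁻¹) := by group
    have h3 : a * (v * b * v⁻¹ * b⁻¹) * a⁻¹ = v * b * v⁻¹ * b⁻¹ := by rw [← h1]; group
    rw [h2, h3]
    exact F.Z.mul_mem ha' hb'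
  inv_mem' := by
    rintro a ⟨ha, ha'⟩
    refine ⟨inv_mem ha, ?_⟩
    have h1 := F.Z_cent _ (F.Z.inv_mem ha') a ha
    have h2 : v * a⁻¹ * v⁻¹ * a⁻¹⁻¹ = a⁻¹ * ((v * a * v⁻¹ * a⁻¹)⁻¹ * a) := by group
    rw [h2, h1, inv_mul_cancel_left]
    exact F.Z.inv_mem ha'

theorem mem_CZ {v s : E} : s ∈ CZ F v ↔ s ∈ (F.T : Subgroup E) ∧ v * s * v⁻¹ * s⁻¹ ∈ F.Z := Iff.rfl

theorem CZ_le (v : E) : CZ F v ≤ (F.T : Subgroup E) := fun _ h => h.1

/-- `|T| ≤ |CZ(y)| q²` if `[y, T] ≤ W ∩ Q` -/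
theorem card_le {y : E} (hy : ∀ x ∈ (F.T : Subgroup E), y * x * y⁻¹ * x⁻¹ ∈ F.W ∧ y * x * y⁻¹ * x⁻¹ ∈ F.Q) :
    Nat.card (F.T : Subgroup E) ≤ Nat.card (CZ F y) * F.q ^ 2 := by
  have h4 := F.h4
  set U : Subgroup E := F.W ⊓ F.Q with hU
  have hZU : F.Z ≤ U := le_inf F.Z_le_W F.Z_le_Q
  have hUT : U ≤ (F.T : Subgroup E) := inf_le_left.trans F.W_le
  set Z' : Subgroup U := F.Z.subgroupOf U with hZ'
  let f : ↥(F.T : Subgroup E) → U ⧸ Z' := fun x => QuotientGroup.mk ⟨y * x * y⁻¹ * (x : E)⁻¹, hy x x.2⟩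
  set K : Subgroup (F.T : Subgroup E) := (CZ F y).subgroupOf (F.T : Subgroup E) with hK
  have hf : ∀ a b : (F.T : Subgroup E), f a = f b ↔ a⁻¹ * b ∈ K := by
    intro a b
    change ((⟨y * a * y⁻¹ * (a : E)⁻¹, hy a a.2⟩ : U) : U ⧸ Z') = ((⟨y * b * y⁻¹ * (b : E)⁻¹, hy b b.2⟩ : U) : U ⧸ Z') ↔ _
    rw [QuotientGroup.eq, mem_subgroupOf, mem_subgroupOf]
    change (y * a * y⁻¹ * (a : E)⁻¹)⁻¹ * (y * b * y⁻¹ * (b : E)⁻¹) ∈ F.Z ↔
      (a : E)⁻¹ * b ∈ (F.T : Subgroup E) ∧ y * ((a : E)⁻¹ * b) * y⁻¹ * ((a : E)⁻¹ * b)⁻¹ ∈ F.Z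
    have h1 : (a : E)⁻¹ * b ∈ (F.T : Subgroup E) := mul_mem (inv_mem a.2) b.2
    have h2 : (a : E)⁻¹ * ((y * a * y⁻¹ * (a : E)⁻¹)⁻¹ * (y * b * y⁻¹ * (b : E)⁻¹)) * a =
        y * ((a : E)⁻¹ * b) * y⁻¹ * ((a : E)⁻¹ * b)⁻¹ := by group
    constructor
    · intro h
      refine ⟨h1, ?_⟩
      rw [← h2, mul_assoc, F.Z_cent _ h a a.2, inv_mul_cancel_left]
      exact h
    · rintro ⟨-, h⟩
      have h3 : (y * a * y⁻¹ * (a : E)⁻¹)⁻¹ * (y * b * y⁻¹ * (b : E)⁻¹) =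
          a * (y * ((a : E)⁻¹ * b) * y⁻¹ * ((a : E)⁻¹ * b)⁻¹) * (a : E)⁻¹ := by rw [← h2]; group
      rw [h3, ← F.Z_cent _ h a a.2, mul_inv_cancel_right]
      exact h
  have h1 : Nat.card (Set.range f) = K.index := by
    apply card_eq_index K (Set.rangeFactorization f) Set.rangeFactorization_surjective
    intro a b
    rw [← hf]
    constructor
    · intro h; exact congrArg Subtype.val h
    · intro h; exact Subtype.ext h
  have h2 : Nat.card (Set.range f) ≤ Nat.card (U ⧸ Z') := Nat.card_le_card_of_injective _ Subtype.val_injective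
  have h3 : Nat.card (U ⧸ Z') = F.q ^ 2 := by
    have h5 := Z'.card_mul_index
    have h6 : Nat.card Z' = F.q := by
      rw [← F.Z_card]
      exact Nat.card_congr (subgroupOfEquivOfLe hZU).toEquiv
    rw [h6, F.WQ_card] at h5
    have h7 : F.q * Z'.index = F.q * F.q ^ 2 := by rw [h5]; ring
    exact Nat.eq_of_mul_eq_mul_left (by omega) h7
  have h5 : Nat.card K = Nat.card (CZ F y) := Nat.card_congr (subgroupOfEquivOfLe (CZ_le F y)).toEquiv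
  rw [← K.card_mul_index, h5]
  apply Nat.mul_le_mul_left
  rw [← h1, ← h3]
  exact h2

theorem Q_comm_Z {x y : E} (hx : x ∈ F.Q) (hy : y ∈ F.Q) : x * y * x⁻¹ * y⁻¹ ∈ F.Z := by
  have h1 := F.Q_sq _ (F.Q.mul_mem hx hy)
  have h2 : x * y * x⁻¹ * y⁻¹ = (x * y * (x * y)) * ((y * y)⁻¹ * (y * (x * x)⁻¹ * y⁻¹)) := by group
  have h3 : y * (x * x)⁻¹ * y⁻¹ = (x * x)⁻¹ := by
    rw [← F.Z_cent _ (F.Z.inv_mem (F.Q_sq x hx)) y (F.Q_le hy)]; group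
  rw [h2, h3]
  exact F.Z.mul_mem h1 (F.Z.mul_mem (F.Z.inv_mem (F.Q_sq y hy)) (F.Z.inv_mem (F.Q_sq x hx)))

/-- the order four case of (F2) -/
theorem order_four {g x : E} (hgZ : ∀ z ∈ F.Z, g * z = z * g) (hx : x ∈ F.Q)
    (hyT : g * x * g⁻¹ ∈ (F.T : Subgroup E)) (hy2 : g * x * g⁻¹ * (g * x * g⁻¹) ≠ 1)
    (hyW : ∀ s ∈ (F.T : Subgroup E), (g * x * g⁻¹) * s * (g * x * g⁻¹)⁻¹ * s⁻¹ ∈ F.W ∧
      (g * x * g⁻¹) * s * (g * x * g⁻¹)⁻¹ * s⁻¹ ∈ F.Q)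
    (hcard : ∀ v ∈ F.Q, v * v ≠ 1 →
      Nat.card {x : E // x ∈ (F.T : Subgroup E) ∧ v * x * v⁻¹ * x⁻¹ ∈ F.Z} * F.q ^ 2 ≤ Nat.card (F.T : Subgroup E)) :
    g * x * g⁻¹ ∈ F.Q := by
  classical
  haveI : Fact (Nat.Prime 2) := ⟨Nat.prime_two⟩
  have h4 := F.h4
  set y := g * x * g⁻¹ with hy
  have hCZZ : ∀ {c : E}, (∀ z ∈ F.Z, c * z = z * c) → ∀ z ∈ F.Z, c * z * c⁻¹ = z := fun hc z hz => by
    rw [hc z hz]; group
  -- the group `Cx = {s ∈ C(Z) : [x, s] ∈ Z}`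
  let Cx : Subgroup E :=
    { carrier := {s | (∀ z ∈ F.Z, s * z = z * s) ∧ x * s * x⁻¹ * s⁻¹ ∈ F.Z}
      one_mem' := ⟨fun z _ => by rw [one_mul, mul_one], by
        rw [mul_one, inv_one, mul_one, mul_inv_cancel]; exact F.Z.one_mem⟩
      mul_mem' := by
        rintro a b ⟨ha, ha'⟩ ⟨hb, hb'⟩
        refine ⟨fun z hz => by rw [mul_assoc, hb z hz, ← mul_assoc, ha z hz, mul_assoc], ?_⟩
        have h2 : x * (a * b) * x⁻¹ * (a * b)⁻¹ = (x * a * x⁻¹ * a⁻¹) * (a * (x * b * x⁻¹ * b⁻¹) * a⁻¹) := by group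
        have h3 : a * (x * b * x⁻¹ * b⁻¹) * a⁻¹ = x * b * x⁻¹ * b⁻¹ := hCZZ ha _ hb'
        rw [h2, h3]
        exact F.Z.mul_mem ha' hb'
      inv_mem' := by
        rintro a ⟨ha, ha'⟩
        have hai : ∀ z ∈ F.Z, a⁻¹ * z = z * a⁻¹ := fun z hz => by
          calc a⁻¹ * z = a⁻¹ * (z * a) * a⁻¹ := by group
            _ = z * a⁻¹ := by rw [← ha z hz]; group
        refine ⟨hai, ?_⟩
        have h2 : x * a⁻¹ * x⁻¹ * a⁻¹⁻¹ = a⁻¹ * (x * a * x⁻¹ * a⁻¹)⁻¹ * a := by group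
        rw [h2, hai _ (F.Z.inv_mem ha'), inv_mul_cancel_right]
        exact F.Z.inv_mem ha' }
  have hCx : ∀ {s : E}, s ∈ Cx ↔ (∀ z ∈ F.Z, s * z = z * s) ∧ x * s * x⁻¹ * s⁻¹ ∈ F.Z := Iff.rfl
  have hQCx : F.Q ≤ Cx := fun s hs => ⟨fun z hz => (F.Z_cent z hz s (F.Q_le hs)).symm, Q_comm_Z F hx hs⟩
  -- `g⁻¹ CZ(y) g ≤ Cx`
  have hK1 : (CZ F y).map (MulAut.conj g⁻¹).toMonoidHom ≤ Cx := by
    rintro _ ⟨s, ⟨hsT, hs⟩, rfl⟩
    change g⁻¹ * s * g⁻¹⁻¹ ∈ Cx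
    rw [inv_inv, hCx]
    have hgi : ∀ z ∈ F.Z, g⁻¹ * z = z * g⁻¹ := fun z hz => by
      calc g⁻¹ * z = g⁻¹ * (z * g) * g⁻¹ := by group
        _ = z * g⁻¹ := by rw [← hgZ z hz]; group
    refine ⟨fun z hz => ?_, ?_⟩
    · have h1 := (F.Z_cent z hz s hsT).symm
      calc g⁻¹ * s * g * z = g⁻¹ * s * (g * z) := by group
        _ = g⁻¹ * (s * z) * g := by rw [hgZ z hz]; group
        _ = (g⁻¹ * z) * s * g := by rw [h1]; group
        _ = z * (g⁻¹ * s * g) := by rw [hgi z hz]; group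
    · have h1 : x * (g⁻¹ * s * g) * x⁻¹ * (g⁻¹ * s * g)⁻¹ = g⁻¹ * (y * s * y⁻¹ * s⁻¹) * g := by rw [hy]; group
      rw [h1, hgi _ hs, inv_mul_cancel_right]
      exact hs
  have hQ2 : IsPGroup 2 F.Q := F.T.isPGroup'.to_le F.Q_le
  have hK2 : IsPGroup 2 (CZ F y) := F.T.isPGroup'.to_le (CZ_le F y)
  obtain ⟨R1, hQR1, hR1C, hR1, hR1i⟩ := exists_sylow_in hQCx hQ2
  obtain ⟨h, hh, hhR⟩ := exists_conj_le_in hR1 hR1i hK1 (hK2.map _)
  rw [map_conj_map_conj] at hhR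
  have hR1Z : R1 ≤ centralizer (F.Z : Set E) := by
    intro s hs
    rw [mem_centralizer_iff]
    exact fun z hz => ((hR1C hs).1 z hz).symm
  have hTZ : (F.T : Subgroup E) ≤ centralizer (F.Z : Set E) := by
    intro s hs
    rw [mem_centralizer_iff]
    exact fun z hz => F.Z_cent z hz s hs
  obtain ⟨c, hc, hcT⟩ := exists_conj_le F.T hTZ hR1Z hR1
  have hcZ : ∀ z ∈ F.Z, c * z = z * c := fun z hz => (mem_centralizer_iff.1 hc z hz).symm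
  have hcQ : F.Q.map (MulAut.conj c).toMonoidHom = F.Q := by
    apply Q_weak_of F
    · intro z hz
      rw [hCZZ hcZ z hz]; exact hz
    · exact (map_conj_mono hQR1 c).trans hcT
  -- `x' = c x c⁻¹`
  set x' := c * x * c⁻¹ with hx'
  have hx'Q : x' ∈ F.Q := by
    have h1 := conj_mem_map_conj hx c
    rwa [hcQ] at h1
  set m := c * (h * g⁻¹) with hm
  have hmK : (CZ F y).map (MulAut.conj m).toMonoidHom ≤ CZ F x' := by
    rintro _ ⟨s, hs, rfl⟩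
    change m * s * m⁻¹ ∈ CZ F x'
    have h1 : (h * g⁻¹) * s * (h * g⁻¹)⁻¹ ∈ R1 := hhR (conj_mem_map_conj hs (h * g⁻¹))
    set r := (h * g⁻¹) * s * (h * g⁻¹)⁻¹ with hr
    have h2 : m * s * m⁻¹ = c * r * c⁻¹ := by rw [hm, hr]; group
    rw [h2]
    refine ⟨hcT (conj_mem_map_conj h1 c), ?_⟩
    have h3 := (hR1C h1).2
    have h5 : x' * (c * r * c⁻¹) * x'⁻¹ * (c * r * c⁻¹)⁻¹ = c * (x * r * x⁻¹ * r⁻¹) * c⁻¹ := by rw [hx']; group
    rw [h5, hCZZ hcZ _ h3]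
    exact h3
  have hx2 : x' * x' ≠ 1 := by
    intro h1
    apply hy2
    have h2 : x' * x' = c * (x * x) * c⁻¹ := by rw [hx']; group
    rw [h2] at h1
    have h3 : x * x = 1 := by
      calc x * x = c⁻¹ * (c * (x * x) * c⁻¹) * c := by group
        _ = 1 := by rw [h1]; group
    calc y * y = g * (x * x) * g⁻¹ := by rw [hy]; group
      _ = 1 := by rw [h3]; group
  -- orders
  have hle1 := card_le F hyW
  have hle2 := hcard x' hx'Q hx2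
  have h5 : Nat.card {s : E // s ∈ (F.T : Subgroup E) ∧ x' * s * x'⁻¹ * s⁻¹ ∈ F.Z} = Nat.card (CZ F x') := rfl
  rw [h5] at hle2
  have h6 : Nat.card (CZ F x') ≤ Nat.card (CZ F y) :=
    Nat.le_of_mul_le_mul_right (hle2.trans hle1) (by positivity)
  have h7 : (CZ F y).map (MulAut.conj m).toMonoidHom = CZ F x' := by
    apply eq_of_le_of_card_ge hmK
    rw [card_map_conj]
    exact h6
  -- `Q ≤ CZ(x')`, so `m⁻¹ Q m ≤ CZ(y) ≤ T`
  have hQle : F.Q ≤ CZ F x' := fun s hs => ⟨F.Q_le hs, Q_comm_Z F hx'Q hs⟩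
  rw [← h7] at hQle
  have hmi : F.Q.map (MulAut.conj m⁻¹).toMonoidHom ≤ CZ F y := by
    have h8 := map_conj_mono hQle m⁻¹
    rwa [map_conj_map_conj, inv_mul_cancel, map_conj_one] at h8
  have hmZ : ∀ z ∈ F.Z, m⁻¹ * z * m⁻¹⁻¹ ∈ F.Z := by
    intro z hz
    have hgi : ∀ z ∈ F.Z, g⁻¹ * z = z * g⁻¹ := fun z hz => by
      calc g⁻¹ * z = g⁻¹ * (z * g) * g⁻¹ := by group
        _ = z * g⁻¹ := by rw [← hgZ z hz]; group
    have hmc : m * z = z * m := by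
      rw [hm]
      calc c * (h * g⁻¹) * z = c * (h * (g⁻¹ * z)) := by group
        _ = c * (h * z) * g⁻¹ := by rw [hgi z hz]; group
        _ = (c * z) * h * g⁻¹ := by rw [hh.1 z hz]; group
        _ = z * (c * (h * g⁻¹)) := by rw [hcZ z hz]; group
    have h8 : m⁻¹ * z * m⁻¹⁻¹ = z := by
      rw [inv_inv, mul_assoc, ← hmc, inv_mul_cancel_left]
    rw [h8]; exact hz
  have hQm := Q_weak_of F hmZ (hmi.trans (CZ_le F y))
  rw [hQm] at hmi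
  exact F.Q_cent_mod y hyT fun s hs => (hmi hs).2

include h0506 in
/-- (F2) -/
theorem Q_closed {g : E} (hgZ : ∀ z ∈ F.Z, g * z = z * g) {x : E} (hx : x ∈ F.Q)
    (hT : g * x * g⁻¹ ∈ (F.T : Subgroup E)) : g * x * g⁻¹ ∈ F.Q := by
  by_contra hyQ
  have hgz : ∀ z ∈ F.Z, g * z * g⁻¹ = z := fun z hz => by rw [hgZ z hz]; group
  have hy2 : g * x * g⁻¹ * (g * x * g⁻¹) ∈ F.Z := by
    have h1 : g * x * g⁻¹ * (g * x * g⁻¹) = g * (x * x) * g⁻¹ := by group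
    rw [h1, hgz _ (F.Q_sq x hx)]
    exact F.Q_sq x hx
  -- the case `y z ∈ S`
  have hcaseA : (∃ z ∈ F.Z, g * x * g⁻¹ * z ∈ F.S) → False := by
    rintro ⟨z, hz, hS⟩
    have h1 : g * x * g⁻¹ * z = g * (x * z) * g⁻¹ := by
      calc g * x * g⁻¹ * z = g * x * g⁻¹ * (g * z * g⁻¹) := by rw [hgz z hz]
        _ = g * (x * z) * g⁻¹ := by group
    rw [h1] at hS
    have h2 : IsD F (x * z) := (isD_conj_iff F g).1 (isD_of_S F hS)
    have h3 : x * z ∈ F.Z := mem_Z_of_Q F h0506 h2 (F.Q.mul_mem hx (F.Z_le_Q hz))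
    have h5 : x ∈ F.Z := by
      have h6 := F.Z.mul_mem h3 (F.Z.inv_mem hz)
      rwa [mul_inv_cancel_right] at h6
    apply hyQ
    rw [hgz x h5]
    exact hx
  rcases F.four with h | ⟨h, hcard⟩
  · exact hcaseA (h _ hT hyQ hy2)
  · rcases h _ hT hyQ hy2 with h1 | ⟨h1, h2⟩
    · exact hcaseA h1
    · exact hyQ (order_four F hgZ hx hT h1 h2 hcard)

end Cfsg.Agent.StdSpFour.CloseFus
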