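import Cfsg.Agent.StdSpFour.CloseBase
import Cfsg.Agent.Lib.CoprimeHyperplane

/-!
# S1778, closing of `U₄(q)`, `U₅(q)`: step (N1)

`N_E(W)` permutes the `q² + 1` points (the `Ka`-conjugates of `Z`), and the stabiliser of `Z` in `N_E(W)` is
`C_E(W) N_{N_E(W)}(T)`.
-/

set_option autoImplicit false
set_option linter.style.haveILetI false

namespace Cfsg.Agent.StdSpFour.CloseNOne

open Subgroup
open Cfsg.Agent.Lib Cfsg.Agent.Lib.GoldschmidtFusion
open Cfsg.Agent.StdSpFour.CloseComp Cfsg.Agent.StdSpFour.CloseFacts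
open Cfsg.Agent.StdSpFour.CloseBase Cfsg.Agent.StdSpFour.CloseBase.Facts
open Cfsg.Agent.StdSpFour.CloseSyl (S0506Stmt card_sylow_main card_eq_index)

universe u

variable {E : Type u} [Group E] [Finite E] (F : Facts E)

/-- an element acting trivially on the factors of `1 ≤ Z ≤ W ∩ Q ≤ W` -/
theorem pow_four {x : E} (h1 : ∀ z ∈ F.Z, x * z = z * x) (h2 : ∀ w ∈ F.W, w ∈ F.Q → x * w * x⁻¹ * w⁻¹ ∈ F.Z)
    (h3 : ∀ w ∈ F.W, x * w * x⁻¹ * w⁻¹ ∈ F.W ∧ x * w * x⁻¹ * w⁻¹ ∈ F.Q) {w : E} (hw : w ∈ F.W) :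
    x ^ 4 * w = w * x ^ 4 := by
  have hq : ∀ y : E, x ^ 2 * y * (x ^ 2)⁻¹ = x * (x * y * x⁻¹) * x⁻¹ := fun y => by rw [pow_two]; group
  have hsq : ∀ w ∈ F.W, ∃ z ∈ F.Z, x ^ 2 * w * (x ^ 2)⁻¹ = w * z := by
    intro w hw
    obtain ⟨h4, h5⟩ := h3 w hw
    set a := x * w * x⁻¹ * w⁻¹ with ha
    have h6 := h2 a h4 h5
    set b := x * a * x⁻¹ * a⁻¹ with hb
    refine ⟨b, h6, ?_⟩
    have e1 : x * w * x⁻¹ = a * w := by rw [ha]; group
    have e2 : x * a * x⁻¹ = b * a := by rw [hb]; group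
    have haw := W_comm F h4 hw
    have hbW := F.Z_le_W h6
    have hba := W_comm F hbW h4
    calc x ^ 2 * w * (x ^ 2)⁻¹ = x * (x * w * x⁻¹) * x⁻¹ := hq w
      _ = x * (a * w) * x⁻¹ := by rw [e1]
      _ = (x * a * x⁻¹) * (x * w * x⁻¹) := by group
      _ = (b * a) * (a * w) := by rw [e1, e2]
      _ = b * (a * a) * w := by group
      _ = b * w := by rw [F.W_sq a h4]; group
      _ = w * b := W_comm F hbW hw
  obtain ⟨z, hz, h4⟩ := hsq w hw
  have h5 : x ^ 2 * z = z * x ^ 2 := by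
    have h6 : Commute x z := h1 z hz
    exact h6.pow_left 2
  have h7 : x ^ 4 * w * (x ^ 4)⁻¹ = w := by
    calc x ^ 4 * w * (x ^ 4)⁻¹ = x ^ 2 * (x ^ 2 * w * (x ^ 2)⁻¹) * (x ^ 2)⁻¹ := by
          have : x ^ 4 = x ^ 2 * x ^ 2 := by rw [← pow_add]
          rw [this]; group
      _ = x ^ 2 * (w * z) * (x ^ 2)⁻¹ := by rw [h4]
      _ = (x ^ 2 * w * (x ^ 2)⁻¹) * (x ^ 2 * z * (x ^ 2)⁻¹) := by group
      _ = (w * z) * z := by
        rw [h4]
        have : x ^ 2 * z * (x ^ 2)⁻¹ = z := by rw [h5]; group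
        rw [this]
      _ = w := by rw [mul_assoc, F.Z_sq z hz, mul_one]
  calc x ^ 4 * w = x ^ 4 * w * (x ^ 4)⁻¹ * x ^ 4 := by group
    _ = w * x ^ 4 := by rw [h7]

/-- the quotient `N_E(W)/C_E(W)` -/
abbrev N : Subgroup E := normalizer (F.W : Set E)

abbrev C : Subgroup (N F) := (centralizer (F.W : Set E)).subgroupOf (N F)

instance C_normal : (C F).Normal := by
  refine ⟨fun c hc g => ?_⟩
  change (g : E) * c * (g : E)⁻¹ ∈ centralizer (F.W : Set E)
  have hc' : (c : E) ∈ centralizer (F.W : Set E) := hc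
  rw [mem_centralizer_iff] at hc' ⊢
  intro w hw
  have h1 : (g : E)⁻¹ * w * g ∈ F.W := by
    have h2 := (mem_normalizer_iff.1 ((N F).inv_mem g.2) w).1 hw
    rwa [inv_inv] at h2
  have h3 := hc' _ h1
  calc w * ((g : E) * c * (g : E)⁻¹) = g * (((g : E)⁻¹ * w * g) * c) * (g : E)⁻¹ := by group
    _ = g * (c * ((g : E)⁻¹ * w * g)) * (g : E)⁻¹ := by rw [h3]
    _ = _ := by group

abbrev M : Type u := N F ⧸ C F

abbrev π : N F →* M F := QuotientGroup.mk' (C F)

theorem π_surj : Function.Surjective (π F) := QuotientGroup.mk'_surjective (C F)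

theorem π_eq_one {x : N F} : π F x = 1 ↔ ∀ w ∈ F.W, (x : E) * w = w * x := by
  rw [QuotientGroup.mk'_apply, QuotientGroup.eq_one_iff]
  change (x : E) ∈ centralizer (F.W : Set E) ↔ _
  rw [mem_centralizer_iff]
  exact ⟨fun h w hw => (h w hw).symm, fun h w hw => (h w hw).symm⟩

theorem π_eq {x y : N F} : π F x = π F y ↔ ∀ w ∈ F.W, (x : E) * w * (x : E)⁻¹ = y * w * (y : E)⁻¹ := by
  have h0 : π F x = π F y ↔ π F (y⁻¹ * x) = 1 := by
    rw [map_mul, map_inv, inv_mul_eq_one, eq_comm]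
  rw [h0, π_eq_one]
  constructor
  · intro h w hw
    have h1 := h w hw
    change (y : E)⁻¹ * x * w = w * ((y : E)⁻¹ * x) at h1
    calc (x : E) * w * (x : E)⁻¹ = y * ((y : E)⁻¹ * x * w) * (x : E)⁻¹ := by group
      _ = y * (w * ((y : E)⁻¹ * x)) * (x : E)⁻¹ := by rw [h1]
      _ = _ := by group
  · intro h w hw
    have h1 := h w hw
    change (y : E)⁻¹ * x * w = w * ((y : E)⁻¹ * x)
    calc (y : E)⁻¹ * x * w = (y : E)⁻¹ * (x * w * (x : E)⁻¹) * x := by group
      _ = (y : E)⁻¹ * (y * w * (y : E)⁻¹) * x := by rw [h1]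
      _ = _ := by group

/-- the Sylow subgroup `A₁ = T/C_T(W)` -/
noncomputable def A : Sylow 2 (M F) := (F.T.subtype (T_le_NW F)).mapSurjective (π_surj F)

theorem mem_A {x : M F} : x ∈ (A F : Subgroup (M F)) ↔ ∃ s : N F, (s : E) ∈ (F.T : Subgroup E) ∧ π F s = x :=
  Iff.rfl

theorem card_A : Nat.card (A F : Subgroup (M F)) = F.q ^ 2 := by
  haveI : Fact (Nat.Prime 2) := ⟨Nat.prime_two⟩
  set T' : Subgroup (N F) := (F.T : Subgroup E).subgroupOf (N F) with hT'
  have hTN := T_le_NW F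
  have h0 : (A F : Subgroup (M F)) = T'.map (π F) := rfl
  -- `|T'| = |T' π| |T' ∩ ker|`
  let f : T' →* M F := (π F).comp T'.subtype
  have h1 : Nat.card f.range = f.ker.index := by
    rw [Subgroup.index_ker]
  have h2 : f.range = T'.map (π F) := by
    rw [MonoidHom.range_comp, range_subtype]
  have h3 : Nat.card f.ker = Nat.card ↥((F.T : Subgroup E) ⊓ centralizer (F.W : Set E)) := by
    refine Nat.card_congr
      { toFun := fun x => ⟨((x : T') : N F), x.1.2, ?_⟩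
        invFun := fun x => ⟨⟨⟨x.1, hTN x.2.1⟩, x.2.1⟩, ?_⟩
        left_inv := fun _ => rfl
        right_inv := fun _ => rfl }
    · have h4 : π F ((x : T') : N F) = 1 := x.2
      rw [π_eq_one] at h4
      change ((x : T') : E) ∈ centralizer (F.W : Set E)
      rw [mem_centralizer_iff]
      exact fun w hw => (h4 w hw).symm
    · change π F ⟨x.1, hTN x.2.1⟩ = 1
      rw [π_eq_one]
      exact fun w hw => (mem_centralizer_iff.1 x.2.2 w hw).symm
  have h4 : Nat.card T' = Nat.card (F.T : Subgroup E) :=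
    Nat.card_congr (subgroupOfEquivOfLe hTN).toEquiv
  have h5 := f.ker.card_mul_index
  rw [← h1, h2, ← h0, h3, h4, F.R_card] at h5
  have h6 : 0 < Nat.card ↥((F.T : Subgroup E) ⊓ centralizer (F.W : Set E)) := Nat.card_pos
  have h7 : Nat.card (A F : Subgroup (M F)) * Nat.card ↥((F.T : Subgroup E) ⊓ centralizer (F.W : Set E)) =
      F.q ^ 2 * Nat.card ↥((F.T : Subgroup E) ⊓ centralizer (F.W : Set E)) := by
    rw [← h5]; ring
  exact Nat.eq_of_mul_eq_mul_right h6 h7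

theorem A_sq {x : M F} (hx : x ∈ (A F : Subgroup (M F))) : x * x = 1 := by
  obtain ⟨s, hs, rfl⟩ := (mem_A F).1 hx
  rw [← map_mul, π_eq_one]
  intro w hw
  exact F.R_sq s hs w hw

/-- `O(N_E(W)/C_E(W))` centralises `A₁`. -/
theorem core_comm {o : M F} (ho : o ∈ Cfsg.oddCore (M F)) {x : M F} (hx : x ∈ (A F : Subgroup (M F))) :
    o * x = x * o := by
  haveI : Fact (Nat.Prime 2) := ⟨Nat.prime_two⟩
  set O := Cfsg.oddCore (M F) with hO
  have hOcop : (Nat.card O).Coprime 2 := Cores.pPrimeCore_coprime (G := M F) 2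
  have hOn : O.Normal := Cores.pPrimeCore_normal (G := M F) 2
  have hA : Cfsg.IsElementaryAbelian 2 (A F : Subgroup (M F)) := by
    refine ⟨⟨⟨fun a b => Subtype.ext (comm_of_sq (fun x hx => A_sq F hx) a.2 b.2)⟩⟩, fun a ha => ?_⟩
    rw [pow_two]
    exact A_sq F ha
  have h4 := F.h4
  have hA1 : (A F : Subgroup (M F)) ≠ ⊥ := by
    intro h
    have h1 := card_A F
    rw [h, card_bot] at h1
    nlinarith
  have hO2 : ¬ 2 ∣ Nat.card O := by
    intro h
    exact (Nat.Prime.coprime_iff_not_dvd Nat.prime_two).1 hOcop.symm h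
  have hmain := CoprimeHyperplane.iSup_centralizer_hyperplane (p := 2) hA hA1 hO2
    (by
      intro a _
      rw [normalizer_eq_top]
      exact mem_top a)
  have hle : O ≤ centralizer ((A F : Subgroup (M F)) : Set (M F)) := by
    rw [← hmain]
    refine iSup_le ?_
    rintro ⟨B, hBA, hBi⟩ d ⟨hdO, hdB⟩
    rw [mem_centralizer_iff]
    intro a ha
    obtain ⟨g, rfl⟩ := π_surj F d
    obtain ⟨s, hs, rfl⟩ := (mem_A F).1 ha
    -- the preimage of `B` in `T`
    set B' : Subgroup E := (B.comap (π F)).map (N F).subtype ⊓ (F.T : Subgroup E) with hB'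
    have hTN := T_le_NW F
    have hB'mem : ∀ x : N F, (x : E) ∈ (F.T : Subgroup E) → π F x ∈ B → (x : E) ∈ B' := fun x hx hxB =>
      ⟨⟨x, hxB, rfl⟩, hx⟩
    have hB'mem' : ∀ x : N F, (x : E) ∈ B' → π F x ∈ B := by
      rintro x ⟨⟨y, hy, hyx⟩, -⟩
      have : y = x := Subtype.ext hyx
      rw [← this]
      exact hy
    have hRB : (F.T : Subgroup E) ⊓ centralizer (F.W : Set E) ≤ B' := by
      rintro x ⟨hxT, hxC⟩
      apply hB'mem ⟨x, hTN hxT⟩ hxT
      have h1 : π F ⟨x, hTN hxT⟩ = 1 := by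
        rw [π_eq_one]
        exact fun w hw => (mem_centralizer_iff.1 hxC w hw).symm
      rw [h1]
      exact B.one_mem
    have hB'T : B' ≤ (F.T : Subgroup E) := inf_le_right
    have hcardB : 2 * Nat.card B' = Nat.card (F.T : Subgroup E) := by
      -- `[T : B'] = [A : B] = 2`
      have h1 : B'.relIndex (F.T : Subgroup E) = 2 := by
        have h2 : B'.relIndex (F.T : Subgroup E) =
            (B'.subgroupOf (N F)).relIndex ((F.T : Subgroup E).subgroupOf (N F)) := by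
          rw [relIndex_subgroupOf hTN]
        have h3 : B'.subgroupOf (N F) = B.comap (π F) ⊓ (F.T : Subgroup E).subgroupOf (N F) := by
          ext x
          constructor
          · intro hx
            exact ⟨hB'mem' x hx, hB'T hx⟩
          · rintro ⟨h5, h6⟩
            exact hB'mem x h6 h5
        rw [h2, h3, inf_relIndex_right, relIndex_comap]
        exact hBi
      have h2 := SylowNormalInf.card_mul_relIndex B' (F.T : Subgroup E) hB'T
      rw [h1] at h2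
      omega
    -- `g` normalises `Z`
    have hdB' : ∀ x ∈ B', ∃ c : E, c ∈ centralizer (F.W : Set E) ∧ (g : E)⁻¹ * x * g = c * x := by
      intro x hx
      have hxN : x ∈ N F := hTN (hB'T hx)
      have h1 : π F ⟨x, hxN⟩ ∈ B := hB'mem' ⟨x, hxN⟩ hx
      have h2 := mem_centralizer_iff.1 hdB _ h1
      have h3 : π F (g⁻¹ * ⟨x, hxN⟩ * g * (⟨x, hxN⟩)⁻¹) = 1 := by
        rw [map_mul, map_mul, map_mul, map_inv, map_inv, mul_assoc (π F g)⁻¹, h2]
        group
      rw [π_eq_one] at h3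
      refine ⟨(g : E)⁻¹ * x * g * x⁻¹, ?_, by group⟩
      rw [mem_centralizer_iff]
      exact fun w hw => (h3 w hw).symm
    have hgW : ∀ w ∈ F.W, (g : E) * w * (g : E)⁻¹ ∈ F.W := fun w hw => (mem_normalizer_iff.1 g.2 w).1 hw
    have hconjact : ∀ x ∈ B', ∀ w ∈ F.W, x * (g * w * (g : E)⁻¹) * x⁻¹ = g * (x * w * x⁻¹) * (g : E)⁻¹ := by
      intro x hx w hw
      obtain ⟨c, hc, h1⟩ := hdB' x hx
      have h2 : x * g = g * (c * x) := by rw [← h1]; group
      have h3 : x * w * x⁻¹ ∈ F.W := W_conj F (hB'T hx) hw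
      have h4 := mem_centralizer_iff.1 hc _ h3
      calc x * (g * w * (g : E)⁻¹) * x⁻¹ = (x * g) * w * (x * g)⁻¹ := by group
        _ = g * (c * (x * w * x⁻¹)) * c⁻¹ * (g : E)⁻¹ := by rw [h2]; group
        _ = g * ((x * w * x⁻¹) * c) * c⁻¹ * (g : E)⁻¹ := by rw [h4]
        _ = _ := by group
    have hgZ : ∀ z ∈ F.Z, (g : E) * z * (g : E)⁻¹ ∈ F.Z := by
      intro z hz
      apply F.hyp_one B' hRB hB'T hcardB _ (hgW z (F.Z_le_W hz))
      intro x hx
      have h1 := hconjact x hx z (F.Z_le_W hz)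
      have h2 : x * z * x⁻¹ = z := by rw [← F.Z_cent z hz x (hB'T hx)]; group
      rw [h2] at h1
      calc x * (g * z * (g : E)⁻¹) = x * (g * z * (g : E)⁻¹) * x⁻¹ * x := by group
        _ = g * z * (g : E)⁻¹ * x := by rw [h1]
    have hgQ : ∀ w ∈ F.W, w ∈ F.Q → (g : E) * w * (g : E)⁻¹ ∈ F.Q := by
      intro w hw hwQ
      apply F.hyp_two B' hRB hB'T hcardB _ (hgW w hw)
      intro x hx
      have h1 := hconjact x hx w hw
      have h2 : x * (g * w * (g : E)⁻¹) * x⁻¹ * (g * w * (g : E)⁻¹)⁻¹ = g * (x * w * x⁻¹ * w⁻¹) * (g : E)⁻¹ := by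
        rw [h1]; group
      rw [h2]
      exact hgZ _ (F.T_WQ x (hB'T hx) w hw hwQ)
    have hgin : (g : E) ∈ normalizer (F.Z : Set E) := mem_normalizer_of hgZ
    have hgZ' : ∀ z ∈ F.Z, (g : E)⁻¹ * z * g ∈ F.Z := by
      intro z hz
      have h1 := (mem_normalizer_iff.1 ((normalizer (F.Z : Set E)).inv_mem hgin) z).1 hz
      rwa [inv_inv] at h1
    have hgW' : ∀ w ∈ F.W, (g : E)⁻¹ * w * g ∈ F.W := by
      intro w hw
      have h1 := (mem_normalizer_iff.1 ((N F).inv_mem g.2) w).1 hw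
      rwa [inv_inv] at h1
    have hgWQ : (g : E) ∈ normalizer ((F.W ⊓ F.Q : Subgroup E) : Set E) :=
      mem_normalizer_of fun w hw => ⟨hgW w hw.1, hgQ w hw.1 hw.2⟩
    have hgQ' : ∀ w ∈ F.W, w ∈ F.Q → (g : E)⁻¹ * w * g ∈ F.Q := by
      intro w hw hwQ
      have h1 := (mem_normalizer_iff.1 ((normalizer ((F.W ⊓ F.Q : Subgroup E) : Set E)).inv_mem hgWQ) w).1 ⟨hw, hwQ⟩
      rw [inv_inv] at h1
      exact h1.2
    -- the commutator
    set c : N F := g * s * g⁻¹ * s⁻¹ with hc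
    have hsT : (s : E) ∈ (F.T : Subgroup E) := hs
    have hcomm : ∀ w : E, (c : E) * w * (c : E)⁻¹ =
        g * (s * ((g : E)⁻¹ * ((s : E)⁻¹ * w * s) * g) * (s : E)⁻¹) * (g : E)⁻¹ := by
      intro w
      change (g : E) * s * (g : E)⁻¹ * (s : E)⁻¹ * w * ((g : E) * s * (g : E)⁻¹ * (s : E)⁻¹)⁻¹ = _
      group
    have hs' : (s : E)⁻¹ ∈ (F.T : Subgroup E) := (F.T : Subgroup E).inv_mem hsT
    have hc1 : ∀ z ∈ F.Z, (c : E) * z = z * c := by
      intro z hz
      have h1 : (c : E) * z * (c : E)⁻¹ = z := by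
        rw [hcomm]
        have h2 : (s : E)⁻¹ * z * s = z := by rw [← F.Z_cent z hz _ hs']; group
        rw [h2]
        have h3 := F.Z_cent _ (hgZ' z hz) _ hsT
        have h5 : (s : E) * ((g : E)⁻¹ * z * g) * (s : E)⁻¹ = (g : E)⁻¹ * z * g := by rw [← h3]; group
        rw [h5]; group
      calc (c : E) * z = c * z * (c : E)⁻¹ * c := by group
        _ = z * c := by rw [h1]
    have hc3 : ∀ w ∈ F.W, (c : E) * w * (c : E)⁻¹ * w⁻¹ ∈ F.W ∧ (c : E) * w * (c : E)⁻¹ * w⁻¹ ∈ F.Q := by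
      intro w hw
      -- `w' = s⁻¹ w s = w a`, `a ∈ W ∩ Q`
      have hw1 : (s : E)⁻¹ * w * s ∈ F.W := by
        have := W_conj F hs' hw
        rwa [inv_inv] at this
      set u := (g : E)⁻¹ * ((s : E)⁻¹ * w * s) * g with hu
      have huW : u ∈ F.W := hgW' _ hw1
      have h1 : (c : E) * w * (c : E)⁻¹ * w⁻¹ =
          (g * (s * u * (s : E)⁻¹ * u⁻¹) * (g : E)⁻¹) * ((s : E)⁻¹ * w * s * w⁻¹) := by
        rw [hcomm, ← hu]
        have h2 : (s : E)⁻¹ * w * s = g * u * (g : E)⁻¹ := by rw [hu]; group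
        rw [h2]; group
      have h2 : (s : E) * u * (s : E)⁻¹ * u⁻¹ ∈ F.W := F.W.mul_mem (W_conj F hsT huW) (F.W.inv_mem huW)
      have h3 := F.T_W _ hsT u huW
      have h5 : (s : E)⁻¹ * w * s * w⁻¹ ∈ F.W := F.W.mul_mem hw1 (F.W.inv_mem hw)
      have h6 := F.T_W _ hs' w hw
      rw [inv_inv] at h6
      rw [h1]
      exact ⟨F.W.mul_mem (hgW _ h2) h5, F.Q.mul_mem (hgQ _ h2 h3) h6⟩
    have hc2 : ∀ w ∈ F.W, w ∈ F.Q → (c : E) * w * (c : E)⁻¹ * w⁻¹ ∈ F.Z := by
      intro w hw hwQ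
      have hw1 : (s : E)⁻¹ * w * s ∈ F.W := by
        have := W_conj F hs' hw
        rwa [inv_inv] at this
      have hw2 : (s : E)⁻¹ * w * s ∈ F.Q := by
        have := Q_conj F hs' hwQ
        rwa [inv_inv] at this
      set u := (g : E)⁻¹ * ((s : E)⁻¹ * w * s) * g with hu
      have huW : u ∈ F.W := hgW' _ hw1
      have huQ : u ∈ F.Q := hgQ' _ hw1 hw2
      have h1 : (c : E) * w * (c : E)⁻¹ * w⁻¹ =
          (g * (s * u * (s : E)⁻¹ * u⁻¹) * (g : E)⁻¹) * ((s : E)⁻¹ * w * s * w⁻¹) := by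
        rw [hcomm, ← hu]
        have h2 : (s : E)⁻¹ * w * s = g * u * (g : E)⁻¹ := by rw [hu]; group
        rw [h2]; group
      have h3 := F.T_WQ _ hsT u huW huQ
      have h6 := F.T_WQ _ hs' w hw hwQ
      rw [inv_inv] at h6
      rw [h1]
      exact F.Z.mul_mem (hgZ _ h3) h6
    have hc4 : (π F c) ^ 4 = 1 := by
      rw [← map_pow, π_eq_one]
      intro w hw
      exact pow_four F hc1 hc2 hc3 hw
    have hcO : π F c ∈ O := by
      have h1 : π F c = π F g * (π F s * (π F g)⁻¹ * (π F s)⁻¹) := by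
        rw [hc, map_mul, map_mul, map_mul, map_inv, map_inv]; group
      rw [h1]
      exact O.mul_mem hdO (hOn.conj_mem _ (O.inv_mem hdO) _)
    have hc5 : π F c = 1 := by
      have h1 : orderOf (π F c) ∣ 2 ^ 2 := orderOf_dvd_of_pow_eq_one (by rw [show (2 : ℕ) ^ 2 = 4 from rfl]; exact hc4)
      have h2 : orderOf (π F c) ∣ Nat.card O := by
        rw [← Subgroup.orderOf_mk _ hcO]; exact orderOf_dvd_natCard _
      have h3 : (2 ^ 2).Coprime (Nat.card O) := Nat.Coprime.pow_left 2 hOcop.symm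
      have h5 : orderOf (π F c) ∣ 1 := by
        rw [← h3]; exact Nat.dvd_gcd h1 h2
      exact orderOf_eq_one_iff.1 (Nat.dvd_one.1 h5)
    rw [hc, map_mul, map_mul, map_mul, map_inv, map_inv] at hc5
    calc π F s * π F g = (π F g * π F s * (π F g)⁻¹ * (π F s)⁻¹)⁻¹ * (π F g * π F s) := by group
      _ = π F g * π F s := by rw [hc5]; group
  exact (mem_centralizer_iff.1 (hle ho) x hx).symm

/-- `N_E(W)/C_E(W)` has `q² + 1` Sylow 2-subgroups. -/
theorem card_sylow (h0506 : S0506Stmt.{u}) : Nat.card (Sylow 2 (M F)) = F.q ^ 2 + 1 := by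
  have h4 := F.h4
  rw [← card_A F]
  have hTN := T_le_NW F
  apply card_sylow_main h0506 (A F) (fun x hx => A_sq F hx)
  · rw [card_A]; nlinarith
  · -- the torus
    intro x hx hx1 y hy hy1
    obtain ⟨s, hs, rfl⟩ := (mem_A F).1 hx
    obtain ⟨r, hr, rfl⟩ := (mem_A F).1 hy
    have hs1 : ∃ w ∈ F.W, (s : E) * w ≠ w * s := by
      by_contra hcon
      push Not at hcon
      exact hx1 ((π_eq_one F).2 hcon)
    have hr1 : ∃ w ∈ F.W, (r : E) * w ≠ w * r := by
      by_contra hcon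
      push Not at hcon
      exact hy1 ((π_eq_one F).2 hcon)
    obtain ⟨h, hT, hW⟩ := F.trans s hs hs1 r hr hr1
    have hhT : h ∈ normalizer ((F.T : Subgroup E) : Set E) := mem_normalizer_of hT
    have hhN : h ∈ N F := NT_le_NW F hhT
    refine ⟨π F ⟨h, hhN⟩, ?_, ?_⟩
    · rw [mem_normalizer_iff_map_conj]
      apply map_conj_le_of_le_normalizer
      rintro _ ⟨_, ⟨a, ha, rfl⟩, rfl⟩
      exact ⟨⟨h, hhN⟩ * a * ⟨h, hhN⟩⁻¹, hT a ha, by rw [map_mul, map_mul, map_inv]; rfl⟩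
    · rw [← map_inv, ← map_mul, ← map_mul, ← mul_inv_eq_one, ← map_inv, ← map_mul, π_eq_one]
      exact hW
  · intro o ho x hx
    exact core_comm F ho hx
  · -- `A₁ ∩ A₁^{n_a} = 1`
    have hnaN : F.na ∈ N F := Ka_le_NW F F.na_mem
    refine ⟨π F ⟨F.na, hnaN⟩, ?_⟩
    intro x hx hx'
    obtain ⟨s, hs, rfl⟩ := (mem_A F).1 hx
    obtain ⟨r, hr, hr'⟩ := (mem_A F).1 hx'
    rw [← map_inv, ← map_mul, ← map_mul, π_eq] at hr'
    have hact : ∀ w ∈ F.W, (r : E) * w * (r : E)⁻¹ = (F.na * s * F.na⁻¹) * w * (F.na * s * F.na⁻¹)⁻¹ := hr'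
    have hrW : ∀ w ∈ F.W, (r : E) * w = w * r := by
      apply F.Xb_cent r hr
      intro z hz
      have h1 := hact _ (F.Ka_W _ F.na_mem z (F.Z_le_W hz))
      have h2 := F.Z_cent z hz s hs
      have h3 : (F.na * s * F.na⁻¹) * (F.na * z * F.na⁻¹) * (F.na * s * F.na⁻¹)⁻¹ = F.na * z * F.na⁻¹ := by
        calc (F.na * s * F.na⁻¹) * (F.na * z * F.na⁻¹) * (F.na * s * F.na⁻¹)⁻¹
            = F.na * (s * z) * (s : E)⁻¹ * F.na⁻¹ := by group
          _ = F.na * (z * s) * (s : E)⁻¹ * F.na⁻¹ := by rw [h2]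
          _ = _ := by group
      rw [h3] at h1
      calc (r : E) * (F.na * z * F.na⁻¹) = r * (F.na * z * F.na⁻¹) * (r : E)⁻¹ * r := by group
        _ = _ := by rw [h1]
    rw [π_eq_one]
    intro w hw
    have h1 := F.Ka_W _ F.na_mem w hw
    have h2 := hact _ h1
    have h3 : (r : E) * (F.na * w * F.na⁻¹) * (r : E)⁻¹ = F.na * w * F.na⁻¹ := by
      rw [hrW _ h1]; group
    rw [h3] at h2
    have h5 : (F.na * s * F.na⁻¹) * (F.na * w * F.na⁻¹) * (F.na * s * F.na⁻¹)⁻¹ =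
        F.na * (s * w * (s : E)⁻¹) * F.na⁻¹ := by group
    rw [h5] at h2
    have h6 : (s : E) * w * (s : E)⁻¹ = w := by
      calc (s : E) * w * (s : E)⁻¹ = F.na⁻¹ * (F.na * (s * w * (s : E)⁻¹) * F.na⁻¹) * F.na := by group
        _ = F.na⁻¹ * (F.na * w * F.na⁻¹) * F.na := by rw [← h2]
        _ = w := by group
    calc (s : E) * w = s * w * (s : E)⁻¹ * s := by group
      _ = w * s := by rw [h6]

/-- the conjugates of `Z` under `N_E(W)` -/
def pt (g : N F) : Subgroup E := F.Z.map (MulAut.conj (g : E)).toMonoidHom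

/-- the stabiliser of `Z` -/
def St : Subgroup (N F) := (normalizer (F.Z : Set E)).subgroupOf (N F)

theorem pt_eq_iff (a b : N F) : pt F a = pt F b ↔ a⁻¹ * b ∈ St F := by
  unfold pt St
  rw [mem_subgroupOf, mem_normalizer_iff_map_conj]
  change _ ↔ F.Z.map (MulAut.conj ((a : E)⁻¹ * b)).toMonoidHom = F.Z
  rw [← map_conj_map_conj]
  constructor
  · intro h
    rw [← h, map_conj_map_conj, inv_mul_cancel, map_conj_one]
  · intro h
    have h1 := congrArg (fun K => K.map (MulAut.conj (a : E)).toMonoidHom) h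
    simp only [map_conj_map_conj] at h1
    rw [← h1, ← mul_assoc, mul_inv_cancel, one_mul]

/-- the normaliser of `T C_E(W)` in `N_E(W)` -/
def NT : Subgroup (N F) := (normalizer ((A F : Subgroup (M F)) : Set (M F))).comap (π F)

theorem NT_index (h0506 : S0506Stmt.{u}) : (NT F).index = F.q ^ 2 + 1 := by
  haveI : Fact (Nat.Prime 2) := ⟨Nat.prime_two⟩
  rw [← card_sylow F h0506, (A F).card_eq_index_normalizer]
  exact index_comap_of_surjective _ (π_surj F)

theorem NT_le_St : NT F ≤ St F := by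
  intro g hg
  have hgN : (g : E) ∈ normalizer (F.W : Set E) := g.2
  have hg' : π F g ∈ normalizer ((A F : Subgroup (M F)) : Set (M F)) := hg
  change (g : E) ∈ normalizer (F.Z : Set E)
  apply mem_normalizer_of
  intro z hz
  have hzW : (g : E) * z * (g : E)⁻¹ ∈ F.W := (mem_normalizer_iff.1 hgN z).1 (F.Z_le_W hz)
  apply mem_Z_of_comm F (F.W_le hzW)
  intro x hx
  -- `x ≡ g s g⁻¹` on `W`
  have h1 : π F ⟨x, T_le_NW F hx⟩ ∈ (A F : Subgroup (M F)) := (mem_A F).2 ⟨_, hx, rfl⟩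
  have h2 := (mem_normalizer_iff.1 ((normalizer ((A F : Subgroup (M F)) : Set (M F))).inv_mem hg') _).1 h1
  rw [inv_inv] at h2
  obtain ⟨s, hs, hs'⟩ := (mem_A F).1 h2
  have h3 : π F (g * s * g⁻¹) = π F ⟨x, T_le_NW F hx⟩ := by
    rw [map_mul, map_mul, map_inv, hs']; group
  rw [π_eq] at h3
  have h4 := h3 _ hzW
  have h5 := F.Z_cent z hz s hs
  have h6 : ((g * s * g⁻¹ : N F) : E) * (g * z * (g : E)⁻¹) * ((g * s * g⁻¹ : N F) : E)⁻¹ = g * z * (g : E)⁻¹ := by
    change (g : E) * s * (g : E)⁻¹ * (g * z * (g : E)⁻¹) * ((g : E) * s * (g : E)⁻¹)⁻¹ = _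
    calc (g : E) * s * (g : E)⁻¹ * (g * z * (g : E)⁻¹) * ((g : E) * s * (g : E)⁻¹)⁻¹
        = g * (s * z) * (s : E)⁻¹ * (g : E)⁻¹ := by group
      _ = g * (z * s) * (s : E)⁻¹ * (g : E)⁻¹ := by rw [h5]
      _ = _ := by group
  rw [h6] at h4
  calc (g : E) * z * (g : E)⁻¹ * x = (x * (g * z * (g : E)⁻¹) * x⁻¹) * x := by
        exact congrArg (fun y => y * x) h4
    _ = x * (g * z * (g : E)⁻¹) := by group

/-- the `Ka`-conjugates of `Z`: at least `q² + 1` -/
theorem card_pt_Ka : F.q ^ 2 + 1 ≤ (Set.range fun k : F.Ka => F.Z.map (MulAut.conj (k : E)).toMonoidHom).ncard := by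
  classical
  haveI := Fintype.ofFinite E
  have h4 := F.h4
  set P := Set.range fun k : F.Ka => F.Z.map (MulAut.conj (k : E)).toMonoidHom with hP
  have hPfin : P.Finite := Set.toFinite P
  have hsub : F.S.toFinset ⊆ hPfin.toFinset.biUnion fun Y => ((Y : Set E) \ {1}).toFinset := by
    intro x hx
    rw [Set.mem_toFinset] at hx
    obtain ⟨k, hk, z, hz, hz1, rfl⟩ := (F.S_iff x).1 hx
    rw [Finset.mem_biUnion]
    refine ⟨F.Z.map (MulAut.conj k).toMonoidHom, ?_, ?_⟩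
    · rw [Set.Finite.mem_toFinset]
      exact ⟨⟨k, hk⟩, rfl⟩
    · rw [Set.mem_toFinset]
      exact ⟨⟨z, hz, rfl⟩, S_ne_one F hx⟩
  have hcardY : ∀ Y ∈ hPfin.toFinset, (((Y : Set E) \ {1}).toFinset).card ≤ F.q - 1 := by
    intro Y hY
    rw [Set.Finite.mem_toFinset] at hY
    obtain ⟨k, rfl⟩ := hY
    have h1 : (1 : E) ∈ ((F.Z.map (MulAut.conj (k : E)).toMonoidHom : Subgroup E) : Set E) := one_mem _
    have h2 := Set.ncard_sdiff_singleton_of_mem h1
    rw [Set.ncard_eq_toFinset_card'] at h2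
    rw [h2, ← Nat.card_coe_set_eq]
    have h3 : Nat.card ((F.Z.map (MulAut.conj (k : E)).toMonoidHom : Subgroup E) : Set E) = F.q := by
      rw [← F.Z_card]
      exact card_map_conj F.Z (k : E)
    rw [h3]
  have h1 := (Finset.card_le_card hsub).trans (Finset.card_biUnion_le_card_mul _ _ _ hcardY)
  have h2 : Nat.card F.S = F.S.toFinset.card := by rw [Nat.card_eq_fintype_card, Set.toFinset_card]
  rw [← h2, F.S_card, ← Set.ncard_eq_toFinset_card P hPfin] at h1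
  exact Nat.le_of_mul_le_mul_right h1 (by omega)

/-- the stabiliser of `Z` in `N_E(W)` is `NT`, and `N_E(W)` permutes the points -/
theorem St_eq (h0506 : S0506Stmt.{u}) : St F = NT F ∧
    ∀ g : N F, ∃ k ∈ F.Ka, pt F g = F.Z.map (MulAut.conj k).toMonoidHom := by
  classical
  have h1 : Nat.card (Set.range (pt F)) = (St F).index := by
    apply card_eq_index (St F) (Set.rangeFactorization (pt F)) Set.rangeFactorization_surjective
    intro a b
    rw [← pt_eq_iff]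
    constructor
    · intro h; exact congrArg Subtype.val h
    · intro h; exact Subtype.ext h
  have h2 : (Set.range fun k : F.Ka => F.Z.map (MulAut.conj (k : E)).toMonoidHom) ⊆ Set.range (pt F) := by
    rintro _ ⟨k, rfl⟩
    exact ⟨⟨k, Ka_le_NW F k.2⟩, rfl⟩
  have h3 := card_pt_Ka F
  have h4 := Set.ncard_le_ncard h2 (Set.toFinite _)
  rw [Nat.card_coe_set_eq] at h1
  have h5 : (St F).index ∣ (NT F).index := index_dvd_of_le (NT_le_St F)
  have h6 := NT_index F h0506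
  have h7 : (St F).index ≤ (NT F).index := Nat.le_of_dvd (by rw [h6]; omega) h5
  have h8 : (St F).index = (NT F).index := by
    apply le_antisymm h7
    rw [h6, ← h1]
    exact h3.trans h4
  refine ⟨?_, ?_⟩
  · symm
    apply eq_of_le_of_card_ge (NT_le_St F)
    have h9 := (St F).card_mul_index
    have h10 := (NT F).card_mul_index
    rw [h8] at h9
    have h11 : 0 < (NT F).index := by rw [h6]; omega
    exact (Nat.eq_of_mul_eq_mul_right h11 (h9.trans h10.symm)).le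
  · have h9 : (Set.range fun k : F.Ka => F.Z.map (MulAut.conj (k : E)).toMonoidHom) = Set.range (pt F) := by
      apply Set.eq_of_subset_of_ncard_le h2 _ (Set.toFinite _)
      rw [h1, h8, h6]
      exact h3
    intro g
    have h10 : pt F g ∈ Set.range (pt F) := ⟨g, rfl⟩
    rw [← h9] at h10
    obtain ⟨k, hk⟩ := h10
    exact ⟨k, k.2, hk.symm⟩

/-- (N1a) `N_E(W)` permutes the points. -/
theorem exists_Ka (h0506 : S0506Stmt.{u}) {g : E} (hg : g ∈ normalizer (F.W : Set E)) :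
    ∃ k ∈ F.Ka, F.Z.map (MulAut.conj g).toMonoidHom = F.Z.map (MulAut.conj k).toMonoidHom :=
  (St_eq F h0506).2 ⟨g, hg⟩

/-- (N1b) the stabiliser of `Z` in `N_E(W)` -/
theorem exists_NT (h0506 : S0506Stmt.{u}) {g : E} (hg : g ∈ normalizer (F.W : Set E))
    (hgZ : g ∈ normalizer (F.Z : Set E)) :
    ∃ c ∈ centralizer (F.W : Set E), c * g ∈ normalizer ((F.T : Subgroup E) : Set E) := by
  haveI : Fact (Nat.Prime 2) := ⟨Nat.prime_two⟩
  have h1 : (⟨g, hg⟩ : N F) ∈ NT F := by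
    rw [← (St_eq F h0506).1]
    exact hgZ
  have h2 : π F ⟨g, hg⟩ ∈ normalizer ((A F : Subgroup (M F)) : Set (M F)) := h1
  set H : Subgroup E := (F.T : Subgroup E) ⊔ centralizer (F.W : Set E) with hH
  have hTH : (F.T : Subgroup E) ≤ H := le_sup_left
  have hCn : (F.T : Subgroup E) ≤ normalizer ((centralizer (F.W : Set E) : Subgroup E) : Set E) := by
    intro t ht
    apply mem_normalizer_of
    intro c hc
    rw [mem_centralizer_iff] at hc ⊢
    intro w hw
    have h3 : t⁻¹ * w * t ∈ F.W := by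
      have := W_conj F ((F.T : Subgroup E).inv_mem ht) hw
      rwa [inv_inv] at this
    have h4 := hc _ h3
    calc w * (t * c * t⁻¹) = t * ((t⁻¹ * w * t) * c) * t⁻¹ := by group
      _ = t * (c * (t⁻¹ * w * t)) * t⁻¹ := by rw [h4]
      _ = _ := by group
  have hTg : (F.T : Subgroup E).map (MulAut.conj g).toMonoidHom ≤ H := by
    rintro _ ⟨x, hx, rfl⟩
    change g * x * g⁻¹ ∈ H
    have h3 : π F ⟨x, T_le_NW F hx⟩ ∈ (A F : Subgroup (M F)) := (mem_A F).2 ⟨_, hx, rfl⟩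
    have h4 := (mem_normalizer_iff.1 h2 _).1 h3
    obtain ⟨s, hs, hs'⟩ := (mem_A F).1 h4
    have h5 : π F (s⁻¹ * (⟨g, hg⟩ * ⟨x, T_le_NW F hx⟩ * ⟨g, hg⟩⁻¹)) = 1 := by
      rw [map_mul, map_inv, hs', map_mul, map_mul, map_inv]; group
    rw [π_eq_one] at h5
    have h6 : (s : E)⁻¹ * (g * x * g⁻¹) ∈ centralizer (F.W : Set E) := by
      rw [mem_centralizer_iff]
      exact fun w hw => (h5 w hw).symm
    have h7 : g * x * g⁻¹ = s * ((s : E)⁻¹ * (g * x * g⁻¹)) := by group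
    rw [h7]
    exact mul_mem_sup hs h6
  obtain ⟨n, hn, hnT⟩ := exists_conj_le F.T hTH hTg (F.T.isPGroup'.map _)
  rw [map_conj_map_conj] at hnT
  have h3 := map_conj_le_of_le_normalizer hnT
  obtain ⟨s, hs, c, hc, rfl⟩ := mem_sup_of_conj (Q := (F.T : Subgroup E)) (L := centralizer (F.W : Set E))
    (fun e he x hx => (mem_normalizer_iff.1 (hCn he) x).1 hx) hn
  refine ⟨c, hc, ?_⟩
  have h4 : c * g = s⁻¹ * (s * c * g) := by group
  rw [h4]
  exact (normalizer ((F.T : Subgroup E) : Set E)).mul_mem (le_normalizer ((F.T : Subgroup E).inv_mem hs))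
    (mem_normalizer_iff_map_conj.2 h3)

/-- `N_E(W)` preserves `S` -/
theorem conj_mem_S (h0506 : S0506Stmt.{u}) {g : E} (hg : g ∈ normalizer (F.W : Set E)) {x : E} (hx : x ∈ F.S) :
    g * x * g⁻¹ ∈ F.S := by
  obtain ⟨k, hk, z, hz, hz1, rfl⟩ := (F.S_iff x).1 hx
  have h1 : g * k ∈ normalizer (F.W : Set E) := (normalizer (F.W : Set E)).mul_mem hg (Ka_le_NW F hk)
  obtain ⟨l, hl, h2⟩ := exists_Ka F h0506 h1
  have h3 : (g * k) * z * (g * k)⁻¹ ∈ F.Z.map (MulAut.conj l).toMonoidHom := by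
    rw [← h2]; exact conj_mem_map_conj hz (g * k)
  rw [mem_map_conj] at h3
  refine (F.S_iff _).2 ⟨l, hl, l⁻¹ * ((g * k) * z * (g * k)⁻¹) * l, h3, ?_, by group⟩
  intro h4
  apply hz1
  have h5 : z = (g * k)⁻¹ * (l * (l⁻¹ * ((g * k) * z * (g * k)⁻¹) * l) * l⁻¹) * (g * k) := by group
  rw [h5, h4]; group

/-- a point meeting `Z` is `Z`: elements of `N_E(W)` -/
theorem mem_NZ (h0506 : S0506Stmt.{u}) {g : E} (hg : g ∈ normalizer (F.W : Set E)) {z : E} (hz : z ∈ F.Z) (hz1 : z ≠ 1)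
    (hgz : g * z * g⁻¹ ∈ F.Z) : g ∈ normalizer (F.Z : Set E) := by
  obtain ⟨k, hk, h1⟩ := exists_Ka F h0506 hg
  -- `g⁻¹ k` normalises `Z`; `k` maps some element of `Z` into `Z`
  have h2 : g * z * g⁻¹ ∈ F.Z.map (MulAut.conj k).toMonoidHom := by
    rw [← h1]; exact conj_mem_map_conj hz g
  rw [mem_map_conj] at h2
  have h3 : k⁻¹ * (g * z * g⁻¹) * k ≠ 1 := by
    intro h
    apply hz1
    have h4 : z = g⁻¹ * (k * (k⁻¹ * (g * z * g⁻¹) * k) * k⁻¹) * g := by group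
    rw [h4, h]; group
  have h5 : k * (k⁻¹ * (g * z * g⁻¹) * k) * k⁻¹ ∈ F.Z := by
    have : k * (k⁻¹ * (g * z * g⁻¹) * k) * k⁻¹ = g * z * g⁻¹ := by group
    rwa [this]
  have h6 := F.Ka_TI k hk _ h2 h3 h5
  rw [mem_normalizer_iff_map_conj, h1]
  exact mem_normalizer_iff_map_conj.1 (mem_normalizer_of h6)

/-- elements of `S` and `W \ S` are not conjugate in `E` -/
theorem mem_S_of_conj (h0506 : S0506Stmt.{u}) {g x : E} (hx : x ∈ F.S) (hg : g * x * g⁻¹ ∈ F.W) :
    g * x * g⁻¹ ∈ F.S := by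
  obtain ⟨c, hc, hcg⟩ := exists_NW_of_conj F (S_le_W F hx) hg
  have h1 := conj_mem_S F h0506 hcg hx
  have h2 : c * g * x * (c * g)⁻¹ = g * x * g⁻¹ := by
    calc c * g * x * (c * g)⁻¹ = c * (g * x * g⁻¹) * c⁻¹ := by group
      _ = g * x * g⁻¹ := by rw [hc]; group
  rwa [h2] at h1

end Cfsg.Agent.StdSpFour.CloseNOne
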