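import Cfsg.Agent.StdSpFour.CloseCz
import Cfsg.Agent.TwoFusion.BenderStar

/-!
# S1778, closing of `U₄(q)`, `U₅(q)`: step (N2)

* `disj`: the `N_E(Q)`-conjugates of `U₀ = W ∩ Q` meet in `Z`;
* `exists_Kb`: `N_E(Q)` permutes the `Kb`-conjugates of `U₀`;
* `norm_Q`, `norm_W`: the stabilisers are contained in `N_E(T)`.
-/

set_option autoImplicit false
set_option linter.style.haveILetI false

namespace Cfsg.Agent.StdSpFour.CloseNTwo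

open Subgroup
open Cfsg.Agent.Lib Cfsg.Agent.Lib.GoldschmidtFusion
open Cfsg.Agent.TwoFusion.Gold (TProp)
open Cfsg.Agent.StdSpFour.CloseComp Cfsg.Agent.StdSpFour.CloseFacts
open Cfsg.Agent.StdSpFour.CloseBase Cfsg.Agent.StdSpFour.CloseBase.Facts
open Cfsg.Agent.StdSpFour.CloseNOne Cfsg.Agent.StdSpFour.CloseFus Cfsg.Agent.StdSpFour.CloseLoc
open Cfsg.Agent.StdSpFour.CloseCz
open Cfsg.Agent.StdSpFour.CloseSyl (S0506Stmt card_eq_index)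

universe u

/-- 2-transitivity -/
theorem two_trans {G : Type u} [Group G] [Finite G] {H : Subgroup G} (hH : Cfsg.IsStronglyEmbedded H) {a b : G}
    (ha : orderOf a = 2) (hb : orderOf b = 2) (hab : Commute a b) (hne : a ≠ b) {g₁ g₂ : G} (h₁ : g₁ ∉ H) (h₂ : g₂ ∉ H) :
    ∃ h ∈ H, g₂⁻¹ * (h * g₁) ∈ H := by
  have key : ∀ g : G, g ∉ H → ((1 : G) : G ⧸ H) ≠ (g : G ⧸ H) := by
    intro g hg h
    apply hg
    have := QuotientGroup.eq.mp h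
    simpa using this
  obtain ⟨h, hh1, hh2⟩ := TwoFusion.BenderStar.two_transitive_of_commute hH ha hb hab hne (key g₁ h₁) (key g₂ h₂)
  exact ⟨h, (TwoFusion.StronglyEmbeddedBasic.smul_one_eq_iff h).mp hh1, QuotientGroup.eq.mp hh2.symm⟩

variable {E : Type u} [Group E] [Finite E] (F : Facts E)

abbrev NQ : Subgroup E := normalizer (F.Q : Set E)

theorem NQ_Z {g z : E} (hg : g ∈ NQ F) (hz : z ∈ F.Z) : g * z * g⁻¹ ∈ F.Z :=
  (mem_normalizer_iff.1 (NQ_le_NZ F hg) z).1 hz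

theorem NQ_Q {g y : E} (hg : g ∈ NQ F) (hy : y ∈ F.Q) : g * y * g⁻¹ ∈ F.Q :=
  (mem_normalizer_iff.1 hg y).1 hy

theorem NQ_Q' {g y : E} (hg : g ∈ NQ F) (hy : y ∈ F.Q) : g⁻¹ * y * g ∈ F.Q := by
  have h1 := NQ_Q F ((NQ F).inv_mem hg) hy
  rwa [inv_inv] at h1

theorem NQ_Z' {g z : E} (hg : g ∈ NQ F) (hz : z ∈ F.Z) : g⁻¹ * z * g ∈ F.Z := by
  have h1 := NQ_Z F ((NQ F).inv_mem hg) hz
  rwa [inv_inv] at h1

/-- the kernel of `N_E(Q)` on `Q/Z` -/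
def C0 : Subgroup (NQ F) where
  carrier := {g | ∀ y ∈ F.Q, (g : E) * y * (g : E)⁻¹ * y⁻¹ ∈ F.Z}
  one_mem' := fun y _ => by
    change (1 : E) * y * (1 : E)⁻¹ * y⁻¹ ∈ F.Z
    rw [one_mul, inv_one, mul_one, mul_inv_cancel]; exact F.Z.one_mem
  mul_mem' := by
    intro a b ha hb y hy
    change (a * b : E) * y * (a * b : E)⁻¹ * y⁻¹ ∈ F.Z
    have h1 : (a * b : E) * y * (a * b : E)⁻¹ * y⁻¹ =
        (a * (b * y * (b : E)⁻¹ * y⁻¹) * (a : E)⁻¹) * (a * y * (a : E)⁻¹ * y⁻¹) := by group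
    rw [h1]
    exact F.Z.mul_mem (NQ_Z F a.2 (hb y hy)) (ha y hy)
  inv_mem' := by
    intro a ha y hy
    change (a : E)⁻¹ * y * ((a : E)⁻¹)⁻¹ * y⁻¹ ∈ F.Z
    have h1 : (a : E)⁻¹ * y * ((a : E)⁻¹)⁻¹ * y⁻¹ = (a : E)⁻¹ * ((a : E) * y * (a : E)⁻¹ * y⁻¹)⁻¹ * a := by group
    rw [h1]
    exact NQ_Z' F a.2 (F.Z.inv_mem (ha y hy))

theorem mem_C0 {g : NQ F} : g ∈ C0 F ↔ ∀ y ∈ F.Q, (g : E) * y * (g : E)⁻¹ * y⁻¹ ∈ F.Z := Iff.rfl

instance C0_normal : (C0 F).Normal := by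
  refine ⟨fun c hc g => ?_⟩
  rw [mem_C0] at hc ⊢
  intro y hy
  change ((g : E) * c * (g : E)⁻¹) * y * ((g : E) * c * (g : E)⁻¹)⁻¹ * y⁻¹ ∈ F.Z
  have h1 : ((g : E) * c * (g : E)⁻¹) * y * ((g : E) * c * (g : E)⁻¹)⁻¹ * y⁻¹ =
      g * (c * ((g : E)⁻¹ * y * g) * (c : E)⁻¹ * ((g : E)⁻¹ * y * g)⁻¹) * (g : E)⁻¹ := by group
  rw [h1]
  exact NQ_Z F g.2 (hc _ (NQ_Q' F g.2 hy))

abbrev N2 : Type u := NQ F ⧸ C0 F

abbrev ρ : NQ F →* N2 F := QuotientGroup.mk' (C0 F)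

theorem ρ_surj : Function.Surjective (ρ F) := QuotientGroup.mk'_surjective (C0 F)

theorem ρ_eq_one {x : NQ F} : ρ F x = 1 ↔ x ∈ C0 F := by
  rw [QuotientGroup.mk'_apply, QuotientGroup.eq_one_iff]

/-- `T ∩ C0 = Q` -/
theorem mem_Q_of_C0 {x : NQ F} (hx : (x : E) ∈ (F.T : Subgroup E)) (hc : x ∈ C0 F) : (x : E) ∈ F.Q :=
  F.Q_cent_mod x hx hc

theorem C0_of_Q {x : NQ F} (hx : (x : E) ∈ F.Q) : x ∈ C0 F := fun _ hy => Q_comm_Z F hx hy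

/-- the stabiliser of `U₀ = W ∩ Q` -/
def SU : Subgroup (NQ F) := (normalizer ((F.W ⊓ F.Q : Subgroup E) : Set E)).subgroupOf (NQ F)

theorem mem_SU {g : NQ F} : g ∈ SU F ↔ (g : E) ∈ normalizer ((F.W ⊓ F.Q : Subgroup E) : Set E) := Iff.rfl

theorem C0_le_SU : C0 F ≤ SU F := by
  intro c hc
  rw [mem_SU]
  apply mem_normalizer_of
  rintro y ⟨hyW, hyQ⟩
  have h1 := hc y hyQ
  have h2 : (c : E) * y * (c : E)⁻¹ = (c * y * (c : E)⁻¹ * y⁻¹) * y := by group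
  rw [h2]
  exact ⟨F.W.mul_mem (F.Z_le_W h1) hyW, F.Q.mul_mem (F.Z_le_Q h1) hyQ⟩

theorem ρ_mem_SU {g : NQ F} : ρ F g ∈ (SU F).map (ρ F) ↔ g ∈ SU F := by
  constructor
  · rintro ⟨h, hh, h1⟩
    have h2 : ρ F (h⁻¹ * g) = 1 := by rw [map_mul, map_inv, h1, inv_mul_cancel]
    rw [ρ_eq_one] at h2
    have h3 : g = h * (h⁻¹ * g) := by group
    rw [h3]
    exact (SU F).mul_mem hh (C0_le_SU F h2)
  · exact fun h => mem_map_of_mem _ h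

theorem T_le_SU (x : NQ F) (hx : (x : E) ∈ (F.T : Subgroup E)) : x ∈ SU F := by
  rw [mem_SU]
  apply mem_normalizer_of
  rintro y ⟨hyW, hyQ⟩
  exact ⟨W_conj F hx hyW, Q_conj F hx hyQ⟩

/-- the Sylow 2-subgroup of `N2` -/
noncomputable def T2 : Sylow 2 (N2 F) := (F.T.subtype (T_le_NQ F)).mapSurjective (ρ_surj F)

theorem mem_T2 {x : N2 F} : x ∈ (T2 F : Subgroup (N2 F)) ↔ ∃ s : NQ F, (s : E) ∈ (F.T : Subgroup E) ∧ ρ F s = x :=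
  Iff.rfl

/-- the chain `Z ≤ U₀ ≤ P₁ = C_Q(U₀) ≤ Q` -/
def P1 : Subgroup E := F.Q ⊓ centralizer ((F.W ⊓ F.Q : Subgroup E) : Set E)

theorem mem_P1 {y : E} : y ∈ P1 F ↔ y ∈ F.Q ∧ ∀ w ∈ F.W, w ∈ F.Q → y * w = w * y := by
  unfold P1
  rw [mem_inf, mem_centralizer_iff]
  exact ⟨fun h => ⟨h.1, fun w hw hwQ => (h.2 w ⟨hw, hwQ⟩).symm⟩, fun h => ⟨h.1, fun w hw => (h.2 w hw.1 hw.2).symm⟩⟩

theorem SU_P1 {g : NQ F} (hg : g ∈ SU F) {y : E} (hy : y ∈ P1 F) : (g : E) * y * (g : E)⁻¹ ∈ P1 F := by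
  rw [mem_P1] at hy ⊢
  refine ⟨NQ_Q F g.2 hy.1, fun w hw hwQ => ?_⟩
  have h1 := (mem_normalizer_iff.1 ((normalizer ((F.W ⊓ F.Q : Subgroup E) : Set E)).inv_mem ((mem_SU F).1 hg)) w).1 ⟨hw, hwQ⟩
  rw [inv_inv] at h1
  have h2 := hy.2 _ h1.1 h1.2
  calc (g : E) * y * (g : E)⁻¹ * w = g * (y * ((g : E)⁻¹ * w * g)) * (g : E)⁻¹ := by group
    _ = g * (((g : E)⁻¹ * w * g) * y) * (g : E)⁻¹ := by rw [h2]
    _ = _ := by group

theorem SU_P1' {g : NQ F} (hg : g ∈ SU F) {y : E} (hy : y ∈ P1 F) : (g : E)⁻¹ * y * g ∈ P1 F := by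
  have h1 := SU_P1 F ((SU F).inv_mem hg) hy
  change (g : E)⁻¹ * y * ((g : E)⁻¹)⁻¹ ∈ P1 F at h1
  rwa [inv_inv] at h1

theorem SU_U {g : NQ F} (hg : g ∈ SU F) {y : E} (hy : y ∈ F.W ⊓ F.Q) : (g : E) * y * (g : E)⁻¹ ∈ F.W ⊓ F.Q :=
  (mem_normalizer_iff.1 ((mem_SU F).1 hg) y).1 hy

theorem SU_U' {g : NQ F} (hg : g ∈ SU F) {y : E} (hy : y ∈ F.W ⊓ F.Q) : (g : E)⁻¹ * y * g ∈ F.W ⊓ F.Q := by
  have h1 := SU_U F ((SU F).inv_mem hg) hy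
  change (g : E)⁻¹ * y * ((g : E)⁻¹)⁻¹ ∈ F.W ⊓ F.Q at h1
  rwa [inv_inv] at h1

/-! ### the stabiliser of the chain -/

section chain

omit [Finite E]

theorem comm_mul {A B : Subgroup E} {a b : E} (ha : ∀ y ∈ A, a * y * a⁻¹ * y⁻¹ ∈ B)
    (hb : ∀ y ∈ A, b * y * b⁻¹ * y⁻¹ ∈ B) (hn : ∀ y ∈ B, a * y * a⁻¹ ∈ B) {y : E} (hy : y ∈ A) :
    (a * b) * y * (a * b)⁻¹ * y⁻¹ ∈ B := by
  have h1 : (a * b) * y * (a * b)⁻¹ * y⁻¹ = (a * (b * y * b⁻¹ * y⁻¹) * a⁻¹) * (a * y * a⁻¹ * y⁻¹) := by group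
  rw [h1]
  exact B.mul_mem (hn _ (hb y hy)) (ha y hy)

theorem comm_inv {A B : Subgroup E} {a : E} (ha : ∀ y ∈ A, a * y * a⁻¹ * y⁻¹ ∈ B)
    (hn : ∀ y ∈ B, a⁻¹ * y * a ∈ B) {y : E} (hy : y ∈ A) : a⁻¹ * y * a⁻¹⁻¹ * y⁻¹ ∈ B := by
  have h1 : a⁻¹ * y * a⁻¹⁻¹ * y⁻¹ = a⁻¹ * (a * y * a⁻¹ * y⁻¹)⁻¹ * a := by group
  rw [h1]
  exact hn _ (B.inv_mem (ha y hy))

theorem comm_conj {A B : Subgroup E} {a g : E} (ha : ∀ y ∈ A, a * y * a⁻¹ * y⁻¹ ∈ B)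
    (hg : ∀ y ∈ B, g * y * g⁻¹ ∈ B) (hg' : ∀ y ∈ A, g⁻¹ * y * g ∈ A) {y : E} (hy : y ∈ A) :
    (g * a * g⁻¹) * y * (g * a * g⁻¹)⁻¹ * y⁻¹ ∈ B := by
  have h1 : (g * a * g⁻¹) * y * (g * a * g⁻¹)⁻¹ * y⁻¹ = g * (a * (g⁻¹ * y * g) * a⁻¹ * (g⁻¹ * y * g)⁻¹) * g⁻¹ := by
    group
  rw [h1]
  exact hg _ (ha _ (hg' y hy))

theorem conj_mem_of_comm {A B : Subgroup E} {a : E} (hBA : B ≤ A) (ha : ∀ y ∈ A, a * y * a⁻¹ * y⁻¹ ∈ B) {y : E}
    (hy : y ∈ A) : a * y * a⁻¹ ∈ A := by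
  have h1 : a * y * a⁻¹ = (a * y * a⁻¹ * y⁻¹) * y := by group
  rw [h1]
  exact A.mul_mem (hBA (ha y hy)) hy

theorem sq_comm {x y p a : E} (h1 : x * y * x⁻¹ * y⁻¹ = p) (h2 : x * p * x⁻¹ * p⁻¹ = a) :
    (x * x) * y * (x * x)⁻¹ * y⁻¹ = a * (p * p) := by
  have e1 : x * y * x⁻¹ = p * y := by rw [← h1]; group
  have e2 : x * p * x⁻¹ = a * p := by rw [← h2]; group
  calc (x * x) * y * (x * x)⁻¹ * y⁻¹ = x * (x * y * x⁻¹) * x⁻¹ * y⁻¹ := by group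
    _ = x * (p * y) * x⁻¹ * y⁻¹ := by rw [e1]
    _ = (x * p * x⁻¹) * (x * y * x⁻¹) * y⁻¹ := by group
    _ = (a * p) * (p * y) * y⁻¹ := by rw [e1, e2]
    _ = _ := by group

end chain

theorem conj_inv_mem {A : Subgroup E} {a : E} (ha : ∀ y ∈ A, a * y * a⁻¹ ∈ A) {y : E} (hy : y ∈ A) :
    a⁻¹ * y * a ∈ A := by
  have h1 := (mem_normalizer_iff.1 ((normalizer (A : Set E)).inv_mem (mem_normalizer_of ha)) y).1 hy
  rwa [inv_inv] at h1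

theorem U_le_P1 : F.W ⊓ F.Q ≤ P1 F := by
  rintro y ⟨hyW, hyQ⟩
  exact (mem_P1 F).2 ⟨hyQ, fun w hw _ => W_comm F hyW hw⟩

theorem Z_le_U : F.Z ≤ F.W ⊓ F.Q := le_inf F.Z_le_W F.Z_le_Q

theorem P1_le_Q : P1 F ≤ F.Q := inf_le_left

/-- the chain conditions -/
def Ch (x : E) : Prop := (∀ y ∈ F.Q, x * y * x⁻¹ * y⁻¹ ∈ P1 F) ∧ (∀ y ∈ P1 F, x * y * x⁻¹ * y⁻¹ ∈ F.W ⊓ F.Q) ∧
  (∀ y ∈ F.W ⊓ F.Q, x * y * x⁻¹ * y⁻¹ ∈ F.Z)

theorem Ch_of_T {x : E} (hx : x ∈ (F.T : Subgroup E)) : Ch F x := by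
  refine ⟨fun y hy => (mem_P1 F).2 ⟨F.Q.mul_mem (Q_conj F hx hy) (F.Q.inv_mem hy), fun w hw hwQ =>
    F.chain_one x hx y hy w hw hwQ⟩, fun y hy => ?_, fun y hy => F.T_WQ x hx y hy.1 hy.2⟩
  rw [mem_P1] at hy
  exact ⟨F.chain_two x hx y hy.1 hy.2, F.Q.mul_mem (Q_conj F hx hy.1) (F.Q.inv_mem hy.1)⟩

/-- the chain stabiliser -/
def SS : Subgroup (NQ F) where
  carrier := {x | Ch F (x : E)}
  one_mem' := Ch_of_T F (F.T : Subgroup E).one_mem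
  mul_mem' := by
    intro a b ha hb
    change Ch F ((a : E) * b)
    have ha' : Ch F (a : E) := ha
    have hb' : Ch F (b : E) := hb
    obtain ⟨a1, a2, a3⟩ := ha'
    obtain ⟨b1, b2, b3⟩ := hb'
    exact ⟨fun y hy => comm_mul a1 b1 (fun y hy => conj_mem_of_comm (U_le_P1 F) a2 hy) hy,
      fun y hy => comm_mul a2 b2 (fun y hy => conj_mem_of_comm (Z_le_U F) a3 hy) hy,
      fun y hy => comm_mul a3 b3 (fun y hy => NQ_Z F a.2 hy) hy⟩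
  inv_mem' := by
    intro a ha
    change Ch F ((a : E)⁻¹)
    have ha' : Ch F (a : E) := ha
    obtain ⟨a1, a2, a3⟩ := ha'
    exact ⟨fun y hy => comm_inv a1 (fun y hy => conj_inv_mem (fun y hy => conj_mem_of_comm (U_le_P1 F) a2 hy) hy) hy,
      fun y hy => comm_inv a2 (fun y hy => conj_inv_mem (fun y hy => conj_mem_of_comm (Z_le_U F) a3 hy) hy) hy,
      fun y hy => comm_inv a3 (fun y hy => NQ_Z' F a.2 hy) hy⟩

theorem mem_SS {x : NQ F} : x ∈ SS F ↔ Ch F (x : E) := Iff.rfl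

theorem SS_conj {g x : NQ F} (hg : g ∈ SU F) (hx : x ∈ SS F) : g * x * g⁻¹ ∈ SS F := by
  rw [mem_SS] at hx ⊢
  obtain ⟨a1, a2, a3⟩ := hx
  change Ch F ((g : E) * x * (g : E)⁻¹)
  exact ⟨fun y hy => comm_conj a1 (fun y hy => SU_P1 F hg hy) (fun y hy => NQ_Q' F g.2 hy) hy,
    fun y hy => comm_conj a2 (fun y hy => SU_U F hg hy) (fun y hy => SU_P1' F hg hy) hy,
    fun y hy => comm_conj a3 (fun y hy => NQ_Z F g.2 hy) (fun y hy => SU_U' F hg hy) hy⟩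

theorem SS_pow {x : NQ F} (hx : x ∈ SS F) : x ^ 4 ∈ C0 F := by
  rw [mem_SS] at hx
  obtain ⟨a1, a2, a3⟩ := hx
  have hPU : ∀ y ∈ P1 F, ((x : E) * x) * y * ((x : E) * x)⁻¹ * y⁻¹ ∈ F.Z := by
    intro y hy
    rw [sq_comm (x := (x : E)) (y := y) rfl rfl]
    have hp := a2 y hy
    exact F.Z.mul_mem (a3 _ hp) (F.Q_sq _ hp.2)
  have hQU : ∀ y ∈ F.Q, ((x : E) * x) * y * ((x : E) * x)⁻¹ * y⁻¹ ∈ F.W ⊓ F.Q := by
    intro y hy
    rw [sq_comm (x := (x : E)) (y := y) rfl rfl]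
    have hp := a1 y hy
    exact (F.W ⊓ F.Q).mul_mem (a2 _ hp) (Z_le_U F (F.Q_sq _ (P1_le_Q F hp)))
  rw [mem_C0]
  intro y hy
  have h4 : ((x ^ 4 : NQ F) : E) = ((x : E) * x) * ((x : E) * x) := by
    rw [SubgroupClass.coe_pow, pow_succ, pow_succ, pow_two, mul_assoc]
  rw [h4, sq_comm (x := (x : E) * x) (y := y) rfl rfl]
  have hp := hQU y hy
  exact F.Z.mul_mem (hPU _ (U_le_P1 F hp)) (F.Q_sq _ hp.2)

/-- the image of the chain stabiliser is the Sylow 2-subgroup -/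
theorem SS_map : (SS F).map (ρ F) = (T2 F : Subgroup (N2 F)) := by
  apply (T2 F).is_maximal'
  · rintro ⟨_, s, hs, rfl⟩
    refine ⟨2, Subtype.ext ?_⟩
    change (ρ F s) ^ 2 ^ 2 = 1
    rw [← map_pow, ρ_eq_one]
    exact SS_pow F hs
  · intro x hx
    obtain ⟨s, hs, rfl⟩ := (mem_T2 F).1 hx
    exact mem_map_of_mem _ (Ch_of_T F hs)

theorem T2_conj {g x : N2 F} (hg : g ∈ (SU F).map (ρ F)) (hx : x ∈ (T2 F : Subgroup (N2 F))) :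
    g * x * g⁻¹ ∈ (T2 F : Subgroup (N2 F)) := by
  rw [← SS_map] at hx ⊢
  obtain ⟨γ, hγ, rfl⟩ := hg
  obtain ⟨s, hs, rfl⟩ := hx
  exact ⟨γ * s * γ⁻¹, SS_conj F hγ hs, by simp only [map_mul, map_inv]⟩

/-- conjugates of elements of `T` under the stabiliser of `U₀` -/
theorem exists_T {g : E} (hgQ : g ∈ NQ F) (hg : g ∈ normalizer ((F.W ⊓ F.Q : Subgroup E) : Set E)) {s : E}
    (hs : s ∈ (F.T : Subgroup E)) :
    ∃ r ∈ (F.T : Subgroup E), ∀ y ∈ F.Q, (r⁻¹ * (g * s * g⁻¹)) * y * (r⁻¹ * (g * s * g⁻¹))⁻¹ * y⁻¹ ∈ F.Z := by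
  have h1 : ρ F ⟨g, hgQ⟩ * ρ F ⟨s, T_le_NQ F hs⟩ * (ρ F ⟨g, hgQ⟩)⁻¹ ∈ (T2 F : Subgroup (N2 F)) :=
    T2_conj F ((ρ_mem_SU F).2 ((mem_SU F).2 hg)) ((mem_T2 F).2 ⟨_, hs, rfl⟩)
  obtain ⟨r, hr, h2⟩ := (mem_T2 F).1 h1
  refine ⟨r, hr, ?_⟩
  have h3 : r⁻¹ * (⟨g, hgQ⟩ * ⟨s, T_le_NQ F hs⟩ * (⟨g, hgQ⟩ : NQ F)⁻¹) ∈ C0 F := by
    rw [← ρ_eq_one, map_mul, map_inv, h2]
    simp only [map_mul, map_inv]
    group
  exact (mem_C0 F).1 h3

theorem T2_of_two {x : N2 F} (hx : x ∈ (SU F).map (ρ F)) (h2 : x * x = 1) : x ∈ (T2 F : Subgroup (N2 F)) := by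
  haveI : Fact (Nat.Prime 2) := ⟨Nat.prime_two⟩
  have h1 : IsPGroup 2 (zpowers x) := by
    rintro ⟨y, hy⟩
    obtain ⟨k, rfl⟩ := mem_zpowers_iff.1 hy
    refine ⟨1, Subtype.ext ?_⟩
    change (x ^ k) ^ 2 ^ 1 = 1
    rw [pow_one, ← zpow_natCast, ← zpow_mul, mul_comm, zpow_mul, zpow_natCast, pow_two, h2, one_zpow]
  have h3 : zpowers x ≤ normalizer ((T2 F : Subgroup (N2 F)) : Set (N2 F)) := by
    rw [zpowers_le]
    exact mem_normalizer_of fun y hy => T2_conj F hx hy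
  have h4 := (T2 F).is_maximal' (h1.to_sup_of_normal_right' (T2 F).isPGroup' h3) le_sup_right
  rw [← h4]
  exact mem_sup_left (mem_zpowers x)

/-- `C0`-perturbations of an element of `T` -/
theorem comm_of_ρ {s s' : NQ F} (h : ρ F s = ρ F s') {y : E} (hy : y ∈ F.Q) :
    ∃ z ∈ F.Z, (s : E) * y * (s : E)⁻¹ * y⁻¹ = z * (s' * y * (s' : E)⁻¹ * y⁻¹) := by
  have h1 : s * s'⁻¹ ∈ C0 F := by
    rw [← ρ_eq_one, map_mul, map_inv, h, mul_inv_cancel]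
  have h2 := (mem_C0 F).1 h1 _ (NQ_Q F s'.2 hy)
  refine ⟨_, h2, ?_⟩
  push_cast
  group

/-- the subgroup `U₀ = [s, Q] Z` for `s ∈ T \ Q`, `s² ∈ Q` -/
theorem mem_U_iff {s : E} (hs : s ∈ (F.T : Subgroup E)) (hsQ : s ∉ F.Q) (hss : s * s ∈ F.Q) {w : E} :
    w ∈ F.W ⊓ F.Q ↔ ∃ y ∈ F.Q, ∃ z ∈ F.Z, w = z * (s * y * s⁻¹ * y⁻¹) := by
  constructor
  · rintro ⟨hwW, hwQ⟩
    obtain ⟨y, hy, z, hz, rfl⟩ := F.TQ_onto s hs hsQ hss w hwW hwQ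
    refine ⟨y, hy, z, hz, ?_⟩
    have h1 : s * y * s⁻¹ * y⁻¹ ∈ (F.T : Subgroup E) :=
      F.Q_le (F.Q.mul_mem (Q_conj F hs hy) (F.Q.inv_mem hy))
    exact (F.Z_cent z hz _ h1).symm
  · rintro ⟨y, hy, z, hz, rfl⟩
    exact ⟨F.W.mul_mem (F.Z_le_W hz) (F.TQ_W s hs hsQ hss y hy),
      F.Q.mul_mem (F.Z_le_Q hz) (F.Q.mul_mem (Q_conj F hs hy) (F.Q.inv_mem hy))⟩

theorem U_ne : ∃ x ∈ F.W ⊓ F.Q, x ∉ F.Z := by
  by_contra hcon
  push Not at hcon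
  have h1 : F.W ⊓ F.Q ≤ F.Z := hcon
  have h2 := Nat.card_mono (Set.toFinite _) h1
  change Nat.card ↥(F.W ⊓ F.Q) ≤ Nat.card F.Z at h2
  rw [F.WQ_card, F.Z_card] at h2
  have h4 := F.h4
  nlinarith [pow_pos (show 0 < F.q by omega) 2]

theorem nb_NQ : F.nb ∈ NQ F := Kb_le_NQ F F.nb_mem

theorem nb_not_SU {h : F.nb ∈ NQ F} : (⟨F.nb, h⟩ : NQ F) ∉ SU F := by
  intro h1
  obtain ⟨x, hx, hxZ⟩ := U_ne F
  exact hxZ (F.nb_WQ x hx.1 hx.2 (SU_U F h1 hx).1)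

theorem exists_two_W : ∃ a ∈ F.W, ∃ b ∈ F.W, a ∉ F.Q ∧ b ∉ F.Q ∧ a * b ∉ F.Q := by
  classical
  have h4 := F.h4
  have hU : ((F.W ⊓ F.Q : Subgroup E) : Set E).ncard = F.q ^ 3 := F.WQ_card
  have hW : (F.W : Set E).ncard = F.q ^ 4 := F.W_card
  have h5 : 2 * F.q ^ 3 < F.q ^ 4 := by
    have : 0 < F.q ^ 3 := pow_pos (by omega) 3
    nlinarith [pow_succ F.q 3]
  obtain ⟨a, ha, haQ⟩ : ∃ a ∈ F.W, a ∉ F.Q := by
    by_contra hcon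
    push Not at hcon
    have h1 : (F.W : Set E) ⊆ ((F.W ⊓ F.Q : Subgroup E) : Set E) := fun x hx => ⟨hx, hcon x hx⟩
    have h2 := Set.ncard_le_ncard h1 (Set.toFinite _)
    omega
  refine ⟨a, ha, ?_⟩
  by_contra hcon
  push Not at hcon
  have h1 : (F.W : Set E) ⊆ ((F.W ⊓ F.Q : Subgroup E) : Set E) ∪ (fun x => a⁻¹ * x) '' ((F.W ⊓ F.Q : Subgroup E) : Set E) := by
    intro b hb
    by_cases hbQ : b ∈ F.Q
    · exact Or.inl ⟨hb, hbQ⟩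
    · exact Or.inr ⟨a * b, ⟨F.W.mul_mem ha hb, hcon b hb haQ hbQ⟩, by group⟩
  have h2 := Set.ncard_le_ncard h1 (Set.toFinite _)
  have h3 := Set.ncard_union_le ((F.W ⊓ F.Q : Subgroup E) : Set E)
    ((fun x => a⁻¹ * x) '' ((F.W ⊓ F.Q : Subgroup E) : Set E))
  have h6 : ((fun x => a⁻¹ * x) '' ((F.W ⊓ F.Q : Subgroup E) : Set E)).ncard ≤ F.q ^ 3 := by
    rw [← hU]; exact Set.ncard_image_le (Set.toFinite _)
  omega

theorem ρ_T_ne {s : NQ F} (hs : (s : E) ∈ (F.T : Subgroup E)) (hsQ : (s : E) ∉ F.Q) : ρ F s ≠ 1 := by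
  intro h
  rw [ρ_eq_one] at h
  exact hsQ (mem_Q_of_C0 F hs h)

theorem orderOf_ρ {s : NQ F} (hs : (s : E) ∈ F.W) (hsQ : (s : E) ∉ F.Q) : orderOf (ρ F s) = 2 := by
  apply orderOf_eq_prime _ (ρ_T_ne F (F.W_le hs) hsQ)
  rw [← map_pow]
  have h1 : s ^ 2 = 1 := by
    apply Subtype.ext
    change ((s ^ 2 : NQ F) : E) = 1
    rw [SubgroupClass.coe_pow, pow_two]
    exact F.W_sq _ hs
  rw [h1, map_one]

theorem strongly : Cfsg.IsStronglyEmbedded ((SU F).map (ρ F)) := by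
  haveI : Fact (Nat.Prime 2) := ⟨Nat.prime_two⟩
  obtain ⟨a, ha, b, hb, haQ, hbQ, habQ⟩ := exists_two_W F
  refine ⟨?_, ?_, ?_⟩
  · intro h
    have h1 : ρ F ⟨F.nb, nb_NQ F⟩ ∈ (SU F).map (ρ F) := by rw [h]; exact mem_top _
    exact nb_not_SU F ((ρ_mem_SU F).1 h1)
  · have haT := F.W_le ha
    set s : NQ F := ⟨a, T_le_NQ F haT⟩ with hs
    have h1 : ρ F s ∈ (SU F).map (ρ F) := (ρ_mem_SU F).2 (T_le_SU F s haT)
    have h2 := orderOf_ρ F (s := s) ha haQ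
    rw [even_iff_two_dvd, ← h2]
    have h3 : orderOf (⟨ρ F s, h1⟩ : (SU F).map (ρ F)) = orderOf (ρ F s) := by
      rw [← Subgroup.orderOf_coe]
    rw [← h3]
    exact orderOf_dvd_natCard _
  · intro g hg
    rw [← Nat.not_even_iff_odd, even_iff_two_dvd]
    intro h2
    obtain ⟨x, hx⟩ := exists_prime_orderOf_dvd_card' 2 h2
    apply hg
    obtain ⟨γ, rfl⟩ := ρ_surj F g
    have hx2 : (x : N2 F) * x = 1 := by
      have h3 : x ^ 2 = 1 := by rw [← hx]; exact pow_orderOf_eq_one x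
      have h4 := congrArg Subtype.val h3
      rwa [pow_two] at h4
    have hx1 : (x : N2 F) ≠ 1 := by
      intro h3
      have h4 : x = 1 := Subtype.ext h3
      rw [h4, orderOf_one] at hx
      omega
    have hxT := T2_of_two F x.2.1 hx2
    have hxg := mem_map_conj.1 x.2.2
    have hxT' : (ρ F γ)⁻¹ * x * ρ F γ ∈ (T2 F : Subgroup (N2 F)) := by
      apply T2_of_two F hxg
      calc (ρ F γ)⁻¹ * x * ρ F γ * ((ρ F γ)⁻¹ * x * ρ F γ) = (ρ F γ)⁻¹ * (x * x) * ρ F γ := by group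
        _ = 1 := by rw [hx2]; group
    obtain ⟨s, hs, hsx⟩ := (mem_T2 F).1 hxT
    obtain ⟨r, hr, hrx⟩ := (mem_T2 F).1 hxT'
    have hsQ : (s : E) ∉ F.Q := fun h => hx1 (by rw [← hsx, ρ_eq_one]; exact C0_of_Q F h)
    have hss : (s : E) * s ∈ F.Q := by
      apply mem_Q_of_C0 F (x := s * s) ((F.T : Subgroup E).mul_mem hs hs)
      rw [← ρ_eq_one, map_mul, hsx, hx2]
    have hr1 : ρ F r ≠ 1 := by
      rw [hrx]
      intro h
      apply hx1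
      calc (x : N2 F) = ρ F γ * ((ρ F γ)⁻¹ * x * ρ F γ) * (ρ F γ)⁻¹ := by group
        _ = 1 := by rw [h]; group
    have hrQ : (r : E) ∉ F.Q := fun h => hr1 (by rw [ρ_eq_one]; exact C0_of_Q F h)
    have hrr : (r : E) * r ∈ F.Q := by
      apply mem_Q_of_C0 F (x := r * r) ((F.T : Subgroup E).mul_mem hr hr)
      rw [← ρ_eq_one, map_mul, hrx]
      calc (ρ F γ)⁻¹ * x * ρ F γ * ((ρ F γ)⁻¹ * x * ρ F γ) = (ρ F γ)⁻¹ * (x * x) * ρ F γ := by group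
        _ = 1 := by rw [hx2]; group
    rw [ρ_mem_SU, mem_SU]
    apply mem_normalizer_of
    intro w hw
    obtain ⟨y, hy, z, hz, rfl⟩ := (mem_U_iff F hr hrQ hrr).1 hw
    have h5 : ρ F r = ρ F (γ⁻¹ * s * γ) := by
      rw [hrx, ← hsx]; simp only [map_mul, map_inv]
    obtain ⟨z', hz', h6⟩ := comm_of_ρ F h5 hy
    have h7 : ((γ⁻¹ * s * γ : NQ F) : E) = (γ : E)⁻¹ * s * γ := rfl
    rw [h7] at h6
    rw [mem_U_iff F hs hsQ hss]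
    refine ⟨(γ : E) * y * (γ : E)⁻¹, NQ_Q F γ.2 hy, ((γ : E) * (z * z') * (γ : E)⁻¹),
      NQ_Z F γ.2 (F.Z.mul_mem hz hz'), ?_⟩
    rw [h6]
    group

/-- distinct `N_E(Q)`-conjugates of `U₀` meet in `Z` -/
theorem disj {g : E} (hg : g ∈ NQ F) {x : E} (hx : x ∈ F.W ⊓ F.Q) (hxZ : x ∉ F.Z) (hgx : g * x * g⁻¹ ∈ F.W ⊓ F.Q) :
    g ∈ normalizer ((F.W ⊓ F.Q : Subgroup E) : Set E) := by
  by_contra hcon
  obtain ⟨a, ha, b, hb, haQ, hbQ, habQ⟩ := exists_two_W F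
  set a' : NQ F := ⟨a, T_le_NQ F (F.W_le ha)⟩ with ha'
  set b' : NQ F := ⟨b, T_le_NQ F (F.W_le hb)⟩ with hb'
  have hab : Commute (ρ F a') (ρ F b') := by
    change ρ F a' * ρ F b' = ρ F b' * ρ F a'
    rw [← map_mul, ← map_mul]
    congr 1
    exact Subtype.ext (W_comm F ha hb)
  have hne : ρ F a' ≠ ρ F b' := by
    intro h
    have h1 : ρ F (a' * b') = 1 := by
      rw [map_mul, ← h, ← map_mul]
      have h2 : a' * a' = 1 := Subtype.ext (F.W_sq a ha)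
      rw [h2, map_one]
    exact ρ_T_ne F (s := a' * b') ((F.T : Subgroup E).mul_mem (F.W_le ha) (F.W_le hb)) habQ h1
  set g' : NQ F := ⟨g, hg⟩ with hg'
  set b₀ : NQ F := ⟨F.nb, nb_NQ F⟩ with hb₀
  have h1 : ρ F g' ∉ (SU F).map (ρ F) := fun h => hcon ((mem_SU F).1 ((ρ_mem_SU F).1 h))
  have h2 : ρ F b₀ ∉ (SU F).map (ρ F) := fun h => nb_not_SU F ((ρ_mem_SU F).1 h)
  obtain ⟨_, ⟨k, hk, rfl⟩, h3⟩ := two_trans (strongly F) (orderOf_ρ F (s := a') ha haQ) (orderOf_ρ F (s := b') hb hbQ)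
    hab hne h1 h2
  rw [← map_mul, ← map_inv, ← map_mul, ρ_mem_SU] at h3
  have h4 := SU_U F hk hgx
  have h5 := SU_U F h3 hx
  have h6 : F.nb * (((b₀⁻¹ * (k * g') : NQ F) : E) * x * ((b₀⁻¹ * (k * g') : NQ F) : E)⁻¹) * F.nb⁻¹ =
      (k : E) * (g * x * g⁻¹) * (k : E)⁻¹ := by
    have h7 : ((b₀⁻¹ * (k * g') : NQ F) : E) = F.nb⁻¹ * (k * g) := rfl
    rw [h7]
    group
  have h8 := F.nb_WQ _ h5.1 h5.2 (by rw [h6]; exact h4.1)
  have h9 := NQ_Z' F (b₀⁻¹ * (k * g')).2 h8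
  apply hxZ
  have h10 : ((b₀⁻¹ * (k * g') : NQ F) : E)⁻¹ * (((b₀⁻¹ * (k * g') : NQ F) : E) * x * ((b₀⁻¹ * (k * g') : NQ F) : E)⁻¹) *
      ((b₀⁻¹ * (k * g') : NQ F) : E) = x := by group
  rwa [h10] at h9

/-- `N_E(Q) = Kb · (N_E(Q) ∩ N_E(U₀))` -/
theorem exists_Kb {g : E} (hg : g ∈ NQ F) : ∃ k ∈ F.Kb, k * g ∈ normalizer ((F.W ⊓ F.Q : Subgroup E) : Set E) := by
  obtain ⟨x, hx, hxZ⟩ := U_ne F
  have h1 := NQ_Q F hg hx.2
  obtain ⟨k, hk, hkW⟩ := F.inv_Q _ h1 (by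
    calc g * x * g⁻¹ * (g * x * g⁻¹) = g * (x * x) * g⁻¹ := by group
      _ = 1 := by rw [F.W_sq x hx.1]; group)
  refine ⟨k, hk, disj F ((NQ F).mul_mem (Kb_le_NQ F hk) hg) hx hxZ ?_⟩
  have h2 : k * g * x * (k * g)⁻¹ = k * (g * x * g⁻¹) * k⁻¹ := by group
  rw [h2]
  exact ⟨hkW, NQ_Q F (Kb_le_NQ F hk) h1⟩

/-! ### the kernel `C0 = Q × D₁` -/

/-- elements of `C0` centralise `Z = [d, Q]` -/
theorem C0_Z {c : NQ F} (hc : c ∈ C0 F) {z : E} (hz : z ∈ F.Z) : (c : E) * z = z * c := by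
  obtain ⟨d, hd, hdZ⟩ := U_ne F
  obtain ⟨e, he, h1⟩ := F.Q_pair d hd.2 hdZ z hz
  have h2 := (mem_C0 F).1 hc d hd.2
  have h3 := (mem_C0 F).1 hc e he
  set z₁ := (c : E) * d * (c : E)⁻¹ * d⁻¹ with hz₁
  set z₂ := (c : E) * e * (c : E)⁻¹ * e⁻¹ with hz₂
  have e1 : (c : E) * d * (c : E)⁻¹ = z₁ * d := by rw [hz₁]; group
  have e2 : (c : E) * e * (c : E)⁻¹ = z₂ * e := by rw [hz₂]; group
  have hdT := F.Q_le hd.2
  have heT := F.Q_le he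
  have hz2T : z₂ ∈ (F.T : Subgroup E) := F.W_le (F.Z_le_W h3)
  have c1 := F.Z_cent z₁ h2 (d * (z₂ * e) * d⁻¹) ((F.T : Subgroup E).mul_mem ((F.T : Subgroup E).mul_mem hdT
    ((F.T : Subgroup E).mul_mem hz2T heT)) ((F.T : Subgroup E).inv_mem hdT))
  have c2 := F.Z_cent z₂ h3 d hdT
  have c3 := F.Z_cent z₂ h3 (e * d⁻¹ * e⁻¹) ((F.T : Subgroup E).mul_mem ((F.T : Subgroup E).mul_mem heT
    ((F.T : Subgroup E).inv_mem hdT)) ((F.T : Subgroup E).inv_mem heT))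
  have h4 : (c : E) * z * (c : E)⁻¹ = z := by
    calc (c : E) * z * (c : E)⁻¹ = (c * d * (c : E)⁻¹) * (c * e * (c : E)⁻¹) * (c * d * (c : E)⁻¹)⁻¹ *
          (c * e * (c : E)⁻¹)⁻¹ := by rw [← h1]; group
      _ = (z₁ * d) * (z₂ * e) * (z₁ * d)⁻¹ * (z₂ * e)⁻¹ := by rw [e1, e2]
      _ = (z₁ * (d * (z₂ * e) * d⁻¹)) * z₁⁻¹ * (z₂ * e)⁻¹ := by group
      _ = d * z₂ * e * d⁻¹ * e⁻¹ * z₂⁻¹ := by rw [c1]; group
      _ = (z₂ * d) * e * d⁻¹ * e⁻¹ * z₂⁻¹ := by rw [← c2]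
      _ = z₂ * (d * (e * d⁻¹ * e⁻¹)) * z₂⁻¹ := by group
      _ = z := by
        have h5 : d * (e * d⁻¹ * e⁻¹) = z := by rw [← h1]; group
        rw [h5, F.Z_cent z₂ h3 z (F.W_le (F.Z_le_W hz))]
        group
  calc (c : E) * z = (c : E) * z * (c : E)⁻¹ * c := by group
    _ = z * c := by rw [h4]

abbrev K' : Subgroup (NQ F) := (centralizer (F.Q : Set E)).subgroupOf (NQ F)

instance K'_normal : (K' F).Normal := by
  refine ⟨fun c hc g => ?_⟩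
  change (g : E) * c * (g : E)⁻¹ ∈ centralizer (F.Q : Set E)
  have hc' : (c : E) ∈ centralizer (F.Q : Set E) := hc
  rw [mem_centralizer_iff] at hc' ⊢
  intro w hw
  have h3 := hc' _ (NQ_Q' F g.2 hw)
  calc w * ((g : E) * c * (g : E)⁻¹) = g * (((g : E)⁻¹ * w * g) * c) * (g : E)⁻¹ := by group
    _ = g * (c * ((g : E)⁻¹ * w * g)) * (g : E)⁻¹ := by rw [h3]
    _ = _ := by group

theorem K'_le_C0 : K' F ≤ C0 F := by
  intro c hc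
  rw [mem_C0]
  intro y hy
  have h1 := mem_centralizer_iff.1 (show (c : E) ∈ centralizer (F.Q : Set E) from hc) y hy
  rw [← h1, mul_inv_cancel_right, mul_inv_cancel]
  exact F.Z.one_mem

theorem C0_sq {c : NQ F} (hc : c ∈ C0 F) : c * c ∈ K' F := by
  change (c : E) * c ∈ centralizer (F.Q : Set E)
  rw [mem_centralizer_iff]
  intro y hy
  have h1 := (mem_C0 F).1 hc y hy
  have h2 := C0_Z F hc h1
  have h3 : (c * c : E) * y * (c * c : E)⁻¹ * y⁻¹ = 1 := by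
    rw [sq_comm (x := (c : E)) (y := y) rfl rfl, h2, mul_inv_cancel_right, mul_inv_cancel, one_mul, F.Z_sq _ h1]
  calc y * (c * c) = (1 : E) * y * (c * c) := by group
    _ = (c * c : E) * y * (c * c : E)⁻¹ * y⁻¹ * y * (c * c) := by rw [h3]
    _ = (c * c) * y := by group

/-- `C0 = Q C_E(Q)` -/
theorem exists_Q_of_C0 {c : NQ F} (hc : c ∈ C0 F) : ∃ y ∈ F.Q, y⁻¹ * (c : E) ∈ centralizer (F.Q : Set E) := by
  haveI : Fact (Nat.Prime 2) := ⟨Nat.prime_two⟩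
  have hsurj : Function.Surjective (QuotientGroup.mk' (K' F)) := QuotientGroup.mk'_surjective (K' F)
  have hN : ((C0 F).map (QuotientGroup.mk' (K' F))).Normal := (C0_normal F).map _ hsurj
  have hp : IsPGroup 2 ((C0 F).map (QuotientGroup.mk' (K' F))) := by
    rintro ⟨_, x, hx, rfl⟩
    refine ⟨1, Subtype.ext ?_⟩
    change (QuotientGroup.mk' (K' F) x) ^ 2 ^ 1 = 1
    rw [pow_one, pow_two, ← map_mul, QuotientGroup.mk'_apply, QuotientGroup.eq_one_iff]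
    exact C0_sq F hx
  have h1 := hp.le_sylow_of_normal ((F.T.subtype (T_le_NQ F)).mapSurjective hsurj)
  obtain ⟨s, hs, h2⟩ := h1 (mem_map_of_mem (QuotientGroup.mk' (K' F)) hc)
  have h3 : s⁻¹ * c ∈ K' F := by
    rw [QuotientGroup.mk'_apply, QuotientGroup.mk'_apply] at h2
    exact QuotientGroup.eq.1 h2
  have h4 : s ∈ C0 F := by
    have h5 : s = c * (s⁻¹ * c)⁻¹ := by group
    rw [h5]
    exact (C0 F).mul_mem hc ((C0 F).inv_mem (K'_le_C0 F h3))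
  exact ⟨s, mem_Q_of_C0 F hs h4, h3⟩

omit [Finite E] in
/-- the odd core of a subgroup is invariant under automorphisms stabilising the subgroup -/
theorem oddCore_map (K : Subgroup E) (e : E ≃* E) (h : ∀ x, e x ∈ K ↔ x ∈ K) {x : E}
    (hx : x ∈ (Cfsg.oddCore K).map K.subtype) : e x ∈ (Cfsg.oddCore K).map K.subtype := by
  let e' : K ≃* K :=
    { toFun := fun x => ⟨e (x : E), (h x).2 x.2⟩
      invFun := fun x => ⟨e.symm (x : E), (h _).1 (by rw [e.apply_symm_apply]; exact x.2)⟩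
      left_inv := fun x => Subtype.ext (e.symm_apply_apply (x : E))
      right_inv := fun x => Subtype.ext (e.apply_symm_apply (x : E))
      map_mul' := fun x y => Subtype.ext (map_mul e (x : E) (y : E)) }
  obtain ⟨x, hx, rfl⟩ := hx
  have h1 : e' x ∈ Cfsg.oddCore K := by
    have h2 := Cores.map_equiv_pPrimeCore e' 2
    have h3 : e' x ∈ (Cfsg.pPrimeCore 2 K).map e'.toMonoidHom := ⟨x, hx, rfl⟩
    rw [h2] at h3
    exact h3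
  exact ⟨e' x, h1, rfl⟩

/-- `D₁ = O(C_E(Q))` -/
def D1 : Subgroup E := (Cfsg.oddCore (centralizer (F.Q : Set E))).map (centralizer (F.Q : Set E)).subtype

theorem D1_odd : Odd (Nat.card (D1 F)) := by
  have h1 : Nat.card (D1 F) = Nat.card (Cfsg.oddCore (centralizer (F.Q : Set E))) :=
    (Nat.card_congr ((Cfsg.oddCore (centralizer (F.Q : Set E))).equivMapOfInjective
      (centralizer (F.Q : Set E)).subtype (centralizer (F.Q : Set E)).subtype_injective).toEquiv).symm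
  rw [h1, ← Nat.coprime_two_right]
  exact Cores.pPrimeCore_coprime (G := centralizer (F.Q : Set E)) 2

theorem D1_Q {x : E} (hx : x ∈ D1 F) {y : E} (hy : y ∈ F.Q) : x * y = y * x := by
  obtain ⟨x, -, rfl⟩ := hx
  exact (mem_centralizer_iff.1 x.2 y hy).symm

theorem D1_conj {g : E} (hg : g ∈ NQ F) {x : E} (hx : x ∈ D1 F) : g * x * g⁻¹ ∈ D1 F := by
  refine oddCore_map _ (MulAut.conj g) (fun x => ?_) hx
  have key : ∀ g : E, g ∈ NQ F → ∀ x : E, x ∈ centralizer (F.Q : Set E) → g * x * g⁻¹ ∈ centralizer (F.Q : Set E) := by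
    intro g hg x hx
    rw [mem_centralizer_iff] at hx ⊢
    intro y hy
    have h3 := hx _ (NQ_Q' F hg hy)
    calc y * (g * x * g⁻¹) = g * ((g⁻¹ * y * g) * x) * g⁻¹ := by group
      _ = g * (x * (g⁻¹ * y * g)) * g⁻¹ := by rw [h3]
      _ = _ := by group
  constructor
  · intro h
    have h1 := key g⁻¹ ((NQ F).inv_mem hg) _ h
    rw [MulAut.conj_apply, inv_inv] at h1
    have h2 : g⁻¹ * (g * x * g⁻¹) * g = x := by group
    rwa [h2] at h1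
  · exact key g hg x

theorem D1_τ {x : E} (hx : x ∈ D1 F) : F.τ x ∈ D1 F := by
  have hQ : F.Q.map F.τ.toMonoidHom = F.Q := by
    apply eq_of_le_of_card_ge
    · rintro _ ⟨y, hy, rfl⟩
      exact F.τ_Q y hy
    · exact (Nat.card_congr (F.Q.equivMapOfInjective F.τ.toMonoidHom F.τ.injective).toEquiv).le
  have hQ' : ∀ y ∈ F.Q, ∃ y' ∈ F.Q, F.τ y' = y := by
    intro y hy
    rw [← hQ] at hy
    obtain ⟨y', hy', h⟩ := hy
    exact ⟨y', hy', h⟩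
  refine oddCore_map _ F.τ (fun x => ?_) hx
  rw [mem_centralizer_iff, mem_centralizer_iff]
  constructor
  · intro h y hy
    apply F.τ.injective
    rw [map_mul, map_mul]
    exact h _ (F.τ_Q y hy)
  · intro h y hy
    obtain ⟨y', hy', rfl⟩ := hQ' y hy
    rw [← map_mul, ← map_mul, h y' hy']

/-- `C_E(Q) = Z × D₁` -/
theorem exists_D1 {x : E} (hx : x ∈ centralizer (F.Q : Set E)) : ∃ d ∈ D1 F, ∃ z ∈ F.Z, x = d * z := by
  haveI : Fact (Nat.Prime 2) := ⟨Nat.prime_two⟩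
  set K := centralizer (F.Q : Set E) with hK
  have hZK : F.Z ≤ K := by
    intro z hz
    rw [hK, mem_centralizer_iff]
    intro y hy
    exact (F.Z_cent z hz y (F.Q_le hy)).symm
  have hZ2 : IsPGroup 2 F.Z := F.T.isPGroup'.to_le (F.Z_le_Q.trans F.Q_le)
  have hKN : K ≤ NQ F := centralizer_le_normalizer _
  obtain ⟨R, hZR, hRK, hR, hRi⟩ := exists_sylow_in hZK hZ2
  obtain ⟨n, hn, hnR⟩ := exists_conj_le F.T (T_le_NQ F) (hRK.trans hKN) hR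
  have hRZ : R ≤ F.Z := by
    intro r hr
    have h1 : n * r * n⁻¹ ∈ (F.T : Subgroup E) := hnR ⟨r, hr, rfl⟩
    have h2 : n * r * n⁻¹ ∈ F.Z := by
      apply F.Q_cent _ h1
      intro y hy
      have h3 := mem_centralizer_iff.1 (hRK hr) _ (NQ_Q' F hn hy)
      calc n * r * n⁻¹ * y = n * (r * (n⁻¹ * y * n)) * n⁻¹ := by group
        _ = n * ((n⁻¹ * y * n) * r) * n⁻¹ := by rw [h3]
        _ = _ := by group
    have h4 := NQ_Z' F hn h2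
    have h5 : n⁻¹ * (n * r * n⁻¹) * n = r := by group
    rwa [h5] at h4
  have hRe : R = F.Z := le_antisymm hRZ hZR
  rw [hRe] at hRi
  have hP : IsPGroup 2 (F.Z.subgroupOf K) := hZ2.comap_of_injective K.subtype K.subtype_injective
  let P : Sylow 2 K := hP.toSylow hRi
  have hPc : normalizer ((P : Subgroup K) : Set K) ≤ centralizer ((P : Subgroup K) : Set K) := by
    intro n _
    rw [mem_centralizer_iff]
    intro z hz
    have hz' : (z : E) ∈ F.Z := hz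
    exact Subtype.ext (mem_centralizer_iff.1 n.2 (z : E) (F.Z_le_Q hz')).symm.symm
  have hcomp := MonoidHom.ker_transferSylow_isComplement' P hPc
  have hnd := MonoidHom.not_dvd_card_ker_transferSylow P hPc
  have hle : (MonoidHom.transferSylow P hPc).ker ≤ Cfsg.oddCore K :=
    Cores.le_pPrimeCore inferInstance (((Nat.Prime.coprime_iff_not_dvd Nat.prime_two).2 hnd).symm)
  obtain ⟨⟨d, z⟩, hdz, -⟩ := isComplement'_def.1 hcomp |>.existsUnique ⟨x, hx⟩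
  refine ⟨(d : K), ⟨(d : K), hle d.2, rfl⟩, ((z : K) : E), z.2, ?_⟩
  exact (congrArg Subtype.val hdz).symm

section main

variable (h0506 : S0506Stmt.{u}) (hZS : ZStarStmt.{u})
  (hT : ∀ (G : Type u) [Group G] [Finite G], IsSimpleGroup G → (∃ a b : G, a * b ≠ b * a) → TProp G)
  (h1173 : S1173Stmt.{u})
include h0506 hZS hT h1173

/-- `D₁` centralises `T` -/
theorem D1_T {x : E} (hx : x ∈ D1 F) {s : E} (hs : s ∈ (F.T : Subgroup E)) : x * s = s * x := by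
  have hXb : ∀ x ∈ D1 F, ∀ z ∈ F.Z, x * (F.na * z * F.na⁻¹) = (F.na * z * F.na⁻¹) * x := by
    apply F.core_Xb (D1 F) (D1_odd F) (fun x hx y hy => D1_Q F hx hy)
      (fun g hg x hx => D1_conj F (mem_normalizer_of hg) hx) (fun x hx => D1_τ F hx)
    intro z hz hz1 g hg z' hz'
    have h1 : F.na⁻¹ * g * F.na ∈ centralizer ({z} : Set E) := by
      rw [mem_centralizer_singleton_iff]
      calc F.na⁻¹ * g * F.na * z = F.na⁻¹ * (g * (F.na * z * F.na⁻¹)) * F.na := by group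
        _ = F.na⁻¹ * ((F.na * z * F.na⁻¹) * g) * F.na := by rw [hg]
        _ = _ := by group
    have h2 := NQ_Z F (cent_le F h0506 hZS hT h1173 hz hz1 h1) hz'
    refine ⟨_, h2, ?_⟩
    group
  have hC : F.Kb ≤ centralizer (D1 F : Set E) := by
    apply F.Kb_gen
    · intro z hz
      rw [mem_centralizer_iff]
      intro x hx
      exact hXb x hx z hz
    · intro k hk y hy
      rw [mem_centralizer_iff] at hy ⊢
      intro x hx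
      have h1 := D1_conj F ((NQ F).inv_mem (Kb_le_NQ F hk)) hx
      rw [inv_inv] at h1
      have h2 := hy _ h1
      calc x * (k * y * k⁻¹) = k * ((k⁻¹ * x * k) * y) * k⁻¹ := by group
        _ = k * (y * (k⁻¹ * x * k)) * k⁻¹ := by rw [h2]
        _ = _ := by group
  have hQ : F.Q ≤ centralizer (D1 F : Set E) := by
    intro y hy
    rw [mem_centralizer_iff]
    exact fun x hx => D1_Q F hx hy
  exact mem_centralizer_iff.1 (sup_le hQ hC (F.T_gen hs)) x hx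

/-- `N_E(Q) ∩ N_E(W ∩ Q) ≤ N_E(T)` -/
theorem norm_Q {g : E} (hgQ : g ∈ normalizer (F.Q : Set E))
    (hg : g ∈ normalizer ((F.W ⊓ F.Q : Subgroup E) : Set E)) : g ∈ normalizer ((F.T : Subgroup E) : Set E) := by
  haveI : Fact (Nat.Prime 2) := ⟨Nat.prime_two⟩
  apply mem_normalizer_of
  intro s hs
  obtain ⟨r, hr, h1⟩ := exists_T F hgQ hg hs
  have hrN := T_le_NQ F hr
  have hcN : r⁻¹ * (g * s * g⁻¹) ∈ NQ F :=
    (NQ F).mul_mem ((NQ F).inv_mem hrN) ((NQ F).mul_mem ((NQ F).mul_mem hgQ (T_le_NQ F hs)) ((NQ F).inv_mem hgQ))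
  obtain ⟨y, hy, h2⟩ := exists_Q_of_C0 F (c := ⟨_, hcN⟩) ((mem_C0 F).2 h1)
  obtain ⟨d, hd, z, hz, h3⟩ := exists_D1 F h2
  have hzT : z ∈ (F.T : Subgroup E) := F.W_le (F.Z_le_W hz)
  have hdz : d * z = z * d := D1_Q F hd (F.Z_le_Q hz)
  set t₁ := r * y * z with ht₁
  have ht₁T : t₁ ∈ (F.T : Subgroup E) :=
    (F.T : Subgroup E).mul_mem ((F.T : Subgroup E).mul_mem hr (F.Q_le hy)) hzT
  have h4 : g * s * g⁻¹ = t₁ * d := by
    calc g * s * g⁻¹ = r * y * (y⁻¹ * (r⁻¹ * (g * s * g⁻¹))) := by group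
      _ = r * y * (d * z) := by rw [← h3]
      _ = t₁ * d := by rw [hdz, ht₁]; group
  have hcomm : Commute t₁ d := (D1_T F h0506 hZS hT h1173 hd ht₁T).symm
  obtain ⟨m, hm⟩ := (IsPGroup.iff_card.1 F.T.isPGroup')
  have h5 : ∀ x ∈ (F.T : Subgroup E), x ^ 2 ^ m = 1 := by
    intro x hx
    have h6 : (⟨x, hx⟩ : (F.T : Subgroup E)) ^ Nat.card (F.T : Subgroup E) = 1 := pow_card_eq_one'
    rw [hm] at h6
    exact congrArg Subtype.val h6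
  have h7 : (g * s * g⁻¹) ^ 2 ^ m = 1 := by
    rw [conj_pow, h5 s hs]; group
  rw [h4, hcomm.mul_pow, h5 t₁ ht₁T, one_mul] at h7
  have h8 : d ^ Nat.card (D1 F) = 1 := by
    have h6 : (⟨d, hd⟩ : D1 F) ^ Nat.card (D1 F) = 1 := pow_card_eq_one'
    exact congrArg Subtype.val h6
  have h9 : Nat.Coprime (2 ^ m) (Nat.card (D1 F)) :=
    Nat.Coprime.pow_left _ (Nat.coprime_two_left.2 (D1_odd F))
  have h10 : orderOf d ∣ 1 := by
    rw [← h9]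
    exact Nat.dvd_gcd (orderOf_dvd_of_pow_eq_one h7) (orderOf_dvd_of_pow_eq_one h8)
  have h11 : d = 1 := orderOf_eq_one_iff.1 (Nat.dvd_one.1 h10)
  rw [h4, h11, mul_one]
  exact ht₁T

/-- `N_E(W) ∩ N_E(Z) ≤ N_E(T)` -/
theorem norm_W {g : E} (hgW : g ∈ normalizer (F.W : Set E)) (hg : g ∈ normalizer (F.Z : Set E)) :
    g ∈ normalizer ((F.T : Subgroup E) : Set E) := by
  have hgQ := NZ_le_NQ F h0506 hZS hT h1173 hg
  apply norm_Q F h0506 hZS hT h1173 hgQ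
  apply mem_normalizer_of
  rintro x ⟨hxW, hxQ⟩
  exact ⟨(mem_normalizer_iff.1 hgW x).1 hxW, (mem_normalizer_iff.1 hgQ x).1 hxQ⟩

end main

end Cfsg.Agent.StdSpFour.CloseNTwo
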