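import Cfsg.Agent.StdSpFour.CloseDefs
import Cfsg.Agent.Lib.CoprimeHyperplane

/-!
# S1778, closing of `U₄(q)`, `U₅(q)`: the odd order subgroups and the involution `t`

* `comm_P`: an odd order subgroup of `C_E(z)` normalised by `P`: its centraliser of `t` centralises `P`.
* `comm_V`: `[O(C_E(z)), V] = 1`.
* `comm_Xb`: `[O(C_E(Q)), X_b] = 1`, if `C_E(x) ≤ N_E(X_b)` for `1 ≠ x ∈ X_b`.
-/

set_option autoImplicit false
set_option linter.style.haveILetI false

namespace Cfsg.Agent.StdSpFour.CloseTau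

open Subgroup
open Cfsg.Agent.StdSpFour.CloseDefs

variable {G : Type*} [Group G] {E : Subgroup G} {t : G}

/-- an element of odd order and of order a power of two is trivial -/
theorem eq_one_of_odd_of_two {G : Type*} [Group G] [Finite G] {O T : Subgroup G} (hO : Odd (Nat.card O))
    (hT : IsPGroup 2 T) {x : G} (hxO : x ∈ O) (hxT : x ∈ T) : x = 1 := by
  haveI : Fact (Nat.Prime 2) := ⟨Nat.prime_two⟩
  obtain ⟨k, hk⟩ := IsPGroup.iff_card.1 hT
  have h1 : (Nat.card T).Coprime (Nat.card O) := by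
    rw [hk]
    exact Nat.Coprime.pow_left k (Nat.coprime_two_left.2 hO)
  have h2 := (disjoint_of_coprime_natCard h1).eq_bot
  have h3 : x ∈ T ⊓ O := ⟨hxT, hxO⟩
  rwa [h2, mem_bot] at h3

namespace RelFacts

variable (R : RelFacts E t) [Finite G]
include R

theorem comm_P {O : Subgroup G} (hO : Odd (Nat.card O)) (hOE : O ≤ E) {z : G} (hz : z ∈ R.Z) (hz1 : z ≠ 1)
    (hOz : ∀ x ∈ O, x * z = z * x) (hP : ∀ p ∈ R.P, ∀ x ∈ O, t * x = x * t → p * x * p⁻¹ ∈ O) {x : G} (hx : x ∈ O)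
    (hxt : t * x = x * t) {p : G} (hp : p ∈ R.P) : x * p = p * x := by
  have hQ2 : IsPGroup 2 R.Q := R.T_two.to_le R.Q_le
  -- the set of elements of `O ∩ P` commuting with `t` is trivial
  have key : ∀ y ∈ O, t * y = y * t → y ∈ R.P → y = 1 := by
    intro y hy hyt hyP
    have hyQ : y ∈ R.Q := by
      apply R.P_self y hyP
      intro v hvP hvQ
      have h1 : y * v * y⁻¹ * v⁻¹ ∈ R.Q :=
        R.Q.mul_mem (R.P_Q y hyP v hvQ) (R.Q.inv_mem hvQ)
      have h2 : y * v * y⁻¹ * v⁻¹ ∈ O := by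
        have h3 : y * v * y⁻¹ * v⁻¹ = y * (v * y⁻¹ * v⁻¹) := by group
        rw [h3]
        refine O.mul_mem hy (hP v hvP _ (O.inv_mem hy) ?_)
        calc t * y⁻¹ = y⁻¹ * (y * t) * y⁻¹ := by group
          _ = y⁻¹ * (t * y) * y⁻¹ := by rw [hyt]
          _ = y⁻¹ * t := by group
      have h4 := eq_one_of_odd_of_two hO hQ2 h2 h1
      calc y * v = y * v * y⁻¹ * v⁻¹ * (v * y) := by group
        _ = v * y := by rw [h4, one_mul]
    exact eq_one_of_odd_of_two hO hQ2 hy hyQ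
  have h1 : x * p * x⁻¹ * p⁻¹ = 1 := by
    apply key
    · have h3 : x * p * x⁻¹ * p⁻¹ = x * (p * x⁻¹ * p⁻¹) := by group
      rw [h3]
      refine O.mul_mem hx (hP p hp _ (O.inv_mem hx) ?_)
      calc t * x⁻¹ = x⁻¹ * (x * t) * x⁻¹ := by group
        _ = x⁻¹ * (t * x) * x⁻¹ := by rw [hxt]
        _ = x⁻¹ * t := by group
    · have hpt := R.P_t p hp
      have h2 : Commute t x := hxt
      have h3 : Commute t p := hpt
      exact ((h2.mul_right h3).mul_right h2.inv_right).mul_right h3.inv_right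
    · exact R.P.mul_mem (R.P_norm x (hOE hx) hxt z hz hz1 (hOz x hx) p hp) (R.P.inv_mem hp)
  calc x * p = x * p * x⁻¹ * p⁻¹ * (p * x) := by group
    _ = p * x := by rw [h1, one_mul]

omit [Finite G] in
theorem W_comm {x y : G} (hx : x ∈ R.W) (hy : y ∈ R.W) : x * y = y * x := by
  have h1 := R.W_sq _ (R.W.mul_mem hx hy)
  have h2 : x⁻¹ = x := inv_eq_of_mul_eq_one_left (R.W_sq x hx)
  have h3 : y⁻¹ = y := inv_eq_of_mul_eq_one_left (R.W_sq y hy)
  calc x * y = (x * y)⁻¹ := (inv_eq_of_mul_eq_one_left h1).symm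
    _ = y * x := by rw [mul_inv_rev, h2, h3]

omit [Finite G] in
theorem t_V {v : G} (hv : v ∈ R.V) : t * v = v * t := R.P_t v (R.V_P hv)

omit [Finite G] in
theorem t_inv : t⁻¹ = t := inv_eq_of_mul_eq_one_left R.tt

/-- the elementary abelian group `⟨t⟩V` -/
def tV : Subgroup G where
  carrier := {x | ∃ v ∈ R.V, x = v ∨ x = t * v}
  one_mem' := ⟨1, R.V.one_mem, Or.inl rfl⟩
  mul_mem' := by
    rintro a b ⟨v, hv, ha⟩ ⟨w, hw, hb⟩
    have h1 := t_V R hv
    have h2 := t_V R hw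
    refine ⟨v * w, R.V.mul_mem hv hw, ?_⟩
    rcases ha with rfl | rfl <;> rcases hb with rfl | rfl
    · exact Or.inl rfl
    · right
      calc a * (t * w) = (a * t) * w := by group
        _ = t * (a * w) := by rw [← h1]; group
    · right; group
    · left
      calc t * v * (t * w) = t * (v * t) * w := by group
        _ = (t * t) * (v * w) := by rw [← h1]; group
        _ = v * w := by rw [R.tt, one_mul]
  inv_mem' := by
    rintro a ⟨v, hv, ha⟩
    have h1 := t_V R (R.V.inv_mem hv)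
    refine ⟨v⁻¹, R.V.inv_mem hv, ?_⟩
    rcases ha with rfl | rfl
    · exact Or.inl rfl
    · right
      rw [mul_inv_rev, t_inv R, h1]

omit [Finite G] in
theorem mem_tV {x : G} : x ∈ tV R ↔ ∃ v ∈ R.V, x = v ∨ x = t * v := Iff.rfl

omit [Finite G] in
theorem tV_comm {x y : G} (hx : x ∈ tV R) (hy : y ∈ tV R) : x * y = y * x := by
  obtain ⟨v, hv, hx⟩ := hx
  obtain ⟨w, hw, hy⟩ := hy
  have h1 : Commute t v := t_V R hv
  have h2 : Commute t w := t_V R hw
  have h3 : Commute v w := W_comm R (R.V_W hv) (R.V_W hw)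
  change Commute x y
  rcases hx with rfl | rfl <;> rcases hy with rfl | rfl
  · exact h3
  · exact h1.symm.mul_right h3
  · exact h2.mul_left h3
  · exact ((Commute.refl t).mul_right h2).mul_left (h1.symm.mul_right h3)

omit [Finite G] in
theorem tV_sq {x : G} (hx : x ∈ tV R) : x * x = 1 := by
  obtain ⟨v, hv, hx⟩ := hx
  have h1 := t_V R hv
  have h2 := R.W_sq v (R.V_W hv)
  rcases hx with rfl | rfl
  · exact h2
  · calc t * v * (t * v) = t * (v * t) * v := by group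
      _ = (t * t) * (v * v) := by rw [← h1]; group
      _ = 1 := by rw [R.tt, h2, one_mul]

/-- **`[O(C_E(z)), V] = 1`** -/
theorem comm_V {O : Subgroup G} (hO : Odd (Nat.card O)) (hOE : O ≤ E) {z : G} (hz : z ∈ R.Z) (hz1 : z ≠ 1)
    (hOz : ∀ x ∈ O, x * z = z * x) (hn : ∀ g ∈ E, g * z = z * g → ∀ x ∈ O, g * x * g⁻¹ ∈ O)
    (ht : ∀ x ∈ O, t * x * t⁻¹ ∈ O) {x v : G} (hx : x ∈ O) (hv : v ∈ R.V) : x * v = v * x := by
  haveI : Fact (Nat.Prime 2) := ⟨Nat.prime_two⟩
  have hA : Cfsg.IsElementaryAbelian 2 (tV R) := by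
    refine ⟨⟨⟨fun a b => Subtype.ext (tV_comm R a.2 b.2)⟩⟩, fun a ha => ?_⟩
    rw [pow_two]
    exact tV_sq R ha
  obtain ⟨v0, hv0, hv0Z⟩ := R.V_ne
  have hv01 : v0 ≠ 1 := by
    rintro rfl
    exact hv0Z R.Z.one_mem
  have hVA : R.V ≤ tV R := fun w hw => ⟨w, hw, Or.inl rfl⟩
  have htA : t ∈ tV R := ⟨1, R.V.one_mem, Or.inr (mul_one t).symm⟩
  have hA1 : tV R ≠ ⊥ := by
    intro h
    have h1 := hVA hv0
    rw [h, mem_bot] at h1
    exact hv01 h1
  have hVO : ∀ w ∈ R.V, ∀ y ∈ O, w * y * w⁻¹ ∈ O := fun w hw y hy =>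
    hn w (R.P_le (R.V_P hw)) (R.P_Z w (R.V_P hw) z hz) y hy
  have hAO : tV R ≤ normalizer (O : Set G) := by
    rw [le_normalizer_iff]
    rintro a ⟨w, hw, rfl | rfl⟩ y hy
    · exact hVO a hw y hy
    · have h1 := ht _ (hVO w hw y hy)
      have h2 : t * (w * y * w⁻¹) * t⁻¹ = t * w * y * (t * w)⁻¹ := by group
      rwa [h2] at h1
  have hO2 : ¬ 2 ∣ Nat.card O := by
    intro h
    exact (Nat.not_even_iff_odd.2 hO) (even_iff_two_dvd.2 h)
  have hmain := Cfsg.Agent.Lib.CoprimeHyperplane.iSup_centralizer_hyperplane (p := 2) hA hA1 hO2 hAO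
  -- elements of `O` commuting with `t`
  have hPO : ∀ p ∈ R.P, ∀ x ∈ O, t * x = x * t → p * x * p⁻¹ ∈ O := fun p hp x hx _ =>
    hn p (R.P_le hp) (R.P_Z p hp z hz) x hx
  have hct : ∀ x ∈ O, t * x = x * t → ∀ w ∈ R.V, x * w = w * x := fun x hx hxt w hw =>
    comm_P R hO hOE hz hz1 hOz hPO hx hxt (R.V_P hw)
  have hle : O ≤ centralizer (R.V : Set G) := by
    rw [← hmain]
    refine iSup_le ?_
    rintro ⟨B, hBA, hBi⟩ o ⟨hoO, hoB⟩
    have hoB' : ∀ b ∈ B, b * o = o * b := fun b hb => mem_centralizer_iff.1 hoB b hb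
    rw [mem_centralizer_iff]
    by_cases hBV : B ≤ R.V
    · -- `B = V`
      have h1 : B.relIndex R.V * R.V.relIndex (tV R) = 2 := by
        rw [relIndex_mul_relIndex _ _ _ hBV hVA, hBi]
      have h2 : R.V.relIndex (tV R) ≠ 1 ∨ t ∈ R.V := by
        by_cases h : t ∈ R.V
        · exact Or.inr h
        · left
          intro h3
          rw [relIndex_eq_one] at h3
          exact h (h3 htA)
      rcases h2 with h2 | h2
      · have h3 : R.V.relIndex (tV R) = 2 := by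
          have h4 : R.V.relIndex (tV R) ∣ 2 := Dvd.intro_left _ h1
          exact ((Nat.dvd_prime Nat.prime_two).1 h4).resolve_left h2
        have h4 : B.relIndex R.V = 1 := by
          rw [h3] at h1; omega
        intro w hw
        exact hoB' w (relIndex_eq_one.1 h4 hw)
      · -- `t ∈ V` is impossible
        exfalso
        obtain ⟨y, hyW, -, hy⟩ := R.V_t v0 hv0
        apply hv01
        have h3 := W_comm R (R.V_W h2) hyW
        have h4 : t * y * t⁻¹ = y := by rw [h3]; group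
        rw [h4] at hy
        exact (mul_eq_left.1 hy.symm)
    · obtain ⟨b, hb, hbV⟩ := SetLike.not_le_iff_exists.1 hBV
      obtain ⟨w, hw, hbw⟩ := hBA hb
      rcases hbw with rfl | rfl
      · exact absurd hw hbV
      · -- `o` commutes with `t w`
        obtain ⟨y, hyW, hyQ, hy⟩ := R.V_t w hw
        have hyE : y ∈ E := R.T_le (R.W_le hyW)
        have hyz : y * z = z * y := (R.Z_cent z hz y (R.W_le hyW)).symm
        have htw := t_V R hw
        have h1 : t * y = y * (t * w) := by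
          calc t * y = t * y * t⁻¹ * t := by group
            _ = y * (w * t) := by rw [hy]; group
            _ = y * (t * w) := by rw [htw]
        have h2 : y * o * y⁻¹ ∈ O := hn y hyE hyz o hoO
        have h3 : t * (y * o * y⁻¹) = (y * o * y⁻¹) * t := by
          have h4 := hoB' _ hb
          have h5 : y⁻¹ * t = (t * w) * y⁻¹ := by
            calc y⁻¹ * t = y⁻¹ * (t * y) * y⁻¹ := by group
              _ = (t * w) * y⁻¹ := by rw [h1]; group
          calc t * (y * o * y⁻¹) = (t * y) * o * y⁻¹ := by group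
            _ = y * ((t * w) * o) * y⁻¹ := by rw [h1]; group
            _ = y * (o * (t * w)) * y⁻¹ := by rw [h4]
            _ = y * o * ((t * w) * y⁻¹) := by group
            _ = y * o * (y⁻¹ * t) := by rw [h5]
            _ = _ := by group
        intro u hu
        have h6 := hct _ h2 h3 u hu
        have h7 := W_comm R hyW (R.V_W hu)
        have h8 : y⁻¹ * u = u * y⁻¹ := by
          calc y⁻¹ * u = y⁻¹ * (u * y) * y⁻¹ := by group
            _ = y⁻¹ * (y * u) * y⁻¹ := by rw [h7]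
            _ = u * y⁻¹ := by group
        calc u * o = y⁻¹ * (y * u) * o := by group
          _ = y⁻¹ * (u * (y * o * y⁻¹)) * y := by rw [h7]; group
          _ = y⁻¹ * ((y * o * y⁻¹) * u) * y := by rw [h6]
          _ = o * (y⁻¹ * u) * y := by group
          _ = o * u := by rw [h8]; group
  exact (mem_centralizer_iff.1 (hle hx) v hv).symm

/-- **`[O(C_E(Q)), X_b] = 1`** -/
theorem comm_Xb {D : Subgroup G} (hD : Odd (Nat.card D)) (hDE : D ≤ E) (hDQ : ∀ x ∈ D, ∀ y ∈ R.Q, x * y = y * x)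
    (hPD : ∀ p ∈ R.P, ∀ x ∈ D, p * x * p⁻¹ ∈ D) (htD : ∀ x ∈ D, t * x * t⁻¹ ∈ D)
    (hX : ∀ z ∈ R.Z, z ≠ 1 → ∀ g ∈ E, g * (R.na * z * R.na⁻¹) = (R.na * z * R.na⁻¹) * g →
      ∀ z' ∈ R.Z, ∃ z'' ∈ R.Z, g * (R.na * z' * R.na⁻¹) * g⁻¹ = R.na * z'' * R.na⁻¹)
    {x z : G} (hx : x ∈ D) (hz : z ∈ R.Z) : x * (R.na * z * R.na⁻¹) = (R.na * z * R.na⁻¹) * x := by
  haveI : Fact (Nat.Prime 2) := ⟨Nat.prime_two⟩
  set Xb : Subgroup G := R.Z.map (MulAut.conj R.na).toMonoidHom with hXb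
  have hXbP : ∀ b ∈ Xb, b ∈ R.P := by
    rintro _ ⟨z, hz, rfl⟩
    exact R.Xb_P z hz
  have hXbsq : ∀ b ∈ Xb, b * b = 1 := by
    rintro _ ⟨z, hz, rfl⟩
    change R.na * z * R.na⁻¹ * (R.na * z * R.na⁻¹) = 1
    calc R.na * z * R.na⁻¹ * (R.na * z * R.na⁻¹) = R.na * (z * z) * R.na⁻¹ := by group
      _ = 1 := by rw [R.Z_sq z hz]; group
  have hXbc : ∀ a ∈ Xb, ∀ b ∈ Xb, a * b = b * a := by
    rintro _ ⟨z, hz, rfl⟩ _ ⟨w, hw, rfl⟩
    change R.na * z * R.na⁻¹ * (R.na * w * R.na⁻¹) = R.na * w * R.na⁻¹ * (R.na * z * R.na⁻¹)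
    have h1 := W_comm R (R.Z_le_W hz) (R.Z_le_W hw)
    calc R.na * z * R.na⁻¹ * (R.na * w * R.na⁻¹) = R.na * (z * w) * R.na⁻¹ := by group
      _ = R.na * (w * z) * R.na⁻¹ := by rw [h1]
      _ = _ := by group
  have hXcard : Nat.card Xb = R.q := by
    rw [← R.Z_card]
    exact (Nat.card_congr (R.Z.equivMapOfInjective _ (MulAut.conj R.na).injective).toEquiv).symm
  have hA : Cfsg.IsElementaryAbelian 2 Xb := by
    refine ⟨⟨⟨fun a b => Subtype.ext (hXbc a a.2 b b.2)⟩⟩, fun a ha => ?_⟩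
    rw [pow_two]
    exact hXbsq a ha
  have h4 := R.h4
  have hA1 : Xb ≠ ⊥ := by
    intro h
    rw [h, card_bot] at hXcard
    omega
  have hD2 : ¬ 2 ∣ Nat.card D := by
    intro h
    exact (Nat.not_even_iff_odd.2 hD) (even_iff_two_dvd.2 h)
  have hAD : Xb ≤ normalizer (D : Set G) := by
    rw [le_normalizer_iff]
    intro b hb y hy
    exact hPD b (hXbP b hb) y hy
  have hmain := Cfsg.Agent.Lib.CoprimeHyperplane.iSup_centralizer_hyperplane (p := 2) hA hA1 hD2 hAD
  -- a nontrivial element of `Z`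
  obtain ⟨z0, hz0, hz01⟩ : ∃ z ∈ R.Z, z ≠ 1 := by
    by_contra hcon
    push Not at hcon
    have h1 : R.Z = ⊥ := eq_bot_iff.2 fun w hw => by rw [mem_bot]; exact hcon w hw
    have h2 := R.Z_card
    rw [h1, card_bot] at h2
    omega
  have hct : ∀ y ∈ D, t * y = y * t → ∀ b ∈ Xb, y * b = b * y := fun y hy hyt b hb =>
    comm_P R hD hDE hz0 hz01 (fun a ha => hDQ a ha z0 (R.Z_le_Q hz0))
      (fun p hp a ha _ => hPD p hp a ha) hy hyt (hXbP b hb)
  -- one element
  have hone : ∀ b ∈ Xb, b ≠ 1 → ∀ y ∈ D, y * b = b * y → ∀ c ∈ Xb, y * c = c * y := by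
    intro b hb hb1 y hy hyb
    obtain ⟨zb, hzb, hbz⟩ := hb
    have hbz' : R.na * zb * R.na⁻¹ = b := hbz
    have hzb1 : zb ≠ 1 := by
      rintro rfl
      apply hb1
      rw [← hbz']; group
    have hbXb : b ∈ Xb := ⟨zb, hzb, hbz⟩
    -- `C_D(b)` normalises `Xb`
    have hnor : ∀ w ∈ D, w * b = b * w → ∀ c ∈ Xb, w * c * w⁻¹ ∈ Xb := by
      rintro w hw hwb _ ⟨z', hz', rfl⟩
      obtain ⟨z'', hz'', h1⟩ := hX zb hzb hzb1 w (hDE hw) (by rw [hbz']; exact hwb) z' hz'
      exact ⟨z'', hz'', h1.symm⟩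
    have htb : t * b = b * t := R.P_t b (hXbP b hbXb)
    set c := y⁻¹ * (t * y * t⁻¹) with hc
    have hcD : c ∈ D := D.mul_mem (D.inv_mem hy) (htD y hy)
    have htyb : (t * y * t⁻¹) * b = b * (t * y * t⁻¹) := by
      have h1 : t⁻¹ * b = b * t⁻¹ := by
        calc t⁻¹ * b = t⁻¹ * (b * t) * t⁻¹ := by group
          _ = b * t⁻¹ := by rw [← htb]; group
      calc (t * y * t⁻¹) * b = t * y * (t⁻¹ * b) := by group
        _ = t * (y * b) * t⁻¹ := by rw [h1]; group
        _ = (t * b) * y * t⁻¹ := by rw [hyb]; group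
        _ = b * (t * y * t⁻¹) := by rw [htb]; group
    -- `c` centralises `Xb`
    have hcX : ∀ a ∈ Xb, c * a = a * c := by
      intro a ha
      have hta : t * a = a * t := R.P_t a (hXbP a ha)
      have h2 : y * a * y⁻¹ ∈ Xb := hnor y hy hyb a ha
      have h3 : t * (y * a * y⁻¹) = (y * a * y⁻¹) * t := R.P_t _ (hXbP _ h2)
      have h5 : (t * y * t⁻¹) * a * (t * y * t⁻¹)⁻¹ = y * a * y⁻¹ := by
        calc (t * y * t⁻¹) * a * (t * y * t⁻¹)⁻¹ = t * y * t⁻¹ * (a * t) * y⁻¹ * t⁻¹ := by group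
          _ = t * (y * a * y⁻¹) * t⁻¹ := by rw [← hta]; group
          _ = y * a * y⁻¹ := by rw [h3]; group
      calc c * a = y⁻¹ * ((t * y * t⁻¹) * a * (t * y * t⁻¹)⁻¹) * (t * y * t⁻¹) := by rw [hc]; group
        _ = y⁻¹ * (y * a * y⁻¹) * (t * y * t⁻¹) := by rw [h5]
        _ = a * c := by rw [hc]; group
    -- `t` inverts `c`; a square root of `c`
    have hti := t_inv R
    have htc : t * c * t⁻¹ = c⁻¹ := by
      rw [hc]
      calc t * (y⁻¹ * (t * y * t⁻¹)) * t⁻¹ = t * y⁻¹ * t * y * (t⁻¹ * t⁻¹) := by group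
        _ = t * y⁻¹ * t * y * (t * t) := by rw [hti]
        _ = t * y⁻¹ * t * y := by rw [R.tt, mul_one]
        _ = t * y⁻¹ * t⁻¹ * y := by rw [hti]
        _ = (y⁻¹ * (t * y * t⁻¹))⁻¹ := by group
    have hcodd : Odd (orderOf c) := by
      have h1 : orderOf c ∣ Nat.card D := by
        rw [← Subgroup.orderOf_mk c hcD]; exact orderOf_dvd_natCard _
      exact Odd.of_dvd_nat hD h1
    obtain ⟨m, hm⟩ := hcodd
    set d := c ^ (m + 1) with hd
    have hdd : d * d = c := by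
      rw [hd, ← pow_add]
      have h1 : m + 1 + (m + 1) = orderOf c + 1 := by omega
      rw [h1, pow_add, pow_orderOf_eq_one, one_mul, pow_one]
    have hdD : d ∈ D := D.pow_mem hcD _
    have htd : t * d * t⁻¹ = d⁻¹ := by
      have h1 : t * d * t⁻¹ = (t * c * t⁻¹) ^ (m + 1) := by
        rw [hd, conj_pow]
      rw [h1, htc, hd, inv_pow]
    have hdX : ∀ a ∈ Xb, d * a = a * d := by
      intro a ha
      have h1 : Commute c a := hcX a ha
      exact h1.pow_left (m + 1)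
    have hyd : t * (y * d) = (y * d) * t := by
      calc t * (y * d) = (t * y * t⁻¹) * (t * d * t⁻¹) * t := by group
        _ = (y * c) * d⁻¹ * t := by rw [htd, hc]; group
        _ = (y * (d * d)) * d⁻¹ * t := by rw [hdd]
        _ = (y * d) * t := by group
    intro a ha
    have h1 := hct (y * d) (D.mul_mem hy hdD) hyd a ha
    have h2 := hdX a ha
    calc y * a = (y * d) * (d⁻¹ * a) := by group
      _ = (y * d) * (d⁻¹ * (a * d) * d⁻¹) := by group
      _ = ((y * d) * a) * d⁻¹ := by rw [← h2]; group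
      _ = a * y := by rw [h1]; group
  have hle : D ≤ centralizer (Xb : Set G) := by
    rw [← hmain]
    refine iSup_le ?_
    rintro ⟨B, hBA, hBi⟩ o ⟨hoO, hoB⟩
    have hoB' : ∀ b ∈ B, b * o = o * b := fun b hb => mem_centralizer_iff.1 hoB b hb
    rw [mem_centralizer_iff]
    have hBcard : Nat.card B * 2 = R.q := by
      have h1 := Subgroup.relIndex_mul_relIndex (⊥ : Subgroup G) B Xb bot_le hBA
      rw [relIndex_bot_left, relIndex_bot_left, hBi, hXcard] at h1
      exact h1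
    obtain ⟨b, hb, hb1⟩ : ∃ b ∈ B, b ≠ 1 := by
      by_contra hcon
      push Not at hcon
      have h1 : B = ⊥ := eq_bot_iff.2 fun w hw => by rw [mem_bot]; exact hcon w hw
      rw [h1, card_bot] at hBcard
      omega
    intro a ha
    exact (hone b (hBA hb) hb1 o hoO (hoB' b hb).symm a ha).symm
  have h1 := mem_centralizer_iff.1 (hle hx) (R.na * z * R.na⁻¹) ⟨z, hz, rfl⟩
  exact h1.symm

end RelFacts

end Cfsg.Agent.StdSpFour.CloseTau
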