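import Cfsg.Agent.StdRank2.L3End

/-!
# S1778, type `Sp₄(q)`, case (A): the conclusion from S1170

`three_dvd`: `3` divides the order of `A`. `concl`: a Sylow 2-subgroup of `L` of class two gives `Concl L t`.
-/

set_option autoImplicit false

namespace Cfsg.Agent.StdSpFour.ConclSp

open Cfsg Subgroup Cfsg.Agent.StdEven.Syl Cfsg.Agent.StdL2.Setup Cfsg.Agent.StdEven.Red
open Cfsg.Agent.StdSz.Out
open scoped commutatorElement

universe u

section Matrices

variable {F : Type*} [Field F]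

def mA (F : Type*) [Field F] : Matrix (Fin 2) (Fin 2) F := !![0, 1; 1, 1]

def mA' (F : Type*) [Field F] : Matrix (Fin 2) (Fin 2) F := !![1, 1; 1, 0]

def mS (F : Type*) [Field F] : Matrix (Fin 2) (Fin 2) F := !![1, 0; 0, 0]

theorem mA_mul (h2 : (1 : F) + 1 = 0) : mA F * (mA' F).transpose = 1 := by
  ext i j
  fin_cases i <;> fin_cases j <;> simp [mA, mA', Matrix.mul_apply, h2]

theorem mA'_mul (h2 : (1 : F) + 1 = 0) : mA' F * (mA F).transpose = 1 := by
  ext i j
  fin_cases i <;> fin_cases j <;> simp [mA, mA', Matrix.mul_apply, h2]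

theorem mA_cube (h2 : (1 : F) + 1 = 0) : mA F * mA F * mA F = 1 := by
  ext i j
  fin_cases i <;> fin_cases j <;> simp [mA, Matrix.mul_apply, Fin.sum_univ_two, h2]

theorem mA'_cube (h2 : (1 : F) + 1 = 0) : mA' F * mA' F * mA' F = 1 := by
  ext i j
  fin_cases i <;> fin_cases j <;> simp [mA', Matrix.mul_apply, Fin.sum_univ_two, h2]

/-- an element of order three -/
def eM (h2 : (1 : F) + 1 = 0) : Matrix.symplecticGroup (Fin 2) F :=
  ⟨Matrix.fromBlocks (mA F) 0 0 (mA' F), by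
    rw [SymplecticGroup.mem_iff, Matrix.J, Matrix.fromBlocks_multiply, Matrix.fromBlocks_transpose,
      Matrix.fromBlocks_multiply]
    simp only [Matrix.mul_zero, Matrix.zero_mul, add_zero, zero_add, Matrix.mul_one, Matrix.transpose_zero,
      Matrix.mul_neg, Matrix.neg_mul]
    rw [mA_mul h2, mA'_mul h2, neg_zero]⟩

/-- a transvection -/
def eN (F : Type*) [Field F] : Matrix.symplecticGroup (Fin 2) F :=
  ⟨Matrix.fromBlocks 1 (mS F) 0 1, by
    rw [SymplecticGroup.mem_iff, Matrix.J, Matrix.fromBlocks_multiply, Matrix.fromBlocks_transpose,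
      Matrix.fromBlocks_multiply]
    have hS : (mS F).transpose = mS F := by
      ext i j
      fin_cases i <;> fin_cases j <;> simp [mS]
    simp only [Matrix.mul_zero, Matrix.zero_mul, add_zero, zero_add, Matrix.mul_one, Matrix.transpose_zero,
      Matrix.mul_neg, Matrix.neg_mul, Matrix.transpose_one, Matrix.one_mul, hS, add_neg_cancel, neg_zero]⟩

theorem eM_cube (h2 : (1 : F) + 1 = 0) : eM h2 ^ 3 = 1 := by
  apply Subtype.ext
  rw [pow_succ, pow_two]
  show Matrix.fromBlocks (mA F) 0 0 (mA' F) * Matrix.fromBlocks (mA F) 0 0 (mA' F) *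
    Matrix.fromBlocks (mA F) 0 0 (mA' F) = 1
  rw [Matrix.fromBlocks_multiply, Matrix.fromBlocks_multiply]
  simp only [Matrix.mul_zero, Matrix.zero_mul, add_zero, zero_add]
  rw [mA_cube h2, mA'_cube h2, Matrix.fromBlocks_one]

theorem eM_not (h2 : (1 : F) + 1 = 0) : eM h2 ∉ center (Matrix.symplecticGroup (Fin 2) F) := by
  intro h
  have h1 := mem_center_iff.1 h (eN F)
  have h3 : Matrix.fromBlocks 1 (mS F) 0 1 * Matrix.fromBlocks (mA F) 0 0 (mA' F) =
    Matrix.fromBlocks (mA F) 0 0 (mA' F) * Matrix.fromBlocks 1 (mS F) 0 1 := congrArg Subtype.val h1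
  rw [Matrix.fromBlocks_multiply, Matrix.fromBlocks_multiply] at h3
  have h4 := congrArg (fun M => M (Sum.inl 0) (Sum.inr 0)) h3
  simp [mA, mA', mS] at h4

/-- `3` divides the order of `PSp₄` in characteristic two. -/
theorem three_dvd_psp [Finite F] (h2 : (1 : F) + 1 = 0) : 3 ∣ Nat.card (PSp 2 F) := by
  let y : PSp 2 F := QuotientGroup.mk (eM h2)
  have hy3 : y ^ 3 = 1 := by
    change (QuotientGroup.mk (eM h2 ^ 3) : PSp 2 F) = 1
    rw [eM_cube h2]
    rfl
  have hy1 : y ≠ 1 := fun e => eM_not h2 ((QuotientGroup.eq_one_iff _).1 e)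
  have ho : orderOf y = 3 := orderOf_eq_prime hy3 hy1
  have h5 := _root_.orderOf_dvd_natCard y
  rwa [ho] at h5

theorem three_dvd {A : Type*} [Group A] [Finite A] (h : TypeSp4 (A ⧸ center A)) : 3 ∣ Nat.card A := by
  obtain ⟨F, _, _, a, ha, hc, ⟨e⟩⟩ := h
  have h2 : (2 : F) = 0 := by
    have h1 : ((Fintype.card F : ℕ) : F) = 0 := by simp
    rw [hc, Nat.cast_pow] at h1
    exact_mod_cast pow_eq_zero_iff (by omega) |>.1 h1
  have h3 := three_dvd_psp (F := F) (by rw [one_add_one_eq_two, h2])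
  rw [← Nat.card_congr e.toEquiv] at h3
  exact h3.trans (card_quotient_dvd_card _)

end Matrices

variable {G : Type u} [Group G] [Finite G] {L A S : Subgroup G} {t : G}

/-- **The conclusion of S1778**, type `Sp₄(q)`, from a Sylow 2-subgroup of `L` of class two -/
theorem concl (h1170 : S1170Stmt.{u}) (C : Conf L A t) (hT : TypeSp4 (↥A ⧸ center ↥A)) (hS : IsSyl S L)
    (hnc : ∃ x ∈ S, ∃ y ∈ S, x * y ≠ y * x) (hcl : ∀ x ∈ S, ∀ y ∈ S, ∀ z ∈ S, ⁅x, y⁆ * z = z * ⁅x, y⁆)
    (h16 : 16 ≤ Nat.card S) (htL : t ∉ L) : Concl L t :=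
  ⟨Or.inl (Cfsg.Agent.StdRank2.L3End.lie h1170 C hS hnc hcl h16 (three_dvd hT)), htL⟩

end Cfsg.Agent.StdSpFour.ConclSp
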