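import Cfsg.Agent.StdSpFour.RingAFld

/-!
# Type `Sp₄`, case (A): graph elements on the second layers

`IsGrf B ψ y`: `y x_a(u) y⁻¹ = x_b(ψ(u)²)`, `y x_b(s) y⁻¹ = x_a(ψ s)`, etc.  Then `y` maps `p_a(u)` to
`p_b(ψ(u)²) x_b(μψ(u)²)`, `p_b(s)` to `p_a(ψs) x_a(νψs)`, and `μ = ν + ψδ = ν² + δ`.
-/
set_option autoImplicit false
set_option linter.unusedSectionVars false

namespace Cfsg.Agent.StdSpFour

open Cfsg.Agent.StdSpFour.Comm Cfsg.Agent.StdSpFour.Fld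

variable {F G : Type*} [Field F] [CharP F 2] [Group G] {B : Base F G}

/-- graph-field elements -/
structure IsGrf (B : Base F G) (ψ : F ≃+* F) (y : G) : Prop where
  t : y * B.t = B.t * y
  xa : ∀ u, y * B.xa u = B.xb (ψ u ^ 2) * y
  xb : ∀ u, y * B.xb u = B.xa (ψ u) * y
  zs : ∀ u, y * B.zs u = B.zl (ψ u ^ 2) * y
  zl : ∀ u, y * B.zl u = B.zs (ψ u) * y
  h : ∀ α β, y * B.h α β = B.h (um ψ β) (um ψ α ^ 2) * y
  na : y * B.na = B.nb * y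
  nb : y * B.nb = B.na * y

/-- action of a graph element on the second layers -/
structure GAct (R : RingL B) (ψ : F ≃+* F) (μ ν : F) (y : G) : Prop where
  pa : ∀ u, y * R.pa u = R.pb (ψ u ^ 2) * B.xb (μ * ψ u ^ 2) * y
  pb : ∀ u, y * R.pb u = R.pa (ψ u) * B.xa (ν * ψ u) * y
  ps : ∀ u, y * R.ps u = R.pl (ψ u ^ 2) * B.zl (μ * ψ u ^ 2) * y
  pl : ∀ u, y * R.pl u = R.ps (ψ u) * B.zs (ν * ψ u) * y

namespace IsGrf

open RingL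

variable {ψ : F ≃+* F} {y : G} (hy : IsGrf B ψ y)
include hy

theorem t_conj : y * B.t * y⁻¹ = B.t := conj_of hy.t

theorem exists_pa [Finite F] (hF : 4 ≤ Nat.card F) (hB : B.Self) (R : RingL B) :
    ∃ μ, ∀ u, y * R.pa u = R.pb (ψ u ^ 2) * B.xb (μ * ψ u ^ 2) * y := by
  have hsur : ∀ u : F, ∃ v, ψ v ^ 2 = u := by
    intro u
    obtain ⟨w, hw⟩ := FieldAux.exists_sq u
    obtain ⟨v, rfl⟩ := ψ.surjective w
    exact ⟨v, hw⟩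
  have h2 := hy.t_conj
  obtain ⟨μ, hμ⟩ := R.key2 hF hB (g := y * R.pa 1 * y⁻¹)
    (by
      calc B.t * (y * R.pa 1 * y⁻¹) = (y * B.t * y⁻¹) * (y * R.pa 1 * y⁻¹) := by rw [h2]
        _ = y * (B.t * R.pa 1) * y⁻¹ := by group
        _ = y * R.pa 1 * y⁻¹ * (y * B.t * y⁻¹) * (y * B.xa 1 * y⁻¹) := by rw [R.t_pa]; group
        _ = _ := by rw [h2, conj_of (hy.xa 1), map_one, one_pow])
    (fun u => by
      obtain ⟨v, rfl⟩ := hsur u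
      exact comm_conj' (hy.xa v) (R.pa_xa 1 v))
    (fun u => by
      obtain ⟨v, rfl⟩ := ψ.surjective u
      exact comm_conj' (hy.zl v) (R.pa_zl 1 v))
    (fun u => by
      obtain ⟨v, rfl⟩ := hsur u
      exact comm_conj' (hy.zs v) (R.pa_zs 1 v))
    (fun β => by
      obtain ⟨γ, rfl⟩ := um_surj ψ β
      have h1 := R.h_pa 1 γ 1
      rw [Units.val_one, one_mul] at h1
      have h2 := hy.h 1 γ
      rw [map_one, one_pow] at h2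
      exact comm_conj' h2 (Eq.symm h1))
    (by
      calc y * R.pa 1 * y⁻¹ * (y * R.pa 1 * y⁻¹) = y * (R.pa 1 * R.pa 1) * y⁻¹ := by group
        _ = 1 := by rw [R.pa_sq]; group)
  refine ⟨μ, fun u => ?_⟩
  by_cases hu : u = 0
  · rw [hu, map_zero, zero_pow two_ne_zero, mul_zero, R.pa_zero, R.pb_zero, B.xb_zero, mul_one, mul_one, one_mul]
  apply of_conj
  set α := Units.mk0 u hu with hα
  have h1 := R.h_pa α 1 1
  rw [mul_one] at h1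
  have h2 := hy.h α 1
  rw [map_one] at h2
  have h3 := R.h_pb 1 (um ψ α ^ 2) 1
  have h4 := B.h_xb 1 (um ψ α ^ 2) μ
  rw [Units.val_pow_eq_pow_val, um_val] at h3 h4
  rw [mul_one] at h3
  have e0 : (α : F) = u := rfl
  rw [e0] at h1 h3 h4
  have e1 : R.pa u = B.h α 1 * R.pa 1 * (B.h α 1)⁻¹ := (conj_of h1).symm
  calc y * R.pa u * y⁻¹ = (y * B.h α 1 * y⁻¹) * (y * R.pa 1 * y⁻¹) * (y * B.h α 1 * y⁻¹)⁻¹ := by rw [e1]; group
    _ = B.h 1 (um ψ α ^ 2) * (R.pb 1 * B.xb μ) * (B.h 1 (um ψ α ^ 2))⁻¹ := by rw [conj_of h2, hμ]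
    _ = (B.h 1 (um ψ α ^ 2) * R.pb 1) * B.xb μ * (B.h 1 (um ψ α ^ 2))⁻¹ := by group
    _ = R.pb (ψ u ^ 2) * (B.h 1 (um ψ α ^ 2) * B.xb μ) * (B.h 1 (um ψ α ^ 2))⁻¹ := by rw [h3]; group
    _ = _ := by rw [h4, mul_comm (ψ u ^ 2)]; group

theorem exists_pb [Finite F] (hF : 4 ≤ Nat.card F) (hB : B.Self) (R : RingL B) :
    ∃ ν, ∀ u, y * R.pb u = R.pa (ψ u) * B.xa (ν * ψ u) * y := by
  have hsur : ∀ u : F, ∃ v, ψ v ^ 2 = u := by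
    intro u
    obtain ⟨w, hw⟩ := FieldAux.exists_sq u
    obtain ⟨v, rfl⟩ := ψ.surjective w
    exact ⟨v, hw⟩
  have h2 := hy.t_conj
  obtain ⟨μ, hμ⟩ := R.key1 hF hB (g := y * R.pb 1 * y⁻¹)
    (by
      calc B.t * (y * R.pb 1 * y⁻¹) = (y * B.t * y⁻¹) * (y * R.pb 1 * y⁻¹) := by rw [h2]
        _ = y * (B.t * R.pb 1) * y⁻¹ := by group
        _ = y * R.pb 1 * y⁻¹ * (y * B.t * y⁻¹) * (y * B.xb 1 * y⁻¹) := by rw [R.t_pb]; group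
        _ = _ := by rw [h2, conj_of (hy.xb 1), map_one])
    (fun u => by
      obtain ⟨v, rfl⟩ := ψ.surjective u
      exact comm_conj' (hy.xb v) (R.pb_xb 1 v))
    (fun u => by
      obtain ⟨v, rfl⟩ := ψ.surjective u
      exact comm_conj' (hy.zl v) (R.pb_zl 1 v))
    (fun u => by
      obtain ⟨v, rfl⟩ := hsur u
      exact comm_conj' (hy.zs v) (R.pb_zs 1 v))
    (fun β => by
      obtain ⟨γ, hγ⟩ := exists_sqrt_unit β
      obtain ⟨γ', rfl⟩ := um_surj ψ γ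
      have h1 := R.h_pb γ' 1 1
      rw [Units.val_one, one_mul] at h1
      have h2 := hy.h γ' 1
      rw [map_one, sq, ← hγ] at h2
      exact comm_conj' h2 (Eq.symm h1))
    (by
      calc y * R.pb 1 * y⁻¹ * (y * R.pb 1 * y⁻¹) = y * (R.pb 1 * R.pb 1) * y⁻¹ := by group
        _ = 1 := by rw [R.pb_sq]; group)
  refine ⟨μ, fun u => ?_⟩
  by_cases hu : u = 0
  · rw [hu, map_zero, mul_zero, R.pa_zero, R.pb_zero, B.xa_zero, mul_one, mul_one, one_mul]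
  apply of_conj
  set α := Units.mk0 u hu with hα
  have h1 := R.h_pb 1 α 1
  rw [mul_one] at h1
  have h2 := hy.h 1 α
  rw [map_one, one_pow] at h2
  have h3 := R.h_pa (um ψ α) 1 1
  have h4 := B.h_xa (um ψ α) 1 μ
  rw [um_val] at h3 h4
  rw [mul_one] at h3
  have e0 : (α : F) = u := rfl
  rw [e0] at h1 h3 h4
  have e1 : R.pb u = B.h 1 α * R.pb 1 * (B.h 1 α)⁻¹ := (conj_of h1).symm
  calc y * R.pb u * y⁻¹ = (y * B.h 1 α * y⁻¹) * (y * R.pb 1 * y⁻¹) * (y * B.h 1 α * y⁻¹)⁻¹ := by rw [e1]; group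
    _ = B.h (um ψ α) 1 * (R.pa 1 * B.xa μ) * (B.h (um ψ α) 1)⁻¹ := by rw [conj_of h2, hμ]
    _ = (B.h (um ψ α) 1 * R.pa 1) * B.xa μ * (B.h (um ψ α) 1)⁻¹ := by group
    _ = R.pa (ψ u) * (B.h (um ψ α) 1 * B.xa μ) * (B.h (um ψ α) 1)⁻¹ := by rw [h3]; group
    _ = _ := by rw [h4, mul_comm (ψ u)]; group

end IsGrf

namespace RingA

open RingL

/-- **graph elements on the second layers** -/
theorem exists_gact [Finite F] (hF : 4 ≤ Nat.card F) (hB : B.Self) {δ κ μ' : F} (R : RingA B δ κ μ') {ψ : F ≃+* F}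
    {y : G} (hy : IsGrf B ψ y) : ∃ μ ν, GAct R.toRingL ψ μ ν y ∧ μ = ν + ψ δ ∧ μ = ν ^ 2 + δ := by
  obtain ⟨μ, h1⟩ := hy.exists_pa hF hB R.toRingL
  obtain ⟨ν, h2⟩ := hy.exists_pb hF hB R.toRingL
  have h3 : ∀ u, y * R.ps u = R.pl (ψ u ^ 2) * B.zl (μ * ψ u ^ 2) * y := by
    intro u
    have e1 : R.ps u = B.nb * R.pa u * B.nb⁻¹ := (conj_of (R.nb_pa u)).symm
    apply of_conj
    calc y * R.ps u * y⁻¹ = (y * B.nb * y⁻¹) * (y * R.pa u * y⁻¹) * (y * B.nb * y⁻¹)⁻¹ := by rw [e1]; group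
      _ = B.na * (R.pb (ψ u ^ 2) * B.xb (μ * ψ u ^ 2)) * B.na⁻¹ := by rw [conj_of hy.nb, conj_of (h1 u)]
      _ = (B.na * R.pb (ψ u ^ 2)) * B.xb (μ * ψ u ^ 2) * B.na⁻¹ := by group
      _ = R.pl (ψ u ^ 2) * (B.na * B.xb (μ * ψ u ^ 2)) * B.na⁻¹ := by rw [R.na_pb]; group
      _ = _ := by rw [B.na_xb]; group
  have h4 : ∀ u, y * R.pl u = R.ps (ψ u) * B.zs (ν * ψ u) * y := by
    intro u
    have e1 : R.pl u = B.na * R.pb u * B.na⁻¹ := (conj_of (R.na_pb u)).symm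
    apply of_conj
    calc y * R.pl u * y⁻¹ = (y * B.na * y⁻¹) * (y * R.pb u * y⁻¹) * (y * B.na * y⁻¹)⁻¹ := by rw [e1]; group
      _ = B.nb * (R.pa (ψ u) * B.xa (ν * ψ u)) * B.nb⁻¹ := by rw [conj_of hy.na, conj_of (h2 u)]
      _ = (B.nb * R.pa (ψ u)) * B.xa (ν * ψ u) * B.nb⁻¹ := by group
      _ = R.ps (ψ u) * (B.nb * B.xa (ν * ψ u)) * B.nb⁻¹ := by rw [R.nb_pa]; group
      _ = _ := by rw [B.nb_xa]; group
  refine ⟨μ, ν, ⟨h1, h2, h3, h4⟩, ?_⟩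
  have g : ∀ {x z : G}, y * x = z * y → cj y⁻¹ x = z := fun h => by rw [cj_inv_eq, conj_of h]
  have c12 : (1 : F) ^ 2 = 1 := one_pow 2
  -- `y` applied to `[p_a(1), x_b(1)]`
  have e1 : cj (cj y⁻¹ (B.xb 1)) (cj y⁻¹ (R.pa 1)) = cj y⁻¹ (cj (B.xb 1) (R.pa 1)) := by simp only [cj]; group
  have e2 : cj (cj y⁻¹ (R.pb 1)) (cj y⁻¹ (B.xa 1)) = cj y⁻¹ (cj (R.pb 1) (B.xa 1)) := by simp only [cj]; group
  -- commutators in the other order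
  have sw : ∀ {x z ζ : G}, cj x z = z * ζ → ζ * ζ = 1 → Commute ζ x → cj z x = x * ζ := by
    intro x z ζ h1 h2 h3
    have e : z * x = x * (z * ζ) := by rw [← h1, cj]; group
    rw [cj, mul_assoc]
    have e' : x * z = z * (x * ζ) := by
      calc x * z = x * z * (ζ * ζ) := by rw [h2, mul_one]
        _ = x * (z * ζ) * ζ := by group
        _ = _ := by rw [← e]; group
    rw [e', inv_mul_cancel_left]
  have z1 : cj (B.xa 1) (R.pb 1) = R.pb 1 * R.Zf 1 0 1 0 := by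
    apply sw
    · rw [R.V_xa, R.cj_pb_V, R.V_Zf, R.V_mul]
      congr 1 <;> ring
    · rw [R.V_Zf, R.V_sq]
    · exact R.Zf_pb _ _ _ _ _
  have z2 : ∀ μ, cj (B.xa 1) (B.xb μ) = B.xb μ * R.Zf 0 μ 0 μ := by
    intro μ
    apply sw
    · rw [R.V_xa, R.cj_xb_V, R.V_Zf, R.V_mul]
      congr 1 <;> ring
    · rw [R.V_Zf, R.V_sq]
    · exact R.Zf_xb _ _ _ _ _
  have z3 : cj (R.pa 1) (B.xb 1) = B.xb 1 * R.Zf 1 0 1 δ := by
    apply sw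
    · rw [R.V_pa, R.cj_xb_V, R.V_Zf, R.V_mul]
      congr 1 <;> ring
    · rw [R.V_Zf, R.V_sq]
    · exact R.Zf_xb _ _ _ _ _
  have gZ : ∀ m k r l, cj y⁻¹ (R.Zf m k r l) = R.Zf (ψ r) (ψ l + ν * ψ r) (ψ m ^ 2) (ψ k ^ 2 + μ * ψ m ^ 2) := by
    intro m k r l
    have a : R.Zf m k r l = R.ps m * B.zs k * (R.pl r * B.zl l) := rfl
    rw [a, cj_mul, cj_mul, cj_mul, g (h3 m), g (hy.zs k), g (h4 r), g (hy.zl l), R.V_Zf, R.V_ps, R.V_zs, R.V_zs,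
      R.V_pl, R.V_zl, R.V_zl]
    simp only [R.V_mul]
    congr 1 <;> ring
  have f1 : cj y⁻¹ (R.pa 1) = R.pb 1 * B.xb μ := by rw [g (h1 1), map_one, c12, mul_one]
  have f2 : cj y⁻¹ (R.pb 1) = R.pa 1 * B.xa ν := by rw [g (h2 1), map_one, mul_one]
  have f3 : cj y⁻¹ (B.xa 1) = B.xb 1 := by rw [g (hy.xa 1), map_one, c12]
  have f4 : cj y⁻¹ (B.xb 1) = B.xa 1 := by rw [g (hy.xb 1), map_one]
  have k1 : cj (B.xb 1) (R.pa 1) = R.pa 1 * R.Zf 1 0 1 δ := by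
    rw [R.V_pa, R.cj_xb_V, R.V_Zf, R.V_mul]
    congr 1 <;> ring
  have k2 : cj (R.pb 1) (B.xa 1) = B.xa 1 * R.Zf 1 0 1 0 := by
    rw [R.V_xa, R.cj_pb_V, R.V_Zf, R.V_mul]
    congr 1 <;> ring
  rw [f4, f1, k1, cj_mul, cj_mul, f1, z1, z2, gZ] at e1
  rw [f2, f3, k2, cj_mul, f3, gZ, cj_mul_left, z3, cj_mul, cj_of_comm (R.Zf_xa _ _ _ _ _)] at e2
  have z4 : cj (B.xa ν) (B.xb 1) = B.xb 1 * R.Zf 0 ν 0 (ν ^ 2) := by
    apply sw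
    · rw [R.V_xa, R.cj_xb_V, R.V_Zf, R.V_mul]
      congr 1 <;> ring
    · rw [R.V_Zf, R.V_sq]
    · exact R.Zf_xb _ _ _ _ _
  rw [z4, mul_assoc, R.Zf_mul] at e2
  have e3 : R.Zf 1 0 1 0 * R.Zf 0 μ 0 μ = R.Zf (ψ 1) (ψ δ + ν * ψ 1) (ψ 1 ^ 2) (ψ 0 ^ 2 + μ * ψ 1 ^ 2) := by
    have c1 : Commute (R.Zf 1 0 1 0) (B.xb μ) := R.Zf_xb _ _ _ _ _
    apply mul_left_cancel (a := R.pb 1 * B.xb μ)
    rw [← e1]
    calc R.pb 1 * B.xb μ * (R.Zf 1 0 1 0 * R.Zf 0 μ 0 μ) = R.pb 1 * (B.xb μ * R.Zf 1 0 1 0) * R.Zf 0 μ 0 μ := by group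
      _ = _ := by rw [← c1.eq]; group
  have e4 := mul_left_cancel e2
  rw [R.Zf_mul, R.V_Zf, R.V_Zf] at e3
  rw [R.V_Zf, R.V_Zf] at e4
  obtain ⟨-, -, -, e5, -, -⟩ := R.V_inj e3
  obtain ⟨-, -, -, -, -, e6⟩ := R.V_inj e4
  rw [map_one, mul_one, zero_add] at e5
  rw [map_zero, map_one, c12, mul_one, zero_pow two_ne_zero, zero_add] at e6
  exact ⟨by rw [e5, add_comm], by rw [← e6]⟩

end RingA

end Cfsg.Agent.StdSpFour
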