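import Cfsg.Agent.StdSpFour.Adapt
import Cfsg.Agent.StdSpFour.RingAGrf

/-!
# Type `Sp₄`: field and graph elements in `X`; the alternative "no outer involution modulo `U`" / "outer involution"
-/

set_option autoImplicit false
set_option linter.unusedSectionVars false

namespace Cfsg.Agent.StdSpFour.Dich

open Subgroup
open Cfsg.Agent.TitsThree.B2Pkg Cfsg.Agent.TitsThree.RankTwoIdentB2
  Cfsg.Agent.TitsThree.CoreB2 Cfsg.Agent.TitsThree.RankTwoIdx Cfsg.Agent.TitsThree.RankTwoRGD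
  Cfsg.Agent.TitsThree.StdData
open Cfsg.Agent.StdRank2.OddLift Cfsg.Agent.StdRank2.B2Lift Cfsg.Agent.StdRank2.B2Std
  Cfsg.Agent.StdRank2.OutB2Aut Cfsg.Agent.StdRank2.OutB2Tw
  Cfsg.Agent.StdRank2.OutB2Data Cfsg.Agent.StdRank2.OutSpG Cfsg.Agent.StdRank2.OutSpGraph
  Cfsg.Agent.StdRank2.SpFrame
open Cfsg.Agent.StdRank2 Cfsg.Agent.StdEven Cfsg.Agent.StdEven.CoreQuot Cfsg.Agent.StdEven.Loc
open Cfsg.Agent.Schreier.Basic
open Cfsg.Agent.StdSpFour Cfsg.Agent.StdSpFour.Env Cfsg.Agent.StdSpFour.Comm Cfsg.Agent.StdSpFour.Lift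
  Cfsg.Agent.StdSpFour.Fld Cfsg.Agent.StdSpFour.Bridge Cfsg.Agent.StdSpFour.XStart

universe u

variable {F : Type*} [Field F] [Finite F] [CharP F 2]

section abs

variable {K : Type u} [Group K]

/-- `θ` acts as the field automorphism `ρ` -/
structure FT (P : Std (stdSp F) K) (θ : K →* K) (ρ : F ≃+* F) : Prop where
  x : ∀ a, θ (P.m.x a) = P.m.x (ρ a)
  x' : ∀ a, θ (P.m.x' a) = P.m.x' (ρ a)
  y : ∀ a, θ (P.m.y a) = P.m.y (ρ a)
  y' : ∀ a, θ (P.m.y' a) = P.m.y' (ρ a)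
  z₁ : ∀ a, θ (P.m.z₁ (tt a)) = P.m.z₁ (tt (ρ a))
  z₂ : ∀ a, θ (P.m.z₂ (tt a)) = P.m.z₂ (tt (ρ a))
  z₁' : ∀ a, θ (P.m.z₁' (tt a)) = P.m.z₁' (tt (ρ a))
  z₂' : ∀ a, θ (P.m.z₂' (tt a)) = P.m.z₂' (tt (ρ a))

/-- `θ` acts as a graph-field automorphism -/
structure GT (P : Std (stdSp F) K) (θ : K →* K) (ρ : F ≃+* F) : Prop where
  x : ∀ a, θ (P.m.x a) = P.m.z₂ (tt (ρ a * ρ a))
  x' : ∀ a, θ (P.m.x' a) = P.m.z₂' (tt (ρ a * ρ a))
  y : ∀ a, θ (P.m.y a) = P.m.z₁ (tt (ρ a * ρ a))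
  y' : ∀ a, θ (P.m.y' a) = P.m.z₁' (tt (ρ a * ρ a))
  z₁ : ∀ a, θ (P.m.z₁ (tt a)) = P.m.y (ρ a)
  z₂ : ∀ a, θ (P.m.z₂ (tt a)) = P.m.x (ρ a)
  z₁' : ∀ a, θ (P.m.z₁' (tt a)) = P.m.y' (ρ a)
  z₂' : ∀ a, θ (P.m.z₂' (tt a)) = P.m.x' (ρ a)


variable {P : Std (stdSp F) K} {θ : K →* K} {ρ : F ≃+* F}

theorem conj_eq {g a b c d : K} (hb : θ a = b) (hc : g * a * g⁻¹ = c) (hd : θ c = d) : θ g * b * (θ g)⁻¹ = d := by
  rw [← hb, ← hd, ← hc, map_mul, map_mul, map_inv]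

theorem hsq (a : F) : ∃ b, b * b = a := Cfsg.Agent.StdRank2.OutField.exists_sqrt a

namespace FT

variable (h : FT P θ ρ)
include h

theorem h_eq (hZ : Subgroup.center K = ⊥) (α β : Fˣ) : θ (SpFrame.h P α β) = SpFrame.h P (um ρ α) (um ρ β) := by
  apply eq_of_act P hZ
  · intro a
    obtain ⟨b, rfl⟩ := ρ.surjective a
    rw [conj_eq (h.x b) (h_x P α β b) (h.x _), h_x, map_mul, um_val]
  · intro a
    obtain ⟨b, rfl⟩ := ρ.surjective a
    rw [conj_eq (h.x' b) (h_x' P α β b) (h.x' _), h_x', map_mul, map_inv₀, um_val]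
  · intro a
    obtain ⟨b, rfl⟩ := ρ.surjective a
    rw [conj_eq (h.z₂ b) (h_z₂ P α β b) (h.z₂ _), h_z₂, map_mul, um_val]
  · intro a
    obtain ⟨b, rfl⟩ := ρ.surjective a
    rw [conj_eq (h.z₂' b) (h_z₂' P α β b) (h.z₂' _), h_z₂', map_mul, map_inv₀, um_val]

theorem na_eq (hZ : Subgroup.center K = ⊥) : θ (SpFrame.na P) = SpFrame.na P := by
  apply eq_of_act P hZ
  · intro a
    obtain ⟨b, rfl⟩ := ρ.surjective a
    rw [conj_eq (h.x b) (na_x P b) (h.x' _), na_x]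
  · intro a
    obtain ⟨b, rfl⟩ := ρ.surjective a
    rw [conj_eq (h.x' b) (na_x' P b) (h.x _), na_x']
  · intro a
    obtain ⟨b, rfl⟩ := ρ.surjective a
    rw [conj_eq (h.z₂ b) (na_z₂ P b) (h.z₁ _), na_z₂]
  · intro a
    obtain ⟨b, rfl⟩ := ρ.surjective a
    rw [conj_eq (h.z₂' b) (na_z₂' P b) (h.z₁' _), na_z₂']

theorem nb_eq (hZ : Subgroup.center K = ⊥) : θ (SpFrame.nb P) = SpFrame.nb P := by
  apply eq_of_act P hZ
  · intro a
    obtain ⟨b, rfl⟩ := ρ.surjective a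
    rw [conj_eq (h.x b) (nb_x P b) (h.y _), nb_x]
  · intro a
    obtain ⟨b, rfl⟩ := ρ.surjective a
    rw [conj_eq (h.x' b) (nb_x' P b) (h.y' _), nb_x']
  · intro a
    obtain ⟨b, rfl⟩ := ρ.surjective a
    rw [conj_eq (h.z₂ b) (nb_z₂ P b) (h.z₂' _), nb_z₂]
  · intro a
    obtain ⟨b, rfl⟩ := ρ.surjective a
    rw [conj_eq (h.z₂' b) (nb_z₂' P b) (h.z₂ _), nb_z₂']

end FT

namespace GT

variable (h : GT P θ ρ)
include h

omit h in
theorem surj2 (ρ : F ≃+* F) (a : F) : ∃ b, ρ b * ρ b = a := by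
  obtain ⟨c, rfl⟩ := hsq a
  obtain ⟨b, rfl⟩ := ρ.surjective c
  exact ⟨b, rfl⟩

theorem h_eq (hZ : Subgroup.center K = ⊥) (α β : Fˣ) :
    θ (SpFrame.h P α β) = SpFrame.h P (um ρ β) (um ρ α ^ 2) := by
  apply eq_of_act P hZ
  · intro a
    obtain ⟨b, rfl⟩ := ρ.surjective a
    rw [conj_eq (h.z₂ b) (h_z₂ P α β b) (h.z₂ _), h_x, map_mul, um_val]
  · intro a
    obtain ⟨b, rfl⟩ := ρ.surjective a
    rw [conj_eq (h.z₂' b) (h_z₂' P α β b) (h.z₂' _), h_x', map_mul, map_inv₀, um_val]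
  · intro a
    obtain ⟨b, rfl⟩ := surj2 ρ a
    rw [conj_eq (h.x b) (h_x P α β b) (h.x _), h_z₂, map_mul, Units.val_pow_eq_pow_val, um_val]
    congr 2; ring
  · intro a
    obtain ⟨b, rfl⟩ := surj2 ρ a
    rw [conj_eq (h.x' b) (h_x' P α β b) (h.x' _), h_z₂', map_mul, map_inv₀, Units.val_pow_eq_pow_val, um_val]
    congr 2
    rw [pow_two, mul_inv]; ring

theorem na_eq (hZ : Subgroup.center K = ⊥) : θ (SpFrame.na P) = SpFrame.nb P := by
  apply eq_of_act P hZ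
  · intro a
    obtain ⟨b, rfl⟩ := ρ.surjective a
    rw [conj_eq (h.z₂ b) (na_z₂ P b) (h.z₁ _), nb_x]
  · intro a
    obtain ⟨b, rfl⟩ := ρ.surjective a
    rw [conj_eq (h.z₂' b) (na_z₂' P b) (h.z₁' _), nb_x']
  · intro a
    obtain ⟨b, rfl⟩ := surj2 ρ a
    rw [conj_eq (h.x b) (na_x P b) (h.x' _), nb_z₂]
  · intro a
    obtain ⟨b, rfl⟩ := surj2 ρ a
    rw [conj_eq (h.x' b) (na_x' P b) (h.x _), nb_z₂']

theorem nb_eq (hZ : Subgroup.center K = ⊥) : θ (SpFrame.nb P) = SpFrame.na P := by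
  apply eq_of_act P hZ
  · intro a
    obtain ⟨b, rfl⟩ := ρ.surjective a
    rw [conj_eq (h.z₂ b) (nb_z₂ P b) (h.z₂' _), na_x]
  · intro a
    obtain ⟨b, rfl⟩ := ρ.surjective a
    rw [conj_eq (h.z₂' b) (nb_z₂' P b) (h.z₂ _), na_x']
  · intro a
    obtain ⟨b, rfl⟩ := surj2 ρ a
    rw [conj_eq (h.x b) (nb_x P b) (h.y _), na_z₂]
  · intro a
    obtain ⟨b, rfl⟩ := surj2 ρ a
    rw [conj_eq (h.x' b) (nb_x' P b) (h.y' _), na_z₂']

end GT

end abs

section G

variable {G : Type u} [Group G] [Finite G] {A : Subgroup G} {t : G} {T : Subgroup G}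
variable (H : Hyp A t T) (S : Std (stdSp F) ↥A)


omit [Finite F] [CharP F 2] in
/-- conjugation by an element of `C_X(t)` on the image of `A` -/
def cj {x : XQ A t} (hx : x * H.tX = H.tX * x) : ↥(im A t A) →* ↥(im A t A) where
  toFun a := ⟨x * a * x⁻¹, H.conj_mem_im hx a.2⟩
  map_one' := Subtype.ext (by show x * 1 * x⁻¹ = 1; group)
  map_mul' a b := Subtype.ext (by
    show x * ((a : XQ A t) * b) * x⁻¹ = (x * a * x⁻¹) * (x * b * x⁻¹)
    group)

section el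

variable {f : G} (hf : f * t = t * f)

include hf in
theorem comm_tX : pr A t ⟨f, H.mem_normalizer_core hf⟩ * H.tX = H.tX * pr A t ⟨f, H.mem_normalizer_core hf⟩ :=
  H.pr_comm_iff.2 hf

include hf in
theorem key {a b : ↥A} (e : f * a * f⁻¹ = b) : cj H (comm_tX H hf) (B2Conn.toIm H a) = B2Conn.toIm H b := by
  apply Subtype.ext
  show pr A t ⟨f, H.mem_normalizer_core hf⟩ * pr A t ⟨a, H.A_le a.2⟩ * (pr A t ⟨f, H.mem_normalizer_core hf⟩)⁻¹ =
    pr A t ⟨b, H.A_le b.2⟩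
  rw [← map_inv, ← map_mul, ← map_mul]
  exact congrArg (pr A t) (Subtype.ext e)

include hf in
theorem ft_of {ρ : F ≃+* F} (h : OutB2G.Fld nSp S f ρ) : FT (B2Conn.imS H S) (cj H (comm_tX H hf)) ρ where
  x a := key H hf (h.x a)
  x' a := key H hf (h.x' a)
  y a := key H hf (h.y a)
  y' a := key H hf (h.y' a)
  z₁ a := key H hf (h.z₁ (tt a))
  z₂ a := key H hf (h.z₂ (tt a))
  z₁' a := key H hf (h.z₁' (tt a))
  z₂' a := key H hf (h.z₂' (tt a))

include hf in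
theorem gt_of {ρ : F ≃+* F} (h : Gr S f ρ) : GT (B2Conn.imS H S) (cj H (comm_tX H hf)) ρ where
  x a := key H hf (h.x a)
  x' a := key H hf (h.x' a)
  y a := key H hf (h.y a)
  y' a := key H hf (h.y' a)
  z₁ a := key H hf (h.z₁ (tt a))
  z₂ a := key H hf (h.z₂ (tt a))
  z₁' a := key H hf (h.z₁' (tt a))
  z₂' a := key H hf (h.z₂' (tt a))

omit [Finite F] [CharP F 2] in
theorem of_cj {x : XQ A t} (hx : x * H.tX = H.tX * x) {a b : ↥(im A t A)} (e : cj H hx a = b) :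
    x * (a : XQ A t) = b * x := by
  have h1 : x * (a : XQ A t) * x⁻¹ = b := congrArg Subtype.val e
  rw [← h1]; group

/-- **field elements in `X`** -/
theorem isFld_of {ρ : F ≃+* F} (h : OutB2G.Fld nSp S f ρ) :
    IsFld (B2Conn.base H S) ρ (pr A t ⟨f, H.mem_normalizer_core hf⟩) := by
  have h1 := ft_of H S hf h
  have hc := comm_tX H hf
  exact
    { t := hc
      xa := fun a => of_cj H hc (h1.x a)
      xb := fun a => of_cj H hc (h1.z₂ a)
      zs := fun a => of_cj H hc (h1.y a)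
      zl := fun a => of_cj H hc (h1.z₁ a)
      h := fun α β => of_cj H hc (h1.h_eq (B2Conn.center_im H) α β)
      na := of_cj H hc (h1.na_eq (B2Conn.center_im H))
      nb := of_cj H hc (h1.nb_eq (B2Conn.center_im H)) }

/-- **graph elements in `X`** -/
theorem isGrf_of {ρ : F ≃+* F} (h : Gr S f ρ) :
    IsGrf (B2Conn.base H S) ρ (pr A t ⟨f, H.mem_normalizer_core hf⟩) := by
  have h1 := gt_of H S hf h
  have hc := comm_tX H hf
  have e : ∀ a, ρ a ^ 2 = ρ a * ρ a := fun a => pow_two _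
  exact
    { t := hc
      xa := fun a => by rw [e]; exact of_cj H hc (h1.x a)
      xb := fun a => of_cj H hc (h1.z₂ a)
      zs := fun a => by rw [e]; exact of_cj H hc (h1.y a)
      zl := fun a => of_cj H hc (h1.z₁ a)
      h := fun α β => of_cj H hc (h1.h_eq (B2Conn.center_im H) α β)
      na := of_cj H hc (h1.na_eq (B2Conn.center_im H))
      nb := of_cj H hc (h1.nb_eq (B2Conn.center_im H)) }

end el


/-! ### The alternative -/

section X

variable {B : Base F (XQ A t)}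

omit [Finite G] in
/-- a field element in `U` is trivial -/
theorem eq_one_of_isU {σ : F ≃+* F} {x : XQ A t} (hx : IsU B x) (h : IsFld B σ x) : x = 1 := by
  obtain ⟨u, s, m, r, rfl⟩ := hx
  have e1 : B.xa 1 = B.xa 1 * B.v1 0 0 0 := by rw [B.v1_zero, mul_one]
  have e2 : B.xb 1 = B.xa 0 * B.v1 1 0 0 := by rw [B.xa_zero, one_mul, Base.v1, B.zs_zero, B.zl_zero, mul_one, mul_one]
  have h1 := h.xa 1
  rw [map_one, e1, nf_mul, nf_mul] at h1
  obtain ⟨-, -, h2, -⟩ := nf_inj h1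
  have hs : s = 0 := by linear_combination h2
  subst hs
  have h3 := h.xb 1
  rw [map_one, e2, nf_mul, nf_mul] at h3
  obtain ⟨-, -, h4, -⟩ := nf_inj h3
  have hu : u = 0 := by linear_combination (-1) * h4
  subst hu
  have h5 := h.na
  have h6 := h.nb
  rw [B.xa_zero, one_mul, Base.v1, B.xb_zero, one_mul] at h5 h6 ⊢
  have h7 : B.xb r = B.zl r := by
    have : B.zs m * B.zl r * B.na = B.zs m * B.xb r * B.na := by
      rw [h5, ← mul_assoc, B.na_zs, mul_assoc, B.na_zl, mul_assoc]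
    exact (mul_left_cancel (mul_right_cancel this)).symm
  have h8 : B.xa m = B.zs m := by
    have : B.zs m * B.zl r * B.nb = B.xa m * B.zl r * B.nb := by
      rw [h6, ← mul_assoc, B.nb_zs, mul_assoc, B.nb_zl, mul_assoc]
    exact (mul_right_cancel (mul_right_cancel this)).symm
  have hr : r = 0 := by
    have : B.xa 0 * B.v1 r 0 0 = B.xa 0 * B.v1 0 0 r := by
      rw [Base.v1, Base.v1, B.xb_zero, B.zs_zero, B.zl_zero, h7, mul_one, mul_one, one_mul, one_mul]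
    exact (nf_inj this).2.1
  have hm : m = 0 := by
    have : B.xa m * B.v1 0 0 0 = B.xa 0 * B.v1 0 m 0 := by
      rw [Base.v1, Base.v1, B.xb_zero, B.zs_zero, B.zl_zero, h8, B.xa_zero, mul_one, mul_one, one_mul, one_mul, mul_one]
    exact (nf_inj this).1
  rw [hr, hm, B.zs_zero, B.zl_zero, one_mul]

omit [Finite G] [Finite F] in
/-- the square of a field element -/
theorem IsFld_sq {σ : F ≃+* F} {x : XQ A t} (h : IsFld B σ x) : IsFld B (σ * σ) (x * x) where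
  t := by rw [mul_assoc, h.t, ← mul_assoc, h.t, mul_assoc]
  xa u := by rw [mul_assoc, h.xa, ← mul_assoc, h.xa, mul_assoc]; rfl
  xb u := by rw [mul_assoc, h.xb, ← mul_assoc, h.xb, mul_assoc]; rfl
  zs u := by rw [mul_assoc, h.zs, ← mul_assoc, h.zs, mul_assoc]; rfl
  zl u := by rw [mul_assoc, h.zl, ← mul_assoc, h.zl, mul_assoc]; rfl
  h α β := by rw [mul_assoc, h.h, ← mul_assoc, h.h, mul_assoc]; rfl
  na := by rw [mul_assoc, h.na, ← mul_assoc, h.na, mul_assoc]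
  nb := by rw [mul_assoc, h.nb, ← mul_assoc, h.nb, mul_assoc]

omit [Finite G] in
/-- the square of a graph element -/
theorem IsGrf_sq {σ : F ≃+* F} {x : XQ A t} (h : IsGrf B σ x) : IsFld B (frob F * σ * σ) (x * x) := by
  have e : ∀ u, (frob F * σ * σ) u = σ (σ u) ^ 2 := fun u => rfl
  have e' : ∀ u, σ (σ u ^ 2) = (frob F * σ * σ) u := fun u => by rw [e, map_pow]
  have hu : ∀ α, um σ (um σ α ^ 2) = um (frob F * σ * σ) α := fun α => by
    ext
    rw [um_val, Units.val_pow_eq_pow_val, um_val, um_val, e']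
  have hu' : ∀ α, um σ (um σ α) ^ 2 = um (frob F * σ * σ) α := fun α => by
    ext
    rw [Units.val_pow_eq_pow_val, um_val, um_val, um_val, e]
  exact
    { t := by rw [mul_assoc, h.t, ← mul_assoc, h.t, mul_assoc]
      xa := fun u => by rw [mul_assoc, h.xa, ← mul_assoc, h.xb, e', mul_assoc]
      xb := fun u => by rw [mul_assoc, h.xb, ← mul_assoc, h.xa, ← e, mul_assoc]
      zs := fun u => by rw [mul_assoc, h.zs, ← mul_assoc, h.zl, e', mul_assoc]
      zl := fun u => by rw [mul_assoc, h.zl, ← mul_assoc, h.zs, ← e, mul_assoc]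
      h := fun α β => by rw [mul_assoc, h.h, ← mul_assoc, h.h, hu, hu', mul_assoc]
      na := by rw [mul_assoc, h.na, ← mul_assoc, h.nb, mul_assoc]
      nb := by rw [mul_assoc, h.nb, ← mul_assoc, h.na, mul_assoc] }

omit [Finite F] [CharP F 2] in
/-- elements of `C_X(t)` commuting with the generators of `A` -/
theorem eq_one_or (hEX : Env B (im A t A)) (hBt : B.t = H.tX) {x : XQ A t} (h : IsFld B (1 : F ≃+* F) x) :
    x = 1 ∨ x = H.tX := by
  refine H.eq_of_cent (by rw [← hBt]; exact h.t) fun a ha => ?_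
  obtain ⟨u, hu, α, β, n, hn, u', hu', rfl⟩ := hEX.bruhat a ha
  have hU : ∀ {w}, IsU B w → Commute x w := by
    rintro w ⟨u, s, m, r, rfl⟩
    exact Commute.mul_right (h.xa u) (Commute.mul_right (Commute.mul_right (h.xb s) (h.zs m)) (h.zl r))
  have h6 : Commute x B.na := h.na
  have h7 : Commute x B.nb := h.nb
  have hN : Commute x n := by
    rcases hn with rfl | rfl | rfl | rfl | rfl | rfl | rfl | rfl
    · exact Commute.one_right _
    · exact h6
    · exact h7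
    · exact h6.mul_right h7
    · exact h7.mul_right h6
    · exact (h6.mul_right h7).mul_right h6
    · exact (h7.mul_right h6).mul_right h7
    · exact ((h6.mul_right h7).mul_right h6).mul_right h7
  have h5 : Commute x (B.h α β) := by
    have e : ∀ α : Fˣ, um (1 : F ≃+* F) α = α := fun α => by ext; rfl
    have := h.h α β
    rw [e, e] at this
    exact this
  exact ((((hU hu).mul_right h5).mul_right hN).mul_right (hU hu')).eq

end X

include H in
/-- `T ∩ A = U` -/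
theorem mem_UG (hF : 3 ≤ Nat.card F) (hS : Sch ↥(im A t A)) (hUT : XStart.UG S ≤ T) {a : G} (haT : a ∈ T)
    (ha : a ∈ A) : a ∈ XStart.UG S := by
  have hE := envX H S hF hS
  have h1 : IsU (B2Conn.base H S) (pr A t ⟨a, H.A_le ha⟩) := by
    refine hE.syl (im A t (T ⊓ A)) (im_mono inf_le_right) ?_ ?_ _
      (pr_mem_im (n := ⟨a, H.A_le ha⟩) (mem_inf.2 ⟨haT, ha⟩))
    · intro x hx
      obtain ⟨n, hn, rfl⟩ := mem_im.1 hx
      exact two_pr (two_T H (mem_inf.1 hn).1)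
    · intro x hx
      rw [isU_iff] at hx
      obtain ⟨n, hn, rfl⟩ := mem_im.1 hx
      exact pr_mem_im (mem_inf.2 ⟨hUT hn, XStart.UG_le S hn⟩)
  rw [isU_iff] at h1
  obtain ⟨n, hn, e⟩ := mem_im.1 h1
  have h2 := H.pr_inj H.isT.syl.two (x := n) (y := ⟨a, H.A_le ha⟩) (hUT hn) haT e
  have h3 : (n : G) = a := congrArg Subtype.val h2
  rw [← h3]
  exact hn

include H in
/-- **The alternative**: either `U ∪ tU` contains all `y ∈ T` with `y² ∈ U`, or there is an involution of `T` outside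
`U ∪ tU` of field or graph type. -/
theorem dich (hF : 4 ≤ Nat.card F) (hS : Sch ↥(im A t A)) (hUT : XStart.UG S ≤ T) (had : AdaptedSp S T) :
    (∀ y ∈ T, y * y ∈ XStart.UG S → y ∈ XStart.UG S ∨ t * y ∈ XStart.UG S) ∨
      ∃ f, ∃ hf : f ∈ T, f * f = 1 ∧ f ∉ XStart.UG S ∧ t * f ∉ XStart.UG S ∧
        ((∃ σ : F ≃+* F, σ ≠ 1 ∧ IsFld (B2Conn.base H S) σ (pr A t ⟨f, H.T_le hf⟩)) ∨
          ∃ ψ : F ≃+* F, IsGrf (B2Conn.base H S) ψ (pr A t ⟨f, H.T_le hf⟩)) := by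
  by_cases h0 : ∀ y ∈ T, y * y ∈ XStart.UG S → y ∈ XStart.UG S ∨ t * y ∈ XStart.UG S
  · exact Or.inl h0
  right
  push Not at h0
  obtain ⟨y, hy, hyy, hyU, htyU⟩ := h0
  obtain ⟨u, hu, ρ, hρ⟩ := had y hy
  have hE := envX H S (by omega) hS
  have huT := hUT hu
  have huA := XStart.UG_le S hu
  have hut : u * t = t * u := (comm_of_centralizer H.htA huA).symm
  have hf : u * y ∈ T := mul_mem huT hy
  have hft : u * y * t = t * (u * y) := H.isT.cent _ hf
  have hyu : y * u * y⁻¹ ∈ XStart.UG S :=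
    mem_UG H S (by omega) hS hUT (mul_mem (mul_mem hy huT) (inv_mem hy))
      ((mem_normalizer_iff.1 (H.mem_normalizer (H.isT.cent y hy)) u).1 huA)
  have hff : u * y * (u * y) ∈ XStart.UG S := by
    have : u * y * (u * y) = u * (y * u * y⁻¹) * (y * y) := by group
    rw [this]
    exact mul_mem (mul_mem hu hyu) hyy
  have hfU : u * y ∉ XStart.UG S := by
    intro h
    apply hyU
    have h1 := mul_mem (inv_mem hu) h
    rwa [inv_mul_cancel_left] at h1
  have htfU : t * (u * y) ∉ XStart.UG S := by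
    intro h
    apply htyU
    have h1 := mul_mem (inv_mem hu) h
    have : u⁻¹ * (t * (u * y)) = t * y := by rw [← mul_assoc t, ← hut]; group
    rwa [this] at h1
  have hx : ∀ σ : F ≃+* F, IsFld (B2Conn.base H S) σ
      (pr A t ⟨u * y, H.T_le hf⟩ * pr A t ⟨u * y, H.T_le hf⟩) → u * y * (u * y) = 1 := by
    intro σ h
    have h1 : IsU (B2Conn.base H S) (pr A t ⟨u * y, H.T_le hf⟩ * pr A t ⟨u * y, H.T_le hf⟩) := by
      rw [isU_iff, ← map_mul]
      exact pr_mem_im (n := ⟨u * y, H.T_le hf⟩ * ⟨u * y, H.T_le hf⟩) hff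
    have h2 := eq_one_of_isU h1 h
    rw [← map_mul] at h2
    have h3 := H.pr_inj H.isT.syl.two (x := ⟨u * y, H.T_le hf⟩ * ⟨u * y, H.T_le hf⟩) (y := 1)
      (mul_mem hf hf) (one_mem T) (h2.trans (map_one _).symm)
    exact congrArg Subtype.val h3
  rcases hρ with ⟨-, h⟩ | ⟨-, h⟩
  · have h1 := isFld_of H S hft h
    refine ⟨u * y, hf, hx _ (IsFld_sq h1), hfU, htfU, Or.inl ⟨ρ, ?_, h1⟩⟩
    rintro rfl
    rcases eq_one_or H hE rfl h1 with h2 | h2
    · apply hfU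
      have h3 := H.pr_inj H.isT.syl.two (x := ⟨u * y, H.T_le hf⟩) (y := 1) hf (one_mem T) (h2.trans (map_one _).symm)
      have h4 : u * y = 1 := congrArg Subtype.val h3
      rw [h4]; exact one_mem _
    · apply htfU
      have h3 := H.pr_inj H.isT.syl.two (x := ⟨u * y, H.T_le hf⟩) (y := ⟨t, H.t_mem⟩) hf H.isT.mem h2
      have h4 : u * y = t := congrArg Subtype.val h3
      rw [h4, H.tt]; exact one_mem _
  · have h1 := isGrf_of H S hft h
    exact ⟨u * y, hf, hx _ (IsGrf_sq h1), hfU, htfU, Or.inr ⟨ρ, h1⟩⟩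

end G

end Cfsg.Agent.StdSpFour.Dich
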