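import Cfsg.Agent.StdSpFour.Rel
import Cfsg.Agent.StdSpFour.EnvFacts

/-!
# Type `Sp₄`: a short layer but no long layer implies `e = 1`
-/

set_option autoImplicit false
set_option linter.unusedSectionVars false

namespace Cfsg.Agent.StdSpFour.EOne

open Cfsg.Agent.StdSpFour Cfsg.Agent.StdSpFour.Comm Cfsg.Agent.StdSpFour.Rel Cfsg.Agent.StdSpFour.Swap
  Cfsg.Agent.StdSpFour.EnvFacts

variable {F G : Type*} [Field F] [CharP F 2] [Finite F] [Group G] [Finite G] {B : Base F G} {A : Subgroup G}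

/-- `t ~ t z_l(1 + e)` -/
theorem exists_conj (S : ShortLayer B) : ∃ g : G, g * B.t * g⁻¹ = B.t * B.zl (1 + S.e) := by
  have h1 := cD_t S 1 1
  have h2 := S.t_p 1
  refine ⟨(D S 1 1 * S.p 1)⁻¹, ?_⟩
  have h3 : (D S 1 1)⁻¹ * B.t * D S 1 1 = B.t * (B.zs 1 * B.zl (1 + S.e)) := by
    have h4 : B.t * Rel.V B 0 (1 * 1) ((1 + S.e) * (1 ^ 2 * 1)) = B.t * (B.zs 1 * B.zl (1 + S.e)) := by
      rw [Rel.V, xa_zero, one_mul, one_mul, one_pow, one_mul, mul_one]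
    rw [← h4, ← h1]
    rfl
  have h4 := (S.p_zs 1 1).eq
  have h5 := (S.p_zl 1 (1 + S.e)).eq
  have h6 : B.zs 1 * B.zs 1 = 1 := sq_of_add B.zs_add 1
  calc (D S 1 1 * S.p 1)⁻¹ * B.t * (D S 1 1 * S.p 1)⁻¹⁻¹
      = (S.p 1)⁻¹ * ((D S 1 1)⁻¹ * B.t * D S 1 1) * S.p 1 := by group
    _ = (S.p 1)⁻¹ * B.t * B.zs 1 * (B.zl (1 + S.e) * S.p 1) := by rw [h3]; group
    _ = (S.p 1)⁻¹ * B.t * (B.zs 1 * S.p 1) * B.zl (1 + S.e) := by rw [← h5]; group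
    _ = (S.p 1)⁻¹ * (B.t * S.p 1) * B.zs 1 * B.zl (1 + S.e) := by rw [← h4]; group
    _ = B.t * (B.zs 1 * B.zs 1) * B.zl (1 + S.e) := by rw [h2]; group
    _ = _ := by rw [h6, mul_one]

/-- **no long layer: `e = 1`** -/
theorem e_one (hE : Env B A) (hF : 4 ≤ Nat.card F) (S : ShortLayer B) (hL : ¬ Nonempty (LongLayer B)) : S.e = 1 := by
  obtain ⟨g, hg⟩ := exists_conj S
  by_contra h
  exact hL (exists_long hE hF (fun h1 => h (CharTwo.add_eq_zero.1 h1).symm) hg)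

end Cfsg.Agent.StdSpFour.EOne
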