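import Cfsg.Agent.StdSpFour.EnvFacts
import Cfsg.Agent.StdRank2.B2Conn
import Cfsg.Agent.StdEven.Perf

/-!
# The environment `Env` of type `Sp₄`

`env`: `Env (SpFrame.base S ..) A` from a package `S` of `A`, `Amb A t`, `Sch A`.
-/

set_option autoImplicit false
set_option linter.unusedSectionVars false

namespace Cfsg.Agent.StdSpFour.SpEnv

open Subgroup
open Cfsg.Agent.TitsThree.B2Pkg Cfsg.Agent.TitsThree.RankTwoIdentB2
  Cfsg.Agent.TitsThree.CoreB2 Cfsg.Agent.TitsThree.RankTwoIdx Cfsg.Agent.TitsThree.RankTwoRGD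
  Cfsg.Agent.TitsThree.StdData
open Cfsg.Agent.StdRank2 Cfsg.Agent.StdRank2.OddLift Cfsg.Agent.StdRank2.B2Lift Cfsg.Agent.StdRank2.B2Std
  Cfsg.Agent.StdRank2.B2Torus Cfsg.Agent.StdRank2.B2Act Cfsg.Agent.StdRank2.B2Act.Std
  Cfsg.Agent.StdRank2.B2Par Cfsg.Agent.StdRank2.B2Par.Std
  Cfsg.Agent.StdRank2.B2Amb Cfsg.Agent.StdRank2.SpFrame Cfsg.Agent.StdRank2.SpSelf
open Cfsg.Agent.Schreier.Basic
open scoped commutatorElement Pointwise

universe u

variable {F : Type*} [Field F] [Finite F] [CharP F 2]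

section word

variable {A : Type u} [Group A] (S : Std (stdSp F) A)

theorem exists_h (hZ : center A = ⊥) {g : A} (hg : g ∈ S.H) : ∃ α β : Fˣ, g = SpFrame.h S α β := by
  obtain ⟨l, μ, ν, ht⟩ := exists_tact S.rel S.hp₀ scal_Sp hg
  have hα : l * μ⁻¹ ≠ 0 := mul_ne_zero ht.l0 (inv_ne_zero ht.μ0)
  have hβ : μ * μ ≠ 0 := mul_ne_zero ht.μ0 ht.μ0
  refine ⟨Units.mk0 _ hα, Units.mk0 _ hβ, ?_⟩
  apply SpFrame.eq_of_act S hZ
  · intro a
    rw [ht.x a, SpFrame.h_x]; rfl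
  · intro a
    rw [ht.x' a, SpFrame.h_x']
    congr 1
    show l⁻¹ * μ * a = (l * μ⁻¹)⁻¹ * a
    rw [mul_inv, inv_inv]
  · intro a
    obtain ⟨q, -, h2, h3⟩ := ht.z₂ (tt a)
    rw [h3, SpFrame.h_z₂, eq_tt q, h2]; rfl
  · intro a
    obtain ⟨q, -, h2, h3⟩ := ht.z₂' (tt a)
    rw [h3, SpFrame.h_z₂', eq_tt q, h2]
    congr 2
    show μ⁻¹ * μ⁻¹ * a = (μ * μ)⁻¹ * a
    rw [mul_inv]

/-- the eight Weyl words -/
def IsWd (n : A) : Prop :=
  n = 1 ∨ n = na S ∨ n = nb S ∨ n = na S * nb S ∨ n = nb S * na S ∨ n = na S * nb S * na S ∨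
    n = nb S * na S * nb S ∨ n = na S * nb S * na S * nb S

/-- `y ∈ H w` -/
def Q (w y : A) : Prop := ∃ α β : Fˣ, y = SpFrame.h S α β * w

variable {S}

theorem Q.I (hZ : center A = ⊥) {w y : A} (h : Q S w y) : Q S (na S * w) (S.m.nI * y) := by
  obtain ⟨α, β, rfl⟩ := h
  refine ⟨α⁻¹, α ^ 2 * β, ?_⟩
  have h1 := mul_inv_eq_iff_eq_mul.1 (na_h S hZ α β)
  calc S.m.nI * (SpFrame.h S α β * w) = (na S * SpFrame.h S α β) * w := by rw [mul_assoc]; rfl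
    _ = _ := by rw [h1, mul_assoc]

theorem Q.J (hZ : center A = ⊥) {w y : A} (h : Q S w y) : Q S (nb S * w) (S.m.nII S.p₀ * y) := by
  obtain ⟨α, β, rfl⟩ := h
  obtain ⟨α0, β0, h0⟩ := exists_h S hZ (hII_mem (m := S.m) S.hp₀ one_c)
  refine ⟨α0 * (α * β), β0 * β⁻¹, ?_⟩
  have h1 := mul_inv_eq_iff_eq_mul.1 (nb_h S hZ α β)
  have h2 : S.m.nII S.p₀ = SpFrame.h S α0 β0 * nb S := by rw [← h0]; unfold nb; group
  calc S.m.nII S.p₀ * (SpFrame.h S α β * w) = SpFrame.h S α0 β0 * (nb S * SpFrame.h S α β) * w := by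
        rw [h2]; simp only [mul_assoc]
    _ = _ := by rw [h1, SpFrame.h_mul S hZ]; simp only [mul_assoc]

theorem Q.one (hZ : center A = ⊥) : Q S 1 1 := ⟨1, 1, by
  have := SpFrame.h_mul S hZ 1 1 1 1
  rw [mul_one] at this
  rw [mul_one]
  exact (left_eq_mul.1 this).symm⟩

theorem exists_word (hZ : center A = ⊥)
    (hbr : na S * nb S * na S * nb S = nb S * na S * nb S * na S) {k : ℕ} (hk : k ≤ 4) {y : A}
    (hy : y = alt S.m.nI (S.m.nII S.p₀) k ∨ y = alt (S.m.nII S.p₀) S.m.nI k) :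
    ∃ n, IsWd S n ∧ Q S n y := by
  have q0 := Q.one (S := S) hZ
  have i1 := q0.I hZ
  have j1 := q0.J hZ
  have i2 := j1.I hZ
  have j2 := i1.J hZ
  have i3 := j2.I hZ
  have j3 := i2.J hZ
  have i4 := j3.I hZ
  have j4 := i3.J hZ
  simp only [mul_one] at i1 j1 i2 j2 i3 j3 i4 j4
  have ei : ∀ k, alt S.m.nI (S.m.nII S.p₀) (k + 1) = S.m.nI * alt (S.m.nII S.p₀) S.m.nI k := fun k => rfl
  have ej : ∀ k, alt (S.m.nII S.p₀) S.m.nI (k + 1) = S.m.nII S.p₀ * alt S.m.nI (S.m.nII S.p₀) k := fun k => rfl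
  interval_cases k
  · rcases hy with rfl | rfl
    · exact ⟨1, Or.inl rfl, q0⟩
    · exact ⟨1, Or.inl rfl, q0⟩
  · rcases hy with rfl | rfl
    · refine ⟨na S, Or.inr (Or.inl rfl), ?_⟩
      rw [ei, alt_zero, mul_one]; exact i1
    · refine ⟨nb S, Or.inr (Or.inr (Or.inl rfl)), ?_⟩
      rw [ej, alt_zero, mul_one]; exact j1
  · rcases hy with rfl | rfl
    · refine ⟨na S * nb S, Or.inr (Or.inr (Or.inr (Or.inl rfl))), ?_⟩
      rw [ei, ej, alt_zero, mul_one]; exact i2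
    · refine ⟨nb S * na S, Or.inr (Or.inr (Or.inr (Or.inr (Or.inl rfl)))), ?_⟩
      rw [ej, ei, alt_zero, mul_one]; exact j2
  · rcases hy with rfl | rfl
    · refine ⟨na S * nb S * na S, Or.inr (Or.inr (Or.inr (Or.inr (Or.inr (Or.inl rfl))))), ?_⟩
      rw [ei, ej, ei, alt_zero, mul_one, mul_assoc]; exact i3
    · refine ⟨nb S * na S * nb S, Or.inr (Or.inr (Or.inr (Or.inr (Or.inr (Or.inr (Or.inl rfl)))))), ?_⟩
      rw [ej, ei, ej, alt_zero, mul_one, mul_assoc]; exact j3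
  · rcases hy with rfl | rfl
    · refine ⟨na S * nb S * na S * nb S, Or.inr (Or.inr (Or.inr (Or.inr (Or.inr (Or.inr (Or.inr rfl)))))), ?_⟩
      rw [ei, ej, ei, ej, alt_zero, mul_one, mul_assoc, mul_assoc]; exact i4
    · refine ⟨na S * nb S * na S * nb S, Or.inr (Or.inr (Or.inr (Or.inr (Or.inr (Or.inr (Or.inr rfl)))))), ?_⟩
      rw [hbr, ej, ei, ej, ei, alt_zero, mul_one, mul_assoc, mul_assoc]; exact j4

/-- **Bruhat decomposition** in the words `na`, `nb`. -/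
theorem bruhat (hZ : center A = ⊥) (hbr : na S * nb S * na S * nb S = nb S * na S * nb S * na S) (g : A) :
    ∃ u ∈ S.U, ∃ α β n, IsWd S n ∧ ∃ u' ∈ S.U, g = u * SpFrame.h S α β * n * u' := by
  have h0 : g ∈ S.r2.U ⊔ S.r2.H ⊔ (S.r2.XI' ⊔ S.r2.XJ') := by
    have : g ∈ S.r2.core.G := by rw [S.core_G]; exact mem_top g
    exact this
  obtain ⟨b, hb, k, hk, b', hb', hy⟩ := S.r2.bruhat h0
  have eB : S.r2.U ⊔ S.r2.H = S.U ⊔ S.H := by rw [S.r2_U]; rfl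
  rw [eB] at hb hb'
  obtain ⟨u, hu, h, hh, rfl⟩ := mem_B.1 hb
  obtain ⟨u2, hu2, h2, hh2, e2⟩ := mem_B.1 (inv_mem hb')
  have eI : S.r2.nI = S.m.nI := core_nI (S := S)
  have eJ : S.r2.nJ = S.m.nII S.p₀ := rfl
  rw [eI, eJ] at hy
  obtain ⟨y, hy1, hy2⟩ : ∃ y, (y = alt S.m.nI (S.m.nII S.p₀) k ∨ y = alt (S.m.nII S.p₀) S.m.nI k) ∧
      g = u * h * y * b' := by
    rcases hy with hy | hy
    · exact ⟨_, Or.inl rfl, hy⟩
    · exact ⟨_, Or.inr rfl, hy⟩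
  obtain ⟨n, hn, α, β, hq⟩ := exists_word hZ hbr hk hy1
  obtain ⟨α1, β1, h1⟩ := exists_h S hZ hh
  obtain ⟨α2, β2, h3⟩ := exists_h S hZ (inv_mem hh2)
  have hb2 : b' = h2⁻¹ * u2⁻¹ := by rw [← mul_inv_rev, ← e2, inv_inv]
  -- move `h2⁻¹` to the left through the word
  obtain ⟨α3, β3, h4⟩ : ∃ α β : Fˣ, n * SpFrame.h S α2 β2 = SpFrame.h S α β * n := by
    have hna : ∀ α β : Fˣ, na S * SpFrame.h S α β = SpFrame.h S α⁻¹ (α ^ 2 * β) * na S :=
      fun α β => mul_inv_eq_iff_eq_mul.1 (na_h S hZ α β)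
    have hnb : ∀ α β : Fˣ, nb S * SpFrame.h S α β = SpFrame.h S (α * β) β⁻¹ * nb S :=
      fun α β => mul_inv_eq_iff_eq_mul.1 (nb_h S hZ α β)
    have key : ∀ {n : A}, IsWd S n → ∀ α β : Fˣ, ∃ α' β' : Fˣ, n * SpFrame.h S α β = SpFrame.h S α' β' * n := by
      have k1 : ∀ {m n : A}, (∀ α β : Fˣ, ∃ α' β' : Fˣ, m * SpFrame.h S α β = SpFrame.h S α' β' * m) →
          (∀ α β : Fˣ, ∃ α' β' : Fˣ, n * SpFrame.h S α β = SpFrame.h S α' β' * n) →
          ∀ α β : Fˣ, ∃ α' β' : Fˣ, m * n * SpFrame.h S α β = SpFrame.h S α' β' * (m * n) := by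
        intro m n hm hn α β
        obtain ⟨a1, b1, e1⟩ := hn α β
        obtain ⟨a2, b2, e2⟩ := hm a1 b1
        exact ⟨a2, b2, by rw [mul_assoc, e1, ← mul_assoc, e2, mul_assoc]⟩
      have ka : ∀ α β : Fˣ, ∃ α' β' : Fˣ, na S * SpFrame.h S α β = SpFrame.h S α' β' * na S :=
        fun α β => ⟨_, _, hna α β⟩
      have kb : ∀ α β : Fˣ, ∃ α' β' : Fˣ, nb S * SpFrame.h S α β = SpFrame.h S α' β' * nb S :=
        fun α β => ⟨_, _, hnb α β⟩
      intro n hn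
      rcases hn with rfl | rfl | rfl | rfl | rfl | rfl | rfl | rfl
      · exact fun α β => ⟨α, β, by rw [one_mul, mul_one]⟩
      · exact ka
      · exact kb
      · exact k1 ka kb
      · exact k1 kb ka
      · exact k1 (k1 ka kb) ka
      · exact k1 (k1 kb ka) kb
      · exact k1 (k1 (k1 ka kb) ka) kb
    exact key hn α2 β2
  refine ⟨u, hu, α1 * (α * α3), β1 * (β * β3), n, hn, u2⁻¹, inv_mem hu2, ?_⟩
  rw [hy2, hq, hb2, h1, h3, SpFrame.h_mul S hZ, SpFrame.h_mul S hZ]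
  calc u * SpFrame.h S α1 β1 * (SpFrame.h S α β * n) * (SpFrame.h S α2 β2 * u2⁻¹)
      = u * SpFrame.h S α1 β1 * SpFrame.h S α β * (n * SpFrame.h S α2 β2) * u2⁻¹ := by simp only [mul_assoc]
    _ = _ := by rw [h4]; simp only [mul_assoc]

end word

section env

variable {G : Type u} [Group G] {A : Subgroup G} (S : Std (stdSp F) ↥A)

theorem isU_iff (hZ : center ↥A = ⊥) {t : G} (htt : t * t = 1) (htA : t ∈ centralizer (A : Set G)) (htn : t ∉ A)
    {g : G} : Env.IsU (SpFrame.base S hZ htt htA htn) g ↔ ∃ u ∈ S.U, (u : G) = g := by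
  have e : ∀ a s m r : F, (SpFrame.base S hZ htt htA htn).xa a * (SpFrame.base S hZ htt htA htn).v1 s m r =
      ((B2Std.nf S.m a (tt r) m (tt s) : ↥A) : G) := by
    intro a s m r
    rw [← eq_nf]
    show (S.m.x a : G) * ((S.m.z₂ (tt s) : G) * (S.m.y m : G) * (S.m.z₁ (tt r) : G)) =
      (S.m.x a : G) * (S.m.z₂ (tt s) : G) * (S.m.y m : G) * (S.m.z₁ (tt r) : G)
    simp only [mul_assoc]
  constructor
  · rintro ⟨a, s, m, r, h⟩
    refine ⟨_, B2Std.nf_mem a (tt r) m (tt s), ?_⟩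
    rw [h, e]
  · rintro ⟨u, hu, h⟩
    obtain ⟨a, p, b, q, rfl⟩ := exists_nf_sp S hu
    exact ⟨a, q, b, p, by rw [← h, e]⟩

/-- perfect subgroups of `C(t)` lie in `A` -/
theorem maxA {t : G} (h : Amb A t) (hS : Sch ↥A) {Q : Subgroup G} (hQ : ⁅Q, Q⁆ = Q) (hQt : ∀ x ∈ Q, Commute x t) :
    Q ≤ A := by
  have hQN : Q ≤ normalizer (A : Set G) := by
    intro x hx
    rw [mem_normalizer_iff]
    intro a
    refine ⟨h.nor x (hQt x hx) a, fun ha => ?_⟩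
    have h1 := h.nor x⁻¹ (hQt x hx).inv_left _ ha
    rwa [show x⁻¹ * (x * a * x⁻¹) * x⁻¹⁻¹ = a by group] at h1
  have hinner : ∀ x ∈ Q, ∃ a ∈ A, a⁻¹ * x = 1 ∨ a⁻¹ * x = t := by
    let f : ↥(normalizer (A : Set G)) →* MulAut ↥A := A.normalizerMonoidHom
    have h1 : ⁅(Q.subgroupOf (normalizer (A : Set G))).map f, (Q.subgroupOf (normalizer (A : Set G))).map f⁆ =
        (Q.subgroupOf (normalizer (A : Set G))).map f := by
      apply map_perfect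
      apply Subgroup.map_injective (normalizer (A : Set G)).subtype_injective
      rw [Subgroup.map_commutator, subgroupOf_map_subtype, inf_eq_left.mpr hQN, hQ]
    have h2 := hS _ h1
    intro x hx
    obtain ⟨a, ha⟩ := h2 ⟨⟨x, hQN hx⟩, mem_subgroupOf.mpr hx, rfl⟩
    refine ⟨a, a.2, ?_⟩
    have hat : Commute (a : G) t := (h.comm a a.2).symm
    apply h.cen
    · exact (hat.inv_left.mul_left (hQt x hx)).eq
    · intro b hb
      have h3 := congrArg (fun φ : MulAut ↥A => ((φ ⟨b, hb⟩ : A) : G)) ha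
      have h4 : (a : G) * b * (a : G)⁻¹ = x * b * x⁻¹ := h3
      calc (a : G)⁻¹ * x * b = (a : G)⁻¹ * (x * b * x⁻¹) * x := by group
        _ = (a : G)⁻¹ * (a * b * (a : G)⁻¹) * x := by rw [h4]
        _ = b * ((a : G)⁻¹ * x) := by group
  rw [← hQ, commutator_le]
  intro x hx y hy
  obtain ⟨a, ha, h1⟩ := hinner x hx
  obtain ⟨b, hb, h2⟩ := hinner y hy
  have cx : ∃ s : G, x = a * s ∧ Commute s t ∧ (∀ c ∈ A, Commute s c) := by
    refine ⟨a⁻¹ * x, by group, ?_, ?_⟩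
    · rcases h1 with h1 | h1
      · rw [h1]; exact Commute.one_left _
      · rw [h1]
    · intro c hc
      rcases h1 with h1 | h1
      · rw [h1]; exact Commute.one_left _
      · rw [h1]; exact h.comm c hc
  have cy : y = b ∨ y = b * t := by
    rcases h2 with h2 | h2
    · left; exact (inv_mul_eq_one.1 h2).symm
    · right; rw [← h2]; group
  obtain ⟨s, rfl, hst, hsA⟩ := cx
  have hsb := hsA b hb
  have hsa := hsA a ha
  have hta : Commute t a := h.comm a ha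
  have e : ⁅a * s, y⁆ = ⁅a, b⁆ := by
    rw [commutatorElement_def, commutatorElement_def, mul_inv_rev]
    rcases cy with rfl | rfl
    · calc a * s * y * (s⁻¹ * a⁻¹) * y⁻¹ = a * (s * y) * (s⁻¹ * a⁻¹) * y⁻¹ := by group
        _ = _ := by rw [hsb.eq]; group
    · have htb : Commute t b := h.comm b hb
      calc a * s * (b * t) * (s⁻¹ * a⁻¹) * (b * t)⁻¹ = a * (s * b) * t * (s⁻¹ * a⁻¹) * t⁻¹ * b⁻¹ := by group
        _ = a * b * (s * t) * s⁻¹ * a⁻¹ * t⁻¹ * b⁻¹ := by rw [hsb.eq]; group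
        _ = a * b * (t * a⁻¹) * t⁻¹ * b⁻¹ := by rw [hst.eq]; group
        _ = _ := by rw [hta.inv_right.eq]; group
  rw [e, commutatorElement_def]
  exact mul_mem (mul_mem (mul_mem ha hb) (inv_mem ha)) (inv_mem hb)

variable [Finite G]

/-- **the environment** -/
theorem env (hF : 3 ≤ Nat.card F) (hZ : center ↥A = ⊥) {t : G} (h : Amb A t) (hS : Sch ↥A) (htt : t * t = 1)
    (htA : t ∈ centralizer (A : Set G)) (htn : t ∉ A) : Env (SpFrame.base S hZ htt htA htn) A where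
  weyl := Weyl.base S hZ htt htA htn
  self := base_self S hF hZ h htt htA htn
  xa_mem u := (S.m.x u).2
  xb_mem u := (S.m.z₂ (tt u)).2
  zs_mem u := (S.m.y u).2
  zl_mem u := (S.m.z₁ (tt u)).2
  na_mem := (SpFrame.na S).2
  nb_mem := (SpFrame.nb S).2
  h_mem α β := (SpFrame.h S α β).2
  comm x hx := (h.comm x hx).symm
  t_nm := htn
  maxA := fun Q hQ hQt => maxA h hS hQ hQt
  bruhat := by
    intro g hg
    have hW := Weyl.base S hZ htt htA htn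
    have hbr : SpFrame.na S * SpFrame.nb S * SpFrame.na S * SpFrame.nb S =
        SpFrame.nb S * SpFrame.na S * SpFrame.nb S * SpFrame.na S :=
      A.subtype_injective (EnvSwap.braid' hW)
    obtain ⟨u, hu, α, β, n, hn, u', hu', e⟩ := bruhat hZ hbr (⟨g, hg⟩ : ↥A)
    refine ⟨u, (isU_iff S hZ htt htA htn).2 ⟨u, hu, rfl⟩, α, β, n, ?_, u',
      (isU_iff S hZ htt htA htn).2 ⟨u', hu', rfl⟩, congrArg Subtype.val e⟩
    rcases hn with rfl | rfl | rfl | rfl | rfl | rfl | rfl | rfl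
    · exact Or.inl rfl
    · exact Or.inr (Or.inl rfl)
    · exact Or.inr (Or.inr (Or.inl rfl))
    · exact Or.inr (Or.inr (Or.inr (Or.inl rfl)))
    · exact Or.inr (Or.inr (Or.inr (Or.inr (Or.inl rfl))))
    · exact Or.inr (Or.inr (Or.inr (Or.inr (Or.inr (Or.inl rfl)))))
    · exact Or.inr (Or.inr (Or.inr (Or.inr (Or.inr (Or.inr (Or.inl rfl))))))
    · exact Or.inr (Or.inr (Or.inr (Or.inr (Or.inr (Or.inr (Or.inr rfl))))))
  syl := by
    intro Q hQA hQ2 hUQ x hx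
    obtain ⟨P, hP⟩ := B2Torus.Std.exists_sylow S scal_Sp (by rw [hZ, Subgroup.card_bot]; exact odd_one)
    have h1 : IsPGroup 2 ↥(Q.subgroupOf A) := by
      rintro ⟨y, hy⟩
      obtain ⟨k, hk⟩ := hQ2 y (mem_subgroupOf.1 hy)
      exact ⟨k, Subtype.ext (Subtype.ext (by simpa using hk))⟩
    have h2 : (P : Subgroup ↥A) ≤ Q.subgroupOf A := by
      intro y hy
      rw [hP] at hy
      exact mem_subgroupOf.2 (hUQ y ((isU_iff S hZ htt htA htn).2 ⟨y, hy, rfl⟩))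
    have h3 := P.is_maximal' h1 h2
    have h4 : (⟨x, hQA hx⟩ : ↥A) ∈ Q.subgroupOf A := mem_subgroupOf.2 hx
    rw [h3, hP] at h4
    exact (isU_iff S hZ htt htA htn).2 ⟨_, h4, rfl⟩
  conjU := by
    intro x hx hxx
    have : Fact (Nat.Prime 2) := ⟨Nat.prime_two⟩
    obtain ⟨P, hP⟩ := B2Torus.Std.exists_sylow S scal_Sp (by rw [hZ, Subgroup.card_bot]; exact odd_one)
    have h1 : IsPGroup 2 ↥(zpowers (⟨x, hx⟩ : ↥A)) := by
      rintro ⟨y, hy⟩
      obtain ⟨k, rfl⟩ := mem_zpowers_iff.1 hy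
      refine ⟨1, Subtype.ext ?_⟩
      show ((⟨x, hx⟩ : ↥A) ^ k) ^ 2 ^ 1 = 1
      have h2 : (⟨x, hx⟩ : ↥A) * ⟨x, hx⟩ = 1 := Subtype.ext hxx
      rw [pow_one, pow_two, ← zpow_add, ← two_mul, zpow_mul, zpow_two, h2, one_zpow]
    obtain ⟨R, hR⟩ := h1.exists_le_sylow
    obtain ⟨g, hg⟩ := MulAction.exists_smul_eq ↥A R P
    have h3 : g * ⟨x, hx⟩ * g⁻¹ ∈ (P : Subgroup ↥A) := by
      rw [← hg, Sylow.coe_subgroup_smul]
      exact ⟨⟨x, hx⟩, hR (mem_zpowers _), rfl⟩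
    rw [hP] at h3
    refine ⟨(g : G)⁻¹, inv_mem g.2, (isU_iff S hZ htt htA htn).2 ⟨_, h3, ?_⟩⟩
    show (g : G) * x * (g : G)⁻¹ = (g : G)⁻¹⁻¹ * x * (g : G)⁻¹
    rw [inv_inv]

end env

end Cfsg.Agent.StdSpFour.SpEnv
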