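import Cfsg.Agent.StdSpFour.NormJ
import Cfsg.Agent.StdSpFour.SpEnv

/-!
# Type `Sp₄`: from `N_G(J)` to `X = N_G(O)/O`

`J = U⟨t⟩ ≤ G`.  `envX`: the environment in `X`.  An element of `N_G(J)` which maps `t` to `t v`, `1 ≠ v ∈ Z(U)`, gives
the short or the long layer in `X`.
-/

set_option autoImplicit false
set_option linter.unusedSectionVars false

namespace Cfsg.Agent.StdSpFour.XStart

open Subgroup
open Cfsg.Agent.TitsThree.B2Pkg Cfsg.Agent.TitsThree.RankTwoIdentB2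
  Cfsg.Agent.TitsThree.CoreB2 Cfsg.Agent.TitsThree.RankTwoIdx Cfsg.Agent.TitsThree.RankTwoRGD
  Cfsg.Agent.TitsThree.StdData
open Cfsg.Agent.StdRank2 Cfsg.Agent.StdRank2.OddLift Cfsg.Agent.StdRank2.B2Lift Cfsg.Agent.StdRank2.B2Std
  Cfsg.Agent.StdRank2.B2Torus Cfsg.Agent.StdRank2.B2Act Cfsg.Agent.StdRank2.B2Act.Std
  Cfsg.Agent.StdRank2.B2Par Cfsg.Agent.StdRank2.B2Par.Std
  Cfsg.Agent.StdRank2.B2Amb Cfsg.Agent.StdRank2.SpFrame Cfsg.Agent.StdRank2.SpSelf
open Cfsg.Agent.StdEven Cfsg.Agent.StdEven.CoreQuot Cfsg.Agent.StdEven.Loc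
open Cfsg.Agent.Schreier.Basic
open scoped commutatorElement Pointwise

universe u

variable {F : Type*} [Field F] [Finite F] [CharP F 2]
variable {G : Type u} [Group G] {A : Subgroup G} {t : G} {T : Subgroup G}

/-- `U` in `G` -/
def UG (S : Std (stdSp F) ↥A) : Subgroup G := S.U.map A.subtype

/-- `J = U ⟨t⟩` -/
def JG (S : Std (stdSp F) ↥A) (t : G) : Subgroup G := UG S ⊔ zpowers t

/-- `Z = Z(U)` in `G` -/
noncomputable def WG (S : Std (stdSp F) ↥A) : Subgroup G := (S.VI ⊓ S.VJ).map A.subtype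

theorem UG_le (S : Std (stdSp F) ↥A) : UG S ≤ A := by
  rintro _ ⟨v, -, rfl⟩
  exact v.2

theorem mem_JG (S : Std (stdSp F) ↥A) (htt : t * t = 1) (htA : ∀ a ∈ A, t * a = a * t) {x : G} :
    x ∈ JG S t ↔ x ∈ UG S ∨ t * x ∈ UG S := by
  let K : Subgroup G :=
    { carrier := {x | x ∈ UG S ∨ t * x ∈ UG S}
      one_mem' := Or.inl (one_mem _)
      mul_mem' := by
        rintro a b (ha | ha) (hb | hb)
        · exact Or.inl (mul_mem ha hb)
        · right
          have h1 := htA a (UG_le S ha)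
          have h2 : t * (a * b) = a * (t * b) := by rw [← mul_assoc, h1, mul_assoc]
          rw [h2]
          exact mul_mem ha hb
        · right
          rw [← mul_assoc]
          exact mul_mem ha hb
        · left
          have h1 := htA _ (UG_le S ha)
          have h2 : t * (t * a) = a := by rw [← mul_assoc, htt, one_mul]
          have h3 : a * b = t * a * (t * b) := by
            rw [← mul_assoc, ← h1, h2]
          rw [h3]
          exact mul_mem ha hb
      inv_mem' := by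
        rintro a (ha | ha)
        · exact Or.inl (inv_mem ha)
        · right
          have h1 := htA _ (UG_le S ha)
          have h2 : t * (t * a) = a := by rw [← mul_assoc, htt, one_mul]
          have h3 : t * a⁻¹ = (t * a)⁻¹ := by
            rw [h2] at h1
            have h4 : t⁻¹ = t := inv_eq_of_mul_eq_one_left htt
            have h5 : Commute t a := by
              show t * a = a * t
              have h6 : t * a = t * (t * a * t) := by rw [← h1]
              rw [h6, ← mul_assoc, ← mul_assoc, htt, one_mul]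
            rw [mul_inv_rev, h4]
            exact h5.inv_right.eq
          rw [h3]
          exact inv_mem ha }
  have h1 : JG S t ≤ K := by
    apply sup_le
    · intro x hx
      exact Or.inl hx
    · rw [zpowers_le]
      right
      rw [htt]
      exact one_mem _
  constructor
  · intro hx
    exact h1 hx
  · rintro (h | h)
    · exact le_sup_left (a := UG S) h
    · have h2 : x = t * (t * x) := by rw [← mul_assoc, htt, one_mul]
      rw [h2]
      exact mul_mem (le_sup_right (a := UG S) (mem_zpowers t)) (le_sup_left (a := UG S) h)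

variable [Finite G] (H : Hyp A t T) (S : Std (stdSp F) ↥A)
include H

/-- **the environment in `X`** -/
theorem envX (hF : 3 ≤ Nat.card F) (hS : Sch ↥(im A t A)) : Env (B2Conn.base H S) (im A t A) :=
  SpEnv.env (B2Conn.imS H S) hF (B2Conn.center_im H) (B2Conn.amb H) hS H.tX_sq (B2Conn.tX_mem_centralizer H)
    (B2Conn.tX_not_mem H)

theorem isU_iff {x : XQ A t} : Env.IsU (B2Conn.base H S) x ↔ x ∈ im A t (UG S) := by
  have h1 := SpEnv.isU_iff (B2Conn.imS H S) (B2Conn.center_im H) H.tX_sq (B2Conn.tX_mem_centralizer H)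
    (B2Conn.tX_not_mem H) (g := x)
  rw [show UG S = S.U.map A.subtype from rfl, B2Conn.im_U H S]
  exact h1

theorem JG_le : JG S t ≤ NO A t :=
  sup_le ((UG_le S).trans H.A_le) (by rw [zpowers_le]; exact H.t_mem)

theorem isJ_iff {x : XQ A t} : NormJ.IsJ (B2Conn.base H S) x ↔ x ∈ im A t (JG S t) := by
  have htA : ∀ a ∈ A, t * a = a * t := fun a ha => comm_of_centralizer H.htA ha
  constructor
  · rintro (h1 | h1)
    · exact im_mono le_sup_left ((isU_iff H S).1 h1)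
    · obtain ⟨n, hn, e⟩ := mem_im.1 ((isU_iff H S).1 h1)
      have h2 : x = pr A t (⟨t, H.t_mem⟩ * n) := by
        rw [map_mul, e]
        change x = H.tX * (H.tX * x)
        rw [← mul_assoc, H.tX_sq, one_mul]
      rw [h2]
      apply pr_mem_im
      show t * (n : G) ∈ JG S t
      exact mul_mem (le_sup_right (a := UG S) (mem_zpowers t)) (le_sup_left (a := UG S) hn)
  · intro h1
    obtain ⟨n, hn, rfl⟩ := mem_im.1 h1
    rcases (mem_JG S H.tt htA).1 hn with h2 | h2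
    · exact Or.inl ((isU_iff H S).2 (pr_mem_im h2))
    · right
      have h3 : H.tX * pr A t n = pr A t (⟨t, H.t_mem⟩ * n) := by rw [map_mul]; rfl
      change Env.IsU (B2Conn.base H S) (H.tX * pr A t n)
      rw [h3]
      exact (isU_iff H S).2 (pr_mem_im (n := ⟨t, H.t_mem⟩ * n) h2)

/-- odd order elements of `C_X(J)` are trivial -/
theorem odd_cent (hF : 3 ≤ Nat.card F) {x : XQ A t} (hx : ∀ y ∈ im A t (JG S t), x * y = y * x)
    (ho : Odd (orderOf x)) : x = 1 := by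
  have hB := B2Conn.base_self H S hF
  have hJ : ∀ y, NormJ.IsJ (B2Conn.base H S) y → x * y = y * x := fun y hy => hx y ((isJ_iff H S).1 hy)
  have ht : Commute x (B2Conn.base H S).t := hJ _ (Or.inr (by rw [(B2Conn.base H S).tt]; exact Env.IsU.one))
  obtain ⟨u, s, m, r, h1⟩ := hB.centZ x ht
    (fun u => hJ _ (Or.inl (EnvFacts.IsU.zs u))) (fun u => hJ _ (Or.inl (EnvFacts.IsU.zl u)))
  have h2 : ∃ w : XQ A t, Env.IsU (B2Conn.base H S) w ∧ (x = w ∨ x = (B2Conn.base H S).t * w) := by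
    refine ⟨_, ⟨u, s, m, r, ?_⟩, h1⟩
    rw [Base.v1]; simp only [mul_assoc]
  obtain ⟨w, ⟨a, s', m', r', hw⟩, h3⟩ := h2
  have hw4 : w * w * (w * w) = 1 := by
    rw [hw, NormJ.isU_sq, Base.v1_v1]
  have htw : Commute (B2Conn.base H S).t w := NormJ.isU_t ⟨a, s', m', r', hw⟩
  have hx4 : x ^ 4 = 1 := by
    rcases h3 with h3 | h3
    · rw [h3, show w ^ 4 = w * w * (w * w) by rw [pow_succ, pow_succ, pow_succ, pow_one]; group, hw4]
    · rw [h3, htw.mul_pow, show w ^ 4 = w * w * (w * w) by rw [pow_succ, pow_succ, pow_succ, pow_one]; group, hw4,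
        mul_one, show (4 : ℕ) = 2 * 2 by norm_num, pow_mul, pow_two (B2Conn.base H S).t, (B2Conn.base H S).tt, one_pow]
  have h4 : orderOf x ∣ 4 := orderOf_dvd_of_pow_eq_one hx4
  have h5 : orderOf x ∣ 2 ^ 2 := by rw [show (2 : ℕ) ^ 2 = 4 by norm_num]; exact h4
  obtain ⟨k, -, hk⟩ := (Nat.dvd_prime_pow Nat.prime_two).1 h5
  rcases Nat.eq_zero_or_pos k with h6 | h6
  · rw [h6, pow_zero, orderOf_eq_one_iff] at hk
    exact hk
  · exfalso
    rw [hk] at ho
    exact (Nat.not_odd_iff_even.2 ((Nat.even_pow.2 ⟨even_two, by omega⟩))) ho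

theorem normalizer_JG_le (hF : 3 ≤ Nat.card F) : normalizer (JG S t : Set G) ≤ NO A t := by
  apply H.normalizer_le (Y := JG S t)
  · exact le_sup_right (a := UG S) (mem_zpowers t)
  · intro o ho y hy
    have h1 := H.core_le ho
    rcases (mem_JG S H.tt (fun a ha => comm_of_centralizer H.htA ha)).1 hy with h2 | h2
    · exact comm_of_centralizer h1 (UG_le S h2)
    · have h3 := comm_of_centralizer h1 (UG_le S h2)
      have h4 := H.comm_t ho
      have h5 : y = t * (t * y) := by rw [← mul_assoc, H.tt, one_mul]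
      calc o * y = (o * t) * (t * y) := by rw [mul_assoc, ← h5]
        _ = t * (o * (t * y)) := by rw [h4]; group
        _ = t * (t * y * o) := by rw [h3]
        _ = y * o := by rw [← mul_assoc, ← h5]
  · intro x hx ho
    exact odd_cent H S hF hx ho

omit H in
theorem mem_inf_iff {v : ↥A} : v ∈ S.VI ⊓ S.VJ ↔ ∃ m r, v = S.m.y m * S.m.z₁ (tt r) := by
  rw [SpSelf.mem_inf]
  constructor
  · rintro ⟨b, c, rfl⟩
    exact ⟨b, c, (y_z₁_comm S b c).symm.eq⟩
  · rintro ⟨m, r, rfl⟩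
    exact ⟨m, r, (y_z₁_comm S m r).eq⟩

theorem v1_ne_one {m r : F} (hv1 : ((S.m.y m * S.m.z₁ (tt r) : ↥A) : G) ≠ 1) :
    (B2Conn.base H S).v1 0 m r ≠ 1 := by
  intro h1
  have h2 : (B2Conn.base H S).v1 0 m r = (B2Conn.base H S).v1 0 0 0 := by rw [h1, Base.v1_zero]
  obtain ⟨-, h3, h4⟩ := Base.v1_inj _ h2
  apply hv1
  have e1 : S.m.y m = 1 := by rw [h3]; exact add_zero' S.rel.y_add
  have e2 : S.m.z₁ (tt r) = 1 := by rw [h4, ← tt_one]; exact mul_one' S.rel.z₁_mul
  rw [e1, e2, mul_one]; rfl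

/-- `g ∈ N_G(J)` with `g t g⁻¹ = t y(m) z₁(r)` -/
theorem exists_n' (hF : 3 ≤ Nat.card F) {g : G} (hg : g ∈ normalizer (JG S t : Set G)) {m r : F}
    (hgt : g * t * g⁻¹ = t * ((S.m.y m * S.m.z₁ (tt r) : ↥A) : G)) :
    ∃ n : XQ A t, (∀ x, NormJ.IsJ (B2Conn.base H S) x → NormJ.IsJ (B2Conn.base H S) (n * x * n⁻¹)) ∧
      (∀ x, NormJ.IsJ (B2Conn.base H S) x → NormJ.IsJ (B2Conn.base H S) (n⁻¹ * x * n)) ∧
        n * (B2Conn.base H S).t * n⁻¹ = (B2Conn.base H S).t * (B2Conn.base H S).v1 0 m r := by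
  have hgN := normalizer_JG_le H S hF hg
  refine ⟨pr A t ⟨g, hgN⟩, ?_, ?_, ?_⟩
  · intro x hx
    rw [isJ_iff] at hx ⊢
    obtain ⟨n, hn, rfl⟩ := mem_im.1 hx
    rw [← map_inv, ← map_mul, ← map_mul]
    apply pr_mem_im
    exact (mem_normalizer_iff.1 hg n).1 hn
  · intro x hx
    rw [isJ_iff] at hx ⊢
    obtain ⟨n, hn, rfl⟩ := mem_im.1 hx
    rw [← map_inv, ← map_mul, ← map_mul]
    apply pr_mem_im
    have h1 := (mem_normalizer_iff.1 (inv_mem hg) n).1 hn
    rwa [inv_inv] at h1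
  · have h1 : (⟨g, hgN⟩ : ↥(NO A t)) * ⟨t, H.t_mem⟩ * ⟨g, hgN⟩⁻¹ =
        ⟨t, H.t_mem⟩ * (⟨S.m.y m, H.A_le (S.m.y m).2⟩ * ⟨S.m.z₁ (tt r), H.A_le (S.m.z₁ (tt r)).2⟩) :=
      Subtype.ext hgt
    have h2 := congrArg (pr A t) h1
    rw [map_mul, map_mul, map_mul, map_mul, map_inv] at h2
    rw [Base.v1, Base.xb_zero, one_mul]
    exact h2

/-- `g ∈ N_G(J)` with `g t g⁻¹ = t v` -/
theorem exists_n (hF : 3 ≤ Nat.card F) {g : G} (hg : g ∈ normalizer (JG S t : Set G)) {v : G} (hv : v ∈ WG S)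
    (hv1 : v ≠ 1) (hgt : g * t * g⁻¹ = t * v) :
    ∃ n : XQ A t, (∀ x, NormJ.IsJ (B2Conn.base H S) x → NormJ.IsJ (B2Conn.base H S) (n * x * n⁻¹)) ∧
      (∀ x, NormJ.IsJ (B2Conn.base H S) x → NormJ.IsJ (B2Conn.base H S) (n⁻¹ * x * n)) ∧
      ∃ m r, (B2Conn.base H S).v1 0 m r ≠ 1 ∧
        n * (B2Conn.base H S).t * n⁻¹ = (B2Conn.base H S).t * (B2Conn.base H S).v1 0 m r := by
  obtain ⟨v', hv', rfl⟩ := hv
  obtain ⟨m, r, rfl⟩ := (mem_inf_iff S).1 hv'
  obtain ⟨n, h1, h2, h3⟩ := exists_n' H S hF hg hgt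
  exact ⟨n, h1, h2, m, r, v1_ne_one H S hv1, h3⟩

/-- **the layers in `X`** -/
theorem exists_layer (hF : 4 ≤ Nat.card F) (hS : Sch ↥(im A t A)) {g : G}
    (hg : g ∈ normalizer (JG S t : Set G)) {v : G} (hv : v ∈ WG S) (hv1 : v ≠ 1) (hgt : g * t * g⁻¹ = t * v) :
    Nonempty (ShortLayer (B2Conn.base H S)) ∨ Nonempty (LongLayer (B2Conn.base H S)) := by
  obtain ⟨n, h1, h2, m, r, h3, h4⟩ := exists_n H S (by omega) hg hv hv1 hgt
  obtain ⟨x, w, hw, h5 | h5⟩ := NormJ.pure_fusion hF h1 h2 h3 h4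
  · exact Or.inl (EnvFacts.exists_short (envX H S (by omega) hS) hF hw h5)
  · exact Or.inr (EnvFacts.exists_long (envX H S (by omega) hS) hF hw h5)

end Cfsg.Agent.StdSpFour.XStart
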