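import Cfsg.Agent.StdSpFour.EndAEnd
import Cfsg.Agent.StdSpFour.Trich
import Cfsg.Agent.StdSpFour.XStart
import Cfsg.Agent.StdRank2.SpData
import Cfsg.Agent.StdRank2.OutSpCyc
import Cfsg.Agent.StdEven.EndLift

/-!
# S1778, type `Sp₄(q)`, case (A): the end when `T / U` has only the involution `tU`

`comm_U`: `[T, T] ≤ U`.  `caseI`: a Sylow 2-subgroup of `L` has order `q⁸` and class two, and `t ∉ L`.
-/

set_option autoImplicit false
set_option linter.unusedSectionVars false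
set_option linter.dupNamespace false

namespace Cfsg.Agent.StdSpFour.EndAClose

open Subgroup
open Cfsg.Agent.TitsThree.B2Pkg Cfsg.Agent.TitsThree.RankTwoIdentB2
  Cfsg.Agent.TitsThree.CoreB2 Cfsg.Agent.TitsThree.RankTwoIdx Cfsg.Agent.TitsThree.RankTwoRGD
  Cfsg.Agent.TitsThree.StdData
open Cfsg.Agent.StdRank2.OddLift Cfsg.Agent.StdRank2.B2Lift Cfsg.Agent.StdRank2.B2Std
  Cfsg.Agent.StdRank2.OutB2G Cfsg.Agent.StdRank2.SpFrame Cfsg.Agent.StdRank2.SpData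
open Cfsg.Agent.StdRank2 Cfsg.Agent.StdEven Cfsg.Agent.StdEven.CoreQuot Cfsg.Agent.StdEven.Loc
open Cfsg.Agent.StdEven.Syl Cfsg.Agent.StdL2.Setup
open Cfsg.Agent.StdSpFour Cfsg.Agent.StdSpFour.Env Cfsg.Agent.StdSpFour.EndA
open scoped commutatorElement

universe u

variable {F : Type*} [Field F] [Finite F] [CharP F 2]
variable {G : Type u} [Group G] [Finite G] {L A : Subgroup G} {t : G} {T : Subgroup G}
variable {S : Std (stdSp F) ↥A} (h : Sit L A t T S) (H : Hyp A t T)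
include h H

theorem of_InU {x : G} (hx : x ∈ T) (hi : OutSpCyc.InU A (UG S) x) : x ∈ UG S ∨ t * x ∈ UG S := by
  obtain ⟨s, hs, hc⟩ := hi
  have hsT : s ∈ T := by
    have : s ∈ T ⊓ A := by rw [h.UT]; exact hs
    exact this.1
  have h1 : s⁻¹ * x ∈ centralizer (A : Set G) := by
    rw [mem_centralizer_iff]
    intro a ha
    have h2 := hc a ha
    have h3 : x * a = s * a * s⁻¹ * x := by rw [← h2]; group
    calc a * (s⁻¹ * x) = s⁻¹ * (s * a * s⁻¹ * x) := by group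
      _ = s⁻¹ * (x * a) := by rw [h3]
      _ = _ := by group
  rcases H.R _ (mul_mem (inv_mem hsT) hx) h1 with h2 | h2
  · left
    have : x = s := by rw [← mul_one s, ← h2]; group
    rw [this]; exact hs
  · right
    have h3 : t * x = s := by
      have e1 : x = s * t := by rw [← h2]; group
      have e2 := H.isT.cent s hsT
      rw [e1, e2, ← mul_assoc, H.tt, one_mul]
    rw [h3]; exact hs

/-- `[T, T] ≤ U` -/
theorem comm_U {x y : G} (hx : x ∈ T) (hy : y ∈ T) : ⁅x, y⁆ ∈ UG S := by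
  have hs : IsSimpleGroup (↥A ⧸ center ↥A) := h.simple
  have hF : 3 ≤ Nat.card F := by have := h.four; omega
  have hTU : ∀ y ∈ T, ∀ u ∈ UG S, y * u * y⁻¹ ∈ UG S := fun y hy u hu => h.T_norm hy hu
  have hTA : T ≤ normalizer (A : Set G) := h.isT.syl.le
  obtain ⟨f, hf, hg⟩ := OutSpCyc.exists_gen h.hZ S hTA hF h.isT.syl.two hTU
  let N : Subgroup ↥T := (UG S).subgroupOf T
  have hN : N.Normal := ⟨fun n hn g => by
    rw [mem_subgroupOf] at hn ⊢
    exact hTU g g.2 _ hn⟩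
  let φ : ↥T →* ↥T ⧸ N := QuotientGroup.mk' N
  have hφ : ∀ a : ↥T, φ a = 1 ↔ (a : G) ∈ UG S := fun a => by
    have := QuotientGroup.eq_one_iff (N := N) a
    rwa [mem_subgroupOf] at this
  have key : ∀ a : ↥T, ∃ n : ℕ, φ a = (φ ⟨f, hf⟩ ^ n)⁻¹ ∨ φ a = (φ ⟨f, hf⟩ ^ n)⁻¹ * φ ⟨t, H.isT.mem⟩ := by
    intro a
    obtain ⟨n, hn⟩ := hg a a.2
    refine ⟨n, ?_⟩
    rcases of_InU h H (mul_mem (pow_mem hf n) a.2) hn with h1 | h1
    · left
      have h2 : φ (⟨f, hf⟩ ^ n * a) = 1 := (hφ _).2 h1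
      rw [map_mul, map_pow] at h2
      exact (inv_eq_of_mul_eq_one_right h2).symm
    · right
      have h2 : φ (⟨t, H.isT.mem⟩ * (⟨f, hf⟩ ^ n * a)) = 1 := (hφ _).2 h1
      have h3 : φ ⟨t, H.isT.mem⟩ * φ ⟨t, H.isT.mem⟩ = 1 := by
        rw [← map_mul, ← map_one φ]
        congr 1
        exact Subtype.ext H.tt
      rw [map_mul, map_mul, map_pow] at h2
      have h4 : φ ⟨t, H.isT.mem⟩ = φ ⟨f, hf⟩ ^ n * φ a := by
        have h5 := eq_inv_of_mul_eq_one_left h3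
        rw [h5]
        exact inv_eq_of_mul_eq_one_right h2
      rw [h4]; group
  have ct : ∀ a : ↥T, Commute (φ a) (φ ⟨t, H.isT.mem⟩) := by
    intro a
    show φ a * φ _ = φ _ * φ a
    rw [← map_mul, ← map_mul]
    congr 1
    exact Subtype.ext (H.isT.cent a a.2)
  have cc : Commute (φ ⟨x, hx⟩) (φ ⟨y, hy⟩) := by
    obtain ⟨n, h1⟩ := key ⟨x, hx⟩
    obtain ⟨m, h2⟩ := key ⟨y, hy⟩
    have c1 : Commute (φ ⟨f, hf⟩ ^ n)⁻¹ (φ ⟨f, hf⟩ ^ m)⁻¹ :=
      ((Commute.refl (φ ⟨f, hf⟩)).pow_pow n m).inv_inv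
    have c2 : ∀ k : ℕ, Commute (φ ⟨f, hf⟩ ^ k)⁻¹ (φ ⟨t, H.isT.mem⟩) := fun k => ((ct ⟨f, hf⟩).pow_left k).inv_left
    rcases h1 with h1 | h1 <;> rcases h2 with h2 | h2 <;> rw [h1, h2]
    · exact c1
    · exact c1.mul_right (c2 n)
    · exact c1.mul_left (c2 m).symm
    · exact (c1.mul_right (c2 n)).mul_left ((c2 m).symm.mul_right (Commute.refl _))
  have h1 : φ ⁅(⟨x, hx⟩ : ↥T), ⟨y, hy⟩⁆ = 1 := by
    rw [map_commutatorElement, commutatorElement_eq_one_iff_mul_comm]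
    exact cc
  exact (hφ _).1 h1

/-- **The hypotheses of `Closing.End` in `X`.** -/
theorem endX (R : Sys (B2Conn.base H S)) (hI : ∀ y ∈ T, y * y ∈ UG S → y ∈ UG S ∨ t * y ∈ UG S) :
    WreathFusion.Closing.End H.tX (im A t T) (im A t (UG S)) R.T ⁅im A t (UG S), R.T⁆ (ZX (B2Conn.base H S)) := by
  have hF : 3 ≤ Nat.card F := by have := h.four; omega
  have hUT : UG S ≤ T := by rw [← h.UT]; exact inf_le_left
  have hUN : UG S ≤ NO A t := hUT.trans H.T_le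
  have hsyl := H.syl_im
  have TC : ∀ y ∈ im A t T, y * H.tX = H.tX * y := fun y hy => by
    have := hsyl.le hy
    rwa [mem_centralizer_singleton_iff] at this
  have inj : ∀ {x y : ↥(NO A t)}, (x : G) ∈ T → (y : G) ∈ T → pr A t x = pr A t y → (x : G) = y :=
    fun hx hy e => congrArg Subtype.val (H.pr_inj h.isT.syl.two hx hy e)
  refine R.end_of (U := im A t (UG S)) (fun x => (XStart.isU_iff H S).symm) (B2Conn.base_self H S hF) h.four
    (pr_mem_im H.isT.mem) hsyl.two TC (fun Q hQ2 hQc hle => hsyl.max Q hQ2 (fun y hy => by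
      rw [mem_centralizer_singleton_iff]; exact hQc y hy) hle) (im_mono hUT) ?_ ?_ ?_
  · intro y hy u hu
    obtain ⟨n, hn, rfl⟩ := mem_im.1 hy
    obtain ⟨v, hv, rfl⟩ := mem_im.1 hu
    rw [← map_inv, ← map_mul, ← map_mul]
    exact pr_mem_im (n := n * v * n⁻¹) (h.T_norm hn hv)
  · intro y hy hyy
    obtain ⟨n, hn, rfl⟩ := mem_im.1 hy
    obtain ⟨v, hv, e⟩ := mem_im.1 hyy
    rw [← map_mul] at e
    have e1 := inj (hUT hv) (y := n * n) (mul_mem hn hn) e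
    have h1 : (n : G) * n ∈ UG S := by
      have : ((n * n : ↥(NO A t)) : G) = n * n := rfl
      rw [← this, ← e1]; exact hv
    rcases hI n hn h1 with h2 | h2
    · exact Or.inl (pr_mem_im h2)
    · right
      have e3 : (B2Conn.base H S).t * pr A t n = pr A t (⟨t, H.t_mem⟩ * n) := by
        rw [map_mul]; rfl
      rw [e3]
      exact pr_mem_im (n := ⟨t, H.t_mem⟩ * n) h2
  · intro y hy z hz
    obtain ⟨n, hn, rfl⟩ := mem_im.1 hy
    obtain ⟨m, hm, rfl⟩ := mem_im.1 hz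
    rw [← map_commutatorElement]
    exact pr_mem_im (n := ⁅n, m⁆) (comm_U h H hn hm)

/-- **Case (A), `T / U` with the only involution `tU`**: `t ∉ L` and a Sylow 2-subgroup of `L` has order `q⁸` and class
two. -/
theorem caseI (hA : Trich.CaseA (B2Conn.base H S)) (hI : ∀ y ∈ T, y * y ∈ UG S → y ∈ UG S ∨ t * y ∈ UG S) :
    ∃ Y : Subgroup G, IsSyl Y L ∧ t ∉ L ∧ Nat.card Y = Nat.card F ^ 8 ∧ (∃ x ∈ Y, ∃ y ∈ Y, x * y ≠ y * x) ∧
      ∀ x ∈ Y, ∀ y ∈ Y, ∀ z ∈ Y, ⁅x, y⁆ * z = z * ⁅x, y⁆ := by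
  have hF : 3 ≤ Nat.card F := by have := h.four; omega
  obtain ⟨S1, L1, h1, h2, h3, h4⟩ := hA
  obtain ⟨R⟩ := exists_sys h.four (B2Conn.base_self H S hF) S1 L1 h1 h2 h3 h4
  have hn := h.conf.normal
  have hle : R.T ≤ im A t L := by
    have := Fintype.ofFinite F
    refine R.gen (by rw [← Nat.card_eq_fintype_card]; exact h.four) (N := im A t L) ?_ ?_
    · refine ⟨fun x hx g => ?_⟩
      obtain ⟨n, hn', rfl⟩ := mem_im.1 hx
      obtain ⟨g, rfl⟩ := pr_surjective A t g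
      rw [← map_inv, ← map_mul, ← map_mul]
      exact pr_mem_im (n := g * n * g⁻¹) (hn.conj_mem _ hn' _)
    · intro α β
      exact im_mono h.conf.le (SpFrame.h (B2Conn.imS H S) α β).2
  obtain ⟨Y, hY, htL, -, -, ⟨e⟩, -⟩ := EndLift.main h.conf H (endX h H R hI) hle
  refine ⟨Y, hY, htL, ?_, ?_, ?_⟩
  · rw [Nat.card_congr e.toEquiv, R.card_T]
  · obtain ⟨x, hx, y, hy, hxy⟩ := R.nonab
    refine ⟨e.symm ⟨x, hx⟩, (e.symm ⟨x, hx⟩).2, e.symm ⟨y, hy⟩, (e.symm ⟨y, hy⟩).2, fun hc => hxy ?_⟩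
    have h5 : e.symm ⟨x, hx⟩ * e.symm ⟨y, hy⟩ = e.symm ⟨y, hy⟩ * e.symm ⟨x, hx⟩ := Subtype.ext hc
    have h6 := congrArg e h5
    rw [map_mul, map_mul, e.apply_symm_apply, e.apply_symm_apply] at h6
    exact congrArg Subtype.val h6
  · intro x hx y hy z hz
    have h5 : ⁅(⟨x, hx⟩ : ↥Y), (⟨y, hy⟩ : ↥Y)⁆ * (⟨z, hz⟩ : ↥Y) =
        (⟨z, hz⟩ : ↥Y) * ⁅(⟨x, hx⟩ : ↥Y), (⟨y, hy⟩ : ↥Y)⁆ := by
      apply e.injective
      rw [map_mul, map_mul, map_commutatorElement]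
      exact Subtype.ext (R.class_two (e ⟨x, hx⟩).2 (e ⟨y, hy⟩).2 (e ⟨z, hz⟩).2).eq
    exact congrArg Subtype.val h5

end Cfsg.Agent.StdSpFour.EndAClose
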