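import Cfsg.Agent.StdSpFour.EndARel
import Mathlib.GroupTheory.QuotientGroup.Basic
import Mathlib.GroupTheory.Subgroup.Centralizer
import Mathlib.Algebra.Group.Subgroup.Map

/-!
S1778, type Sp₄(q), case (A): `[p_a(u), p_b(s)] ∈ Ẑ`.
-/
set_option autoImplicit false
set_option linter.unusedSectionVars false

namespace Cfsg.Agent.StdSpFour
namespace EndA

variable {F G : Type*} [Field F] [CharP F 2] [Group G]

/-- The computation modulo `Ẑ`. -/
theorem comm_abs {Q : Type*} [Group Q] [Fintype F] (hF : 4 ≤ Fintype.card F) (t : Q) (xa xb pa pb : F → Q)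
    (h : Fˣ → Fˣ → Q)
    (tt : t * t = 1)
    (xa_add : ∀ u v, xa (u + v) = xa u * xa v) (xb_add : ∀ u v, xb (u + v) = xb u * xb v)
    (xa_xb : ∀ u v, Commute (xa u) (xb v)) (inj : ∀ u s, xa u * xb s = 1 → u = 0 ∧ s = 0)
    (t_xa : ∀ u, Commute t (xa u)) (t_xb : ∀ u, Commute t (xb u))
    (pa_zero : pa 0 = 1)
    (pa_sq : ∀ u, pa u * pa u = 1) (pb_sq : ∀ u, pb u * pb u = 1)
    (pa_add : ∀ u v, ∃ k, pa u * pa v = pa (u + v) * xa k)
    (pb_add : ∀ u v, ∃ k, pb u * pb v = pb (u + v) * xb k)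
    (pa_xa : ∀ u v, Commute (pa u) (xa v)) (pa_xb : ∀ u v, Commute (pa u) (xb v))
    (pb_xa : ∀ u v, Commute (pb u) (xa v)) (pb_xb : ∀ u v, Commute (pb u) (xb v))
    (t_pa : ∀ u, t * pa u = pa u * t * xa u)
    (hxa : ∀ (α β : Fˣ) u, h α β * xa u = xa (α * u) * h α β)
    (hxb : ∀ (α β : Fˣ) u, h α β * xb u = xb (β * u) * h α β)
    (hpa : ∀ (α β : Fˣ) u, h α β * pa u = pa (α * u) * h α β)
    (hpb : ∀ (α β : Fˣ) u, h α β * pb u = pb (β * u) * h α β)
    (c : ∀ u s, ∃ f g, pa u * pb s * (pa u * pb s) = xa f * xb g ∨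
      pa u * pb s * (pa u * pb s) = t * (xa f * xb g)) (u s : F) : Commute (pa u) (pb s) := by
  have xa_zero : xa 0 = 1 := by
    have := xa_add 0 0
    rw [add_zero] at this
    exact left_eq_mul.1 this
  have xb_zero : xb 0 = 1 := by
    have := xb_add 0 0
    rw [add_zero] at this
    exact left_eq_mul.1 this
  have xa_xa : ∀ u, xa u * xa u = 1 := fun u => by rw [← xa_add, CharTwo.add_self_eq_zero, xa_zero]
  have xb_xb : ∀ u, xb u * xb u = 1 := fun u => by rw [← xb_add, CharTwo.add_self_eq_zero, xb_zero]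
  have xa_c : ∀ u v, Commute (xa u) (xa v) := fun u v => by
    rw [commute_iff_eq, ← xa_add, ← xa_add, add_comm]
  have xb_c : ∀ u v, Commute (xb u) (xb v) := fun u v => by
    rw [commute_iff_eq, ← xb_add, ← xb_add, add_comm]
  have x_sq : ∀ f g, xa f * xb g * (xa f * xb g) = 1 := by
    intro f g
    calc xa f * xb g * (xa f * xb g) = xa f * (xb g * xa f) * xb g := by group
      _ = xa f * xa f * (xb g * xb g) := by rw [← (xa_xb f g).eq]; group
      _ = 1 := by rw [xa_xa, xb_xb, one_mul]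
  have x_inj : ∀ {f g f' g'}, xa f * xb g = xa f' * xb g' → f = f' ∧ g = g' := by
    intro f g f' g' e
    have h1 : xa (f + f') * xb (g + g') = 1 := by
      rw [xa_add, xb_add]
      calc xa f * xa f' * (xb g * xb g') = xa f * (xa f' * xb g) * xb g' := by group
        _ = (xa f * xb g) * (xa f' * xb g') := by rw [(xa_xb f' g).eq]; group
        _ = 1 := by rw [e, x_sq]
    obtain ⟨h2, h3⟩ := inj _ _ h1
    exact ⟨FieldAux.eq_of_add_eq_zero h2, FieldAux.eq_of_add_eq_zero h3⟩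
  have pa_x : ∀ u f g, Commute (pa u) (xa f * xb g) := fun u f g => (pa_xa u f).mul_right (pa_xb u g)
  have pb_x : ∀ u f g, Commute (pb u) (xa f * xb g) := fun u f g => (pb_xa u f).mul_right (pb_xb u g)
  have t_x : ∀ f g, Commute t (xa f * xb g) := fun f g => (t_xa f).mul_right (t_xb g)
  have pa_t : ∀ u, pa u * t = t * pa u * xa u := by
    intro u
    rw [t_pa, mul_assoc, xa_xa, mul_one]
  -- no `t`
  have c' : ∀ u s, ∃ f g, pa u * pb s * (pa u * pb s) = xa f * xb g := by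
    intro u s
    by_cases hu : u = 0
    · refine ⟨0, 0, ?_⟩
      rw [hu, pa_zero, one_mul, pb_sq, xa_zero, xb_zero, one_mul]
    obtain ⟨f, g, e | e⟩ := c u s
    · exact ⟨f, g, e⟩
    exfalso
    have h1 : pa u * (pa u * pb s * (pa u * pb s)) * pa u * (pa u * pb s * (pa u * pb s)) = 1 := by
      calc pa u * (pa u * pb s * (pa u * pb s)) * pa u * (pa u * pb s * (pa u * pb s))
          = (pa u * pa u) * pb s * pa u * pb s * (pa u * pa u) * pb s * pa u * pb s := by group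
        _ = pb s * pa u * (pb s * pb s) * pa u * pb s := by rw [pa_sq]; group
        _ = pb s * (pa u * pa u) * pb s := by rw [pb_sq]; group
        _ = 1 := by rw [pa_sq, mul_one, pb_sq]
    rw [e] at h1
    have h2 : pa u * (t * (xa f * xb g)) * pa u * (t * (xa f * xb g)) = xa u := by
      calc pa u * (t * (xa f * xb g)) * pa u * (t * (xa f * xb g))
          = pa u * t * ((xa f * xb g) * pa u) * t * (xa f * xb g) := by group
        _ = pa u * t * pa u * ((xa f * xb g) * t) * (xa f * xb g) := by rw [← (pa_x u f g).eq]; group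
        _ = pa u * t * pa u * t * (xa f * xb g * (xa f * xb g)) := by rw [← (t_x f g).eq]; group
        _ = pa u * t * (pa u * t) := by rw [x_sq]; group
        _ = pa u * t * (t * pa u * xa u) := by rw [← pa_t]
        _ = pa u * (t * t) * pa u * xa u := by group
        _ = xa u := by rw [tt, mul_one, pa_sq, one_mul]
    rw [h1] at h2
    exact hu (inj u 0 (by rw [xb_zero, mul_one, ← h2])).1
  choose f g e using c'
  have hc : ∀ u s, pa u * pb s = pb s * pa u * (xa (f u s) * xb (g u s)) := by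
    intro u s
    rw [← e]
    calc pa u * pb s = pb s * 1 * pb s * pa u * pb s := by rw [mul_one, pb_sq, one_mul]
      _ = pb s * (pa u * pa u) * pb s * pa u * pb s := by rw [pa_sq]
      _ = _ := by group
  have addr : ∀ u s s', f u (s + s') = f u s + f u s' ∧ g u (s + s') = g u s + g u s' := by
    intro u s s'
    obtain ⟨k, hk⟩ := pb_add s s'
    have h1 : pa u * (pb s * pb s') = pb s * pb s' * pa u *
        (xa (f u s + f u s') * xb (g u s + g u s')) := by
      rw [xa_add, xb_add]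
      calc pa u * (pb s * pb s') = (pa u * pb s) * pb s' := by group
        _ = pb s * pa u * ((xa (f u s) * xb (g u s)) * pb s') := by rw [hc u s]; group
        _ = pb s * (pa u * pb s') * (xa (f u s) * xb (g u s)) := by rw [← (pb_x s' _ _).eq]; group
        _ = pb s * pb s' * pa u * ((xa (f u s') * xb (g u s')) * (xa (f u s) * xb (g u s))) := by
            rw [hc u s']; group
        _ = pb s * pb s' * pa u * (xa (f u s) * xa (f u s') * (xb (g u s) * xb (g u s'))) := by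
            congr 1
            calc xa (f u s') * xb (g u s') * (xa (f u s) * xb (g u s))
                = xa (f u s') * (xb (g u s') * xa (f u s)) * xb (g u s) := by group
              _ = (xa (f u s') * xa (f u s)) * (xb (g u s') * xb (g u s)) := by
                  rw [← (xa_xb _ _).eq]; group
              _ = _ := by rw [(xa_c _ _).eq, (xb_c _ _).eq]
    have h2 : pa u * (pb s * pb s') = pb s * pb s' * pa u *
        (xa (f u (s + s')) * xb (g u (s + s'))) := by
      rw [hk]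
      calc pa u * (pb (s + s') * xb k) = (pa u * pb (s + s')) * xb k := by group
        _ = pb (s + s') * pa u * ((xa (f u (s + s')) * xb (g u (s + s'))) * xb k) := by
            rw [hc u (s + s')]; group
        _ = pb (s + s') * (pa u * xb k) * (xa (f u (s + s')) * xb (g u (s + s'))) := by
            have : (xa (f u (s + s')) * xb (g u (s + s'))) * xb k =
              xb k * (xa (f u (s + s')) * xb (g u (s + s'))) :=
              ((xa_xb _ k).mul_left (xb_c _ k)).eq
            rw [this]; group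
        _ = _ := by rw [(pa_xb u k).eq]; group
    exact x_inj (mul_left_cancel (h2.symm.trans h1))
  have addl : ∀ s u u', f (u + u') s = f u s + f u' s ∧ g (u + u') s = g u s + g u' s := by
    intro s u u'
    obtain ⟨k, hk⟩ := pa_add u u'
    have h1 : pa u * pa u' * pb s = pb s * (pa u * pa u') *
        (xa (f u s + f u' s) * xb (g u s + g u' s)) := by
      rw [xa_add, xb_add]
      calc pa u * pa u' * pb s = pa u * (pa u' * pb s) := by group
        _ = (pa u * pb s) * pa u' * (xa (f u' s) * xb (g u' s)) := by rw [hc u' s]; group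
        _ = pb s * pa u * ((xa (f u s) * xb (g u s)) * pa u') * (xa (f u' s) * xb (g u' s)) := by
            rw [hc u s]; group
        _ = pb s * (pa u * pa u') * ((xa (f u s) * xb (g u s)) * (xa (f u' s) * xb (g u' s))) := by
            rw [← (pa_x u' _ _).eq]; group
        _ = _ := by
            congr 1
            calc xa (f u s) * xb (g u s) * (xa (f u' s) * xb (g u' s))
                = xa (f u s) * (xb (g u s) * xa (f u' s)) * xb (g u' s) := by group
              _ = _ := by rw [← (xa_xb _ _).eq]; group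
    have h2 : pa u * pa u' * pb s = pb s * (pa u * pa u') *
        (xa (f (u + u') s) * xb (g (u + u') s)) := by
      rw [hk]
      calc pa (u + u') * xa k * pb s = pa (u + u') * (xa k * pb s) := by group
        _ = (pa (u + u') * pb s) * xa k := by rw [← (pb_xa s k).eq]; group
        _ = pb s * pa (u + u') * ((xa (f (u + u') s) * xb (g (u + u') s)) * xa k) := by
            rw [hc (u + u') s]; group
        _ = _ := by
            have : (xa (f (u + u') s) * xb (g (u + u') s)) * xa k =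
              xa k * (xa (f (u + u') s) * xb (g (u + u') s)) :=
              ((xa_c _ k).mul_left (xa_xb k _).symm).eq
            rw [this]; group
    exact x_inj (mul_left_cancel (h2.symm.trans h1))
  have hh : ∀ (α β : Fˣ) u s, f (α * u) (β * s) = α * f u s ∧ g (α * u) (β * s) = β * g u s := by
    intro α β u s
    have h1 : h α β * (pa u * pb s * (pa u * pb s)) =
        xa (α * f u s) * xb (β * g u s) * h α β := by
      rw [e]
      calc h α β * (xa (f u s) * xb (g u s)) = (h α β * xa (f u s)) * xb (g u s) := by group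
        _ = xa (α * f u s) * (h α β * xb (g u s)) := by rw [hxa]; group
        _ = _ := by rw [hxb]; group
    have h2 : h α β * (pa u * pb s * (pa u * pb s)) =
        xa (f (α * u) (β * s)) * xb (g (α * u) (β * s)) * h α β := by
      rw [← e]
      calc h α β * (pa u * pb s * (pa u * pb s)) = (h α β * pa u) * pb s * pa u * pb s := by group
        _ = pa (α * u) * (h α β * pb s) * pa u * pb s := by rw [hpa]; group
        _ = pa (α * u) * pb (β * s) * (h α β * pa u) * pb s := by rw [hpb]; group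
        _ = pa (α * u) * pb (β * s) * pa (α * u) * (h α β * pb s) := by rw [hpa]; group
        _ = _ := by rw [hpb]; group
    exact x_inj (mul_right_cancel (h2.symm.trans h1))
  have hf : ∀ u s, f u s = 0 := by
    intro u s
    refine FieldAux.const_zero hF (f := fun s => f u s) (fun x y => (addr u x y).1) ?_ s
    intro x y hx hy
    have h1 := (hh 1 (Units.mk0 y hy * (Units.mk0 x hx)⁻¹) u x).1
    rw [Units.val_one, one_mul, one_mul, Units.val_mul, Units.val_inv_eq_inv_val, Units.val_mk0, Units.val_mk0,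
      mul_assoc, inv_mul_cancel₀ hx, mul_one] at h1
    exact h1.symm
  have hg : ∀ u s, g u s = 0 := by
    intro u s
    refine FieldAux.const_zero hF (f := fun u => g u s) (fun x y => (addl s x y).2) ?_ u
    intro x y hx hy
    have h1 := (hh (Units.mk0 y hy * (Units.mk0 x hx)⁻¹) 1 x s).2
    rw [Units.val_one, one_mul, one_mul, Units.val_mul, Units.val_inv_eq_inv_val, Units.val_mk0, Units.val_mk0,
      mul_assoc, inv_mul_cancel₀ hx, mul_one] at h1
    exact h1.symm
  rw [commute_iff_eq, hc, hf, hg, xa_zero, xb_zero, one_mul, mul_one]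

namespace RelA

variable {B : Base F G} (R : RelA B)

theorem pa_xb_conj (u s : F) : ∃ k l, R.pa u * B.xb s * (R.pa u)⁻¹ = B.xb s * R.zh (u * s) k (u ^ 2 * s) l := by
  obtain ⟨k, l, h⟩ := R.pa_xb u s
  refine ⟨k, l, ?_⟩
  change R.pa u * B.xb s = B.xb s * R.pa u * R.zh (u * s) k (u ^ 2 * s) l at h
  rw [h, mul_assoc (B.xb s), ← (R.zh_pa _ _ _ _ _).eq]
  group

theorem pb_xa_conj (u s : F) : ∃ k l, R.pb s * B.xa u * (R.pb s)⁻¹ = B.xa u * R.zh (u * s) k (u ^ 2 * s) l := by
  obtain ⟨k, l, h⟩ := R.xa_pb u s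
  refine ⟨k, l, ?_⟩
  change B.xa u * R.pb s = R.pb s * B.xa u * R.zh (u * s) k (u ^ 2 * s) l at h
  have h1 : R.pb s * B.xa u = B.xa u * R.pb s * R.zh (u * s) k (u ^ 2 * s) l := by
    rw [h, mul_assoc _ (R.zh _ _ _ _) (R.zh _ _ _ _), R.zh_sq, mul_one]
  rw [h1, mul_assoc (B.xa u), ← (R.zh_pb _ _ _ _ _).eq]
  group

/-- `(p_a(u) p_b(s))²` lies in `⟨t⟩ X_a X_b Ẑ`. -/
theorem csq (hB : B.Self) (u s : F) : ∃ f g, ∃ ζ ∈ R.Zh,
    R.pa u * R.pb s * (R.pa u * R.pb s) = B.xa f * B.xb g * ζ ∨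
    R.pa u * R.pb s * (R.pa u * R.pb s) = B.t * (B.xa f * B.xb g) * ζ := by
  obtain ⟨k1, l1, e1⟩ := R.pa_xb_conj u s
  obtain ⟨k2, l2, e2⟩ := R.pb_xa_conj u s
  set ζ1 := R.zh (u * s) k1 (u ^ 2 * s) l1 with hζ1
  set ζ2 := R.zh (u * s) k2 (u ^ 2 * s) l2 with hζ2
  have h1 : R.pa u * R.pb s * B.t * (R.pa u * R.pb s)⁻¹ = B.t * (B.xa u * B.xb s) * ζ1 := by
    calc R.pa u * R.pb s * B.t * (R.pa u * R.pb s)⁻¹
        = R.pa u * (R.pb s * B.t * (R.pb s)⁻¹) * (R.pa u)⁻¹ := by group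
      _ = (R.pa u * B.t * (R.pa u)⁻¹) * (R.pa u * B.xb s * (R.pa u)⁻¹) := by rw [R.lb.conj_t]; group
      _ = _ := by rw [R.la.conj_t, e1]; group
  have h2 : R.pb s * R.pa u * B.t * (R.pb s * R.pa u)⁻¹ =
      B.t * (B.xa u * B.xb s) * (R.zh 0 (u * s) 0 (u ^ 2 * s) * ζ2) := by
    have h3 : B.xb s * B.xa u = B.xa u * B.xb s * R.zh 0 (u * s) 0 (u ^ 2 * s) := by
      have h4 : B.xa u * B.xb s = B.xb s * B.xa u * R.zh 0 (u * s) 0 (u ^ 2 * s) := by
        rw [R.zh_zs_zl, B.xa_xb]; group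
      rw [h4, mul_assoc _ (R.zh _ _ _ _) (R.zh _ _ _ _), R.zh_sq, mul_one]
    calc R.pb s * R.pa u * B.t * (R.pb s * R.pa u)⁻¹
        = R.pb s * (R.pa u * B.t * (R.pa u)⁻¹) * (R.pb s)⁻¹ := by group
      _ = (R.pb s * B.t * (R.pb s)⁻¹) * (R.pb s * B.xa u * (R.pb s)⁻¹) := by rw [R.la.conj_t]; group
      _ = B.t * (B.xb s * B.xa u) * ζ2 := by rw [R.lb.conj_t, e2]; group
      _ = _ := by rw [h3]; group
  -- the difference
  obtain ⟨k, l, hδ⟩ : ∃ k l, ζ1 = R.zh 0 (u * s) 0 (u ^ 2 * s) * ζ2 * R.zh 0 k 0 l := by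
    obtain ⟨k3, l3, e3⟩ := R.zh_mul 0 (u * s) 0 (u ^ 2 * s) (u * s) k2 (u ^ 2 * s) l2
    obtain ⟨k4, l4, e4⟩ := R.zh_mul (0 + u * s) k3 (0 + u ^ 2 * s) l3 (u * s) k1 (u ^ 2 * s) l1
    rw [zero_add, zero_add, CharTwo.add_self_eq_zero, CharTwo.add_self_eq_zero] at e4
    refine ⟨k4, l4, ?_⟩
    rw [hζ2, e3, ← e4, zero_add, zero_add, ← mul_assoc, R.zh_sq, one_mul]
  set δ := R.zh 0 k 0 l with hδ'
  have h3 : R.pa u * R.pb s * B.t * (R.pa u * R.pb s)⁻¹ =
      R.pb s * R.pa u * B.t * (R.pb s * R.pa u)⁻¹ * δ := by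
    rw [h1, h2, hδ]; group
  set c := R.pa u * R.pb s * (R.pa u * R.pb s) with hc
  have hc' : c = (R.pb s * R.pa u)⁻¹ * (R.pa u * R.pb s) := by
    rw [mul_inv_rev, R.la.p_inv, R.lb.p_inv, hc]
  have hδc : Commute δ (R.pb s * R.pa u) := (R.zh_pb _ _ _ _ _).mul_right (R.zh_pa _ _ _ _ _)
  have h4 : c * B.t * c⁻¹ = B.t * δ := by
    rw [hc']
    calc (R.pb s * R.pa u)⁻¹ * (R.pa u * R.pb s) * B.t * ((R.pb s * R.pa u)⁻¹ * (R.pa u * R.pb s))⁻¹
        = (R.pb s * R.pa u)⁻¹ * (R.pa u * R.pb s * B.t * (R.pa u * R.pb s)⁻¹) * (R.pb s * R.pa u) := by group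
      _ = B.t * ((R.pb s * R.pa u)⁻¹ * (δ * (R.pb s * R.pa u))) := by rw [h3]; group
      _ = _ := by rw [hδc.eq]; group
  -- correct by an element of `Ẑ`
  set ζ0 := R.zh k 0 l 0 with hζ0
  have h5 : ζ0 * B.t * ζ0⁻¹ = B.t * δ := by
    rw [hζ0, R.conj_zh, hδ', R.zh_zs_zl]
  set g := ζ0⁻¹ * c with hg
  have hgt : Commute g B.t := by
    show g * B.t = B.t * g
    calc g * B.t = ζ0⁻¹ * (c * B.t * c⁻¹) * c := by rw [hg]; group
      _ = ζ0⁻¹ * (ζ0 * B.t * ζ0⁻¹) * c := by rw [h4, h5]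
      _ = _ := by rw [hg]; group
  have hζ0m : ζ0 ∈ R.Zh := R.zh_mem _ _ _ _
  have hzs : ∀ m, Commute g (B.zs m) := by
    intro m
    have h6 : Commute ζ0 (B.zs m) := by
      have := R.zh_zh k 0 l 0 0 m 0 0
      rwa [R.zh_zs_zl m 0, B.zl_zero, mul_one] at this
    have h7 : Commute c (B.zs m) :=
      ((R.pa_zs u m).mul_left (R.pb_zs s m)).mul_left ((R.pa_zs u m).mul_left (R.pb_zs s m))
    exact h6.inv_left.mul_left h7
  have hzl : ∀ m, Commute g (B.zl m) := by
    intro m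
    have h6 : Commute ζ0 (B.zl m) := by
      have := R.zh_zh k 0 l 0 0 0 0 m
      rwa [R.zh_zs_zl 0 m, B.zs_zero, one_mul] at this
    have h7 : Commute c (B.zl m) :=
      ((R.pa_zl u m).mul_left (R.pb_zl s m)).mul_left ((R.pa_zl u m).mul_left (R.pb_zl s m))
    exact h6.inv_left.mul_left h7
  obtain ⟨f, g', m, r, h8⟩ := hB.centZ g hgt hzs hzl
  have hcg : c = ζ0 * g := by rw [hg]; group
  refine ⟨f, g', ?_⟩
  rcases h8 with h8 | h8
  · refine ⟨R.zh 0 m 0 r * ζ0, mul_mem (R.zh_mem _ _ _ _) hζ0m, Or.inl ?_⟩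
    rw [hcg, h8, R.zh_zs_zl]
    have h9 : Commute ζ0 (B.xa f * B.xb g' * (B.zs m * B.zl r)) := by
      rw [← R.zh_zs_zl]
      exact ((R.zh_xa _ _ _ _ _).mul_right (R.zh_xb _ _ _ _ _)).mul_right (R.zh_zh _ _ _ _ _ _ _ _)
    rw [show B.xa f * B.xb g' * B.zs m * B.zl r = B.xa f * B.xb g' * (B.zs m * B.zl r) by group, h9.eq]
    group
  · refine ⟨R.zh 0 m 0 r * (ζ0 * R.zh 0 k 0 l), mul_mem (R.zh_mem _ _ _ _)
      (mul_mem hζ0m (R.zh_mem _ _ _ _)), Or.inr ?_⟩
    rw [hcg, h8]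
    have h9 : Commute (ζ0 * R.zh 0 k 0 l) (B.xa f * B.xb g' * (B.zs m * B.zl r)) := by
      rw [← R.zh_zs_zl]
      exact (((R.zh_xa _ _ _ _ _).mul_right (R.zh_xb _ _ _ _ _)).mul_right (R.zh_zh _ _ _ _ _ _ _ _)).mul_left
        (((R.zh_xa _ _ _ _ _).mul_right (R.zh_xb _ _ _ _ _)).mul_right (R.zh_zh _ _ _ _ _ _ _ _))
    have h10 : ζ0 * B.t = B.t * (ζ0 * R.zh 0 k 0 l) := by
      have h11 : B.t * ζ0 * B.t = ζ0 * R.zh 0 k 0 l := by
        rw [hζ0, R.tt_zh, R.zh_zs_zl]
      rw [← h11, ← mul_assoc, ← mul_assoc, B.tt, one_mul]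
    calc ζ0 * (B.t * (B.xa f * B.xb g' * B.zs m * B.zl r))
        = (ζ0 * B.t) * (B.xa f * B.xb g' * (B.zs m * B.zl r)) := by group
      _ = B.t * ((ζ0 * R.zh 0 k 0 l) * (B.xa f * B.xb g' * (B.zs m * B.zl r))) := by rw [h10]; group
      _ = _ := by rw [h9.eq, R.zh_zs_zl m r]; group

theorem h_zh (α β : Fˣ) (m k r l : F) : B.h α β * R.zh m k r l =
    R.zh (α * β * m) (α * β * k) (α ^ 2 * β * r) (α ^ 2 * β * l) * B.h α β := by
  unfold zh
  calc B.h α β * (R.ps m * B.zs k * (R.pl r * B.zl l)) = (B.h α β * R.ps m) * B.zs k * (R.pl r * B.zl l) := by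
        group
    _ = R.ps (α * β * m) * (B.h α β * B.zs k) * (R.pl r * B.zl l) := by rw [R.h_ps]; group
    _ = R.ps (α * β * m) * B.zs (α * β * k) * (B.h α β * R.pl r) * B.zl l := by rw [B.h_zs]; group
    _ = R.ps (α * β * m) * B.zs (α * β * k) * R.pl (α ^ 2 * β * r) * (B.h α β * B.zl l) := by
        rw [R.h_pl]; group
    _ = _ := by rw [B.h_zl]; group

theorem h_mem_norm (α β : Fˣ) : B.h α β ∈ Subgroup.normalizer (R.Zh : Set G) := by
  have key : ∀ (α β : Fˣ), ∀ g ∈ R.Zh, B.h α β * g * (B.h α β)⁻¹ ∈ R.Zh := by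
    rintro α β _ ⟨m, k, r, l, rfl⟩
    rw [R.h_zh, mul_assoc, mul_inv_cancel, mul_one]
    exact R.zh_mem _ _ _ _
  rw [Subgroup.mem_normalizer_iff]
  refine fun g => ⟨key α β g, fun hg => ?_⟩
  have h1 := key α⁻¹ β⁻¹ _ hg
  rw [← B.h_inv] at h1
  have e : (B.h α β)⁻¹ * (B.h α β * g * (B.h α β)⁻¹) * (B.h α β)⁻¹⁻¹ = g := by group
  rwa [e] at h1

theorem t_mem_norm : B.t ∈ Subgroup.normalizer (R.Zh : Set G) := by
  have key : ∀ g ∈ R.Zh, B.t * g * B.t ∈ R.Zh := by
    rintro _ ⟨m, k, r, l, rfl⟩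
    rw [R.tt_zh, ← R.zh_zs_zl]
    exact mul_mem (R.zh_mem _ _ _ _) (R.zh_mem _ _ _ _)
  rw [Subgroup.mem_normalizer_iff]
  intro g
  rw [B.t_inv]
  refine ⟨key g, fun hg => ?_⟩
  have h1 := key _ hg
  have e : B.t * (B.t * g * B.t) * B.t = (B.t * B.t) * g * (B.t * B.t) := by group
  rwa [e, B.tt, one_mul, mul_one] at h1

theorem mem_norm_of_comm {x : G} (h : ∀ ζ ∈ R.Zh, Commute ζ x) :
    x ∈ Subgroup.normalizer (R.Zh : Set G) := by
  rw [Subgroup.mem_normalizer_iff]
  intro g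
  constructor
  · intro hg
    rw [← (h g hg).eq, mul_assoc, mul_inv_cancel, mul_one]
    exact hg
  · intro hg
    have h1 := (h _ hg).eq
    have h2 : x * g = x * (x * g * x⁻¹) := by rw [← h1]; group
    rw [mul_left_cancel h2]
    exact hg

/-- an element of `X_a X_b` in `Ẑ` is trivial -/
theorem xa_xb_mem {u s : F} (h : B.xa u * B.xb s ∈ R.Zh) : u = 0 ∧ s = 0 := by
  obtain ⟨m, k, r, l, e⟩ := h
  have h1 := R.tt_zh m k r l
  have h2 : B.t * (B.xa u * B.xb s) * B.t = B.xa u * B.xb s := by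
    rw [((B.t_xa u).mul_right (B.t_xb s)).eq, mul_assoc, B.tt, mul_one]
  rw [← e, h2] at h1
  have h3 : B.zs m * B.zl r = 1 := left_eq_mul.1 h1
  have h4 := B.inj 0 0 m r (by rw [B.xa_zero, B.xb_zero, one_mul, one_mul, h3])
  rw [h4.2.2.1, h4.2.2.2, R.zh_zs_zl] at e
  have h5 : B.xa u * B.xb s * B.zs k * B.zl l = 1 := by
    rw [e]
    have : B.zs k * B.zl l * (B.zs k * B.zl l) = 1 := by rw [← R.zh_zs_zl]; exact R.zh_sq _ _ _ _
    calc B.zs k * B.zl l * B.zs k * B.zl l = B.zs k * B.zl l * (B.zs k * B.zl l) := by group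
      _ = 1 := this
  have h6 := B.inj u s k l h5
  exact ⟨h6.1, h6.2.1⟩

theorem pa_pb (hB : B.Self) [Fintype F] (hF : 4 ≤ Fintype.card F) (u s : F) :
    R.Com (R.pa u) (R.pb s) := by
  let N : Subgroup G := Subgroup.normalizer (R.Zh : Set G)
  have mxa : ∀ u, B.xa u ∈ N := fun u => R.mem_norm_of_comm fun ζ hζ => R.Zh_a hζ (R.la.x_mem u)
  have mxb : ∀ u, B.xb u ∈ N := fun u => R.mem_norm_of_comm fun ζ hζ => R.Zh_b hζ (R.lb.x_mem u)
  have mpa : ∀ u, R.pa u ∈ N := fun u => R.mem_norm_of_comm fun ζ hζ => R.Zh_a hζ (R.la.p_mem u)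
  have mpb : ∀ u, R.pb u ∈ N := fun u => R.mem_norm_of_comm fun ζ hζ => R.Zh_b hζ (R.lb.p_mem u)
  have mt : B.t ∈ N := R.t_mem_norm
  have mh : ∀ α β, B.h α β ∈ N := fun α β => R.h_mem_norm α β
  let π : N →* N ⧸ R.Zh.subgroupOf N := QuotientGroup.mk' _
  have heq : ∀ {x y : N}, (∃ ζ ∈ R.Zh, (x : G) = y * ζ) → π x = π y := by
    rintro x y ⟨ζ, hζ, e⟩
    refine (QuotientGroup.eq.2 ?_).symm
    rw [Subgroup.mem_subgroupOf]
    push_cast
    rw [e]
    simpa using hζ
  have hqe : ∀ {x y : N}, π x = π y → ∃ ζ ∈ R.Zh, (x : G) = y * ζ := by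
    intro x y h
    have h1 := QuotientGroup.eq.1 h.symm
    rw [Subgroup.mem_subgroupOf] at h1
    exact ⟨_, h1, by push_cast; group⟩
  have heq' : ∀ {x y : N}, (x : G) = y → π x = π y := fun h => heq ⟨1, R.Zh.one_mem, by rw [mul_one]; exact h⟩
  have hcom : ∀ {x y : N}, R.Com (x : G) y → Commute (π x) (π y) := by
    rintro x y ⟨ζ, hζ, e⟩
    rw [commute_iff_eq, ← map_mul, ← map_mul]
    exact heq ⟨ζ, hζ, by push_cast; exact e⟩
  have hcom' : ∀ {x y : N}, Commute (x : G) y → Commute (π x) (π y) := fun h => hcom (Com.of_commute R h)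
  have main := comm_abs (F := F) hF (π ⟨B.t, mt⟩) (fun u => π ⟨B.xa u, mxa u⟩) (fun u => π ⟨B.xb u, mxb u⟩)
    (fun u => π ⟨R.pa u, mpa u⟩) (fun u => π ⟨R.pb u, mpb u⟩) (fun α β => π ⟨B.h α β, mh α β⟩)
    (by rw [← map_mul, ← map_one π]; exact heq' (by push_cast; exact B.tt))
    (fun u v => by rw [← map_mul]; exact heq' (by push_cast; exact B.xa_add u v))
    (fun u v => by rw [← map_mul]; exact heq' (by push_cast; exact B.xb_add u v))
    (fun u v => hcom (R.xa_xb' u v))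
    (fun u s h => by
      rw [← map_mul, ← map_one π] at h
      obtain ⟨ζ, hζ, e⟩ := hqe h
      push_cast at e
      rw [one_mul] at e
      exact R.xa_xb_mem (by rw [e]; exact hζ))
    (fun u => hcom' (B.t_xa u)) (fun u => hcom' (B.t_xb u))
    (by rw [← map_one π]; exact heq' (by push_cast; exact R.la.p_zero))
    (fun u => by rw [← map_mul, ← map_one π]; exact heq' (by push_cast; exact R.la.p_sq u))
    (fun u => by rw [← map_mul, ← map_one π]; exact heq' (by push_cast; exact R.lb.p_sq u))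
    (fun u v => by
      obtain ⟨k, hk⟩ := R.la.p_add u v
      exact ⟨k, by rw [← map_mul, ← map_mul]; exact heq' (by push_cast; exact hk)⟩)
    (fun u v => by
      obtain ⟨k, hk⟩ := R.lb.p_add u v
      exact ⟨k, by rw [← map_mul, ← map_mul]; exact heq' (by push_cast; exact hk)⟩)
    (fun u v => hcom' (R.la.p_x u v)) (fun u v => hcom (R.pa_xb' u v))
    (fun u v => (hcom (R.xa_pb' v u)).symm) (fun u v => hcom' (R.lb.p_x u v))
    (fun u => by rw [← map_mul, ← map_mul, ← map_mul]; exact heq' (by push_cast; exact R.la.t_p u))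
    (fun α β u => by rw [← map_mul, ← map_mul]; exact heq' (by push_cast; exact B.h_xa α β u))
    (fun α β u => by rw [← map_mul, ← map_mul]; exact heq' (by push_cast; exact B.h_xb α β u))
    (fun α β u => by rw [← map_mul, ← map_mul]; exact heq' (by push_cast; exact R.h_pa α β u))
    (fun α β u => by rw [← map_mul, ← map_mul]; exact heq' (by push_cast; exact R.h_pb α β u))
    (fun u s => by
      obtain ⟨f, g, ζ, hζ, e | e⟩ := R.csq hB u s
      · refine ⟨f, g, Or.inl ?_⟩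
        rw [← map_mul, ← map_mul, ← map_mul]
        exact heq ⟨ζ, hζ, by push_cast; exact e⟩
      · refine ⟨f, g, Or.inr ?_⟩
        rw [← map_mul, ← map_mul, ← map_mul, ← map_mul]
        exact heq ⟨ζ, hζ, by push_cast; exact e⟩)
    u s
  rw [commute_iff_eq, ← map_mul, ← map_mul] at main
  obtain ⟨ζ, hζ, e⟩ := hqe main
  exact ⟨ζ, hζ, by push_cast at e; exact e⟩

end RelA

end EndA
end Cfsg.Agent.StdSpFour
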