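import Cfsg.Agent.StdSpFour.EndAClose
import Cfsg.Agent.StdRank2.L3End

/-!
# S1778, type `Sp₄(q)`, case (A): the conclusion when `T / U` has only the involution `tU`

`concl`: S1170 applied to the Sylow 2-subgroup of class two.
-/

set_option autoImplicit false
set_option linter.unusedSectionVars false
set_option linter.dupNamespace false

namespace Cfsg.Agent.StdSpFour.EndAConcl

open Subgroup
open Cfsg.Agent.TitsThree.B2Pkg Cfsg.Agent.TitsThree.StdData
open Cfsg.Agent.StdRank2.OddLift Cfsg.Agent.StdRank2.B2Lift Cfsg.Agent.StdRank2.B2Std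
  Cfsg.Agent.StdRank2.OutB2G Cfsg.Agent.StdRank2.SpFrame Cfsg.Agent.StdRank2.SpData
open Cfsg.Agent.StdRank2 Cfsg.Agent.StdEven Cfsg.Agent.StdEven.CoreQuot Cfsg.Agent.StdEven.Loc
open Cfsg.Agent.StdEven.Syl Cfsg.Agent.StdL2.Setup Cfsg.Agent.StdEven.Red
open Cfsg.Agent.StdSz.Out
open Cfsg.Agent.StdSpFour Cfsg.Agent.StdSpFour.Env Cfsg.Agent.StdSpFour.EndA
open scoped commutatorElement

universe u

variable {F : Type*} [Field F] [Finite F] [CharP F 2]
variable {G : Type u} [Group G] [Finite G] {L A : Subgroup G} {t : G} {T : Subgroup G}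

/-- `3 ∣ |A|` -/
theorem three_dvd (H : Hyp A t T) (S : Std (stdSp F) ↥A) : 3 ∣ Nat.card A := by
  set B := B2Conn.base H S with hBdef
  have hW := B2Conn.base_weyl H S
  have h1 : (B.na * B.xa 1) ^ 3 = 1 := hW.na_xa
  have h2 : B.na * B.xa 1 ≠ 1 := by
    intro e
    apply Env.not_isU_na (B := B)
    have h3 : B.na = (B.xa 1)⁻¹ := eq_inv_of_mul_eq_one_left e
    rw [h3]
    exact (IsU.xa 1).inv
  have hna : B.na ∈ im A t A := (SpFrame.na (B2Conn.imS H S)).2
  have hxa : B.xa 1 ∈ im A t A := ((B2Conn.imS H S).m.x 1).2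
  let y : ↥(im A t A) := ⟨B.na * B.xa 1, mul_mem hna hxa⟩
  have hy : orderOf y = 3 := by
    have : Fact (Nat.Prime 3) := ⟨Nat.prime_three⟩
    exact orderOf_eq_prime (Subtype.ext h1) (fun e => h2 (congrArg Subtype.val e))
  have h3 : 3 ∣ Nat.card ↥(im A t A) := by
    have := _root_.orderOf_dvd_natCard y
    rwa [hy] at this
  obtain ⟨e⟩ := H.nonempty_equiv
  rw [Nat.card_congr e.toEquiv] at h3
  exact h3.trans (card_quotient_dvd_card _)

/-- **Case (A), `T / U` with the only involution `tU`: the conclusion of S1778.** -/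
theorem concl (h1170 : S1170Stmt.{u}) {S : Std (stdSp F) ↥A} (h : Sit L A t T S) (H : Hyp A t T)
    (hA : Trich.CaseA (B2Conn.base H S)) (hI : ∀ y ∈ T, y * y ∈ UG S → y ∈ UG S ∨ t * y ∈ UG S) : Concl L t := by
  obtain ⟨Y, hY, htL, hc, hnc, hcl⟩ := EndAClose.caseI h H hA hI
  refine ⟨Or.inl (L3End.lie h1170 h.conf hY hnc hcl ?_ (three_dvd H S)), htL⟩
  rw [hc]
  calc 16 ≤ 4 ^ 8 := by norm_num
    _ ≤ Nat.card F ^ 8 := Nat.pow_le_pow_left h.four 8

end Cfsg.Agent.StdSpFour.EndAConcl
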