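import Cfsg.Agent.StdSpFour.EndANorm
import Cfsg.Agent.WreathFusion.Closing

/-!
# S1778, type `Sp₄(q)`, case (A): the hypotheses of `WreathFusion.Closing.End` for `R.T`

`end_of`: abstract form, `V = [U, R.T]`, `Z = Z(U)`.
-/

set_option autoImplicit false
set_option linter.unusedSectionVars false

open Subgroup
open scoped commutatorElement

namespace Cfsg.Agent.StdSpFour
namespace EndA

open Env

variable {F G : Type*} [Field F] [CharP F 2] [Finite F] [Group G] {B : Base F G}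

/-- `Z(U)` as a subgroup -/
def ZX (B : Base F G) : Subgroup G where
  carrier := {g | IsZ B g}
  one_mem' := ⟨0, 0, by rw [B.zs_zero, B.zl_zero, mul_one]⟩
  mul_mem' := by
    rintro _ _ ⟨m, r, rfl⟩ ⟨m', r', rfl⟩
    refine ⟨m + m', r + r', ?_⟩
    rw [B.zs_add, B.zl_add]
    calc B.zs m * B.zl r * (B.zs m' * B.zl r') = B.zs m * (B.zl r * B.zs m') * B.zl r' := by group
      _ = _ := by rw [← (B.zs_zl m' r).eq]; group
  inv_mem' := by
    rintro _ ⟨m, r, rfl⟩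
    refine ⟨m, r, ?_⟩
    apply inv_eq_of_mul_eq_one_right
    calc B.zs m * B.zl r * (B.zs m * B.zl r) = B.zs m * (B.zl r * B.zs m) * B.zl r := by group
      _ = (B.zs m * B.zs m) * (B.zl r * B.zl r) := by rw [← (B.zs_zl m r).eq]; group
      _ = 1 := by
        rw [← B.zs_add, ← B.zl_add, CharTwo.add_self_eq_zero, CharTwo.add_self_eq_zero, B.zs_zero, B.zl_zero, mul_one]

theorem mem_ZX {g : G} : g ∈ ZX B ↔ IsZ B g := Iff.rfl

namespace Sys

variable (R : Sys B) {U : Subgroup G} (hU : ∀ x, x ∈ U ↔ IsU B x)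
include hU

theorem U_le : U ≤ R.T := fun x hx => R.isU_mem ((hU x).1 hx)

/-- `[x_a(u), p_b(s)]` -/
theorem exists_comm : ∃ k l, R.zh 1 k 1 l ∈ ⁅U, R.T⁆ := by
  obtain ⟨k, l, e⟩ := R.xa_pb 1 1
  change B.xa 1 * R.pb 1 = R.pb 1 * B.xa 1 * R.zh (1 * 1) k (1 ^ 2 * 1) l at e
  rw [one_pow, mul_one] at e
  refine ⟨k, l, ?_⟩
  have h1 : ⁅B.xa 1, R.pb 1⁆ ∈ ⁅U, R.T⁆ :=
    commutator_mem_commutator ((hU _).2 (IsU.xa 1)) (R.b_le (R.lb.p_mem 1))
  have h2 : ⁅B.xa 1, R.pb 1⁆ = R.zh 1 k 1 l := by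
    rw [commutatorElement_def, e]
    have c : Commute (R.zh 1 k 1 l) (R.pb 1 * B.xa 1)⁻¹ :=
      R.Zh_T (R.zh_mem _ _ _ _) (inv_mem (mul_mem (R.b_le (R.lb.p_mem 1)) (R.a_le (R.la.x_mem 1))))
    calc R.pb 1 * B.xa 1 * R.zh 1 k 1 l * (B.xa 1)⁻¹ * (R.pb 1)⁻¹
        = R.pb 1 * B.xa 1 * (R.zh 1 k 1 l * (R.pb 1 * B.xa 1)⁻¹) := by group
      _ = _ := by rw [c.eq]; group
  rwa [h2] at h1

/-- `Z(U) ≤ [U, U]` -/
theorem Z_le (hF : 4 ≤ Nat.card F) : ZX B ≤ ⁅U, R.T⁆ := by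
  have key : ∀ u s, B.zs (u * s) * B.zl (u ^ 2 * s) ∈ ⁅U, R.T⁆ := by
    intro u s
    have h1 : ⁅B.xa u, B.xb s⁆ ∈ ⁅U, R.T⁆ :=
      commutator_mem_commutator ((hU _).2 (IsU.xa u)) (R.b_le (R.lb.x_mem s))
    have h2 : ⁅B.xa u, B.xb s⁆ = B.zs (u * s) * B.zl (u ^ 2 * s) := by
      have e := B.xa_xb u s
      have c : Commute (B.zs (u * s) * B.zl (u ^ 2 * s)) (B.xb s * B.xa u)⁻¹ := by
        have h3 : IsZ B (B.zs (u * s) * B.zl (u ^ 2 * s)) := ⟨_, _, rfl⟩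
        have h4 : B.zs (u * s) * B.zl (u ^ 2 * s) ∈ R.Zh := mul_mem (R.zs_mem _) (R.zl_mem _)
        exact R.Zh_T h4 (inv_mem (mul_mem (R.b_le (R.lb.x_mem s)) (R.a_le (R.la.x_mem u))))
      rw [commutatorElement_def, e]
      calc B.xb s * B.xa u * B.zs (u * s) * B.zl (u ^ 2 * s) * (B.xa u)⁻¹ * (B.xb s)⁻¹
          = B.xb s * B.xa u * ((B.zs (u * s) * B.zl (u ^ 2 * s)) * (B.xb s * B.xa u)⁻¹) := by group
        _ = _ := by rw [c.eq]; group
    rwa [h2] at h1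
  have := Fintype.ofFinite F
  obtain ⟨ω, hω0, hω1⟩ := FieldAux.exists_ne (F := F) (by rwa [← Nat.card_eq_fintype_card])
  have hω : ω + 1 ≠ 0 := fun h => hω1 (FieldAux.eq_of_add_eq_zero h)
  have hzl : ∀ r, B.zl r ∈ ⁅U, R.T⁆ := by
    intro r
    set m := (ω + 1)⁻¹ * r with hm
    have h1 := key 1 m
    have h2 := key ω (ω⁻¹ * m)
    rw [one_mul, one_pow, one_mul] at h1
    rw [mul_inv_cancel_left₀ hω0, show ω ^ 2 * (ω⁻¹ * m) = ω * (ω * ω⁻¹) * m by ring, mul_inv_cancel₀ hω0,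
      mul_one] at h2
    have h3 := mul_mem (inv_mem h1) h2
    have h4 : (B.zs m * B.zl m)⁻¹ * (B.zs m * B.zl (ω * m)) = B.zl (m + ω * m) := by
      rw [B.zl_add]
      have i : (B.zl m)⁻¹ = B.zl m := by
        apply inv_eq_of_mul_eq_one_right
        rw [← B.zl_add, CharTwo.add_self_eq_zero, B.zl_zero]
      rw [mul_inv_rev, i]
      group
    rw [h4] at h3
    rwa [show m + ω * m = (ω + 1) * (ω + 1)⁻¹ * r by rw [hm]; ring, mul_inv_cancel₀ hω, one_mul] at h3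
  rintro _ ⟨m, r, rfl⟩
  have h1 := key 1 m
  rw [one_mul, one_pow, one_mul] at h1
  have h2 := mul_mem h1 (inv_mem (hzl m))
  rw [mul_inv_cancel_right] at h2
  exact mul_mem h2 (hzl r)

theorem not_comm (h : ∀ v ∈ ⁅U, R.T⁆, Commute v B.t) : False := by
  obtain ⟨k, l, h1⟩ := R.exists_comm hU
  have h2 := (h _ h1).eq
  have h3 := R.t_zh 1 k 1 l
  rw [← h2] at h3
  have h4 : B.zs 1 * B.zl 1 = 1 := left_eq_mul.1 h3
  exact one_ne_zero (B.inj 0 0 1 1 (by rw [B.xa_zero, B.xb_zero, one_mul, one_mul, h4])).2.2.1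

/-- **The hypotheses of `Closing.End`.** -/
theorem end_of [Finite G] (hB : B.Self) (hF : 4 ≤ Nat.card F) {T : Subgroup G} (tT : B.t ∈ T) (twoT : IsPGroup 2 T)
    (TC : ∀ y ∈ T, y * B.t = B.t * y)
    (syl : ∀ Q : Subgroup G, IsPGroup 2 Q → (∀ y ∈ Q, y * B.t = B.t * y) → T ≤ Q → Q = T)
    (UT : U ≤ T) (TU : ∀ y ∈ T, ∀ u ∈ U, y * u * y⁻¹ ∈ U)
    (hI : ∀ y ∈ T, y * y ∈ U → y ∈ U ∨ B.t * y ∈ U)
    (hab : ∀ y ∈ T, ∀ z ∈ T, ⁅y, z⁆ ∈ U) :
    WreathFusion.Closing.End B.t T U R.T ⁅U, R.T⁆ (ZX B) := by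
  have hUS := R.U_le hU
  have two : IsPGroup 2 R.T := by
    have h1 := R.card_T
    obtain ⟨n, hn⟩ : ∃ n, Nat.card F = 2 ^ n := by
      have := Fintype.ofFinite F
      obtain ⟨n, -, h⟩ := FiniteField.card F 2
      exact ⟨n, by rw [Nat.card_eq_fintype_card, h]⟩
    rw [hn, ← pow_mul] at h1
    exact IsPGroup.of_card h1
  have norm : ∀ y ∈ T, ∀ s ∈ R.T, y * s * y⁻¹ ∈ R.T := by
    intro y hy
    refine R.norm hB (by omega) (TC y hy) (fun x hx => (hU _).1 (TU y hy x ((hU x).2 hx))) (fun x hx => ?_)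
    have := TU y⁻¹ (inv_mem hy) x ((hU x).2 hx)
    rw [inv_inv] at this
    exact (hU _).1 this
  have VS : ⁅U, R.T⁆ ≤ R.T := commutator_le.2 fun u hu s hs => by
    rw [commutatorElement_def]
    exact mul_mem (mul_mem (mul_mem (hUS hu) hs) (inv_mem (hUS hu))) (inv_mem hs)
  have Vc : ∀ v ∈ ⁅U, R.T⁆, ∀ s ∈ R.T, v * s = s * v := by
    intro v hv s hs
    have h1 : ⁅U, R.T⁆ ≤ centralizer ({s} : Set G) := commutator_le.2 fun u hu x hx => by
      rw [mem_centralizer_singleton_iff]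
      exact (R.class_two (hUS hu) hx hs).eq
    exact mem_centralizer_singleton_iff.1 (h1 hv)
  refine
    { tt := B.tt
      tT := tT
      twoS := two
      twoT := twoT
      TC := TC
      syl := syl
      norm := norm
      US := hUS
      UT := UT
      cent := fun s hs hst => (hU s).2 (R.isU_of_comm hs hst)
      tS := R.t_notMem
      good := fun s hs h => R.inv_coset hs h
      inv := hI
      ab := hab
      VS := VS
      Vc := Vc
      Vn := fun x hx v hv => ?_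
      gen := fun u hu => ?_
      VU := le_rfl
      fix := fun y hy h1 h2 => ?_
      lt := ?_ }
  · -- `T` normalises `[U, S]`
    have hle : (⁅U, R.T⁆ : Subgroup G) ≤ (⁅U, R.T⁆ : Subgroup G).comap (MulAut.conj x).toMonoidHom := by
      refine commutator_le.2 fun u hu s hs => ?_
      show x * ⁅u, s⁆ * x⁻¹ ∈ ⁅U, R.T⁆
      have e : x * ⁅u, s⁆ * x⁻¹ = ⁅x * u * x⁻¹, x * s * x⁻¹⁆ := by
        rw [commutatorElement_def, commutatorElement_def]; group
      rw [e]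
      exact commutator_mem_commutator (TU x hx u hu) (norm x hx s hs)
    exact hle hv
  · -- generation
    have key : ∀ {x p : F → G} (L : Lay B.t x p), L.grp ≤ R.T →
        ∀ u, x u ∈ closure {a | ∃ s ∈ R.T, a = ⁅B.t, s⁆} := by
      intro x p L hL u
      refine Subgroup.subset_closure ⟨p u, hL (L.p_mem u), ?_⟩
      rw [commutatorElement_def, L.t_p]
      have ti : B.t⁻¹ = B.t := inv_eq_of_mul_eq_one_right B.tt
      rw [ti, mul_assoc (p u * B.t), ← (L.t_x u).eq]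
      calc x u = p u * (x u * (p u)⁻¹) := by rw [← (L.p_x u u).inv_left.eq]; group
        _ = p u * (B.t * B.t) * x u * (p u)⁻¹ := by rw [B.tt]; group
        _ = _ := by group
    have hls : R.ls.grp ≤ R.T := by
      rintro _ ⟨u, v, rfl⟩
      apply R.z_le
      refine ⟨u, v, 0, 0, ?_⟩
      rw [RelA.zh, R.ll.p_zero, B.zl_zero, mul_one, mul_one]
    have hll : R.ll.grp ≤ R.T := by
      rintro _ ⟨u, v, rfl⟩
      apply R.z_le
      refine ⟨0, 0, u, v, ?_⟩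
      rw [RelA.zh, R.ls.p_zero, B.zs_zero, mul_one, one_mul]
    obtain ⟨u, s, m, r, rfl⟩ := (hU u).1 hu
    exact mul_mem (key R.la R.a_le u) (mul_mem (mul_mem (key R.lb R.b_le s) (key R.ls hls m)) (key R.ll hll r))
  · -- centraliser of `U` and `V`
    rw [mem_ZX, isZ_iff]
    have hyt := TC y hy
    rcases of_centZ hB (x := y) hyt (fun z hz => h1 z ((hU z).2 hz.isU)) with h3 | h3
    · exact ⟨h3, fun k hk => (h1 k ((hU k).2 hk)).symm⟩
    · exfalso
      -- `t y ∈ Z(U)` centralises `V`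
      have h4 : IsZ B (B.t * y) := by
        rw [isZ_iff]
        refine ⟨h3, fun k hk => ?_⟩
        exact (isU_comm_t hk).mul_right (h1 k ((hU k).2 hk)).symm
      refine R.not_comm hU fun v hv => ?_
      have h5 : Commute v (B.t * y) := R.comm_Z (VS hv) h4
      have h6 : Commute v y := (h2 v hv).symm
      have h7 : B.t = B.t * y * y⁻¹ := by group
      rw [h7]
      exact h5.mul_right h6.inv_right
  · -- `|Z| < |V|`
    refine lt_of_le_of_ne (Subgroup.card_le_of_le (R.Z_le hU hF)) fun h => ?_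
    have h1 := Subgroup.eq_of_le_of_card_ge (R.Z_le hU hF) h.ge
    refine R.not_comm hU fun v hv => ?_
    rw [← h1] at hv
    exact isU_comm_t (mem_ZX.1 hv).isU

end Sys

end EndA
end Cfsg.Agent.StdSpFour
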