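import Cfsg.Agent.StdSpFour.EndAComm
import Mathlib.GroupTheory.Commutator.Basic

/-!
S1778, type Sp₄(q), case (A): the group `T = X̂_a X̂_b Ẑ` of order `q⁸` and class two.
-/
set_option autoImplicit false
set_option linter.unusedSectionVars false

open scoped commutatorElement

namespace Cfsg.Agent.StdSpFour
namespace EndA

variable {F G : Type*} [Field F] [CharP F 2] [Group G]

/-- The relations of case (A) together with `[p_a, p_b] ∈ Ẑ`. -/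
structure Sys (B : Base F G) extends RelA B where
  ab : ∀ u s, toRelA.Com (pa u) (pb s)

namespace RelA
variable {B : Base F G} (R : RelA B)

theorem zh_eq_one {m k r l : F} (h : R.zh m k r l = 1) : m = 0 ∧ k = 0 ∧ r = 0 ∧ l = 0 := by
  have h1 := R.tt_zh m k r l
  rw [h, mul_one, B.tt, one_mul] at h1
  have h2 := B.inj 0 0 m r (by rw [B.xa_zero, B.xb_zero, one_mul, one_mul, h1])
  rw [h2.2.2.1, h2.2.2.2, R.zh_zs_zl] at h
  have h3 := B.inj 0 0 k l (by rw [B.xa_zero, B.xb_zero, one_mul, one_mul, h])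
  exact ⟨h2.2.2.1, h3.2.2.1, h2.2.2.2, h3.2.2.2⟩

theorem zh_zs_zl_mul (m k r l k' l' : F) : B.zs k' * B.zl l' * R.zh m k r l = R.zh m (k' + k) r (l' + l) := by
  unfold zh
  rw [B.zs_add, B.zl_add]
  have h1 : Commute (B.zl l') (R.ps m * B.zs k) := (R.ps_zl m l').symm.mul_right (B.zs_zl k l').symm
  calc B.zs k' * B.zl l' * (R.ps m * B.zs k * (R.pl r * B.zl l))
      = B.zs k' * (B.zl l' * (R.ps m * B.zs k)) * (R.pl r * B.zl l) := by group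
    _ = (B.zs k' * R.ps m) * B.zs k * (B.zl l' * R.pl r) * B.zl l := by rw [h1.eq]; group
    _ = _ := by rw [← (R.ls.p_x m k').eq, ← (R.ll.p_x r l').eq]; group

theorem zh_inj {m k r l m' k' r' l' : F} (h : R.zh m k r l = R.zh m' k' r' l') :
    m = m' ∧ k = k' ∧ r = r' ∧ l = l' := by
  obtain ⟨k1, l1, h1⟩ := R.zh_mul m k r l m' k' r' l'
  rw [h, R.zh_sq] at h1
  have h2 := R.zh_eq_one h1.symm
  have h3 := FieldAux.eq_of_add_eq_zero h2.1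
  have h4 := FieldAux.eq_of_add_eq_zero h2.2.2.1
  subst h3 h4
  have h5 : B.zs k' * B.zl l' * R.zh m k r l = B.zs k * B.zl l * R.zh m k' r l' := by
    rw [R.zh_zs_zl_mul, R.zh_zs_zl_mul, add_comm k, add_comm l]
  rw [h] at h5
  have h6 := mul_right_cancel h5
  have h7 : R.zh 0 k' 0 l' * R.zh 0 k 0 l = 1 := by
    rw [R.zh_zs_zl, h6, ← R.zh_zs_zl, R.zh_sq]
  rw [R.zh_zs_zl, R.zh_zs_zl_mul] at h7
  have h8 := R.zh_eq_one h7
  exact ⟨rfl, (FieldAux.eq_of_add_eq_zero h8.2.1).symm, rfl, (FieldAux.eq_of_add_eq_zero h8.2.2.2).symm⟩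

theorem zs_mem (k : F) : B.zs k ∈ R.Zh := ⟨0, k, 0, 0, by rw [R.zh_zs_zl, B.zl_zero, mul_one]⟩
theorem zl_mem (k : F) : B.zl k ∈ R.Zh := ⟨0, 0, 0, k, by rw [R.zh_zs_zl, B.zs_zero, one_mul]⟩

end RelA

namespace Sys

variable {B : Base F G} (R : Sys B)

theorem com_ab {a b : G} (ha : a ∈ R.la.grp) (hb : b ∈ R.lb.grp) : R.Com a b := by
  obtain ⟨u, v, rfl⟩ := ha
  obtain ⟨s, w, rfl⟩ := hb
  have c1 : ∀ w, ∀ ζ ∈ R.Zh, Commute ζ (B.xb w) := fun w ζ hζ => R.Zh_b hζ (R.lb.x_mem w)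
  have c2 : ∀ w, ∀ ζ ∈ R.Zh, Commute ζ (B.xa w) := fun w ζ hζ => R.Zh_a hζ (R.la.x_mem w)
  exact ((R.ab u s).mul_right (R.pa_xb' u w) (c1 w)).mul_left
    ((R.xa_pb' v s).mul_right (R.xa_xb' v w) (c1 w)) (c2 v)

theorem com_symm {x y : G} (h : R.Com x y) : R.Com y x := by
  obtain ⟨ζ, hζ, e⟩ := h
  exact ⟨ζ⁻¹, inv_mem hζ, by rw [e]; group⟩

/-- The group `T`. -/
def T : Subgroup G where
  carrier := {g | ∃ a ∈ R.la.grp, ∃ b ∈ R.lb.grp, ∃ z ∈ R.Zh, g = a * b * z}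
  mul_mem' := by
    rintro _ _ ⟨a, ha, b, hb, z, hz, rfl⟩ ⟨a', ha', b', hb', z', hz', rfl⟩
    obtain ⟨ζ, hζ, e⟩ := R.com_symm (R.com_ab ha' hb)
    refine ⟨a * a', mul_mem ha ha', b * b', mul_mem hb hb', ζ * z * z', mul_mem (mul_mem hζ hz) hz', ?_⟩
    have c1 := (R.Zh_a hz ha').eq
    have c2 := (R.Zh_b (mul_mem hζ hz) hb').eq
    calc a * b * z * (a' * b' * z') = a * b * (z * a') * b' * z' := by group
      _ = a * (b * a') * z * b' * z' := by rw [c1]; group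
      _ = a * a' * b * (ζ * z * b') * z' := by rw [e]; group
      _ = _ := by rw [c2]; group
  one_mem' := ⟨1, one_mem _, 1, one_mem _, 1, one_mem _, by group⟩
  inv_mem' := by
    rintro _ ⟨a, ha, b, hb, z, hz, rfl⟩
    obtain ⟨ζ, hζ, e⟩ := R.com_symm (R.com_ab (inv_mem ha) (inv_mem hb))
    refine ⟨a⁻¹, inv_mem ha, b⁻¹, inv_mem hb, ζ * z⁻¹, mul_mem hζ (inv_mem hz), ?_⟩
    have c1 := (R.Zh_a (inv_mem hz) (inv_mem ha)).eq
    have c2 := (R.Zh_b (inv_mem hz) (inv_mem hb)).eq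
    calc (a * b * z)⁻¹ = (z⁻¹ * b⁻¹) * a⁻¹ := by group
      _ = b⁻¹ * (z⁻¹ * a⁻¹) := by rw [c2]; group
      _ = (b⁻¹ * a⁻¹) * z⁻¹ := by rw [c1]; group
      _ = _ := by rw [e]; group

theorem mem_T {g : G} : g ∈ R.T ↔ ∃ a ∈ R.la.grp, ∃ b ∈ R.lb.grp, ∃ z ∈ R.Zh, g = a * b * z := Iff.rfl

theorem a_le : R.la.grp ≤ R.T := fun a ha => ⟨a, ha, 1, one_mem _, 1, one_mem _, by group⟩
theorem b_le : R.lb.grp ≤ R.T := fun b hb => ⟨1, one_mem _, b, hb, 1, one_mem _, by group⟩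
theorem z_le : R.Zh ≤ R.T := fun z hz => ⟨1, one_mem _, 1, one_mem _, z, hz, by group⟩

/-- `Ẑ` is central in `T` -/
theorem Zh_T {ζ g : G} (hζ : ζ ∈ R.Zh) (hg : g ∈ R.T) : Commute ζ g := by
  obtain ⟨a, ha, b, hb, z, hz, rfl⟩ := hg
  exact ((R.Zh_a hζ ha).mul_right (R.Zh_b hζ hb)).mul_right (R.Zh_comm hζ hz)

theorem com_T {x y : G} (hx : x ∈ R.T) (hy : y ∈ R.T) : R.Com x y := by
  obtain ⟨a, ha, b, hb, z, hz, rfl⟩ := hx
  obtain ⟨a', ha', b', hb', z', hz', rfl⟩ := hy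
  have hZT : ∀ {g : G}, g ∈ R.T → ∀ ζ ∈ R.Zh, Commute ζ g := fun hg ζ hζ => R.Zh_T hζ hg
  have h1 : ∀ {x y : G}, Commute x y → R.Com x y := fun h => RelA.Com.of_commute _ h
  have ta := R.a_le ha
  have ta' := R.a_le ha'
  have tb := R.b_le hb
  have tb' := R.b_le hb'
  have tz := R.z_le hz
  have tz' := R.z_le hz'
  refine RelA.Com.mul_left (RelA.Com.mul_left ?_ ?_ (hZT tb)) ?_ (hZT tz)
  · exact ((h1 (R.la.comm ha ha')).mul_right (R.com_ab ha hb') (hZT tb')).mul_right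
      (h1 (R.Zh_T hz' ta).symm) (hZT tz')
  · exact ((R.com_symm (R.com_ab ha' hb)).mul_right (h1 (R.lb.comm hb hb')) (hZT tb')).mul_right
      (h1 (R.Zh_T hz' tb).symm) (hZT tz')
  · exact h1 (R.Zh_T hz ⟨a', ha', b', hb', z', hz', rfl⟩)

theorem eq_one {a b z : G} (ha : a ∈ R.la.grp) (hb : b ∈ R.lb.grp) (hz : z ∈ R.Zh) (h : a * b * z = 1) :
    a = 1 ∧ b = 1 ∧ z = 1 := by
  have ha0 := ha
  have hb0 := hb
  have hz0 := hz
  obtain ⟨u, v, ea⟩ := ha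
  obtain ⟨s, w, eb⟩ := hb
  obtain ⟨m, k, r, l, ez⟩ := hz
  have h1 : B.t * (a * b * z) * B.t = a * B.xa u * (b * B.xb s) * (z * (B.zs m * B.zl r)) := by
    calc B.t * (a * b * z) * B.t = B.t * a * (B.t * B.t) * b * (B.t * B.t) * z * B.t := by rw [B.tt]; group
      _ = (B.t * a * B.t) * (B.t * b * B.t) * (B.t * z * B.t) := by group
      _ = _ := by
        rw [ea, eb, ez, R.la.tt_form B.tt, R.lb.tt_form B.tt, R.tt_zh]
  rw [h, mul_one, B.tt] at h1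
  have hδ : B.zs m * B.zl r ∈ R.Zh := mul_mem (R.zs_mem m) (R.zl_mem r)
  have h2 : B.xa u * b * B.xb s * (B.zs m * B.zl r) = b := by
    have h3 : a * B.xa u * (b * B.xb s) * (z * (B.zs m * B.zl r)) = a * b * z := by rw [← h1, h]
    have c1 := (R.Zh_comm hz0 hδ).eq
    rw [c1] at h3
    have h4 : a * (B.xa u * b * B.xb s * (B.zs m * B.zl r)) * z = a * b * z := by
      rw [← h3]; group
    exact mul_left_cancel (mul_right_cancel h4)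
  obtain ⟨ζ, hζ, e⟩ := R.com_ab (R.la.x_mem u) hb0
  have h3 : B.xa u * B.xb s * (ζ * (B.zs m * B.zl r)) = 1 := by
    have c1 := (R.Zh_b hζ (R.lb.x_mem s)).eq
    have h4 : b * (B.xa u * B.xb s * (ζ * (B.zs m * B.zl r))) = b * 1 := by
      rw [mul_one]
      calc b * (B.xa u * B.xb s * (ζ * (B.zs m * B.zl r)))
          = b * B.xa u * (B.xb s * ζ) * (B.zs m * B.zl r) := by group
        _ = (b * B.xa u * ζ) * B.xb s * (B.zs m * B.zl r) := by rw [← c1]; group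
        _ = b := by rw [← e, h2]
    exact mul_left_cancel h4
  have h4 : B.xa u * B.xb s ∈ R.Zh := by
    rw [mul_eq_one_iff_eq_inv.1 h3]
    exact inv_mem (mul_mem hζ hδ)
  obtain ⟨hu, hs⟩ := R.xa_xb_mem h4
  subst hu hs
  rw [B.xa_zero, B.xb_zero, one_mul, mul_one] at h2
  have h5 : B.zs m * B.zl r = 1 := mul_eq_left.1 h2
  have h6 := B.inj 0 0 m r (by rw [B.xa_zero, B.xb_zero, one_mul, one_mul, h5])
  obtain ⟨-, -, hm, hr⟩ := h6
  subst hm hr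
  rw [R.la.p_zero, one_mul] at ea
  rw [R.lb.p_zero, one_mul] at eb
  rw [R.zh_zs_zl] at ez
  rw [ea, eb, ez] at h
  have h7 := B.inj v w k l (by rw [← h]; group)
  obtain ⟨hv, hw, hk, hl⟩ := h7
  subst hv hw hk hl
  rw [B.xa_zero] at ea
  rw [B.xb_zero] at eb
  rw [B.zs_zero, B.zl_zero, one_mul] at ez
  exact ⟨ea, eb, ez⟩

theorem inj {a b z a' b' z' : G} (ha : a ∈ R.la.grp) (hb : b ∈ R.lb.grp) (hz : z ∈ R.Zh)
    (ha' : a' ∈ R.la.grp) (hb' : b' ∈ R.lb.grp) (hz' : z' ∈ R.Zh) (h : a * b * z = a' * b' * z') :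
    a = a' ∧ b = b' ∧ z = z' := by
  have h1 : a'⁻¹ * a * (b * b'⁻¹) * (z * z'⁻¹) = 1 := by
    have c := (R.Zh_b (mul_mem hz (inv_mem hz')) (inv_mem hb')).eq
    calc a'⁻¹ * a * (b * b'⁻¹) * (z * z'⁻¹) = a'⁻¹ * a * b * (b'⁻¹ * (z * z'⁻¹)) := by group
      _ = a'⁻¹ * (a * b * z) * z'⁻¹ * b'⁻¹ := by rw [← c]; group
      _ = 1 := by rw [h]; group
  obtain ⟨h2, h3, h4⟩ := R.eq_one (mul_mem (inv_mem ha') ha) (mul_mem hb (inv_mem hb'))
    (mul_mem hz (inv_mem hz')) h1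
  exact ⟨(inv_mul_eq_one.1 h2).symm, mul_inv_eq_one.1 h3, mul_inv_eq_one.1 h4⟩

/-- the conjugate of an element of `T` by `t` -/
theorem tt_form (u v s w m k r l : F) :
    B.t * (R.pa u * B.xa v * (R.pb s * B.xb w) * R.zh m k r l) * B.t =
      (R.pa u * B.xa v * B.xa u) * (R.pb s * B.xb w * B.xb s) * (R.zh m k r l * (B.zs m * B.zl r)) := by
  calc B.t * (R.pa u * B.xa v * (R.pb s * B.xb w) * R.zh m k r l) * B.t
      = B.t * (R.pa u * B.xa v) * 1 * (R.pb s * B.xb w) * 1 * R.zh m k r l * B.t := by group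
    _ = B.t * (R.pa u * B.xa v) * (B.t * B.t) * (R.pb s * B.xb w) * (B.t * B.t) * R.zh m k r l * B.t := by
        rw [B.tt]
    _ = (B.t * (R.pa u * B.xa v) * B.t) * (B.t * (R.pb s * B.xb w) * B.t) * (B.t * R.zh m k r l * B.t) := by
        group
    _ = _ := by rw [R.la.tt_form B.tt, R.lb.tt_form B.tt, R.tt_zh]

theorem t_norm {g : G} (hg : g ∈ R.T) : B.t * g * B.t ∈ R.T := by
  obtain ⟨_, ⟨u, v, rfl⟩, _, ⟨s, w, rfl⟩, _, ⟨m, k, r, l, rfl⟩, rfl⟩ := hg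
  rw [R.tt_form]
  exact ⟨_, mul_mem (R.la.form_mem u v) (R.la.x_mem u), _, mul_mem (R.lb.form_mem s w) (R.lb.x_mem s), _,
    mul_mem (R.zh_mem m k r l) (mul_mem (R.zs_mem m) (R.zl_mem r)), rfl⟩

/-- `C_T(t) = U` -/
theorem cent_t {g : G} (hg : g ∈ R.T) (h : B.t * g * B.t = g) :
    ∃ u s m r, g = B.xa u * B.xb s * B.zs m * B.zl r := by
  obtain ⟨_, ⟨u, v, rfl⟩, _, ⟨s, w, rfl⟩, _, ⟨m, k, r, l, rfl⟩, rfl⟩ := hg
  rw [R.tt_form] at h
  obtain ⟨h1, h2, h3⟩ := R.inj (mul_mem (R.la.form_mem u v) (R.la.x_mem u))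
    (mul_mem (R.lb.form_mem s w) (R.lb.x_mem s))
    (mul_mem (R.zh_mem m k r l) (mul_mem (R.zs_mem m) (R.zl_mem r)))
    (R.la.form_mem u v) (R.lb.form_mem s w) (R.zh_mem m k r l) h
  have h1 := R.la.x_inj _ (mul_eq_left.1 h1)
  have h2 := R.lb.x_inj _ (mul_eq_left.1 h2)
  have h3 := mul_eq_left.1 h3
  have h6 := B.inj 0 0 m r (by rw [B.xa_zero, B.xb_zero, one_mul, one_mul, h3])
  obtain ⟨-, -, hm, hr⟩ := h6
  subst h1 h2 hm hr
  refine ⟨v, w, k, l, ?_⟩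
  rw [R.la.p_zero, R.lb.p_zero, R.zh_zs_zl, one_mul, one_mul]
  group

theorem t_notMem : B.t ∉ R.T := by
  intro h
  obtain ⟨u, s, m, r, e⟩ := R.cent_t h (by rw [B.tt, one_mul])
  exact B.t_ne u s m r e.symm

theorem nonab : ∃ x ∈ R.T, ∃ y ∈ R.T, x * y ≠ y * x := by
  refine ⟨R.pa 1, R.a_le (R.la.p_mem 1), B.xb 1, R.b_le (R.lb.x_mem 1), ?_⟩
  intro h
  obtain ⟨k, l, e⟩ := R.pa_xb 1 1
  change R.pa 1 * B.xb 1 = B.xb 1 * R.pa 1 * R.zh (1 * 1) k (1 ^ 2 * 1) l at e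
  rw [h] at e
  have h1 := R.zh_eq_one (left_eq_mul.1 e)
  rw [mul_one] at h1
  exact one_ne_zero h1.1

theorem class_two {x y z : G} (hx : x ∈ R.T) (hy : y ∈ R.T) (hz : z ∈ R.T) :
    Commute ⁅x, y⁆ z := by
  obtain ⟨ζ, hζ, e⟩ := R.com_T hx hy
  have h1 : ⁅x, y⁆ = ζ := by
    rw [commutatorElement_def, e]
    have c : Commute ζ (y * x)⁻¹ := R.Zh_T hζ (inv_mem (mul_mem hy hx))
    calc y * x * ζ * x⁻¹ * y⁻¹ = y * x * (ζ * (y * x)⁻¹) := by group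
      _ = ζ := by rw [c.eq]; group
  rw [h1]
  exact R.Zh_T hζ hz

end Sys
end EndA
end Cfsg.Agent.StdSpFour
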