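import Cfsg.Agent.StdSpFour.EndAOut
import Cfsg.Agent.StdSpFour.Prime

/-!
S1778, type Sp₄(q), case (A): the relations of case (A) from the short and the long layer.
-/
set_option autoImplicit false
set_option linter.unusedSectionVars false

namespace Cfsg.Agent.StdSpFour
namespace EndA

variable {F G : Type*} [Field F] [CharP F 2] [Group G] {B : Base F G}

theorem prod_sq {G : Type*} [Group G] {a b : G} (h : Commute a b) (ha : a * a = 1) (hb : b * b = 1) :
    a * b * (a * b) = 1 := by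
  calc a * b * (a * b) = a * (b * a) * b := by group
    _ = a * a * (b * b) := by rw [← h.eq]; group
    _ = 1 := by rw [ha, hb, one_mul]

theorem kappa_zero {G : Type*} [Group G] {p y c : G} (h : p * y = c * (y * p)) (hc : Commute c p)
    (hp : p * p = 1) (hy : y * y = 1) (hpy : p * y * (p * y) = 1) : c = 1 := by
  have h1 : p * y * (p * y) = c⁻¹ := by
    have h2 : y * p = c⁻¹ * (p * y) := by rw [h]; group
    calc p * y * (p * y) = p * (y * p) * y := by group
      _ = (p * c⁻¹) * p * y * y := by rw [h2]; group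
      _ = c⁻¹ * (p * p) * (y * y) := by rw [← hc.inv_left.eq]; group
      _ = c⁻¹ := by rw [hp, hy, mul_one, mul_one]
  rw [hpy] at h1
  exact inv_eq_one.1 h1.symm

/-- The relations of case (A). -/
theorem exists_relA [Finite F] (hF : 4 ≤ Nat.card F) (hB : B.Self) (S : ShortLayer B) (L : LongLayer B)
    (hSe : S.e = 0) (hLe : L.e = 0) (hSc : S.c = 0) (hLc : L.c = 0) : Nonempty (RelA B) := by
  have ps_xa : ∀ m u, Commute (S.p m) (B.xa u) := by
    intro m u
    have h := S.xa_p u m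
    rw [hSe, zero_mul, zero_mul, B.zl_zero, mul_one] at h
    exact h.symm
  have pl_xb : ∀ m u, Commute (L.q m) (B.xb u) := by
    intro m u
    obtain ⟨r, rfl⟩ := FieldAux.exists_sq m
    obtain ⟨s, rfl⟩ := FieldAux.exists_sq u
    have h := L.xb_q s r
    rw [hLe, zero_mul, B.zs_zero, mul_one] at h
    exact h.symm
  have pa_zs : ∀ u m, Commute (Comm.p' S u) (B.zs m) := by
    intro u m
    have h := Comm.zs_p' S m u
    rw [hSe, zero_mul, zero_mul, B.zl_zero, mul_one] at h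
    exact h.symm
  have pb_zl : ∀ u m, Commute (Prime.q' L u) (B.zl m) := by
    intro u m
    obtain ⟨r, rfl⟩ := FieldAux.exists_sq u
    obtain ⟨s, rfl⟩ := FieldAux.exists_sq m
    have h := Prime.zl_q' L s r
    rw [hLe, zero_mul, B.zs_zero, mul_one] at h
    exact h.symm
  have ps_sq : ∀ u, S.p u * S.p u = 1 := fun u => by rw [S.p_sq, hSc, zero_mul, B.zs_zero]
  have pl_sq : ∀ u, L.q u * L.q u = 1 := fun u => by rw [L.q_sq, hLc, zero_mul, B.zl_zero]
  have pa_sq : ∀ u, Comm.p' S u * Comm.p' S u = 1 := fun u => by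
    rw [Comm.p'_sq, hSc, zero_mul, B.xa_zero]
  have pb_sq : ∀ u, Prime.q' L u * Prime.q' L u = 1 := fun u => by
    rw [Prime.q'_sq, hLc, zero_mul, B.xb_zero]
  have inj : ∀ {u s m r}, B.xa u * B.xb s * B.zs m * B.zl r = 1 → u = 0 ∧ s = 0 ∧ m = 0 ∧ r = 0 :=
    fun h => B.inj _ _ _ _ h
  have la : Lay B.t B.xa (Comm.p' S) :=
    { x_add := B.xa_add
      x_inj := fun u h => (inj (u := u) (s := 0) (m := 0) (r := 0)
        (by rw [h, B.xb_zero, B.zs_zero, B.zl_zero, one_mul, one_mul, one_mul])).1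
      t_x := B.t_xa
      p_zero := Comm.p'_zero S
      t_p := Comm.t_p' S
      p_sq := pa_sq
      p_add := Comm.p'_add S
      p_x := Comm.p'_xa S }
  have lb : Lay B.t B.xb (Prime.q' L) :=
    { x_add := B.xb_add
      x_inj := fun u h => (inj (u := 0) (s := u) (m := 0) (r := 0)
        (by rw [h, B.xa_zero, B.zs_zero, B.zl_zero, one_mul, one_mul, one_mul])).2.1
      t_x := B.t_xb
      p_zero := Prime.q'_zero L
      t_p := Prime.t_q' L
      p_sq := pb_sq
      p_add := Prime.q'_add L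
      p_x := Prime.q'_xb L }
  have ls : Lay B.t B.zs S.p :=
    { x_add := B.zs_add
      x_inj := fun u h => (inj (u := 0) (s := 0) (m := u) (r := 0)
        (by rw [h, B.xa_zero, B.xb_zero, B.zl_zero, one_mul, one_mul, one_mul])).2.2.1
      t_x := B.t_zs
      p_zero := S.p_zero
      t_p := S.t_p
      p_sq := ps_sq
      p_add := S.p_add
      p_x := S.p_zs }
  have ll : Lay B.t B.zl L.q :=
    { x_add := B.zl_add
      x_inj := fun u h => (inj (u := 0) (s := 0) (m := 0) (r := u)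
        (by rw [h, B.xa_zero, B.xb_zero, B.zs_zero, one_mul, one_mul, one_mul])).2.2.2
      t_x := B.t_zl
      p_zero := L.q_zero
      t_p := L.t_q
      p_sq := pl_sq
      p_add := L.q_add
      p_x := L.q_zl }
  have ps_pl : ∀ m r, Commute (S.p m) (L.q r) := Prime.p_q hF hB S L
  have pa_pl : ∀ u m, Commute (Comm.p' S u) (L.q m) := Prime.p'_q hF hB S L
  have pb_ps : ∀ u m, Commute (Prime.q' L u) (S.p m) := Prime.q'_p hF hB S L
  -- the elements `p q z_s z_l`
  have y_sq : ∀ m r k l, S.p m * L.q r * (B.zs k * B.zl l) * (S.p m * L.q r * (B.zs k * B.zl l)) = 1 := by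
    intro m r k l
    have c1 : Commute (S.p m * L.q r) (B.zs k * B.zl l) :=
      ((S.p_zs m k).mul_right (S.p_zl m l)).mul_left ((L.q_zs r k).mul_right (L.q_zl r l))
    exact prod_sq c1 (prod_sq (ps_pl m r) (ps_sq m) (pl_sq r)) (prod_sq (B.zs_zl k l) (B.zs_zs k) (B.zl_zl' l))
  have y_form : ∀ m r k l, S.p m * L.q r * (B.zs k * B.zl l) = S.p m * B.zs k * (L.q r * B.zl l) := by
    intro m r k l
    calc S.p m * L.q r * (B.zs k * B.zl l) = S.p m * (L.q r * B.zs k) * B.zl l := by group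
      _ = _ := by rw [(L.q_zs r k).eq]; group
  -- `κ = 0`
  have pa_ps : ∀ u m, Commute (Comm.p' S u) (S.p m) := by
    obtain ⟨κ, hκ⟩ := Prime.p'_p hF hB S
    obtain ⟨ε, ε', hx⟩ := Prime.p'_xb hF hB S L
    have h1 := hx 1 1
    simp only [hSe, add_zero, one_pow, mul_one] at h1
    have h2 : Comm.p' S 1 * (S.p 1 * L.q 1 * (B.zs ε * B.zl ε')) *
        (Comm.p' S 1 * (S.p 1 * L.q 1 * (B.zs ε * B.zl ε'))) = 1 := by
      rw [← h1]
      calc (B.xb 1)⁻¹ * Comm.p' S 1 * B.xb 1 * ((B.xb 1)⁻¹ * Comm.p' S 1 * B.xb 1)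
          = (B.xb 1)⁻¹ * (Comm.p' S 1 * Comm.p' S 1) * B.xb 1 := by group
        _ = 1 := by rw [pa_sq, mul_one, inv_mul_cancel]
    have h3 : Comm.p' S 1 * (S.p 1 * L.q 1 * (B.zs ε * B.zl ε')) =
        B.zl κ * ((S.p 1 * L.q 1 * (B.zs ε * B.zl ε')) * Comm.p' S 1) := by
      have h4 := hκ 1 1
      rw [mul_one, mul_one] at h4
      have c1 : Commute (Comm.p' S 1) (L.q 1 * (B.zs ε * B.zl ε')) :=
        (pa_pl 1 1).mul_right ((pa_zs 1 ε).mul_right (Comm.p'_zl S 1 ε'))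
      calc Comm.p' S 1 * (S.p 1 * L.q 1 * (B.zs ε * B.zl ε'))
          = (Comm.p' S 1 * S.p 1) * (L.q 1 * (B.zs ε * B.zl ε')) := by group
        _ = B.zl κ * S.p 1 * (Comm.p' S 1 * (L.q 1 * (B.zs ε * B.zl ε'))) := by rw [h4]; group
        _ = _ := by rw [c1.eq]; group
    have h5 : B.zl κ = 1 := kappa_zero h3 (Comm.p'_zl S 1 κ).symm (pa_sq 1) (y_sq _ _ _ _) h2
    have hk : κ = 0 := ll.x_inj _ h5
    intro u m
    have h6 := hκ u m
    rw [hk, zero_mul, B.zl_zero, one_mul] at h6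
    exact h6
  have pb_pl : ∀ u m, Commute (Prime.q' L u) (L.q m) := by
    obtain ⟨κ, hκ⟩ := Prime.q'_q hF hB L
    obtain ⟨ε, η, hx⟩ := Prime.q'_xa hF hB S L
    have h1 := hx 1 1
    simp only [hLe, add_zero, one_pow, mul_one] at h1
    have c0 : L.q 1 * S.p 1 * (B.zl ε * B.zs η) = S.p 1 * L.q 1 * (B.zs η * B.zl ε) := by
      rw [← (ps_pl 1 1).eq, (B.zs_zl η ε).eq]
    rw [c0] at h1
    have h2 : Prime.q' L 1 * (S.p 1 * L.q 1 * (B.zs η * B.zl ε)) *
        (Prime.q' L 1 * (S.p 1 * L.q 1 * (B.zs η * B.zl ε))) = 1 := by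
      rw [← h1]
      calc (B.xa 1)⁻¹ * Prime.q' L 1 * B.xa 1 * ((B.xa 1)⁻¹ * Prime.q' L 1 * B.xa 1)
          = (B.xa 1)⁻¹ * (Prime.q' L 1 * Prime.q' L 1) * B.xa 1 := by group
        _ = 1 := by rw [pb_sq, mul_one, inv_mul_cancel]
    have h3 : Prime.q' L 1 * (S.p 1 * L.q 1 * (B.zs η * B.zl ε)) =
        B.zs κ * ((S.p 1 * L.q 1 * (B.zs η * B.zl ε)) * Prime.q' L 1) := by
      have h4 := hκ 1 1
      rw [mul_one, mul_one, one_pow] at h4
      have c1 : Commute (Prime.q' L 1) (B.zs η * B.zl ε) :=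
        (Prime.q'_zs L 1 η).mul_right (pb_zl 1 ε)
      have c2 : Commute (B.zs κ) (S.p 1) := (S.p_zs 1 κ).symm
      calc Prime.q' L 1 * (S.p 1 * L.q 1 * (B.zs η * B.zl ε))
          = (Prime.q' L 1 * S.p 1) * L.q 1 * (B.zs η * B.zl ε) := by group
        _ = S.p 1 * (Prime.q' L 1 * L.q 1) * (B.zs η * B.zl ε) := by rw [(pb_ps 1 1).eq]; group
        _ = (S.p 1 * B.zs κ) * L.q 1 * (Prime.q' L 1 * (B.zs η * B.zl ε)) := by rw [h4]; group
        _ = _ := by rw [c1.eq, ← c2.eq]; group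
    have h5 : B.zs κ = 1 := kappa_zero h3 (Prime.q'_zs L 1 κ).symm (pb_sq 1) (y_sq _ _ _ _) h2
    have hk : κ = 0 := ls.x_inj _ h5
    intro u m
    obtain ⟨r, rfl⟩ := FieldAux.exists_sq m
    obtain ⟨s, rfl⟩ := FieldAux.exists_sq u
    have h6 := hκ s r
    rw [hk, zero_mul, B.zs_zero, one_mul] at h6
    exact h6
  refine ⟨{
    pa := Comm.p' S
    pb := Prime.q' L
    ps := S.p
    pl := L.q
    la := la
    lb := lb
    ls := ls
    ll := ll
    ps_xa := ps_xa
    ps_xb := S.p_xb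
    ps_zl := S.p_zl
    pl_xa := L.q_xa
    pl_xb := pl_xb
    pl_zs := L.q_zs
    ps_pl := ps_pl
    pa_zs := pa_zs
    pa_zl := Comm.p'_zl S
    pb_zs := Prime.q'_zs L
    pb_zl := pb_zl
    pa_ps := pa_ps
    pa_pl := pa_pl
    pb_ps := pb_ps
    pb_pl := pb_pl
    pa_xb := ?_
    xa_pb := ?_
    h_pa := Comm.h_p' S
    h_pb := Prime.h_q' L
    h_ps := S.h_p
    h_pl := L.h_q }⟩
  · obtain ⟨ε, ε', hx⟩ := Prime.p'_xb hF hB S L
    intro u s
    refine ⟨ε * (u * s), ε' * (u ^ 2 * s), ?_⟩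
    have h1 := hx u s
    rw [hSe, add_zero, one_mul, y_form] at h1
    rw [mul_assoc (B.xb s), ← h1]
    group
  · obtain ⟨ε, η, hx⟩ := Prime.q'_xa hF hB S L
    intro u s
    refine ⟨η * (u * s), ε * (u ^ 2 * s), ?_⟩
    have h1 := hx s u
    have c0 : L.q (u ^ 2 * s) * S.p (u * s) * (B.zl (ε * (u ^ 2 * s)) * B.zs (η * (u * s))) =
        S.p (u * s) * L.q (u ^ 2 * s) * (B.zs (η * (u * s)) * B.zl (ε * (u ^ 2 * s))) := by
      rw [← (ps_pl _ _).eq, (B.zs_zl _ _).eq]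
    rw [hLe, add_zero, one_mul, c0] at h1
    have h2 := y_sq (u * s) (u ^ 2 * s) (η * (u * s)) (ε * (u ^ 2 * s))
    rw [← y_form]
    set y := S.p (u * s) * L.q (u ^ 2 * s) * (B.zs (η * (u * s)) * B.zl (ε * (u ^ 2 * s)))
    have h3 : Prime.q' L s * B.xa u = B.xa u * Prime.q' L s * y := by
      rw [mul_assoc (B.xa u), ← h1]; group
    rw [h3, mul_assoc _ y y, h2, mul_one]

/-- **Case (A), abstract form**: the group `T` of order `q⁸`. -/
theorem exists_out [Finite F] [Finite G] (hF : 4 ≤ Nat.card F) (hB : B.Self) (S : ShortLayer B) (L : LongLayer B)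
    (hSe : S.e = 0) (hLe : L.e = 0) (hSc : S.c = 0) (hLc : L.c = 0) :
    ∃ T : Subgroup G, Out (Nat.card F) B.t T ∧ ∀ N : Subgroup G, N.Normal → (∀ α β, B.h α β ∈ N) → T ≤ N := by
  obtain ⟨R⟩ := exists_relA hF hB S L hSe hLe hSc hLc
  have := Fintype.ofFinite F
  have hF' : 4 ≤ Fintype.card F := by rwa [← Nat.card_eq_fintype_card]
  let R' : Sys B := { toRelA := R, ab := R.pa_pb hB hF' }
  exact ⟨R'.T, R'.out, fun N hN h => R'.gen hF' hN h⟩

end EndA
end Cfsg.Agent.StdSpFour
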