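import Cfsg.Agent.StdSpFour.V1
import Mathlib.SetTheory.Cardinal.Finite
import Mathlib.Algebra.Group.Subgroup.Basic

/-!
S1778, type Sp₄(q), case (A). One root group with its second layer: `x v` (centralised by `t`) and `p u`
(`t p(u) = p(u) t x(u)`), all together an elementary abelian group of order `q²`.
-/
set_option autoImplicit false
set_option linter.unusedSectionVars false

namespace Cfsg.Agent.StdSpFour
namespace EndA

variable {F G : Type*} [Field F] [CharP F 2] [Group G]

/-- a root group `x` (centralised by `t`) with its second layer `p`, elementary abelian -/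
structure Lay (t : G) (x p : F → G) : Prop where
  x_add : ∀ u v, x (u + v) = x u * x v
  x_inj : ∀ u, x u = 1 → u = 0
  t_x : ∀ u, Commute t (x u)
  p_zero : p 0 = 1
  t_p : ∀ u, t * p u = p u * t * x u
  p_sq : ∀ u, p u * p u = 1
  p_add : ∀ u v, ∃ k, p u * p v = p (u + v) * x k
  p_x : ∀ u v, Commute (p u) (x v)

namespace Lay

variable {t : G} {x p : F → G} (L : Lay t x p)
include L

theorem x_zero : x 0 = 1 := by
  have := L.x_add 0 0
  rw [add_zero] at this
  exact left_eq_mul.1 this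

theorem x_x (u : F) : x u * x u = 1 := by
  rw [← L.x_add, CharTwo.add_self_eq_zero, L.x_zero]

theorem x_inv (u : F) : (x u)⁻¹ = x u := inv_eq_of_mul_eq_one_right (L.x_x u)
theorem p_inv (u : F) : (p u)⁻¹ = p u := inv_eq_of_mul_eq_one_right (L.p_sq u)

theorem x_comm (u v : F) : Commute (x u) (x v) := by
  rw [commute_iff_eq, ← L.x_add, ← L.x_add, add_comm]

theorem p_p (u v : F) : Commute (p u) (p v) := by
  obtain ⟨k, hk⟩ := L.p_add u v
  have h1 : p u * p v * (p u * p v) = 1 := by
    rw [hk]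
    calc p (u + v) * x k * (p (u + v) * x k) = p (u + v) * (x k * p (u + v)) * x k := by group
      _ = p (u + v) * p (u + v) * (x k * x k) := by rw [← (L.p_x (u + v) k).eq]; group
      _ = 1 := by rw [L.p_sq, L.x_x, one_mul]
  have h2 : p u * p v = (p u * p v)⁻¹ := (inv_eq_of_mul_eq_one_right h1).symm
  rw [commute_iff_eq, h2, mul_inv_rev, L.p_inv, L.p_inv]

/-- `p t p⁻¹ = t x` -/
theorem p_t (u : F) : p u * t = t * p u * x u := by
  rw [L.t_p]
  calc p u * t = p u * t * (x u * x u) := by rw [L.x_x, mul_one]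
    _ = _ := by group

theorem conj_t (u : F) : p u * t * (p u)⁻¹ = t * x u := by
  rw [L.p_t, mul_assoc, L.p_inv, ← (L.p_x u u).eq, mul_assoc t, ← mul_assoc (p u), L.p_sq, one_mul]

theorem mul_form (u v u' v' : F) : ∃ k, p u * x v * (p u' * x v') = p (u + u') * x k := by
  obtain ⟨k, hk⟩ := L.p_add u u'
  refine ⟨k + v + v', ?_⟩
  rw [L.x_add, L.x_add]
  calc p u * x v * (p u' * x v') = p u * (x v * p u') * x v' := by group
    _ = (p u * p u') * x v * x v' := by rw [← (L.p_x u' v).eq]; group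
    _ = _ := by rw [hk]; group

theorem sq_form (u v : F) : p u * x v * (p u * x v) = 1 := by
  calc p u * x v * (p u * x v) = p u * (x v * p u) * x v := by group
    _ = p u * p u * (x v * x v) := by rw [← (L.p_x u v).eq]; group
    _ = 1 := by rw [L.p_sq, L.x_x, one_mul]

theorem inv_form (u v : F) : (p u * x v)⁻¹ = p u * x v := inv_eq_of_mul_eq_one_right (L.sq_form u v)

theorem comm_form (u v u' v' : F) : Commute (p u * x v) (p u' * x v') :=
  ((L.p_p u u').mul_right (L.p_x u v')).mul_left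
    ((L.p_x u' v).symm.mul_right (L.x_comm v v'))

theorem one_form : (1 : G) = p 0 * x 0 := by rw [L.p_zero, L.x_zero, one_mul]

/-- `t g = g t x(u)` for `g = p(u) x(v)` -/
theorem t_form (u v : F) : t * (p u * x v) = p u * x v * t * x u := by
  calc t * (p u * x v) = (t * p u) * x v := by group
    _ = p u * t * (x u * x v) := by rw [L.t_p]; group
    _ = p u * (t * x v) * x u := by rw [(L.x_comm u v).eq]; group
    _ = _ := by rw [(L.t_x v).eq]; group

/-- `t g t = g x(u)` -/
theorem tt_form (htt : t * t = 1) (u v : F) : t * (p u * x v) * t = p u * x v * x u := by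
  rw [L.t_form, mul_assoc _ (x u) t, ← (L.t_x u).eq, ← mul_assoc, mul_assoc (p u * x v) t t, htt, mul_one]

theorem eq_zero {u v : F} (h : p u * x v = 1) : u = 0 ∧ v = 0 := by
  have h1 := L.t_form u v
  rw [h, mul_one, one_mul] at h1
  have hu : u = 0 := L.x_inj _ (left_eq_mul.1 h1)
  rw [hu, L.p_zero, one_mul] at h
  exact ⟨hu, L.x_inj _ h⟩

theorem inj {u v u' v' : F} (h : p u * x v = p u' * x v') : u = u' ∧ v = v' := by
  obtain ⟨k, hk⟩ := L.mul_form u v u' v'
  rw [h, L.sq_form] at hk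
  have h1 := (L.eq_zero hk.symm).1
  have h2 := FieldAux.eq_of_add_eq_zero h1
  rw [h2] at h
  have h3 := mul_left_cancel h
  have h4 : x (v + v') = 1 := by rw [L.x_add, h3, L.x_x]
  exact ⟨h2, FieldAux.eq_of_add_eq_zero (L.x_inj _ h4)⟩

omit L in
/-- the group `{p(u) x(v)}` -/
def grp (L : Lay t x p) : Subgroup G where
  carrier := {g | ∃ u v, g = p u * x v}
  mul_mem' := by
    rintro _ _ ⟨u, v, rfl⟩ ⟨u', v', rfl⟩
    obtain ⟨k, hk⟩ := L.mul_form u v u' v'
    exact ⟨_, _, hk⟩
  one_mem' := ⟨0, 0, L.one_form⟩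
  inv_mem' := by
    rintro _ ⟨u, v, rfl⟩
    exact ⟨u, v, L.inv_form u v⟩

omit L in
theorem mem_grp (L : Lay t x p) {g : G} : g ∈ L.grp ↔ ∃ u v, g = p u * x v := Iff.rfl

omit L in
theorem form_mem (L : Lay t x p) (u v : F) : p u * x v ∈ L.grp := ⟨u, v, rfl⟩

omit L in
theorem p_mem (L : Lay t x p) (u : F) : p u ∈ L.grp := ⟨u, 0, by rw [L.x_zero, mul_one]⟩

omit L in
theorem x_mem (L : Lay t x p) (v : F) : x v ∈ L.grp := ⟨0, v, by rw [L.p_zero, one_mul]⟩

theorem sq {g : G} (hg : g ∈ L.grp) : g * g = 1 := by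
  obtain ⟨u, v, rfl⟩ := hg
  exact L.sq_form u v

theorem comm {g g' : G} (hg : g ∈ L.grp) (hg' : g' ∈ L.grp) : Commute g g' := by
  obtain ⟨u, v, rfl⟩ := hg
  obtain ⟨u', v', rfl⟩ := hg'
  exact L.comm_form u v u' v'

end Lay
end EndA
end Cfsg.Agent.StdSpFour
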