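import Cfsg.Agent.StdSpFour.EndAInst
import Cfsg.Agent.StdSpFour.Env

/-!
# S1778, type `Sp₄(q)`, case (A): `T₀` normalises the grown group `R.T`

`norm`: an element of `C(t)` normalising `U` (and hence `Z(U)`) normalises `R.T`.
-/

set_option autoImplicit false
set_option linter.unusedSectionVars false

open Subgroup
open scoped commutatorElement

namespace Cfsg.Agent.StdSpFour
namespace EndA

open Env

variable {F G : Type*} [Field F] [CharP F 2] [Finite F] [Group G] {B : Base F G}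

/-- the relations with `[p_a, p_b] ∈ Ẑ` -/
theorem exists_sys (hF : 4 ≤ Nat.card F) (hB : B.Self) (S : ShortLayer B) (L : LongLayer B)
    (hSe : S.e = 0) (hLe : L.e = 0) (hSc : S.c = 0) (hLc : L.c = 0) : Nonempty (Sys B) := by
  obtain ⟨R⟩ := exists_relA hF hB S L hSe hLe hSc hLc
  have := Fintype.ofFinite F
  have hF' : 4 ≤ Fintype.card F := by rwa [← Nat.card_eq_fintype_card]
  exact ⟨{ toRelA := R, ab := R.pa_pb hB hF' }⟩

/-- `z_s(m) z_l(r)` -/
def IsZ (B : Base F G) (g : G) : Prop := ∃ m r, g = B.zs m * B.zl r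

theorem isU_of_form {u s m r : F} {g : G} (h : g = B.xa u * B.xb s * B.zs m * B.zl r) : IsU B g :=
  ⟨u, s, m, r, by rw [h, Base.v1]; group⟩

theorem IsZ.isU {g : G} (h : IsZ B g) : IsU B g := by
  obtain ⟨m, r, rfl⟩ := h
  exact ⟨0, 0, m, r, by rw [Base.v1, B.xa_zero, B.xb_zero, one_mul, one_mul]⟩

theorem IsZ.comm {g k : G} (h : IsZ B g) (hk : IsU B k) : Commute k g := by
  obtain ⟨m, r, rfl⟩ := h
  have h1 := hk.comm_z m r
  rwa [show B.v1 0 m r = B.zs m * B.zl r by rw [Base.v1, B.xb_zero, one_mul]] at h1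

/-- `Z(U)` -/
theorem isZ_iff {g : G} : IsZ B g ↔ IsU B g ∧ ∀ k, IsU B k → Commute k g := by
  constructor
  · intro h
    exact ⟨h.isU, fun k hk => h.comm hk⟩
  · rintro ⟨⟨u, s, m, r, rfl⟩, h⟩
    have h1 := (h _ (IsU.v1 1 0 0)).eq
    have h2 := (h _ (IsU.xa 1)).eq
    have e1 : B.v1 1 0 0 * (B.xa u * B.v1 s m r) = B.xa u * B.v1 (1 + s) (u * 1 + m) (u ^ 2 * 1 + r) := by
      calc B.v1 1 0 0 * (B.xa u * B.v1 s m r) = (B.v1 1 0 0 * B.xa u) * B.v1 s m r := by group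
        _ = _ := by rw [Env.v1_xa, mul_assoc, B.v1_mul, zero_add, zero_add]
    have e2 : B.xa u * B.v1 s m r * B.v1 1 0 0 = B.xa u * B.v1 (s + 1) m r := by
      rw [mul_assoc, B.v1_mul, add_zero, add_zero]
    rw [e1, e2] at h1
    have h3 := (nf_inj h1).2.2.1
    rw [mul_one] at h3
    have hu : u = 0 := by
      have := h3
      rwa [add_eq_right] at this
    have e3 : B.xa u * B.v1 s m r * B.xa 1 = B.xa (u + 1) * B.v1 s (m + 1 * s) (r + 1 ^ 2 * s) := by
      rw [mul_assoc, Env.v1_xa, ← mul_assoc, B.xa_add]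
    have e4 : B.xa 1 * (B.xa u * B.v1 s m r) = B.xa (1 + u) * B.v1 s m r := by rw [← mul_assoc, B.xa_add]
    rw [e3, e4] at h2
    have h4 := (nf_inj h2).2.2.1
    rw [one_mul] at h4
    have hs : s = 0 := by
      have := h4.symm
      rwa [add_eq_left] at this
    subst hu hs
    exact ⟨m, r, by rw [Base.v1, B.xa_zero, B.xb_zero, one_mul, one_mul]⟩

/-- `C(t) ∩ C(Z(U)) = U⟨t⟩` -/
theorem of_centZ (hB : B.Self) {x : G} (h1 : Commute x B.t) (h2 : ∀ z, IsZ B z → Commute x z) :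
    IsU B x ∨ IsU B (B.t * x) := by
  obtain ⟨u, s, m, r, h | h⟩ := hB.centZ x h1 (fun u => h2 _ ⟨u, 0, by rw [B.zl_zero, mul_one]⟩)
    (fun u => h2 _ ⟨0, u, by rw [B.zs_zero, one_mul]⟩)
  · exact Or.inl (isU_of_form h)
  · right
    refine isU_of_form (u := u) (s := s) (m := m) (r := r) ?_
    rw [h, ← mul_assoc, B.tt, one_mul]

theorem isU_comm_t {x : G} (h : IsU B x) : Commute x B.t := by
  obtain ⟨u, s, m, r, rfl⟩ := h
  exact (B.t_xa u).symm.mul_left (B.t_v1 s m r).symm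

namespace Sys

variable (R : Sys B)

theorem isU_mem {x : G} (h : IsU B x) : x ∈ R.T := by
  obtain ⟨u, s, m, r, rfl⟩ := h
  exact mul_mem (R.a_le (R.la.x_mem u)) (mul_mem (mul_mem (R.b_le (R.lb.x_mem s)) (R.z_le (R.zs_mem m)))
    (R.z_le (R.zl_mem r)))

theorem isU_of_comm {x : G} (h : x ∈ R.T) (hc : Commute x B.t) : IsU B x := by
  obtain ⟨u, s, m, r, e⟩ := R.cent_t h (by rw [← hc.eq, mul_assoc, B.tt, mul_one])
  exact isU_of_form e

theorem comm_Z {x z : G} (h : x ∈ R.T) (hz : IsZ B z) : Commute x z := by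
  obtain ⟨m, r, rfl⟩ := hz
  exact (R.Zh_T (mul_mem (R.zs_mem m) (R.zl_mem r)) h).symm

variable [Finite G]

/-- `|U⟨t⟩| ≤ 2q⁴` -/
theorem card_le {Y : Type*} [Finite Y] (f : Y → G) (hf : Function.Injective f)
    (h : ∀ y, IsU B (f y) ∨ IsU B (B.t * f y)) : Nat.card Y ≤ 2 * Nat.card F ^ 4 := by
  classical
  have h' : ∀ y, ∃ p : Bool × F × F × F × F,
      f y = (if p.1 then B.t else 1) * (B.xa p.2.1 * B.v1 p.2.2.1 p.2.2.2.1 p.2.2.2.2) := by
    intro y
    rcases h y with ⟨u, s, m, r, e⟩ | ⟨u, s, m, r, e⟩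
    · exact ⟨(false, u, s, m, r), by simp [e]⟩
    · refine ⟨(true, u, s, m, r), ?_⟩
      simp only [if_true]
      rw [← e, ← mul_assoc, B.tt, one_mul]
  choose g hg using h'
  have h1 : Function.Injective g := by
    intro y y' e
    apply hf
    rw [hg, hg, e]
  have h2 := Nat.card_le_card_of_injective g h1
  rw [Nat.card_prod, Nat.card_prod, Nat.card_prod, Nat.card_prod] at h2
  have h3 : Nat.card Bool = 2 := by simp
  rw [h3] at h2
  calc Nat.card Y ≤ _ := h2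
    _ = _ := by ring

include R in
/-- an involution of `R.T` is not conjugate to `t` by an element normalising `Z(U)`, modulo `R.T` -/
theorem not_conj (hB : B.Self) (hF : 2 ≤ Nat.card F) {y p g : G} (hy' : ∀ z, IsZ B z → IsZ B (y⁻¹ * z * y))
    (hp : p ∈ R.T) (hpp : p * p = 1) (hg : g ∈ R.T) (e : g * B.t * g⁻¹ = y * p * y⁻¹) : False := by
  have h1 := R.cent hp hpp
  have h2 : Nat.card ↥(R.T ⊓ centralizer {p}) ≤ 2 * Nat.card F ^ 4 := by
    refine card_le (B := B) (fun c : ↥(R.T ⊓ centralizer {p}) => g⁻¹ * (y * c * y⁻¹) * g) ?_ ?_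
    · intro a b h
      have h3 : (a : G) = b := mul_left_cancel (mul_right_cancel (mul_left_cancel (mul_right_cancel h)))
      exact Subtype.ext h3
    · rintro ⟨c, hc⟩
      obtain ⟨hcT, hcp⟩ := mem_inf.1 hc
      rw [mem_centralizer_singleton_iff] at hcp
      apply of_centZ hB
      · show g⁻¹ * (y * c * y⁻¹) * g * B.t = B.t * (g⁻¹ * (y * c * y⁻¹) * g)
        have e2 : g * B.t = y * p * y⁻¹ * g := by rw [← e]; group
        have e3 : B.t * g⁻¹ = g⁻¹ * (y * p * y⁻¹) := by rw [← e]; group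
        calc g⁻¹ * (y * c * y⁻¹) * g * B.t = g⁻¹ * (y * c * y⁻¹) * (g * B.t) := by group
          _ = g⁻¹ * (y * (c * p) * y⁻¹) * g := by rw [e2]; group
          _ = g⁻¹ * (y * p * y⁻¹) * (y * c * y⁻¹) * g := by rw [hcp]; group
          _ = _ := by rw [← e3]; group
      · intro z hz
        have h3 : Commute g z := R.comm_Z hg hz
        have h4 : Commute c (y⁻¹ * z * y) := R.comm_Z hcT (hy' z hz)
        have h5 : Commute (y * c * y⁻¹) z := by
          show y * c * y⁻¹ * z = z * (y * c * y⁻¹)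
          calc y * c * y⁻¹ * z = y * (c * (y⁻¹ * z * y)) * y⁻¹ := by group
            _ = y * (y⁻¹ * z * y * c) * y⁻¹ := by rw [h4.eq]
            _ = _ := by group
        exact (h3.inv_left.mul_left h5).mul_left h3
  have h3 : Nat.card F ^ 6 ≤ 2 * Nat.card F ^ 4 := h1.trans h2
  have h4 : Nat.card F ^ 6 = Nat.card F ^ 2 * Nat.card F ^ 4 := by ring
  rw [h4] at h3
  have h5 := Nat.le_of_mul_le_mul_right h3 (pow_pos (by omega) 4)
  nlinarith

/-- a subgroup containing the generators contains `R.T` -/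
theorem T_le {N : Subgroup G} (h : ∀ x ∈ R.T, x * x = 1 → IsU B (B.t * x * B.t * x⁻¹) → x ∈ N) : R.T ≤ N := by
  have key : ∀ {x p : F → G} (L : Lay B.t x p), (∀ u, IsU B (x u)) → L.grp ≤ R.T → L.grp ≤ N := by
    intro x p L hx hL g hg
    refine h g (hL hg) (L.sq hg) ?_
    obtain ⟨u, v, rfl⟩ := hg
    rw [L.tt_form B.tt]
    have : p u * x v * x u * (p u * x v)⁻¹ = x u := by
      rw [mul_assoc (p u), (L.x_comm v u).eq, ← mul_assoc, (L.p_x u u).eq]
      group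
    rw [this]
    exact hx u
  rintro _ ⟨a, ha, b, hb, _, ⟨m, k, r, l, rfl⟩, rfl⟩
  have hls : R.ls.grp ≤ R.T := by
    rintro _ ⟨u, v, rfl⟩
    apply R.z_le
    refine ⟨u, v, 0, 0, ?_⟩
    rw [RelA.zh, R.ll.p_zero, B.zl_zero, mul_one, mul_one]
  have hll : R.ll.grp ≤ R.T := by
    rintro _ ⟨u, v, rfl⟩
    apply R.z_le
    refine ⟨0, 0, u, v, ?_⟩
    rw [RelA.zh, R.ls.p_zero, B.zs_zero, mul_one, one_mul]
  exact mul_mem (mul_mem (key R.la (fun u => IsU.xa u) R.a_le ha)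
    (key R.lb (fun u => isU_of_form (u := 0) (s := u) (m := 0) (r := 0) (by
      rw [B.xa_zero, B.zs_zero, B.zl_zero, one_mul, mul_one, mul_one])) R.b_le hb))
    (mul_mem (key R.ls (fun u => IsZ.isU ⟨u, 0, by rw [B.zl_zero, mul_one]⟩) hls (R.ls.form_mem m k))
      (key R.ll (fun u => IsZ.isU ⟨0, u, by rw [B.zs_zero, one_mul]⟩) hll (R.ll.form_mem r l)))

/-- **elements of `C(t)` normalising `U` normalise `R.T`.** -/
theorem norm (hB : B.Self) (hF : 2 ≤ Nat.card F) {y : G} (hyt : Commute y B.t)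
    (hyU : ∀ x, IsU B x → IsU B (y * x * y⁻¹)) (hyU' : ∀ x, IsU B x → IsU B (y⁻¹ * x * y)) :
    ∀ x ∈ R.T, y * x * y⁻¹ ∈ R.T := by
  have hyZ' : ∀ z, IsZ B z → IsZ B (y⁻¹ * z * y) := by
    intro z hz
    rw [isZ_iff]
    refine ⟨hyU' z hz.isU, fun k hk => ?_⟩
    have h1 := (hz.comm (hyU k hk)).eq
    show k * (y⁻¹ * z * y) = y⁻¹ * z * y * k
    calc k * (y⁻¹ * z * y) = y⁻¹ * (y * k * y⁻¹ * z) * y := by group
      _ = y⁻¹ * (z * (y * k * y⁻¹)) * y := by rw [h1]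
      _ = _ := by group
  -- the subgroup of the elements moved into `R.T`
  let N : Subgroup G := R.T.comap (MulAut.conj y).toMonoidHom
  have hN : ∀ x, x ∈ N ↔ y * x * y⁻¹ ∈ R.T := fun x => Iff.rfl
  refine fun x hx => (hN x).1 (R.T_le (N := N) ?_ hx)
  intro p hp hpp hpt
  rw [hN]
  -- `t ^ (p ^ y) = t x ^ y`
  set v := B.t * p * B.t * p⁻¹ with hv
  have hpt' : p * B.t * p⁻¹ = B.t * v := by
    rw [hv]
    have h2 : B.t * (B.t * p * B.t * p⁻¹) = (B.t * B.t) * (p * B.t * p⁻¹) := by group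
    rw [h2, B.tt, one_mul]
  have hv' := hyU v hpt
  have h1 : (y * p * y⁻¹) * B.t * (y * p * y⁻¹)⁻¹ = B.t * (y * v * y⁻¹) := by
    have e1 : y⁻¹ * B.t * y = B.t := by rw [mul_assoc, ← hyt.eq]; group
    have e2 : y * B.t * y⁻¹ = B.t := by rw [hyt.eq]; group
    calc (y * p * y⁻¹) * B.t * (y * p * y⁻¹)⁻¹ = y * (p * (y⁻¹ * B.t * y) * p⁻¹) * y⁻¹ := by group
      _ = y * (B.t * v) * y⁻¹ := by rw [e1, hpt']
      _ = (y * B.t * y⁻¹) * (y * v * y⁻¹) := by group
      _ = _ := by rw [e2]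
  have h2 : B.t * (y * v * y⁻¹) * (B.t * (y * v * y⁻¹)) = 1 := by
    rw [← h1]
    calc (y * p * y⁻¹) * B.t * (y * p * y⁻¹)⁻¹ * ((y * p * y⁻¹) * B.t * (y * p * y⁻¹)⁻¹)
        = (y * p * y⁻¹) * (B.t * B.t) * (y * p * y⁻¹)⁻¹ := by group
      _ = 1 := by rw [B.tt]; group
  obtain ⟨g, hg, hgt⟩ := R.inv_coset (R.isU_mem hv') h2
  set d := g⁻¹ * (y * p * y⁻¹) with hd
  have hdt : Commute d B.t := by
    show g⁻¹ * (y * p * y⁻¹) * B.t = B.t * (g⁻¹ * (y * p * y⁻¹))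
    rw [← h1] at hgt
    calc g⁻¹ * (y * p * y⁻¹) * B.t = g⁻¹ * ((y * p * y⁻¹) * B.t * (y * p * y⁻¹)⁻¹) * (y * p * y⁻¹) := by group
      _ = _ := by rw [← hgt]; group
  have hdZ : ∀ z, IsZ B z → Commute d z := by
    intro z hz
    have h3 : Commute g z := R.comm_Z hg hz
    have h4 : Commute p (y⁻¹ * z * y) := R.comm_Z hp (hyZ' z hz)
    have h5 : Commute (y * p * y⁻¹) z := by
      show y * p * y⁻¹ * z = z * (y * p * y⁻¹)
      calc y * p * y⁻¹ * z = y * (p * (y⁻¹ * z * y)) * y⁻¹ := by group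
        _ = y * (y⁻¹ * z * y * p) * y⁻¹ := by rw [h4.eq]
        _ = _ := by group
    exact h3.inv_left.mul_left h5
  have hyp : y * p * y⁻¹ = g * d := by rw [hd]; group
  rcases of_centZ hB hdt hdZ with h3 | h3
  · rw [hyp]
    exact mul_mem hg (R.isU_mem h3)
  · exfalso
    -- `p ^ y ∈ t R.T`
    have h4 : B.t * (B.t * (y * p * y⁻¹)) = y * p * y⁻¹ := by rw [← mul_assoc, B.tt, one_mul]
    have h5 : B.t * (y * p * y⁻¹) ∈ R.T := by
      have e1 : B.t * (y * p * y⁻¹) = (B.t * g * B.t) * (B.t * d) := by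
        calc B.t * (y * p * y⁻¹) = B.t * g * d := by rw [hyp]; group
          _ = B.t * g * (B.t * B.t) * d := by rw [B.tt]; group
          _ = _ := by group
      rw [e1]
      exact mul_mem (R.t_norm hg) (R.isU_mem h3)
    have h6 : B.t * (B.t * (y * p * y⁻¹)) * (B.t * (B.t * (y * p * y⁻¹))) = 1 := by
      rw [h4]
      calc y * p * y⁻¹ * (y * p * y⁻¹) = y * (p * p) * y⁻¹ := by group
        _ = 1 := by rw [hpp]; group
    obtain ⟨g', hg', e⟩ := R.inv_coset h5 h6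
    rw [h4] at e
    exact R.not_conj hB hF hyZ' hp hpp hg' e

end Sys

end EndA
end Cfsg.Agent.StdSpFour
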