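import Cfsg.Agent.StdSpFour.EndAGroup
import Mathlib.SetTheory.Cardinal.Finite
import Mathlib.Algebra.Group.Subgroup.Finite

/-!
S1778, type Sp₄(q), case (A): involutions of `tT`, centralisers of involutions of `T`, and the order of `T`.
-/
set_option autoImplicit false
set_option linter.unusedSectionVars false

open scoped commutatorElement

namespace Cfsg.Agent.StdSpFour
namespace EndA

variable {F G : Type*} [Field F] [CharP F 2] [Group G]

namespace Sys

variable {B : Base F G} (R : Sys B)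

/-- all involutions of the coset `tT` are conjugate to `t` under `T` -/
theorem inv_coset {v : G} (hv : v ∈ R.T) (h : B.t * v * (B.t * v) = 1) :
    ∃ w ∈ R.T, w * B.t * w⁻¹ = B.t * v := by
  obtain ⟨_, ⟨u, v, rfl⟩, _, ⟨s, w, rfl⟩, _, ⟨m, k, r, l, rfl⟩, rfl⟩ := hv
  -- modulo `Ẑ`
  have e0 : (B.t * (R.pa u * B.xa v * (R.pb s * B.xb w) * R.zh m k r l) * B.t) *
      (R.pa u * B.xa v * (R.pb s * B.xb w) * R.zh m k r l) = 1 := by
    rw [← h]; group
  rw [R.tt_form] at e0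
  set a := R.pa u * B.xa v with ha
  set b := R.pb s * B.xb w with hb
  have ma : a ∈ R.la.grp := R.la.form_mem u v
  have mb : b ∈ R.lb.grp := R.lb.form_mem s w
  have mz := R.zh_mem m k r l
  have mδ : B.zs m * B.zl r ∈ R.Zh := mul_mem (R.zs_mem m) (R.zl_mem r)
  -- `(x x_a)(y x_b) ζ x y = (x² x_a)(y² x_b) ζ'`
  obtain ⟨ζ1, hζ1, e1⟩ := R.com_symm (R.com_ab ma (mul_mem mb (R.lb.x_mem s)))
  have e2 : B.xa u * B.xb s * (ζ1 * (R.zh m k r l * (B.zs m * B.zl r) * R.zh m k r l)) = 1 := by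
    have c1 := (R.Zh_T (mul_mem mz mδ) (mul_mem (R.a_le ma) (R.b_le mb))).eq
    have c2 := (R.Zh_T hζ1 (R.b_le mb)).eq
    have c3 := (R.la.comm ma (R.la.x_mem u)).eq
    have c4 := (R.lb.comm mb (R.lb.x_mem s)).eq
    have sa := R.la.sq ma
    have sb := R.lb.sq mb
    rw [← e0]
    symm
    calc a * B.xa u * (b * B.xb s) * (R.zh m k r l * (B.zs m * B.zl r)) * (a * b * R.zh m k r l)
        = a * B.xa u * (b * B.xb s) * ((R.zh m k r l * (B.zs m * B.zl r)) * (a * b)) * R.zh m k r l := by group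
      _ = a * B.xa u * ((b * B.xb s) * a) * b * (R.zh m k r l * (B.zs m * B.zl r)) * R.zh m k r l := by
          rw [c1]; group
      _ = a * B.xa u * a * b * B.xb s * (ζ1 * b) * (R.zh m k r l * (B.zs m * B.zl r)) * R.zh m k r l := by
          rw [e1]; group
      _ = (a * B.xa u) * a * (b * B.xb s) * b * ζ1 * (R.zh m k r l * (B.zs m * B.zl r)) * R.zh m k r l := by
          rw [c2]; group
      _ = B.xa u * (a * a) * B.xb s * (b * b) * ζ1 * (R.zh m k r l * (B.zs m * B.zl r)) * R.zh m k r l := by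
          rw [c3, c4]; group
      _ = _ := by rw [sa, sb]; group
  have e3 : B.xa u * B.xb s ∈ R.Zh := by
    rw [mul_eq_one_iff_eq_inv.1 e2]
    exact inv_mem (mul_mem hζ1 (mul_mem (mul_mem mz mδ) mz))
  obtain ⟨hu, hs⟩ := R.xa_xb_mem e3
  subst hu hs
  rw [R.la.p_zero, one_mul] at ha
  rw [R.lb.p_zero, one_mul] at hb
  rw [ha, hb, B.xa_zero, B.xb_zero, mul_one, mul_one] at e0
  -- the `Ẑ`-part
  have e4 : B.xa v * B.xb w * (B.xa v * B.xb w) = R.zh 0 (v * w) 0 (v ^ 2 * w) := by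
    have e5 : B.xa v * B.xb w = B.xb w * B.xa v * R.zh 0 (v * w) 0 (v ^ 2 * w) := by
      rw [R.zh_zs_zl, B.xa_xb]; group
    have c1 : Commute (R.zh 0 (v * w) 0 (v ^ 2 * w)) (B.xa v * B.xb w) :=
      (R.zh_xa _ _ _ _ _).mul_right (R.zh_xb _ _ _ _ _)
    calc B.xa v * B.xb w * (B.xa v * B.xb w)
        = B.xb w * B.xa v * (R.zh 0 (v * w) 0 (v ^ 2 * w) * (B.xa v * B.xb w)) := by
            nth_rw 1 [e5]; group
      _ = B.xb w * (B.xa v * B.xa v) * B.xb w * R.zh 0 (v * w) 0 (v ^ 2 * w) := by rw [c1.eq]; group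
      _ = _ := by rw [B.xa_xa, mul_one, B.xb_xb, one_mul]
  have e5 : R.zh 0 (v * w) 0 (v ^ 2 * w) * R.zh 0 m 0 r = 1 := by
    have c1 : Commute (R.zh m k r l * (B.zs m * B.zl r)) (B.xa v * B.xb w) := by
      rw [← R.zh_zs_zl]
      exact ((R.zh_xa _ _ _ _ _).mul_right (R.zh_xb _ _ _ _ _)).mul_left
        ((R.zh_xa _ _ _ _ _).mul_right (R.zh_xb _ _ _ _ _))
    have c2 : Commute (B.zs m * B.zl r) (R.zh m k r l) := R.Zh_comm mδ mz
    rw [← e4, ← e0, R.zh_zs_zl m r]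
    calc B.xa v * B.xb w * (B.xa v * B.xb w) * (B.zs m * B.zl r)
        = B.xa v * B.xb w * (B.xa v * B.xb w) * (B.zs m * B.zl r) * (R.zh m k r l * R.zh m k r l) := by
            rw [R.zh_sq, mul_one]
      _ = B.xa v * B.xb w * (B.xa v * B.xb w) * ((B.zs m * B.zl r) * R.zh m k r l) * R.zh m k r l := by
            group
      _ = B.xa v * B.xb w * ((B.xa v * B.xb w) * (R.zh m k r l * (B.zs m * B.zl r))) * R.zh m k r l := by
            rw [c2.eq]; group
      _ = B.xa v * B.xb w * ((R.zh m k r l * (B.zs m * B.zl r)) * (B.xa v * B.xb w)) * R.zh m k r l := by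
            rw [c1.eq]
      _ = _ := by group
  rw [R.zh_zs_zl (v * w) (v ^ 2 * w), R.zh_zs_zl_mul] at e5
  have e6 := R.zh_eq_one e5
  have hm : m = v * w := (FieldAux.eq_of_add_eq_zero e6.2.1).symm
  have hr : r = v ^ 2 * w := (FieldAux.eq_of_add_eq_zero e6.2.2.2).symm
  subst hm hr
  rw [ha, hb]
  -- the conjugating element
  obtain ⟨k1, l1, e7⟩ := R.pa_xb_conj v w
  have h1 : R.pa v * R.pb w * B.t * (R.pa v * R.pb w)⁻¹ =
      B.t * (B.xa v * B.xb w) * R.zh (v * w) k1 (v ^ 2 * w) l1 := by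
    calc R.pa v * R.pb w * B.t * (R.pa v * R.pb w)⁻¹
        = R.pa v * (R.pb w * B.t * (R.pb w)⁻¹) * (R.pa v)⁻¹ := by group
      _ = (R.pa v * B.t * (R.pa v)⁻¹) * (R.pa v * B.xb w * (R.pa v)⁻¹) := by rw [R.lb.conj_t]; group
      _ = _ := by rw [R.la.conj_t, e7]; group
  refine ⟨R.zh (k1 + k) 0 (l1 + l) 0 * (R.pa v * R.pb w), mul_mem (R.z_le (R.zh_mem _ _ _ _))
    (mul_mem (R.a_le (R.la.p_mem _)) (R.b_le (R.lb.p_mem _))), ?_⟩
  set y := R.zh (k1 + k) 0 (l1 + l) 0 with hy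
  have c3 : Commute y (B.xa v * B.xb w * R.zh (v * w) k1 (v ^ 2 * w) l1) :=
    ((R.zh_xa _ _ _ _ _).mul_right (R.zh_xb _ _ _ _ _)).mul_right (R.zh_zh _ _ _ _ _ _ _ _)
  calc y * (R.pa v * R.pb w) * B.t * (y * (R.pa v * R.pb w))⁻¹
      = y * (R.pa v * R.pb w * B.t * (R.pa v * R.pb w)⁻¹) * y⁻¹ := by group
    _ = y * B.t * (B.xa v * B.xb w * R.zh (v * w) k1 (v ^ 2 * w) l1 * y⁻¹) := by rw [h1]; group
    _ = (y * B.t * y⁻¹) * (B.xa v * B.xb w * R.zh (v * w) k1 (v ^ 2 * w) l1) := by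
        rw [← c3.inv_left.eq]; group
    _ = B.t * ((B.zs (k1 + k) * B.zl (l1 + l)) * (B.xa v * B.xb w)) * R.zh (v * w) k1 (v ^ 2 * w) l1 := by
        rw [hy, R.conj_zh]; group
    _ = B.t * (B.xa v * B.xb w) * ((B.zs (k1 + k) * B.zl (l1 + l)) * R.zh (v * w) k1 (v ^ 2 * w) l1) := by
        have : (B.zs (k1 + k) * B.zl (l1 + l)) * (B.xa v * B.xb w) =
          (B.xa v * B.xb w) * (B.zs (k1 + k) * B.zl (l1 + l)) := by
          rw [← R.zh_zs_zl]
          exact ((R.zh_xa _ _ _ _ _).mul_right (R.zh_xb _ _ _ _ _)).eq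
        rw [this]; group
    _ = _ := by
        rw [R.zh_zs_zl_mul, show k1 + k + k1 = k + (k1 + k1) by ring, show l1 + l + l1 = l + (l1 + l1) by ring,
          CharTwo.add_self_eq_zero, CharTwo.add_self_eq_zero, add_zero, add_zero]
        group

end Sys

namespace Lay

variable {t : G} {x p : F → G} (L : Lay t x p)
include L

theorem card_grp : Nat.card L.grp = Nat.card F ^ 2 := by
  rw [_root_.sq, ← Nat.card_prod]
  refine (Nat.card_congr (Equiv.ofBijective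
    (fun y : F × F => (⟨p y.1 * x y.2, L.form_mem y.1 y.2⟩ : L.grp)) ⟨?_, ?_⟩)).symm
  · rintro ⟨u, v⟩ ⟨u', v'⟩ h
    have h1 := L.inj (Subtype.ext_iff.1 h)
    exact Prod.ext h1.1 h1.2
  · rintro ⟨_, u, v, rfl⟩
    exact ⟨(u, v), rfl⟩

theorem le_normal {N : Subgroup G} [hN : N.Normal] {h : G} (hh : h ∈ N) {ω : F} (hω : ω ≠ 1)
    (hx : ∀ u, h * x u = x (ω * u) * h) (hp : ∀ u, h * p u = p (ω * u) * h) : L.grp ≤ N := by
  have key : ∀ g : G, h * g * h⁻¹ * g⁻¹ ∈ N := by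
    intro g
    have := mul_mem hh (hN.conj_mem _ (inv_mem hh) g)
    rwa [show h * (g * h⁻¹ * g⁻¹) = h * g * h⁻¹ * g⁻¹ by group] at this
  have hω' : ω + 1 ≠ 0 := fun h => hω (FieldAux.eq_of_add_eq_zero h)
  have h1 : ∀ u, x u ∈ N := by
    intro u
    have := key (x ((ω + 1)⁻¹ * u))
    rw [hx, mul_inv_cancel_right, L.x_inv, ← L.x_add] at this
    rwa [show ω * ((ω + 1)⁻¹ * u) + (ω + 1)⁻¹ * u = ((ω + 1) * (ω + 1)⁻¹) * u by ring,
      mul_inv_cancel₀ hω', one_mul] at this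
  have h2 : ∀ u, p u ∈ N := by
    intro u
    have := key (p ((ω + 1)⁻¹ * u))
    obtain ⟨k, hk⟩ := L.p_add (ω * ((ω + 1)⁻¹ * u)) ((ω + 1)⁻¹ * u)
    rw [hp, mul_inv_cancel_right, L.p_inv, hk,
      show ω * ((ω + 1)⁻¹ * u) + (ω + 1)⁻¹ * u = ((ω + 1) * (ω + 1)⁻¹) * u by ring,
      mul_inv_cancel₀ hω', one_mul] at this
    have h3 := mul_mem this (inv_mem (h1 k))
    rwa [mul_inv_cancel_right] at h3
  rintro _ ⟨u, v, rfl⟩
  exact mul_mem (h2 u) (h1 v)

end Lay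

namespace Sys

variable {B : Base F G} (R : Sys B)

theorem card_Zh : Nat.card R.Zh = Nat.card F ^ 4 := by
  have e : Nat.card F ^ 4 = Nat.card ((F × F) × (F × F)) := by
    rw [Nat.card_prod, Nat.card_prod]; ring
  rw [e]
  refine (Nat.card_congr (Equiv.ofBijective
    (fun y : (F × F) × (F × F) => (⟨R.zh y.1.1 y.1.2 y.2.1 y.2.2, R.zh_mem _ _ _ _⟩ : R.Zh)) ⟨?_, ?_⟩)).symm
  · rintro ⟨⟨u, v⟩, u', v'⟩ ⟨⟨u1, v1⟩, u1', v1'⟩ h
    have h1 := R.zh_inj (Subtype.ext_iff.1 h)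
    exact Prod.ext (Prod.ext h1.1 h1.2.1) (Prod.ext h1.2.2.1 h1.2.2.2)
  · rintro ⟨_, m, k, r, l, rfl⟩
    exact ⟨((m, k), (r, l)), rfl⟩

theorem card_T : Nat.card R.T = Nat.card F ^ 8 := by
  have e : Nat.card F ^ 8 = Nat.card (R.la.grp × R.lb.grp × R.Zh) := by
    rw [Nat.card_prod, Nat.card_prod, R.la.card_grp, R.lb.card_grp, R.card_Zh]; ring
  rw [e]
  refine (Nat.card_congr (Equiv.ofBijective
    (fun y : R.la.grp × R.lb.grp × R.Zh => (⟨y.1 * y.2.1 * y.2.2,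
      ⟨y.1, y.1.2, y.2.1, y.2.1.2, y.2.2, y.2.2.2, rfl⟩⟩ : R.T)) ⟨?_, ?_⟩)).symm
  · rintro ⟨a, b, z⟩ ⟨a', b', z'⟩ h
    have h1 := R.inj a.2 b.2 z.2 a'.2 b'.2 z'.2 (Subtype.ext_iff.1 h)
    exact Prod.ext (Subtype.ext h1.1) (Prod.ext (Subtype.ext h1.2.1) (Subtype.ext h1.2.2))
  · rintro ⟨_, a, ha, b, hb, z, hz, rfl⟩
    exact ⟨(⟨a, ha⟩, ⟨b, hb⟩, ⟨z, hz⟩), rfl⟩

theorem cent_aux [Finite G] {X Y : Type*} {v : G} (f : X → G) (g : Y → G)
    (hf : Function.Injective f) (hg : Function.Injective g) (hf' : ∀ x, f x ∈ R.la.grp)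
    (hg' : ∀ x, g x ∈ R.lb.grp) (hv : v ∈ R.T) (hfv : ∀ x, Commute (f x) v) (hgv : ∀ x, Commute (g x) v) :
    Nat.card X * Nat.card Y * Nat.card R.Zh ≤ Nat.card ↥(R.T ⊓ Subgroup.centralizer {v}) := by
  rw [mul_assoc, ← Nat.card_prod, ← Nat.card_prod]
  refine Nat.card_le_card_of_injective
    (fun y : X × Y × R.Zh => (⟨f y.1 * g y.2.1 * y.2.2, ⟨⟨_, hf' _, _, hg' _, _, y.2.2.2, rfl⟩, ?_⟩⟩ :
      ↥(R.T ⊓ Subgroup.centralizer {v}))) ?_
  · change _ ∈ Subgroup.centralizer {v}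
    rw [Subgroup.mem_centralizer_singleton_iff]
    exact (((hfv y.1).mul_left (hgv y.2.1)).mul_left (R.Zh_T y.2.2.2 hv)).eq
  · rintro ⟨a, b, z⟩ ⟨a', b', z'⟩ h
    have h1 := R.inj (hf' a) (hg' b) z.2 (hf' a') (hg' b') z'.2 (Subtype.ext_iff.1 h)
    exact Prod.ext (hf h1.1) (Prod.ext (hg h1.2.1) (Subtype.ext h1.2.2))

theorem cent [Finite G] {v : G} (hv : v ∈ R.T) (h : v * v = 1) :
    Nat.card F ^ 6 ≤ Nat.card ↥(R.T ⊓ Subgroup.centralizer {v}) := by
  have hv0 := hv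
  obtain ⟨a, ha, b, hb, z, hz, e⟩ := hv
  have hZv : ∀ {g : G}, g ∈ R.Zh → Commute g v := fun hg => R.Zh_T hg hv0
  by_cases ha1 : a = 1
  · have h1 : ∀ x : R.lb.grp, Commute (x : G) v := by
      intro x
      rw [e, ha1, one_mul]
      exact (R.lb.comm x.2 hb).mul_right (R.Zh_b hz x.2).symm
    have h2 := R.cent_aux (X := Unit) (Y := R.lb.grp) (fun _ => 1) (fun x => x)
      (fun _ _ _ => rfl) Subtype.val_injective (fun _ => one_mem _) (fun x => x.2) hv0
      (fun _ => Commute.one_left _) h1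
    rw [R.lb.card_grp, R.card_Zh, Nat.card_unique (α := Unit), one_mul] at h2
    calc Nat.card F ^ 6 = Nat.card F ^ 2 * Nat.card F ^ 4 := by ring
      _ ≤ _ := h2
  by_cases hb1 : b = 1
  · have h1 : ∀ x : R.la.grp, Commute (x : G) v := by
      intro x
      rw [e, hb1, mul_one]
      exact (R.la.comm x.2 ha).mul_right (R.Zh_a hz x.2).symm
    have h2 := R.cent_aux (Y := Unit) (X := R.la.grp) (fun x => x) (fun _ => 1)
      Subtype.val_injective (fun _ _ _ => rfl) (fun x => x.2) (fun _ => one_mem _) hv0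
      h1 (fun _ => Commute.one_left _)
    rw [R.la.card_grp, R.card_Zh, Nat.card_unique (α := Unit), mul_one] at h2
    calc Nat.card F ^ 6 = Nat.card F ^ 2 * Nat.card F ^ 4 := by ring
      _ ≤ _ := h2
  -- `a` and `b` commute
  have hab : Commute a b := by
    have c1 := (R.Zh_T hz (mul_mem (R.a_le ha) (R.b_le hb))).eq
    have h1 : a * b * (a * b) = 1 := by
      rw [← h, e]
      calc a * b * (a * b) = a * b * (a * b) * (z * z) := by rw [R.Zh_sq hz, mul_one]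
        _ = a * b * ((a * b) * z) * z := by group
        _ = a * b * (z * (a * b)) * z := by rw [c1]
        _ = _ := by group
    have ia : a⁻¹ = a := inv_eq_of_mul_eq_one_right (R.la.sq ha)
    have ib : b⁻¹ = b := inv_eq_of_mul_eq_one_right (R.lb.sq hb)
    have h2 : a * b = (a * b)⁻¹ := (inv_eq_of_mul_eq_one_right h1).symm
    rw [commute_iff_eq, h2, mul_inv_rev, ia, ib]
  have ha0 := ha
  have hb0 := hb
  obtain ⟨u, w, ea⟩ := ha
  obtain ⟨s, r, eb⟩ := hb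
  have conja : ∀ x : F, Commute (R.pa (x * u) * B.xa (x * w)) b := by
    intro x
    by_cases hx : x = 0
    · rw [hx, zero_mul, zero_mul, ← R.la.one_form]; exact Commute.one_left _
    have h1 : B.h (Units.mk0 x hx) 1 * a = R.pa (x * u) * B.xa (x * w) * B.h (Units.mk0 x hx) 1 := by
      rw [ea, ← mul_assoc, R.h_pa, mul_assoc, B.h_xa, Units.val_mk0, ← mul_assoc]
    have h2 : B.h (Units.mk0 x hx) 1 * b = b * B.h (Units.mk0 x hx) 1 := by
      rw [eb, ← mul_assoc, R.h_pb, mul_assoc, B.h_xb, Units.val_one, one_mul, one_mul, ← mul_assoc]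
    have h3 : (R.pa (x * u) * B.xa (x * w) * b) * B.h (Units.mk0 x hx) 1 =
        (b * (R.pa (x * u) * B.xa (x * w))) * B.h (Units.mk0 x hx) 1 := by
      calc (R.pa (x * u) * B.xa (x * w) * b) * B.h (Units.mk0 x hx) 1
          = R.pa (x * u) * B.xa (x * w) * (b * B.h (Units.mk0 x hx) 1) := by group
        _ = (R.pa (x * u) * B.xa (x * w) * B.h (Units.mk0 x hx) 1) * b := by rw [← h2]; group
        _ = B.h (Units.mk0 x hx) 1 * (a * b) := by rw [← h1]; group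
        _ = (B.h (Units.mk0 x hx) 1 * b) * a := by rw [hab.eq]; group
        _ = b * (B.h (Units.mk0 x hx) 1 * a) := by rw [h2]; group
        _ = _ := by rw [h1]; group
    exact mul_right_cancel h3
  have conjb : ∀ x : F, Commute (R.pb (x * s) * B.xb (x * r)) a := by
    intro x
    by_cases hx : x = 0
    · rw [hx, zero_mul, zero_mul, ← R.lb.one_form]; exact Commute.one_left _
    have h1 : B.h 1 (Units.mk0 x hx) * b = R.pb (x * s) * B.xb (x * r) * B.h 1 (Units.mk0 x hx) := by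
      rw [eb, ← mul_assoc, R.h_pb, mul_assoc, B.h_xb, Units.val_mk0, ← mul_assoc]
    have h2 : B.h 1 (Units.mk0 x hx) * a = a * B.h 1 (Units.mk0 x hx) := by
      rw [ea, ← mul_assoc, R.h_pa, mul_assoc, B.h_xa, Units.val_one, one_mul, one_mul, ← mul_assoc]
    have h3 : (R.pb (x * s) * B.xb (x * r) * a) * B.h 1 (Units.mk0 x hx) =
        (a * (R.pb (x * s) * B.xb (x * r))) * B.h 1 (Units.mk0 x hx) := by
      calc (R.pb (x * s) * B.xb (x * r) * a) * B.h 1 (Units.mk0 x hx)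
          = R.pb (x * s) * B.xb (x * r) * (a * B.h 1 (Units.mk0 x hx)) := by group
        _ = (R.pb (x * s) * B.xb (x * r) * B.h 1 (Units.mk0 x hx)) * a := by rw [← h2]; group
        _ = B.h 1 (Units.mk0 x hx) * (b * a) := by rw [← h1]; group
        _ = (B.h 1 (Units.mk0 x hx) * a) * b := by rw [← hab.eq]; group
        _ = a * (B.h 1 (Units.mk0 x hx) * b) := by rw [h2]; group
        _ = _ := by rw [h1]; group
    exact mul_right_cancel h3
  have h2 := R.cent_aux (X := F) (Y := F) (v := v) (fun x => R.pa (x * u) * B.xa (x * w))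
    (fun x => R.pb (x * s) * B.xb (x * r)) ?_ ?_ (fun x => R.la.form_mem _ _) (fun x => R.lb.form_mem _ _) hv0
    (fun x => ?_) (fun x => ?_)
  · rw [R.card_Zh] at h2
    calc Nat.card F ^ 6 = Nat.card F * Nat.card F * Nat.card F ^ 4 := by ring
      _ ≤ _ := h2
  · intro x y hxy
    have h3 := R.la.inj hxy
    by_cases hu : u = 0
    · by_cases hw : w = 0
      · exact absurd (by rw [ea, hu, hw, ← R.la.one_form]) ha1
      · exact mul_right_cancel₀ hw h3.2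
    · exact mul_right_cancel₀ hu h3.1
  · intro x y hxy
    have h3 := R.lb.inj hxy
    by_cases hu : s = 0
    · by_cases hw : r = 0
      · exact absurd (by rw [eb, hu, hw, ← R.lb.one_form]) hb1
      · exact mul_right_cancel₀ hw h3.2
    · exact mul_right_cancel₀ hu h3.1
  · rw [e]
    exact ((R.la.comm (R.la.form_mem _ _) ha0).mul_right (conja x)).mul_right
      (R.Zh_a hz (R.la.form_mem _ _)).symm
  · rw [e]
    exact ((conjb x).mul_right (R.lb.comm (R.lb.form_mem _ _) hb0)).mul_right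
      (R.Zh_b hz (R.lb.form_mem _ _)).symm

theorem gen [Fintype F] (hF : 4 ≤ Fintype.card F) {N : Subgroup G} (hN : N.Normal)
    (h : ∀ α β, B.h α β ∈ N) : R.T ≤ N := by
  obtain ⟨ω, hω0, hω1⟩ := FieldAux.exists_ne hF
  set w := Units.mk0 ω hω0 with hw
  have hw1 : (w : F) ≠ 1 := hω1
  have h1 : R.la.grp ≤ N := R.la.le_normal (h w 1) hw1 (fun u => B.h_xa w 1 u) (fun u => R.h_pa w 1 u)
  have h2 : R.lb.grp ≤ N := R.lb.le_normal (h 1 w) hw1 (fun u => B.h_xb 1 w u) (fun u => R.h_pb 1 w u)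
  have h3 : R.ls.grp ≤ N := R.ls.le_normal (h w 1) hw1
    (fun u => by have := B.h_zs w 1 u; rwa [Units.val_one, mul_one] at this)
    (fun u => by have := R.h_ps w 1 u; rwa [Units.val_one, mul_one] at this)
  have h4 : R.ll.grp ≤ N := R.ll.le_normal (h 1 w) hw1
    (fun u => by have := B.h_zl 1 w u; rwa [Units.val_one, one_pow, one_mul] at this)
    (fun u => by have := R.h_pl 1 w u; rwa [Units.val_one, one_pow, one_mul] at this)
  rintro _ ⟨a, ha, b, hb, _, ⟨m, k, r, l, rfl⟩, rfl⟩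
  exact mul_mem (mul_mem (h1 ha) (h2 hb)) (mul_mem (h3 (R.ls.form_mem m k)) (h4 (R.ll.form_mem r l)))

end Sys

/-- The output of case (A). -/
structure Out (q : ℕ) (t : G) (T : Subgroup G) : Prop where
  card : Nat.card T = q ^ 8
  tt : t * t = 1
  t_norm : ∀ g ∈ T, t * g * t ∈ T
  t_notMem : t ∉ T
  class_two : ∀ x ∈ T, ∀ y ∈ T, ∀ z ∈ T, Commute ⁅x, y⁆ z
  nonab : ∃ x ∈ T, ∃ y ∈ T, x * y ≠ y * x
  cent : ∀ v ∈ T, v * v = 1 → q ^ 6 ≤ Nat.card ↥(T ⊓ Subgroup.centralizer {v})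
  inv : ∀ v ∈ T, t * v * (t * v) = 1 → ∃ w ∈ T, w * t * w⁻¹ = t * v

theorem Sys.out [Finite G] {B : Base F G} (R : Sys B) : Out (Nat.card F) B.t R.T where
  card := R.card_T
  tt := B.tt
  t_norm := fun _ hg => R.t_norm hg
  t_notMem := R.t_notMem
  class_two := fun _ hx _ hy _ hz => R.class_two hx hy hz
  nonab := R.nonab
  cent := fun _ hv h => R.cent hv h
  inv := fun _ hv h => R.inv_coset hv h

end EndA
end Cfsg.Agent.StdSpFour
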