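import Cfsg.Agent.StdSpFour.EndALay

/-!
S1778, type Sp₄(q), case (A): the second layers over the four positive root groups, the elementary abelian
group `Ẑ` of order `q⁴`, and the commutator `[p_a, p_b] ∈ Ẑ`.
-/
set_option autoImplicit false
set_option linter.unusedSectionVars false

namespace Cfsg.Agent.StdSpFour
namespace EndA

variable {F G : Type*} [Field F] [CharP F 2] [Group G]

/-- The relations of case (A) for the second layers over the four positive root groups. -/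
structure RelA (B : Base F G) where
  pa : F → G
  pb : F → G
  ps : F → G
  pl : F → G
  la : Lay B.t B.xa pa
  lb : Lay B.t B.xb pb
  ls : Lay B.t B.zs ps
  ll : Lay B.t B.zl pl
  ps_xa : ∀ m u, Commute (ps m) (B.xa u)
  ps_xb : ∀ m u, Commute (ps m) (B.xb u)
  ps_zl : ∀ m u, Commute (ps m) (B.zl u)
  pl_xa : ∀ m u, Commute (pl m) (B.xa u)
  pl_xb : ∀ m u, Commute (pl m) (B.xb u)
  pl_zs : ∀ m u, Commute (pl m) (B.zs u)
  ps_pl : ∀ m r, Commute (ps m) (pl r)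
  pa_zs : ∀ u m, Commute (pa u) (B.zs m)
  pa_zl : ∀ u m, Commute (pa u) (B.zl m)
  pb_zs : ∀ u m, Commute (pb u) (B.zs m)
  pb_zl : ∀ u m, Commute (pb u) (B.zl m)
  pa_ps : ∀ u m, Commute (pa u) (ps m)
  pa_pl : ∀ u m, Commute (pa u) (pl m)
  pb_ps : ∀ u m, Commute (pb u) (ps m)
  pb_pl : ∀ u m, Commute (pb u) (pl m)
  pa_xb : ∀ u s, ∃ k l, pa u * B.xb s =
    B.xb s * pa u * (ps (u * s) * B.zs k * (pl (u ^ 2 * s) * B.zl l))
  xa_pb : ∀ u s, ∃ k l, B.xa u * pb s =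
    pb s * B.xa u * (ps (u * s) * B.zs k * (pl (u ^ 2 * s) * B.zl l))
  h_pa : ∀ (α β : Fˣ) u, B.h α β * pa u = pa (α * u) * B.h α β
  h_pb : ∀ (α β : Fˣ) u, B.h α β * pb u = pb (β * u) * B.h α β
  h_ps : ∀ (α β : Fˣ) u, B.h α β * ps u = ps (α * β * u) * B.h α β
  h_pl : ∀ (α β : Fˣ) u, B.h α β * pl u = pl (α ^ 2 * β * u) * B.h α β

namespace RelA

variable {B : Base F G} (R : RelA B)

/-- the elements of `Ẑ` -/
def zh (m k r l : F) : G := R.ps m * B.zs k * (R.pl r * B.zl l)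

theorem ls_ll (m k r l : F) : Commute (R.ps m * B.zs k) (R.pl r * B.zl l) :=
  ((R.ps_pl m r).mul_right (R.ps_zl m l)).mul_left ((R.pl_zs r k).symm.mul_right (B.zs_zl k l))

theorem zh_sq (m k r l : F) : R.zh m k r l * R.zh m k r l = 1 := by
  unfold zh
  calc R.ps m * B.zs k * (R.pl r * B.zl l) * (R.ps m * B.zs k * (R.pl r * B.zl l))
      = R.ps m * B.zs k * ((R.pl r * B.zl l) * (R.ps m * B.zs k)) * (R.pl r * B.zl l) := by group
    _ = (R.ps m * B.zs k * (R.ps m * B.zs k)) * ((R.pl r * B.zl l) * (R.pl r * B.zl l)) := by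
        rw [← (R.ls_ll m k r l).eq]; group
    _ = 1 := by rw [R.ls.sq_form, R.ll.sq_form, one_mul]

theorem zh_inv (m k r l : F) : (R.zh m k r l)⁻¹ = R.zh m k r l := inv_eq_of_mul_eq_one_right (R.zh_sq m k r l)

theorem zh_mul (m k r l m' k' r' l' : F) :
    ∃ k'' l'', R.zh m k r l * R.zh m' k' r' l' = R.zh (m + m') k'' (r + r') l'' := by
  obtain ⟨k1, h1⟩ := R.ls.mul_form m k m' k'
  obtain ⟨l1, h2⟩ := R.ll.mul_form r l r' l'
  refine ⟨k1, l1, ?_⟩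
  unfold zh
  rw [← h1, ← h2]
  calc R.ps m * B.zs k * (R.pl r * B.zl l) * (R.ps m' * B.zs k' * (R.pl r' * B.zl l'))
      = R.ps m * B.zs k * ((R.pl r * B.zl l) * (R.ps m' * B.zs k')) * (R.pl r' * B.zl l') := by group
    _ = _ := by rw [← (R.ls_ll m' k' r l).eq]; group

theorem zh_zero : R.zh 0 0 0 0 = 1 := by
  unfold zh
  rw [← R.ls.one_form, ← R.ll.one_form, one_mul]

theorem zh_zs_zl (k l : F) : R.zh 0 k 0 l = B.zs k * B.zl l := by
  unfold zh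
  rw [R.ls.p_zero, R.ll.p_zero, one_mul, one_mul]

/-- the group `Ẑ` -/
def Zh : Subgroup G where
  carrier := {g | ∃ m k r l, g = R.zh m k r l}
  mul_mem' := by
    rintro _ _ ⟨m, k, r, l, rfl⟩ ⟨m', k', r', l', rfl⟩
    obtain ⟨k'', l'', h⟩ := R.zh_mul m k r l m' k' r' l'
    exact ⟨_, _, _, _, h⟩
  one_mem' := ⟨0, 0, 0, 0, R.zh_zero.symm⟩
  inv_mem' := by
    rintro _ ⟨m, k, r, l, rfl⟩
    exact ⟨_, _, _, _, R.zh_inv m k r l⟩

theorem mem_Zh {g : G} : g ∈ R.Zh ↔ ∃ m k r l, g = R.zh m k r l := Iff.rfl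

theorem zh_mem (m k r l : F) : R.zh m k r l ∈ R.Zh := ⟨m, k, r, l, rfl⟩

theorem zh_xa (m k r l u : F) : Commute (R.zh m k r l) (B.xa u) :=
  ((R.ps_xa m u).mul_left (B.xa_zs u k).symm).mul_left ((R.pl_xa r u).mul_left (B.xa_zl u l).symm)

theorem zh_xb (m k r l u : F) : Commute (R.zh m k r l) (B.xb u) :=
  ((R.ps_xb m u).mul_left (B.xb_zs u k).symm).mul_left ((R.pl_xb r u).mul_left (B.xb_zl u l).symm)

theorem zh_pa (m k r l u : F) : Commute (R.zh m k r l) (R.pa u) :=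
  ((R.pa_ps u m).symm.mul_left (R.pa_zs u k).symm).mul_left
    ((R.pa_pl u r).symm.mul_left (R.pa_zl u l).symm)

theorem zh_pb (m k r l u : F) : Commute (R.zh m k r l) (R.pb u) :=
  ((R.pb_ps u m).symm.mul_left (R.pb_zs u k).symm).mul_left
    ((R.pb_pl u r).symm.mul_left (R.pb_zl u l).symm)

theorem zh_zh (m k r l m' k' r' l' : F) : Commute (R.zh m k r l) (R.zh m' k' r' l') := by
  obtain ⟨k1, l1, h⟩ := R.zh_mul m k r l m' k' r' l'
  have h1 : (R.zh m k r l * R.zh m' k' r' l')⁻¹ = R.zh m k r l * R.zh m' k' r' l' := by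
    rw [h, R.zh_inv]
  rw [commute_iff_eq, ← h1, mul_inv_rev, R.zh_inv, R.zh_inv]

theorem Zh_comm {g g' : G} (h : g ∈ R.Zh) (h' : g' ∈ R.Zh) : Commute g g' := by
  obtain ⟨m, k, r, l, rfl⟩ := h
  obtain ⟨m', k', r', l', rfl⟩ := h'
  exact R.zh_zh _ _ _ _ _ _ _ _

theorem Zh_sq {g : G} (h : g ∈ R.Zh) : g * g = 1 := by
  obtain ⟨m, k, r, l, rfl⟩ := h
  exact R.zh_sq _ _ _ _

theorem Zh_a {g a : G} (h : g ∈ R.Zh) (ha : a ∈ R.la.grp) : Commute g a := by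
  obtain ⟨m, k, r, l, rfl⟩ := h
  obtain ⟨u, v, rfl⟩ := ha
  exact (R.zh_pa _ _ _ _ _).mul_right (R.zh_xa _ _ _ _ _)

theorem Zh_b {g b : G} (h : g ∈ R.Zh) (hb : b ∈ R.lb.grp) : Commute g b := by
  obtain ⟨m, k, r, l, rfl⟩ := h
  obtain ⟨u, v, rfl⟩ := hb
  exact (R.zh_pb _ _ _ _ _).mul_right (R.zh_xb _ _ _ _ _)

/-- `t ζ = ζ t z_s z_l` -/
theorem t_zh (m k r l : F) : B.t * R.zh m k r l = R.zh m k r l * B.t * (B.zs m * B.zl r) := by
  unfold zh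
  have h3 : Commute (B.zs m) (R.pl r * B.zl l) := (R.pl_zs r m).symm.mul_right (B.zs_zl m l)
  calc B.t * (R.ps m * B.zs k * (R.pl r * B.zl l))
      = (B.t * (R.ps m * B.zs k)) * (R.pl r * B.zl l) := by group
    _ = R.ps m * B.zs k * B.t * (B.zs m * (R.pl r * B.zl l)) := by rw [R.ls.t_form]; group
    _ = R.ps m * B.zs k * (B.t * (R.pl r * B.zl l)) * B.zs m := by rw [h3.eq]; group
    _ = R.ps m * B.zs k * (R.pl r * B.zl l) * B.t * (B.zl r * B.zs m) := by rw [R.ll.t_form]; group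
    _ = _ := by rw [← (B.zs_zl m r).eq]

theorem zt_comm (m r : F) : Commute B.t (B.zs m * B.zl r) := (B.t_zs m).mul_right (B.t_zl r)

/-- `t ζ t = ζ z_s z_l` -/
theorem tt_zh (m k r l : F) : B.t * R.zh m k r l * B.t = R.zh m k r l * (B.zs m * B.zl r) := by
  rw [R.t_zh, mul_assoc _ (B.zs m * B.zl r), ← (zt_comm m r).eq, ← mul_assoc, mul_assoc _ B.t B.t, B.tt, mul_one]

/-- `ζ t ζ⁻¹ = t z_s z_l` -/
theorem conj_zh (m k r l : F) : R.zh m k r l * B.t * (R.zh m k r l)⁻¹ = B.t * (B.zs m * B.zl r) := by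
  have h0 : B.zs m * B.zl r * (B.zs m * B.zl r) = 1 := by
    have := R.zh_sq 0 m 0 r
    rwa [R.zh_zs_zl] at this
  have h1 := R.t_zh m k r l
  have h2 : R.zh m k r l * B.t = B.t * R.zh m k r l * (B.zs m * B.zl r) := by
    rw [h1, mul_assoc _ (B.zs m * B.zl r), h0, mul_one]
  have h3 : Commute (R.zh m k r l) (B.zs m * B.zl r) := by
    rw [← R.zh_zs_zl]; exact R.zh_zh _ _ _ _ _ _ _ _
  rw [h2, mul_assoc B.t, h3.eq]
  group

/-- `x y = y x` modulo `Ẑ` -/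
def Com (x y : G) : Prop := ∃ ζ ∈ R.Zh, x * y = y * x * ζ

theorem Com.of_commute {x y : G} (h : Commute x y) : R.Com x y := ⟨1, R.Zh.one_mem, by rw [mul_one]; exact h.eq⟩

variable {R}

theorem Com.mul_right {x y y' : G} (h : R.Com x y) (h' : R.Com x y') (hy : ∀ ζ ∈ R.Zh, Commute ζ y') :
    R.Com x (y * y') := by
  obtain ⟨ζ, hζ, e⟩ := h
  obtain ⟨ζ', hζ', e'⟩ := h'
  refine ⟨ζ' * ζ, mul_mem hζ' hζ, ?_⟩
  calc x * (y * y') = (x * y) * y' := by group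
    _ = y * x * (ζ * y') := by rw [e]; group
    _ = y * (x * y') * ζ := by rw [(hy ζ hζ).eq]; group
    _ = y * y' * x * (ζ' * ζ) := by rw [e']; group

theorem Com.mul_left {x x' y : G} (h : R.Com x y) (h' : R.Com x' y) (hx : ∀ ζ ∈ R.Zh, Commute ζ x') :
    R.Com (x * x') y := by
  obtain ⟨ζ, hζ, e⟩ := h
  obtain ⟨ζ', hζ', e'⟩ := h'
  refine ⟨ζ * ζ', mul_mem hζ hζ', ?_⟩
  calc x * x' * y = x * (x' * y) := by group
    _ = (x * y) * x' * ζ' := by rw [e']; group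
    _ = y * x * (ζ * x') * ζ' := by rw [e]; group
    _ = y * (x * x') * (ζ * ζ') := by rw [(hx ζ hζ).eq]; group

variable (R)

theorem pa_xb' (u s : F) : R.Com (R.pa u) (B.xb s) := by
  obtain ⟨k, l, h⟩ := R.pa_xb u s
  exact ⟨_, R.zh_mem _ _ _ _, h⟩

theorem xa_pb' (u s : F) : R.Com (B.xa u) (R.pb s) := by
  obtain ⟨k, l, h⟩ := R.xa_pb u s
  exact ⟨_, R.zh_mem _ _ _ _, h⟩

theorem xa_xb' (u s : F) : R.Com (B.xa u) (B.xb s) := by
  refine ⟨_, R.zh_mem 0 (u * s) 0 (u ^ 2 * s), ?_⟩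
  rw [R.zh_zs_zl, B.xa_xb]
  group

end RelA
end EndA
end Cfsg.Agent.StdSpFour
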