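import Cfsg.Agent.StdSpFour.Env

/-!
`Env (swap B) A` from `Env B A`.
-/
set_option autoImplicit false
set_option linter.unusedSectionVars false

open Subgroup Pointwise
open scoped commutatorElement

namespace Cfsg.Agent.StdSpFour

open Swap Env

namespace EnvSwap

variable {F G : Type*} [Field F] [CharP F 2] [Finite F] [Group G] {B : Base F G} {A : Subgroup G}

theorem isU_swap {g : G} : IsU (swap B) g ↔ IsU B g := by
  constructor
  · rintro ⟨u, s, m, r, h⟩
    refine ⟨rt s, u, rt s * u + rt r, rt s ^ 2 * u + m, ?_⟩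
    rw [h]
    show B.xb u * (B.xa (rt s) * B.zl m * B.zs (rt r)) = B.xa (rt s) * (B.xb u * B.zs _ * B.zl _)
    have := norm_eq B u (rt s) m (rt r)
    calc B.xb u * (B.xa (rt s) * B.zl m * B.zs (rt r)) = B.xb u * B.xa (rt s) * B.zl m * B.zs (rt r) := by group
      _ = _ := by rw [this]; group
  · rintro ⟨u, s, m, r, h⟩
    refine ⟨s, u ^ 2, u ^ 2 * s + r, (u * s + m) ^ 2, ?_⟩
    rw [h]
    show B.xa u * (B.xb s * B.zs m * B.zl r) =
      B.xb s * (B.xa (rt (u ^ 2)) * B.zl (u ^ 2 * s + r) * B.zs (rt ((u * s + m) ^ 2)))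
    have h1 := norm_eq B s u (u ^ 2 * s + r) (u * s + m)
    rw [rt_sq, rt_sq]
    have e1 : u * s + (u * s + m) = m := by
      rw [← add_assoc, CharTwo.add_self_eq_zero, zero_add]
    have e2 : u ^ 2 * s + (u ^ 2 * s + r) = r := by
      rw [← add_assoc, CharTwo.add_self_eq_zero, zero_add]
    rw [e1, e2] at h1
    calc B.xa u * (B.xb s * B.zs m * B.zl r) = B.xa u * B.xb s * B.zs m * B.zl r := by group
      _ = _ := by rw [← h1]; group

theorem weyl_swap (h : Weyl B) : Weyl (swap B) where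
  na_sq := h.nb_sq
  nb_sq := h.na_sq
  na_xa := h.nb_xb
  nb_xb := by
    show (B.na * B.xa (rt 1)) ^ 3 = 1
    rw [rt_one]; exact h.na_xa
  braid := by
    show (B.nb * B.na) ^ 4 = 1
    have h1 : (B.nb * B.na) ^ 4 = B.na⁻¹ * (B.na * B.nb) ^ 4 * B.na := by
      simp only [pow_succ, pow_zero, one_mul]; group
    rw [h1, h.braid, mul_one, inv_mul_cancel]

theorem braid' (h : Weyl B) : B.na * B.nb * B.na * B.nb = B.nb * B.na * B.nb * B.na := by
  have hna : B.na⁻¹ = B.na := inv_eq_of_mul_eq_one_right h.na_sq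
  have hnb : B.nb⁻¹ = B.nb := inv_eq_of_mul_eq_one_right h.nb_sq
  have h1 : (B.na * B.nb * B.na * B.nb) * (B.na * B.nb * B.na * B.nb) = 1 := by
    rw [← h.braid]
    simp only [pow_succ, pow_zero, one_mul]; group
  have h2 := eq_inv_of_mul_eq_one_left h1
  rw [h2]
  simp only [mul_inv_rev, hna, hnb, mul_assoc]

theorem isW_swap (h : Weyl B) {n : G} (hn : IsW B n) : IsW (swap B) n := by
  rcases hn with rfl | rfl | rfl | rfl | rfl | rfl | rfl | rfl
  · exact Or.inl rfl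
  · exact Or.inr (Or.inr (Or.inl rfl))
  · exact Or.inr (Or.inl rfl)
  · exact Or.inr (Or.inr (Or.inr (Or.inr (Or.inl rfl))))
  · exact Or.inr (Or.inr (Or.inr (Or.inl rfl)))
  · exact Or.inr (Or.inr (Or.inr (Or.inr (Or.inr (Or.inr (Or.inl rfl))))))
  · exact Or.inr (Or.inr (Or.inr (Or.inr (Or.inr (Or.inl rfl)))))
  · exact Or.inr (Or.inr (Or.inr (Or.inr (Or.inr (Or.inr (Or.inr (braid' h)))))))

theorem env_swap (hE : Env B A) : Env (swap B) A where
  weyl := weyl_swap hE.weyl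
  self := swap_self B hE.self
  xa_mem := fun u => hE.xb_mem u
  xb_mem := fun u => hE.xa_mem _
  zs_mem := fun u => hE.zl_mem u
  zl_mem := fun u => hE.zs_mem _
  na_mem := hE.nb_mem
  nb_mem := hE.na_mem
  h_mem := fun α β => hE.h_mem _ _
  comm := hE.comm
  t_nm := hE.t_nm
  maxA := hE.maxA
  bruhat := by
    intro g hg
    obtain ⟨u, hu, α, β, n, hn, u', hu', h⟩ := hE.bruhat g hg
    refine ⟨u, isU_swap.2 hu, β, α ^ 2, n, isW_swap hE.weyl hn, u', isU_swap.2 hu', ?_⟩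
    rw [h]
    show _ = u * B.h (rtU (α ^ 2)) β * n * u'
    rw [rtU_sq]
  syl := fun Q h1 h2 h3 x hx => isU_swap.2 (hE.syl Q h1 h2 (fun u hu => h3 u (isU_swap.2 hu)) x hx)
  conjU := by
    intro x hx h1
    obtain ⟨a, ha, h2⟩ := hE.conjU x hx h1
    exact ⟨a, ha, isU_swap.2 h2⟩

end EnvSwap

end Cfsg.Agent.StdSpFour
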