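import Cfsg.Agent.StdSpFour.Mover
import Mathlib.GroupTheory.PGroup
import Mathlib.GroupTheory.Commutator.Basic
import Mathlib.Algebra.Group.Subgroup.Pointwise
import Mathlib.GroupTheory.Subgroup.Centralizer
import Mathlib.SetTheory.Cardinal.NatCard

/-!
The fusion lemma: if `t` is conjugate to `t z` with `1 ≠ z ∈ Z_s`, then some element normalising
`P₁ = C_A(Z_s)^∞ = V₁L₁`, `Z_s = Z(P₁)` and `V₁ = O₂(P₁)` moves `t` inside `t Z_s`: a `Mover`.
-/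
set_option autoImplicit false
set_option linter.unusedSectionVars false

open Subgroup Pointwise

namespace Cfsg.Agent.StdSpFour

variable {F G : Type*} [Field F] [CharP F 2] [Group G]

/-- The facts on the parabolic residuals used in the fusion lemma. `P1` belongs to `Z_s`, `P2` to `Z_l`. -/
structure PFacts (B : Base F G) (P1 P2 A : Subgroup G) : Prop where
  perf1 : ⁅P1, P1⁆ = P1
  t1 : ∀ x ∈ P1, Commute x B.t
  z1 : ∀ x ∈ P1, ∀ w, Commute x (B.zs w)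
  max1 : ∀ w, w ≠ 0 → ∀ Q : Subgroup G, ⁅Q, Q⁆ = Q → (∀ x ∈ Q, Commute x B.t) →
    (∀ x ∈ Q, Commute x (B.zs w)) → Q ≤ P1
  max2 : ∀ w, w ≠ 0 → ∀ Q : Subgroup G, ⁅Q, Q⁆ = Q → (∀ x ∈ Q, Commute x B.t) →
    (∀ x ∈ Q, Commute x (B.zl w)) → Q ≤ P2
  mixed : ∀ w w', w ≠ 0 → w' ≠ 0 → ∀ Q : Subgroup G, ⁅Q, Q⁆ = Q → (∀ x ∈ Q, Commute x B.t) →
    (∀ x ∈ Q, Commute x (B.zs w * B.zl w')) → Q ≤ ⊥
  maxA : ∀ Q : Subgroup G, ⁅Q, Q⁆ = Q → (∀ x ∈ Q, Commute x B.t) → Q ≤ A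
  tA : ∀ x ∈ A, Commute x B.t
  inv : ∀ x ∈ A, x * x = 1 → x ≠ 1 → ∃ a ∈ A, ∃ w w', (w ≠ 0 ∨ w' ≠ 0) ∧ a⁻¹ * x * a = B.zs w * B.zl w'
  perf2 : ⁅P2, P2⁆ = P2
  t2 : ∀ x ∈ P2, Commute x B.t
  zs_mem : ∀ w, B.zs w ∈ P1
  center1 : ∀ x ∈ P1, (∀ y ∈ P1, Commute x y) → ∃ m, x = B.zs m
  center2 : ∀ w, ∀ x ∈ P2, Commute x (B.zl w)
  zl_mem : ∀ w, B.zl w ∈ P2
  v_mem : ∀ s m r, B.v1 s m r ∈ P1
  v_norm : ∀ x ∈ P1, ∀ s m r, ∃ s' m' r', x⁻¹ * B.v1 s m r * x = B.v1 s' m' r'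
  o2 : ∀ W : Subgroup G, W ≤ P1 → (∀ x ∈ P1, ∀ y ∈ W, x⁻¹ * y * x ∈ W) → (∀ y ∈ W, ∃ k : ℕ, y ^ 2 ^ k = 1) →
    ∀ y ∈ W, ∃ s m r, y = B.v1 s m r
  h2 : ∀ (α β : Fˣ), ∀ x ∈ P2, B.h α β * x * (B.h α β)⁻¹ ∈ P2
  split : ∀ x ∈ P1, ∃ l ∈ closure ({B.na} ∪ Set.range B.xa : Set G), ∃ s m r, x = l * B.v1 s m r
  l1 : closure ({B.na} ∪ Set.range B.xa : Set G) ≤ P1
  tor : ∀ α : Fˣ, B.h α α⁻¹ ∈ closure ({B.na} ∪ Set.range B.xa : Set G)

namespace PFacts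

variable {B : Base F G} {P1 P2 A : Subgroup G}

theorem conj_mem_iff {g x : G} {P : Subgroup G} : x ∈ MulAut.conj g • P ↔ g⁻¹ * x * g ∈ P := by
  rw [Subgroup.mem_pointwise_smul_iff_inv_smul_mem]
  simp [MulAut.smul_def]

theorem perf_conj {g : G} {P : Subgroup G} (h : ⁅P, P⁆ = P) :
    ⁅MulAut.conj g • P, MulAut.conj g • P⁆ = MulAut.conj g • P := by
  have h1 := Subgroup.map_commutator P P (MulAut.conj g).toMonoidHom
  rw [h] at h1
  exact h1.symm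

theorem eq_of_conj_le' [Finite G] {g : G} {P Q : Subgroup G} (h : ∀ x ∈ P, g⁻¹ * x * g ∈ Q)
    (h' : ∀ x ∈ Q, g * x * g⁻¹ ∈ P) : ∀ x, g⁻¹ * x * g ∈ Q ↔ x ∈ P := by
  intro x
  refine ⟨fun hx => ?_, h x⟩
  have := h' _ hx
  rwa [show g * (g⁻¹ * x * g) * g⁻¹ = x by group] at this

theorem eq_of_conj_le [Finite G] {g : G} {P Q : Subgroup G} (hc : Nat.card P = Nat.card Q)
    (h : ∀ x ∈ P, g⁻¹ * x * g ∈ Q) : ∀ x, g⁻¹ * x * g ∈ Q ↔ x ∈ P := by
  have h1 : P ≤ MulAut.conj g • Q := fun x hx => conj_mem_iff.2 (h x hx)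
  have h2 : P = MulAut.conj g • Q := by
    apply Subgroup.eq_of_le_of_card_ge h1
    rw [hc]
    exact (Nat.card_congr (Subgroup.equivSMul (MulAut.conj g) Q).toEquiv).symm.le
  intro x
  rw [← conj_mem_iff, ← h2]

/-- `n` normalises `P1`: then it is a mover as soon as it moves `t` inside `t Z_s`. -/
theorem mover_of_norm [Finite G] (hP : PFacts B P1 P2 A) {n : G} (hn : ∀ x, n⁻¹ * x * n ∈ P1 ↔ x ∈ P1)
    {w : F} (hw : w ≠ 0) (ht : n * B.t * n⁻¹ = B.t * B.zs w) :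
    B.Mover (closure ({B.na} ∪ Set.range B.xa : Set G) : Set G) n := by
  have hn' : ∀ x, n * x * n⁻¹ ∈ P1 ↔ x ∈ P1 := by
    intro x
    rw [← hn (n * x * n⁻¹)]
    rw [show n⁻¹ * (n * x * n⁻¹) * n = x by group]
  have hcomm : ∀ {x y : G}, Commute x y → Commute (n⁻¹ * x * n) (n⁻¹ * y * n) := by
    intro x y h
    show n⁻¹ * x * n * (n⁻¹ * y * n) = n⁻¹ * y * n * (n⁻¹ * x * n)
    calc n⁻¹ * x * n * (n⁻¹ * y * n) = n⁻¹ * (x * y) * n := by group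
      _ = _ := by rw [h.eq]; group
  have hzs : ∀ m, ∃ m', n⁻¹ * B.zs m * n = B.zs m' := by
    intro m
    refine hP.center1 _ ((hn _).2 (hP.zs_mem m)) ?_
    intro y hy
    have h1 : y = n⁻¹ * (n * y * n⁻¹) * n := by group
    rw [h1]
    exact hcomm (hP.z1 _ ((hn' y).2 hy) m).symm
  have hv' : ∀ s m r, ∃ s' m' r', n⁻¹ * B.v1 s m r * n = B.v1 s' m' r' := by
    intro s m r
    -- the conjugate of `V₁`
    let V : Subgroup G :=
      { carrier := {x | ∃ s m r, x = n⁻¹ * B.v1 s m r * n}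
        mul_mem' := by
          rintro _ _ ⟨s, m, r, rfl⟩ ⟨s', m', r', rfl⟩
          exact ⟨s + s', m + m', r + r', by rw [← B.v1_mul]; group⟩
        one_mem' := ⟨0, 0, 0, by rw [B.v1_zero]; group⟩
        inv_mem' := by
          rintro _ ⟨s, m, r, rfl⟩
          refine ⟨s, m, r, ?_⟩
          nth_rw 2 [← B.v1_inv]
          group }
    refine hP.o2 V ?_ ?_ ?_ _ ⟨s, m, r, rfl⟩
    · rintro _ ⟨s, m, r, rfl⟩
      exact (hn _).2 (hP.v_mem s m r)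
    · rintro x hx _ ⟨s, m, r, rfl⟩
      obtain ⟨s', m', r', h⟩ := hP.v_norm (n * x * n⁻¹) ((hn' x).2 hx) s m r
      refine ⟨s', m', r', ?_⟩
      rw [← h]; group
    · rintro _ ⟨s, m, r, rfl⟩
      refine ⟨1, ?_⟩
      rw [pow_one, sq]
      calc n⁻¹ * B.v1 s m r * n * (n⁻¹ * B.v1 s m r * n) = n⁻¹ * (B.v1 s m r * B.v1 s m r) * n := by group
        _ = 1 := by rw [B.v1_v1]; group
  have hv : ∀ s m r, ∃ s' m' r', n * B.v1 s m r * n⁻¹ = B.v1 s' m' r' := by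
    intro s m r
    let V : Subgroup G :=
      { carrier := {x | ∃ s m r, x = n * B.v1 s m r * n⁻¹}
        mul_mem' := by
          rintro _ _ ⟨s, m, r, rfl⟩ ⟨s', m', r', rfl⟩
          exact ⟨s + s', m + m', r + r', by rw [← B.v1_mul]; group⟩
        one_mem' := ⟨0, 0, 0, by rw [B.v1_zero]; group⟩
        inv_mem' := by
          rintro _ ⟨s, m, r, rfl⟩
          refine ⟨s, m, r, ?_⟩
          nth_rw 2 [← B.v1_inv]
          group }
    refine hP.o2 V ?_ ?_ ?_ _ ⟨s, m, r, rfl⟩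
    · rintro _ ⟨s, m, r, rfl⟩
      exact (hn' _).2 (hP.v_mem s m r)
    · rintro x hx _ ⟨s, m, r, rfl⟩
      obtain ⟨s', m', r', h⟩ := hP.v_norm (n⁻¹ * x * n) ((hn x).2 hx) s m r
      refine ⟨s', m', r', ?_⟩
      rw [← h]; group
    · rintro _ ⟨s, m, r, rfl⟩
      refine ⟨1, ?_⟩
      rw [pow_one, sq]
      calc n * B.v1 s m r * n⁻¹ * (n * B.v1 s m r * n⁻¹) = n * (B.v1 s m r * B.v1 s m r) * n⁻¹ := by group
        _ = 1 := by rw [B.v1_v1]; group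
  refine ⟨⟨w, hw, ht⟩, ?_, hzs, hv, hv', ?_⟩
  · obtain ⟨m', hm'⟩ := hzs w
    refine ⟨m', ?_⟩
    have h1 : B.t = n * B.t * n⁻¹ * B.zs w := by rw [ht, mul_assoc, B.zs_zs, mul_one]
    calc n⁻¹ * B.t * n = n⁻¹ * (n * B.t * n⁻¹ * B.zs w) * n := by rw [← h1]
      _ = B.t * (n⁻¹ * B.zs w * n) := by group
      _ = _ := by rw [hm']
  · intro l hl
    obtain ⟨l', hl', s, m, r, h⟩ := hP.split _ ((hn' l).2 (hP.l1 hl))
    exact ⟨l', hl', s, m, r, h⟩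

/-- **Fusion lemma.** -/
theorem exists_mover [Finite G] [Fintype F] (hF : 4 ≤ Fintype.card F) (hP : PFacts B P1 P2 A) {g : G} {w : F}
    (hw : w ≠ 0) (hg : g * B.t * g⁻¹ = B.t * B.zs w) :
    ∃ n, B.Mover (closure ({B.na} ∪ Set.range B.xa : Set G) : Set G) n := by
  have hzinj : ∀ {k : F}, B.zs k = 1 → k = 0 := by
    intro k h
    rw [← Base.v1_zs, ← B.v1_zero] at h
    exact (B.v1_inj h).2.1
  -- conjugates of perfect subgroups of `C(t z)`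
  have hct : ∀ {g : G}, g * B.t * g⁻¹ = B.t * B.zs w → ∀ x ∈ P1, Commute (g⁻¹ * x * g) B.t := by
    intro g hg x hx
    have h1 : Commute x (B.t * B.zs w) := (hP.t1 x hx).mul_right (hP.z1 x hx w)
    rw [← hg] at h1
    show g⁻¹ * x * g * B.t = B.t * (g⁻¹ * x * g)
    calc g⁻¹ * x * g * B.t = g⁻¹ * (x * (g * B.t * g⁻¹)) * g := by group
      _ = _ := by rw [h1.eq]; group
  have hperf : ∀ g : G, ⁅MulAut.conj g⁻¹ • P1, MulAut.conj g⁻¹ • P1⁆ = MulAut.conj g⁻¹ • P1 :=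
    fun g => perf_conj hP.perf1
  have hmem : ∀ {g x : G}, x ∈ MulAut.conj g⁻¹ • P1 ↔ g * x * g⁻¹ ∈ P1 := by
    intro g x
    rw [conj_mem_iff, inv_inv]
  have hQt : ∀ {g : G}, g * B.t * g⁻¹ = B.t * B.zs w → ∀ x ∈ MulAut.conj g⁻¹ • P1, Commute x B.t := by
    intro g hg x hx
    have h1 := hct hg _ (hmem.1 hx)
    rwa [show g⁻¹ * (g * x * g⁻¹) * g = x by group] at h1
  have hzA : g⁻¹ * B.zs w * g ∈ A := by
    apply hP.maxA (MulAut.conj g⁻¹ • P1) (hperf g) (hQt hg)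
    rw [hmem, show g * (g⁻¹ * B.zs w * g) * g⁻¹ = B.zs w by group]
    exact hP.zs_mem w
  have hsq : g⁻¹ * B.zs w * g * (g⁻¹ * B.zs w * g) = 1 := by
    calc g⁻¹ * B.zs w * g * (g⁻¹ * B.zs w * g) = g⁻¹ * (B.zs w * B.zs w) * g := by group
      _ = 1 := by rw [B.zs_zs]; group
  have hne : g⁻¹ * B.zs w * g ≠ 1 := by
    intro h
    apply hw
    apply hzinj
    calc B.zs w = g * (g⁻¹ * B.zs w * g) * g⁻¹ := by group
      _ = 1 := by rw [h]; group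
  obtain ⟨a, haA, w1, w2, h12, ha⟩ := hP.inv _ hzA hsq hne
  -- replace `g` by `g a`
  set k := g * a with hk
  have hkt : k * B.t * k⁻¹ = B.t * B.zs w := by
    rw [← hg, hk]
    calc g * a * B.t * (g * a)⁻¹ = g * (a * B.t) * a⁻¹ * g⁻¹ := by group
      _ = _ := by rw [(hP.tA a haA).eq]; group
  have hkz : k⁻¹ * B.zs w * k = B.zs w1 * B.zl w2 := by
    rw [← ha, hk]; group
  have hQz : ∀ x ∈ MulAut.conj k⁻¹ • P1, Commute x (B.zs w1 * B.zl w2) := by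
    intro x hx
    have h1 := (hP.z1 _ (hmem.1 hx) w).eq
    rw [← hkz]
    show x * (k⁻¹ * B.zs w * k) = k⁻¹ * B.zs w * k * x
    calc x * (k⁻¹ * B.zs w * k) = k⁻¹ * (k * x * k⁻¹ * B.zs w) * k := by group
      _ = _ := by rw [h1]; group
  by_cases h1 : w1 = 0
  · have h2 : w2 ≠ 0 := by
      rcases h12 with h | h
      · exact absurd h1 h
      · exact h
    rw [h1, B.zs_zero, one_mul] at hQz hkz
    have hle := hP.max2 w2 h2 _ (hperf k) (hQt hkt) hQz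
    have hiff := eq_of_conj_le' (g := k) (P := P1) (Q := P2) (fun x hx => hle (by
      rw [hmem, show k * (k⁻¹ * x * k) * k⁻¹ = x by group]; exact hx)) (by
      have h3 : MulAut.conj k • P2 ≤ P1 := by
        apply hP.max1 w hw _ (perf_conj hP.perf2)
        · intro x hx
          rw [conj_mem_iff] at hx
          have h4 : Commute (k⁻¹ * x * k) (B.t * B.zl w2) := (hP.t2 _ hx).mul_right (hP.center2 w2 _ hx)
          have h5 : B.t = k * (B.t * B.zl w2) * k⁻¹ := by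
            calc B.t = B.t * B.zs w * B.zs w := by rw [mul_assoc, B.zs_zs, mul_one]
              _ = k * B.t * k⁻¹ * (k * (k⁻¹ * B.zs w * k) * k⁻¹) := by rw [hkt]; group
              _ = k * (B.t * B.zl w2) * k⁻¹ := by rw [hkz]; group
          show x * B.t = B.t * x
          rw [h5]
          calc x * (k * (B.t * B.zl w2) * k⁻¹) = k * (k⁻¹ * x * k * (B.t * B.zl w2)) * k⁻¹ := by group
            _ = _ := by rw [h4.eq]; group
        · intro x hx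
          rw [conj_mem_iff] at hx
          have h4 : Commute (k⁻¹ * x * k) (B.zl w2) := hP.center2 w2 _ hx
          have h5 : B.zs w = k * B.zl w2 * k⁻¹ := by rw [← hkz]; group
          show x * B.zs w = B.zs w * x
          rw [h5]
          calc x * (k * B.zl w2 * k⁻¹) = k * (k⁻¹ * x * k * B.zl w2) * k⁻¹ := by group
            _ = _ := by rw [h4.eq]; group
      intro x hx
      apply h3
      rw [conj_mem_iff, show k⁻¹ * (k * x * k⁻¹) * k = x by group]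
      exact hx)
    obtain ⟨β, hβ⟩ := Base.exists_unit_ne hF
    -- `n = k h k⁻¹`
    set h := B.h 1 β with hh
    have hnorm : ∀ x, (k * h * k⁻¹)⁻¹ * x * (k * h * k⁻¹) ∈ P1 ↔ x ∈ P1 := by
      have hone : ∀ (γ : Fˣ) x, x ∈ P1 → (k * B.h 1 γ * k⁻¹) * x * (k * B.h 1 γ * k⁻¹)⁻¹ ∈ P1 := by
        intro γ x hx
        rw [← hiff] at hx ⊢
        have := hP.h2 1 γ _ hx
        rw [show k⁻¹ * (k * B.h 1 γ * k⁻¹ * x * (k * B.h 1 γ * k⁻¹)⁻¹) * k =
          B.h 1 γ * (k⁻¹ * x * k) * (B.h 1 γ)⁻¹ by group]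
        exact this
      intro x
      constructor
      · intro hx
        have := hone β _ hx
        rw [← hh] at this
        rwa [show k * h * k⁻¹ * ((k * h * k⁻¹)⁻¹ * x * (k * h * k⁻¹)) * (k * h * k⁻¹)⁻¹ = x by group] at this
      · intro hx
        have := hone β⁻¹ x hx
        have e : B.h 1 β⁻¹ = h⁻¹ := by rw [hh, B.h_inv, inv_one]
        rw [e] at this
        rwa [show k * h⁻¹ * k⁻¹ * x * (k * h⁻¹ * k⁻¹)⁻¹ = (k * h * k⁻¹)⁻¹ * x * (k * h * k⁻¹) by group] at this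
    -- image of `z`
    have hz1 : (k * h * k⁻¹) * B.zs w * (k * h * k⁻¹)⁻¹ = k * B.zl (β * w2) * k⁻¹ := by
      have : h * B.zl w2 * h⁻¹ = B.zl (β * w2) := by rw [hh, B.h_zl]; simp
      rw [← this, ← hkz]; group
    obtain ⟨w3, hw3⟩ : ∃ m, k * B.zl (β * w2) * k⁻¹ = B.zs m := by
      refine hP.center1 _ ?_ ?_
      · rw [← hiff, show k⁻¹ * (k * B.zl (β * w2) * k⁻¹) * k = B.zl (β * w2) by group]
        exact hP.zl_mem _
      · intro y hy
        have h3 := (hP.center2 (β * w2) _ ((hiff y).2 hy)).eq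
        show k * B.zl (β * w2) * k⁻¹ * y = y * (k * B.zl (β * w2) * k⁻¹)
        calc k * B.zl (β * w2) * k⁻¹ * y = k * (B.zl (β * w2) * (k⁻¹ * y * k)) * k⁻¹ := by group
          _ = _ := by rw [← h3]; group
    have hw3' : w + w3 ≠ 0 := by
      intro h4
      have h5 : w = w3 := FieldAux.eq_of_add_eq_zero h4
      have h6 : B.zl (β * w2) = B.zl w2 := by
        calc B.zl (β * w2) = k⁻¹ * (k * B.zl (β * w2) * k⁻¹) * k := by group
          _ = k⁻¹ * B.zs w * k := by rw [hw3, h5]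
          _ = B.zl w2 := hkz
      rw [← Base.v1_zl, ← Base.v1_zl] at h6
      have h7 := (B.v1_inj h6).2.2
      exact hβ (Units.ext (mul_right_cancel₀ h2 (by rw [h7, Units.val_one, one_mul])))
    refine ⟨k * h * k⁻¹, hP.mover_of_norm hnorm hw3' ?_⟩
    have e1 : (k * h * k⁻¹) * (B.t * B.zs w) * (k * h * k⁻¹)⁻¹ = B.t * B.zs w := by
      have : h * B.t = B.t * h := (B.t_h 1 β).symm.eq
      rw [← hkt]
      calc k * h * k⁻¹ * (k * B.t * k⁻¹) * (k * h * k⁻¹)⁻¹ = k * (h * B.t) * h⁻¹ * k⁻¹ := by group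
        _ = _ := by rw [this]; group
    have e2 : B.t = B.t * B.zs w * B.zs w := by rw [mul_assoc, B.zs_zs, mul_one]
    calc k * h * k⁻¹ * B.t * (k * h * k⁻¹)⁻¹
        = k * h * k⁻¹ * (B.t * B.zs w * B.zs w) * (k * h * k⁻¹)⁻¹ := by rw [← e2]
      _ = (k * h * k⁻¹ * (B.t * B.zs w) * (k * h * k⁻¹)⁻¹) *
          (k * h * k⁻¹ * B.zs w * (k * h * k⁻¹)⁻¹) := by group
      _ = B.t * B.zs w * B.zs w3 := by rw [e1, hz1, hw3]
      _ = _ := by rw [B.zs_add, mul_assoc]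
  · by_cases h2 : w2 = 0
    · rw [h2, B.zl_zero, mul_one] at hQz hkz
      have hle := hP.max1 w1 h1 _ (hperf k) (hQt hkt) hQz
      have hiff := eq_of_conj_le (g := k) (P := P1) (Q := P1) rfl (fun x hx => hle (by
        rw [hmem, show k * (k⁻¹ * x * k) * k⁻¹ = x by group]; exact hx))
      exact ⟨k, hP.mover_of_norm hiff hw hkt⟩
    · exfalso
      have hle := hP.mixed w1 w2 h1 h2 _ (hperf k) (hQt hkt) hQz
      have h3 : k⁻¹ * B.zs w * k ∈ (⊥ : Subgroup G) := hle (by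
        rw [hmem, show k * (k⁻¹ * B.zs w * k) * k⁻¹ = B.zs w by group]; exact hP.zs_mem w)
      rw [mem_bot] at h3
      apply hw
      apply hzinj
      calc B.zs w = k * (k⁻¹ * B.zs w * k) * k⁻¹ := by group
        _ = 1 := by rw [h3]; group

end PFacts
end Cfsg.Agent.StdSpFour
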