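import Cfsg.Agent.StdSpFour.NormJ

/-!
S1778, type Sp₄(q), end of case (A): graph involutions `y` (`q = 2^(2m+1) ≥ 8`).

`GraphY B σ y`: `y² = 1`, `σ² = Frobenius`, `y x_a(u) y = x_b(σ u)`, `y z_s(m) y = z_l(σ m)`.
`C_U(y)` is the Suzuki 2-group `{x_a(u) x_b(σu) z_s(m) z_l(u² σu + σm)}` of order `q²`.
-/

set_option autoImplicit false
set_option linter.unusedSectionVars false

open Subgroup

namespace Cfsg.Agent.StdSpFour

open Env NormJ

/-- `y` is an involution which acts on the positive root groups as a graph automorphism. -/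
structure GraphY {F G : Type*} [Field F] [Group G] (B : Base F G) (σ : F ≃+* F) (y : G) : Prop where
  sq : ∀ u, σ (σ u) = u ^ 2
  yy : y * y = 1
  y_a : ∀ u, y * B.xa u = B.xb (σ u) * y
  y_s : ∀ m, y * B.zs m = B.zl (σ m) * y

namespace GraphY

variable {F G : Type*} [Field F] [CharP F 2] [Finite F] [Group G] {B : Base F G} {σ : F ≃+* F} {y : G}

/-- an involution `y` with `y x_a(u) y⁻¹ = x_b((ρu)²)`, `y x_b(s) y⁻¹ = x_a(ρ s)`, `y z_s(m) y⁻¹ = z_l((ρm)²)`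
(a power of the standard graph automorphism, `OutSpGraph.gm * fd ρ`) is a `GraphY` with `σ = ρ⁻¹`. -/
theorem of_gm {ρ : F ≃+* F} (yy : y * y = 1) (ha : ∀ u, y * B.xa u * y⁻¹ = B.xb (ρ u * ρ u))
    (hb : ∀ u, y * B.xb u * y⁻¹ = B.xa (ρ u)) (hs : ∀ u, y * B.zs u * y⁻¹ = B.zl (ρ u * ρ u)) :
    GraphY B ρ.symm y := by
  have h1 : ∀ u, ρ (ρ u * ρ u) = u := by
    intro u
    have h2 : y * (y * B.xa u * y⁻¹) * y⁻¹ = B.xa u := by
      calc y * (y * B.xa u * y⁻¹) * y⁻¹ = (y * y) * B.xa u * (y * y)⁻¹ := by group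
        _ = _ := by rw [yy]; group
    rw [ha, hb] at h2
    have h3 : B.xa (ρ (ρ u * ρ u)) * B.v1 0 0 0 = B.xa u * B.v1 0 0 0 := by rw [h2]
    exact (nf_inj h3).1
  have h2 : ∀ u, ρ.symm u = ρ u * ρ u := fun u => by rw [RingEquiv.symm_apply_eq, h1]
  refine ⟨fun u => ?_, yy, fun u => ?_, fun u => ?_⟩
  · rw [h2 (ρ.symm u), ρ.apply_symm_apply, pow_two]
  · rw [h2, ← ha]; group
  · rw [h2, ← hs]; group

variable (Y : GraphY B σ y)

include Y

theorem y_b (u : F) : y * B.xb (σ u) = B.xa u * y := by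
  calc y * B.xb (σ u) = y * (B.xb (σ u) * y) * y := by rw [mul_assoc, mul_assoc, Y.yy, mul_one]
    _ = y * y * B.xa u * y := by rw [← Y.y_a]; group
    _ = _ := by rw [Y.yy, one_mul]

theorem y_l (m : F) : y * B.zl (σ m) = B.zs m * y := by
  calc y * B.zl (σ m) = y * (B.zl (σ m) * y) * y := by rw [mul_assoc, mul_assoc, Y.yy, mul_one]
    _ = y * y * B.zs m * y := by rw [← Y.y_s]; group
    _ = _ := by rw [Y.yy, one_mul]

theorem y_b' (s : F) : y * B.xb s = B.xa (σ.symm s) * y := by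
  have := Y.y_b (σ.symm s)
  rwa [σ.apply_symm_apply] at this

theorem y_l' (r : F) : y * B.zl r = B.zs (σ.symm r) * y := by
  have := Y.y_l (σ.symm r)
  rwa [σ.apply_symm_apply] at this

/-- the action of `y` on the normal form -/
theorem y_nf (u s m r : F) : y * (B.xa u * B.v1 s m r) =
    B.xa (σ.symm s) * B.v1 (σ u) (σ.symm s * σ u + σ.symm r) ((σ.symm s) ^ 2 * σ u + σ m) * y := by
  have h1 : B.xb (σ u) * B.xa (σ.symm s) =
      B.xa (σ.symm s) * B.v1 (σ u) (σ.symm s * σ u) ((σ.symm s) ^ 2 * σ u) := by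
    rw [← Base.v1_xb, v1_xa, zero_add, zero_add]
  have h2 : B.v1 0 (σ.symm r) (σ m) = B.zl (σ m) * B.zs (σ.symm r) := by
    rw [Base.v1, B.xb_zero, one_mul, (B.zs_zl _ _).eq]
  calc y * (B.xa u * B.v1 s m r) = (y * B.xa u) * B.xb s * B.zs m * B.zl r := by rw [Base.v1]; group
    _ = B.xb (σ u) * (y * B.xb s) * B.zs m * B.zl r := by rw [Y.y_a]; group
    _ = (B.xb (σ u) * B.xa (σ.symm s)) * (y * B.zs m) * B.zl r := by rw [Y.y_b']; group
    _ = (B.xa (σ.symm s) * B.v1 (σ u) (σ.symm s * σ u) ((σ.symm s) ^ 2 * σ u)) * B.zl (σ m) * (y * B.zl r) := by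
        rw [Y.y_s, h1]; group
    _ = B.xa (σ.symm s) * (B.v1 (σ u) (σ.symm s * σ u) ((σ.symm s) ^ 2 * σ u) * B.v1 0 (σ.symm r) (σ m)) * y := by
        rw [Y.y_l', h2]; group
    _ = _ := by rw [B.v1_mul, add_zero]

/-- `y` normalises `U` -/
theorem isU_conj {g : G} (hg : IsU B g) : IsU B (y * g * y⁻¹) := by
  obtain ⟨u, s, m, r, rfl⟩ := hg
  rw [Y.y_nf, mul_inv_cancel_right]
  exact ⟨_, _, _, _, rfl⟩

omit [Finite F] [CharP F 2] in
theorem inv_eq : y⁻¹ = y := inv_eq_of_mul_eq_one_left Y.yy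

variable (B σ) in
omit Y [CharP F 2] [Finite F] in
/-- the elements of `C_U(y)` -/
def g (u m : F) : G := B.xa u * B.v1 (σ u) m (u ^ 2 * σ u + σ m)

/-- `C_U(y)` consists of the `g u m` -/
theorem comm_iff {x : G} (hx : IsU B x) : Commute x y ↔ ∃ u m, x = g B σ u m := by
  obtain ⟨u, s, m, r, rfl⟩ := hx
  constructor
  · intro h
    have h1 := h.eq.symm
    rw [Y.y_nf] at h1
    obtain ⟨e1, e2, e3, e4⟩ := nf_inj (mul_right_cancel h1)
    refine ⟨u, m, ?_⟩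
    rw [g, ← e4, e1, e2]
  · rintro ⟨u', m', h⟩
    rw [h]
    have h1 : y * g B σ u' m' = g B σ u' m' * y := by
      rw [g, Y.y_nf, σ.symm_apply_apply]
      congr 3
      rw [map_add, map_mul, map_pow, σ.symm_apply_apply, σ.symm_apply_apply]
      have h2 : (σ.symm u') ^ 2 = σ u' := by
        have := Y.sq (σ.symm u')
        rw [σ.apply_symm_apply] at this
        exact this.symm
      have h3 : σ.symm (u' ^ 2) = σ u' := by rw [map_pow, h2]
      rw [h2, mul_comm (σ u') u', ← add_assoc, CharTwo.add_self_eq_zero, zero_add]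
    exact h1.symm

theorem g_comm (u m : F) : Commute (g B σ u m) y := (Y.comm_iff ⟨_, _, _, _, rfl⟩).2 ⟨u, m, rfl⟩

omit Y [CharP F 2] [Finite F] in
theorem g_isU (u m : F) : IsU B (g B σ u m) := ⟨_, _, _, _, rfl⟩

omit Y in
theorem g_inj {u m u' m' : F} (h : g B σ u m = g B σ u' m') : u = u' ∧ m = m' := by
  obtain ⟨e1, -, e2, -⟩ := nf_inj h
  exact ⟨e1, e2⟩

omit Y in
/-- the law of `C_U(y)` -/
theorem g_mul (hs : ∀ u, σ (σ u) = u ^ 2) (u m u' m' : F) :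
    g B σ u m * g B σ u' m' = g B σ (u + u') (m + m' + u' * σ u) := by
  have h1 : B.v1 (σ u) m (u ^ 2 * σ u + σ m) * B.xa u' =
      B.xa u' * B.v1 (σ u) (m + u' * σ u) (u ^ 2 * σ u + σ m + u' ^ 2 * σ u) := v1_xa B _ _ _ _
  calc g B σ u m * g B σ u' m' = B.xa u * (B.v1 (σ u) m (u ^ 2 * σ u + σ m) * B.xa u') *
        B.v1 (σ u') m' (u' ^ 2 * σ u' + σ m') := by rw [g, g]; group
    _ = B.xa u * B.xa u' * (B.v1 (σ u) (m + u' * σ u) (u ^ 2 * σ u + σ m + u' ^ 2 * σ u) *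
        B.v1 (σ u') m' (u' ^ 2 * σ u' + σ m')) := by rw [h1]; group
    _ = _ := by
      rw [← B.xa_add, B.v1_mul, g, map_add, map_add, map_add, map_mul, hs]
      congr 2
      · ring
      · have e : (2 : F) = 0 := CharTwo.two_eq_zero
        linear_combination (-u * u' * σ u - u * u' * σ u' - u ^ 2 * σ u') * e

omit Y in
theorem g_sq (hs : ∀ u, σ (σ u) = u ^ 2) (u m : F) : g B σ u m * g B σ u m = g B σ 0 (u * σ u) := by
  rw [g_mul hs, CharTwo.add_self_eq_zero, CharTwo.add_self_eq_zero, zero_add]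

omit Y in
theorem g_sq_eq_one (hs : ∀ u, σ (σ u) = u ^ 2) {u m : F} : g B σ u m * g B σ u m = 1 ↔ u = 0 := by
  rw [g_sq hs]
  have h1 : g B σ 0 0 = 1 := by
    rw [g, map_zero, zero_pow two_ne_zero, zero_mul, zero_add, B.xa_zero, B.v1_zero, one_mul]
  constructor
  · intro h
    rw [← h1] at h
    rcases mul_eq_zero.1 (g_inj h).2 with h2 | h2
    · exact h2
    · exact (map_eq_zero σ).1 h2
  · rintro rfl
    rw [zero_mul, h1]

variable {U : Subgroup G} (hU : ∀ x, x ∈ U ↔ IsU B x)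

include hU

theorem mem_iff {x : G} : x ∈ U ⊓ centralizer {y} ↔ ∃ u m, x = g B σ u m := by
  rw [mem_inf, hU, mem_centralizer_singleton_iff]
  constructor
  · rintro ⟨h1, h2⟩
    exact (Y.comm_iff h1).1 h2
  · rintro ⟨u, m, rfl⟩
    exact ⟨g_isU u m, (Y.g_comm u m).eq⟩

/-- **(Y1)** -/
theorem card_cent : Nat.card ↥(U ⊓ centralizer {y}) = Nat.card F ^ 2 := by
  have e : Nat.card ↥(U ⊓ centralizer {y}) = Nat.card (F × F) := by
    refine (Nat.card_congr (Equiv.ofBijective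
      (fun p : F × F => (⟨g B σ p.1 p.2, (Y.mem_iff hU).2 ⟨_, _, rfl⟩⟩ : ↥(U ⊓ centralizer {y}))) ⟨?_, ?_⟩)).symm
    · rintro ⟨a, b⟩ ⟨c, d⟩ h
      obtain ⟨h1, h2⟩ := g_inj (congrArg Subtype.val h)
      exact Prod.ext h1 h2
    · rintro ⟨x, hx⟩
      obtain ⟨u, m, rfl⟩ := (Y.mem_iff hU).1 hx
      exact ⟨(u, m), rfl⟩
  rw [e, Nat.card_prod, pow_two]

/-- **(Y2)**, sharp form -/
theorem card_elem {E : Subgroup G} (hE : E ≤ U ⊓ centralizer {y}) (h2 : ∀ x ∈ E, x * x = 1) :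
    Nat.card E ≤ Nat.card F := by
  classical
  refine Nat.card_le_card_of_surjective
    (fun m : F => (if h : g B σ 0 m ∈ E then (⟨g B σ 0 m, h⟩ : ↥E) else 1)) ?_
  rintro ⟨x, hx⟩
  obtain ⟨u, m, rfl⟩ := (Y.mem_iff hU).1 (hE hx)
  have hu : u = 0 := (g_sq_eq_one Y.sq).1 (h2 _ hx)
  subst hu
  exact ⟨m, dif_pos hx⟩

/-- **(Y2)** -/
theorem card_elem_two {E : Subgroup G} (hE : E ≤ U ⊓ centralizer {y}) (h2 : ∀ x ∈ E, x * x = 1) :
    2 * Nat.card E ≤ Nat.card F ^ 2 := by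
  have h1 := Y.card_elem hU hE h2
  have h3 : 2 ≤ Nat.card F := Finite.one_lt_card
  calc 2 * Nat.card E ≤ Nat.card F * Nat.card F := Nat.mul_le_mul h3 h1
    _ = _ := (pow_two _).symm

/-- **(Y2'')**: `g₁`, `g₂`, `g₁ g₂` of order four -/
theorem exists_four (hF : 4 ≤ Nat.card F) : ∃ g₁ ∈ U ⊓ centralizer {y}, ∃ g₂ ∈ U ⊓ centralizer {y},
    g₁ * g₁ ≠ 1 ∧ g₂ * g₂ ≠ 1 ∧ g₁ * g₂ * (g₁ * g₂) ≠ 1 := by
  obtain ⟨a, ha0, ha1⟩ : ∃ a : F, a ≠ 0 ∧ a ≠ 1 := by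
    by_contra h
    push Not at h
    have h1 : Nat.card F ≤ 2 := by
      have h2 : Nat.card F ≤ Nat.card Bool := by
        refine Nat.card_le_card_of_injective (fun x : F => (Classical.propDecidable (x = 0)).decide) ?_
        intro x y hxy
        by_cases hx : x = 0
        · by_cases hy : y = 0
          · rw [hx, hy]
          · exfalso
            have h3 := (decide_eq_decide.1 hxy).1 hx
            exact hy h3
        · by_cases hy : y = 0
          · exfalso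
            have h3 := (decide_eq_decide.1 hxy).2 hy
            exact hx h3
          · rw [h x hx, h y hy]
      simpa using h2
    omega
  refine ⟨g B σ 1 0, (Y.mem_iff hU).2 ⟨_, _, rfl⟩, g B σ a 0, (Y.mem_iff hU).2 ⟨_, _, rfl⟩, ?_, ?_, ?_⟩
  · rw [ne_eq, g_sq_eq_one Y.sq]; exact one_ne_zero
  · rw [ne_eq, g_sq_eq_one Y.sq]; exact ha0
  · rw [g_mul Y.sq, ne_eq, g_sq_eq_one Y.sq]
    intro h
    apply ha1
    calc a = (1 + a) + 1 := by rw [add_comm 1 a, add_assoc, CharTwo.add_self_eq_zero, add_zero]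
      _ = 1 := by rw [h, zero_add]

omit Y hU in
theorem nf_inv (u s m r : F) : (B.xa u * B.v1 s m r)⁻¹ = B.xa u * B.v1 s (m + u * s) (r + u ^ 2 * s) := by
  apply inv_eq_of_mul_eq_one_right
  have h1 : B.v1 s (m + u * s) (r + u ^ 2 * s) = B.v1 s m r * B.v1 0 (u * s) (u ^ 2 * s) := by
    rw [B.v1_mul, add_zero]
  calc B.xa u * B.v1 s m r * (B.xa u * B.v1 s (m + u * s) (r + u ^ 2 * s))
      = B.xa u * B.v1 s m r * (B.xa u * B.v1 s m r) * B.v1 0 (u * s) (u ^ 2 * s) := by rw [h1]; group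
    _ = 1 := by rw [isU_sq, B.v1_v1]

/-- **(Y3)** -/
theorem conj_of_sq {x : G} (hx : x ∈ U) (h : y * x * (y * x) = 1) : ∃ w ∈ U, y * x = w * y * w⁻¹ := by
  obtain ⟨u, s, m, r, rfl⟩ := (hU x).1 hx
  have h1 : y * (B.xa u * B.v1 s m r) * y = B.xa (σ.symm s) *
      B.v1 (σ u) (σ.symm s * σ u + σ.symm r) ((σ.symm s) ^ 2 * σ u + σ m) := by
    rw [Y.y_nf, mul_assoc, Y.yy, mul_one]
  have h2 : B.xa (σ.symm s) * B.v1 (σ u) (σ.symm s * σ u + σ.symm r) ((σ.symm s) ^ 2 * σ u + σ m) =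
      B.xa u * B.v1 s (m + u * s) (r + u ^ 2 * s) := by
    rw [← h1, ← nf_inv]
    apply eq_inv_of_mul_eq_one_left
    rw [← h]; group
  obtain ⟨e1, e2, e3, e4⟩ := nf_inj h2
  have e5 : σ m = r := by
    rw [e1, e2] at e4
    have e6 : u ^ 2 * s + σ m + u ^ 2 * s = r + u ^ 2 * s + u ^ 2 * s := by rw [e4]
    rw [add_comm (u ^ 2 * s) (σ m), add_assoc, add_assoc, CharTwo.add_self_eq_zero, add_zero, add_zero] at e6
    exact e6
  subst e2 e5
  have hw : IsU B (B.xa u * B.v1 0 (m + u * σ u) 0) := ⟨_, _, _, _, rfl⟩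
  refine ⟨B.xa u * B.v1 0 (m + u * σ u) 0, (hU _).2 hw, ?_⟩
  have h3 : (B.xa u * B.v1 0 (m + u * σ u) 0)⁻¹ = B.xa u * B.v1 0 (m + u * σ u) 0 := by
    rw [nf_inv, mul_zero, add_zero, mul_zero, add_zero]
  have h4 := Y.y_nf u 0 (m + u * σ u) 0
  rw [map_zero, zero_mul, zero_pow two_ne_zero, zero_mul, zero_add, zero_add, B.xa_zero, one_mul] at h4
  have h5 : B.v1 (σ u) 0 (σ (m + u * σ u)) * B.xa u * B.v1 0 (m + u * σ u) 0 = B.xa u * B.v1 (σ u) m (σ m) := by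
    rw [v1_xa, mul_assoc, B.v1_mul, map_add, map_mul, Y.sq]
    congr 2
    · rw [add_zero]
    · rw [zero_add, add_comm m, ← add_assoc, CharTwo.add_self_eq_zero, zero_add]
    · rw [add_zero, mul_comm (σ u), add_assoc, CharTwo.add_self_eq_zero, add_zero]
  rw [h3]
  calc y * (B.xa u * B.v1 (σ u) m (σ m))
      = y * (B.v1 (σ u) 0 (σ (m + u * σ u)) * B.xa u * B.v1 0 (m + u * σ u) 0) := by rw [h5]
    _ = y * (B.v1 (σ u) 0 (σ (m + u * σ u)) * y) * y * (B.xa u * B.v1 0 (m + u * σ u) 0) := by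
        calc _ = y * B.v1 (σ u) 0 (σ (m + u * σ u)) * 1 * (B.xa u * B.v1 0 (m + u * σ u) 0) := by group
          _ = _ := by rw [← Y.yy]; group
    _ = y * y * (B.xa u * B.v1 0 (m + u * σ u) 0) * y * (B.xa u * B.v1 0 (m + u * σ u) 0) := by rw [← h4]; group
    _ = _ := by rw [Y.yy, one_mul]

/-- the involutions of `C_U(y)` are central in `U` -/
theorem inv_central {w : G} (hw : w ∈ U ⊓ centralizer {y}) (h2 : w * w = 1) : ∀ x ∈ U, Commute w x := by
  obtain ⟨u, m, rfl⟩ := (Y.mem_iff hU).1 hw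
  have hu : u = 0 := (g_sq_eq_one Y.sq).1 h2
  subst hu
  intro x hx
  have h1 := ((hU x).1 hx).comm_z m (σ m)
  have h3 : g B σ 0 m = B.v1 0 m (σ m) := by
    rw [g, map_zero, zero_pow two_ne_zero, zero_mul, zero_add, B.xa_zero, one_mul]
  rw [h3]
  exact h1.symm

/-- **(Y5)** -/
theorem card_cent_inv {w : G} (hw : w ∈ U ⊓ centralizer {y}) (h2 : w * w = 1) :
    Nat.card ↥(U ⊓ centralizer {y} ⊓ centralizer {w}) = Nat.card F ^ 2 := by
  have h3 : U ⊓ centralizer {y} ⊓ centralizer {w} = U ⊓ centralizer {y} := by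
    refine inf_eq_left.2 fun x hx => ?_
    rw [mem_centralizer_singleton_iff]
    exact (Y.inv_central hU hw h2 x hx.1).eq.symm
  rw [h3, Y.card_cent hU]

/-- **(Y6)** -/
theorem card_centZ {Z : Subgroup G} (hZ : ∀ x, x ∈ Z ↔ ∃ m r, x = B.zs m * B.zl r) :
    Nat.card ↥(Z ⊓ centralizer {y}) = Nat.card F := by
  have key : ∀ m, g B σ 0 m = B.zs m * B.zl (σ m) := by
    intro m
    rw [g, map_zero, zero_pow two_ne_zero, zero_mul, zero_add, B.xa_zero, one_mul, Base.v1, B.xb_zero, one_mul]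
  have hm : ∀ x, x ∈ Z ⊓ centralizer {y} ↔ ∃ m, x = g B σ 0 m := by
    intro x
    rw [mem_inf, hZ, mem_centralizer_singleton_iff]
    constructor
    · rintro ⟨⟨m, r, rfl⟩, h2⟩
      have h3 : B.zs m * B.zl r = B.xa 0 * B.v1 0 m r := by
        rw [B.xa_zero, one_mul, Base.v1, B.xb_zero, one_mul]
      obtain ⟨u, m', h4⟩ := (Y.comm_iff ⟨0, 0, m, r, h3⟩).1 h2
      rw [h4]
      rw [h3, g] at h4
      obtain ⟨h5, -⟩ := nf_inj h4
      exact ⟨m', by rw [← h5]⟩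
    · rintro ⟨m, rfl⟩
      exact ⟨⟨m, σ m, key m⟩, (Y.g_comm 0 m).eq⟩
  refine (Nat.card_congr (Equiv.ofBijective
    (fun p : F => (⟨g B σ 0 p, (hm _).2 ⟨_, rfl⟩⟩ : ↥(Z ⊓ centralizer {y}))) ⟨?_, ?_⟩)).symm
  · intro a b h
    exact (g_inj (congrArg Subtype.val h)).2
  · rintro ⟨x, hx⟩
    obtain ⟨m, rfl⟩ := (hm x).1 hx
    exact ⟨m, rfl⟩

end GraphY

end Cfsg.Agent.StdSpFour
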