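import Cfsg.Agent.StdSpFour.SpOuter
import Cfsg.Agent.StdSpFour.Trich
import Cfsg.Agent.StdSpFour.AdaptC
import Cfsg.Agent.StdSpFour.CaseBEnd
import Cfsg.Agent.StdSpFour.CaseCEnd
import Cfsg.Agent.StdRank2.SchQuot
import Cfsg.Agent.StdRank2.B2Mover
import Cfsg.Agent.Schreier.ClassPSp

/-!
# Type `Sp₄(q)`, `q ≥ 4` even: the assembly

`Top F L A t`: everything about the start in `G` and `X = XQ A t`; `exists_top`: it exists.
`core_of`: the core statement from the ends of the cases (A), (B), (C) (`EndA`, `EndB`, `EndC`).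
-/

set_option autoImplicit false
set_option linter.unusedSectionVars false
set_option linter.dupNamespace false

namespace Cfsg.Agent.StdSpFour.Main

open Subgroup Cfsg.Agent.StdEven.Loc Cfsg.Agent.StdEven.Syl
open Cfsg.Agent.StdEven.StepFour Cfsg.Agent.StdEven.CoreQuot Cfsg.Agent.StdL2.Setup
open Cfsg.Agent.TitsThree.B2Pkg Cfsg.Agent.TitsThree.RankTwoIdentB2
  Cfsg.Agent.TitsThree.CoreB2 Cfsg.Agent.TitsThree.RankTwoIdx Cfsg.Agent.TitsThree.RankTwoRGD
  Cfsg.Agent.TitsThree.StdData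
open Cfsg.Agent.StdRank2 Cfsg.Agent.StdRank2.OddLift Cfsg.Agent.StdRank2.B2Lift Cfsg.Agent.StdRank2.B2Std
  Cfsg.Agent.StdRank2.OutB2Aut Cfsg.Agent.StdRank2.OutB2Tw Cfsg.Agent.StdRank2.OutB2Data
  Cfsg.Agent.StdRank2.OutB2G Cfsg.Agent.StdRank2.OutSpG Cfsg.Agent.StdRank2.SpFrame
  Cfsg.Agent.StdRank2.SpData
open Cfsg.Agent.Schreier.Basic
open Cfsg.Agent.StdSpFour Cfsg.Agent.StdSpFour.Env Cfsg.Agent.StdSpFour.Trich Cfsg.Agent.StdSpFour.BOut
open Cfsg.Agent.StdSpFour.Swap

universe u v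

/-- The situation in `G`, type `Sp₄(q)`. -/
structure Top (F : Type v) [Field F] [Finite F] [CharP F 2] {G : Type u} [Group G] [Finite G]
    (L A : Subgroup G) (t : G) where
  C : Conf L A t
  hZ : Odd (Nat.card (center ↥A))
  four : 4 ≤ Nat.card F
  sch : Sch ↥A
  T : Subgroup G
  S : Std (stdSp F) ↥A
  sit : Sit L A t T S
  had : AdaptedSp S T
  hyp : Hyp A t T
  schX : Sch ↥(im A t A)

section

variable {F : Type v} [Field F] [Finite F] [CharP F 2] {G : Type u} [Group G] [Finite G] {L A : Subgroup G} {t : G}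

/-- the situation does not change if the package is twisted -/
theorem sit_tw {T : Subgroup G} {S : Std (stdSp F) ↥A} (h : Sit L A t T S) (c : Tw (stdSp F)) :
    Sit L A t T (tw S c) :=
  ⟨h.conf, h.hZ, h.isT, by rw [UG_tw]; exact h.UT, h.four⟩

/-- from a package -/
theorem exists_top_of_std (C : Conf L A t) (hZ : Odd (Nat.card (center ↥A))) (four : 4 ≤ Nat.card F)
    (hS : Sch (↥A ⧸ center ↥A)) (S : Std (stdSp F) ↥A) : Nonempty (Top F L A t) := by
  have hSA : Sch ↥A := SchQuot.sch_of_center C.std.1.1.commutator_eq_top hS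
  obtain ⟨T, h⟩ := exists_sit C hZ S four
  have hs := h.simple
  obtain ⟨c, hc⟩ := exists_adaptedSp hZ S (by omega) T h.isT.syl.two h.isT.syl.le fun y hy u hu => h.T_norm hy hu
  have h' := sit_tw h (dtw (stdSp F) c.1.ne_zero c.2.ne_zero)
  have H := SpStart.hyp' h' hSA
  exact ⟨⟨C, hZ, four, hSA, T, _, h', hc, H, B2Mover.sch_im H (MulEquiv.refl _) hS⟩⟩

/-- **Existence.** -/
theorem exists_top (C : Conf L A t) (hZ : Odd (Nat.card (center ↥A))) (four : 4 ≤ Nat.card F)
    (e : ↥A ⧸ center ↥A ≃* Cfsg.PSp 2 F) : Nonempty (Top F L A t) := by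
  obtain ⟨S⟩ := B2Conn.exists_Sp (by omega) C.std.1.1.commutator_eq_top hZ e
  exact exists_top_of_std C hZ four (Sch.of_equiv e.symm (Cfsg.Agent.Schreier.ClassPSp.sch le_rfl fun _ => by omega)) S

namespace Top

variable (P : Top F L A t)

/-- the base in `X` -/
noncomputable def B : Base F (XQ A t) := B2Conn.base P.hyp P.S

theorem env : Env P.B (im A t A) := XStart.envX P.hyp P.S (by have := P.four; omega) P.schX

theorem data : Data A t P.T (XStart.JG P.S t) (XStart.WG P.S) := SpStart.data P.sit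

theorem exists_mover : ∃ g ∈ normalizer (P.T : Set G), g ∈ normalizer (XStart.JG P.S t : Set G) ∧
    (∃ k : ℕ, g ^ 2 ^ k = 1) ∧
      ∃ v ∈ XStart.WG P.S, v ≠ 1 ∧ (∀ x ∈ P.T, x * v = v * x) ∧ g * t * g⁻¹ = t * v :=
  SpStart.exists_mover' P.sit P.sch

/-- a layer exists -/
theorem exists_layer : Nonempty (ShortLayer P.B) ∨ Nonempty (LongLayer P.B) := by
  obtain ⟨g, -, hg, -, v, hv, hv1, -, e⟩ := P.exists_mover
  exact XStart.exists_layer P.hyp P.S P.four P.schX hg hv hv1 e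

/-- **the three cases** -/
theorem cases : CaseA P.B ∨ (CaseB P.B ∨ CaseB (swap P.B)) ∨ (CaseC P.B ∨ CaseC (swap P.B)) :=
  trich P.env P.four P.exists_layer

theorem UT : XStart.UG P.S ≤ P.T := P.sit.U_le

/-- no graph elements in case (B) -/
theorem bridge_B (h : CaseB P.B) : Bridge P.hyp P.B := by
  obtain ⟨hL, S0, -⟩ := h
  exact Adapt.bridge_of P.hyp P.S P.four P.schX P.UT P.had fun w ρ hw hg =>
    Adapt.no_graph_short P.hyp P.S P.four P.data P.schX S0 hL hw hg

theorem noLong (h : CaseB P.B) : NoLong P.hyp P.B := Adapt.noLong_of P.hyp P.S P.four P.data P.schX h.1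

/-- no graph elements in case (B') -/
theorem bridge_B' (h : CaseB (swap P.B)) : Bridge P.hyp P.B := by
  obtain ⟨hL, S0, -⟩ := h
  rw [nonempty_long_swap] at hL
  obtain ⟨L0⟩ := nonempty_short_swap.1 ⟨S0⟩
  exact Adapt.bridge_of P.hyp P.S P.four P.schX P.UT P.had fun w ρ hw hg =>
    Adapt.no_graph_long P.hyp P.S P.four P.data P.schX L0 hL hw hg

theorem noLong' (h : CaseB (swap P.B)) : NoLong P.hyp (swap P.B) :=
  Adapt.noLong_swap_of P.hyp P.S P.four P.data P.schX fun hS => h.1 (nonempty_long_swap.2 hS)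

/-- no graph elements in case (C) -/
theorem bridge_C (h : CaseC P.B) : Bridge P.hyp P.B := by
  obtain ⟨S0, L0, h1, h2, -⟩ := h
  exact Adapt.bridge_of P.hyp P.S P.four P.schX P.UT P.had fun w ρ hw hg =>
    AdaptC.no_graph_both P.hyp P.S (by have := P.four; omega) S0 L0 (Or.inl ⟨h1, h2⟩) hw hg

/-- no graph elements in case (C') -/
theorem bridge_C' (h : CaseC (swap P.B)) : Bridge P.hyp P.B := by
  obtain ⟨S0, L0, h1, h2, -⟩ := h
  have e1 : (shortOfSwap L0).e = 0 := h2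
  have e2 : (EnvFacts.longOfSwap S0).e = 1 := by
    show Swap.rt S0.e = 1
    rw [h1, Swap.rt_one]
  exact Adapt.bridge_of P.hyp P.S P.four P.schX P.UT P.had fun w ρ hw hg =>
    AdaptC.no_graph_both P.hyp P.S (by have := P.four; omega) _ _ (Or.inr ⟨e1, e2⟩) hw hg

end Top

end

section final

open Cfsg.Agent.Lib Cfsg.Agent.Lib.GoldschmidtFusion
open Cfsg.Agent.TwoFusion.Gold (TProp)
open Cfsg.Agent.StdSpFour.CloseComp Cfsg.Agent.StdSpFour.CloseLoc
open Cfsg.Agent.StdSpFour.CloseSyl (S0506Stmt)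
open Cfsg.Agent.StdEven.Red

/-- The external theorems. -/
structure Ext : Prop where
  s0506 : S0506Stmt.{u}
  zStar : ZStarStmt.{u}
  tprop : ∀ (G : Type u) [Group G] [Finite G], IsSimpleGroup G → (∃ a b : G, a * b ≠ b * a) → TProp G
  s1173 : S1173Stmt.{u}
  s1769 : ∀ (L : Type u) [Group L] [Finite L], IsSimpleGroup L → CaseBSplit.LinSylow.{u, 0} L

/-- The end of case (A). -/
def EndA : Prop := ∀ (F : Type) [Field F] [Finite F] [CharP F 2] (G : Type u) [Group G] [Finite G] (L A : Subgroup G)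
  (t : G) (P : Top F L A t), 3 ∣ Nat.card A → CaseA P.B → Concl L t

variable {F : Type} [Field F] [Finite F] [CharP F 2] {G : Type u} [Group G] [Finite G] {L A : Subgroup G} {t : G}

/-- (B) -/
theorem concl_B (X : Ext.{u}) (P : Top F L A t) (h : CaseB P.B) : Concl L t := by
  have b := P.bridge_B h
  have nl := P.noLong h
  obtain ⟨-, S0, he⟩ := h
  exact CaseBEnd.concl X.s0506 X.zStar X.tprop X.s1173 b S0 nl he P.C (X.s1769 L P.C.simple)

/-- (B') -/
theorem concl_B' (X : Ext.{u}) (P : Top F L A t) (h : CaseB (swap P.B)) : Concl L t := by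
  have b := (P.bridge_B' h).swap
  have nl := P.noLong' h
  obtain ⟨-, S0, he⟩ := h
  exact CaseBEnd.concl X.s0506 X.zStar X.tprop X.s1173 b S0 nl he P.C (X.s1769 L P.C.simple)

/-- (C) -/
theorem concl_C (X : Ext.{u}) (P : Top F L A t) (h : CaseC P.B) : Concl L t := by
  have b := P.bridge_C h
  obtain ⟨S0, L0, h1, h2, -, h4⟩ := h
  exact CaseCEnd.concl X.s0506 X.zStar X.tprop X.s1173 b S0 L0 h1 h2 h4 P.C (X.s1769 L P.C.simple)

/-- (C') -/
theorem concl_C' (X : Ext.{u}) (P : Top F L A t) (h : CaseC (swap P.B)) : Concl L t := by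
  have b := (P.bridge_C' h).swap
  obtain ⟨S0, L0, h1, h2, -, h4⟩ := h
  exact CaseCEnd.concl X.s0506 X.zStar X.tprop X.s1173 b S0 L0 h1 h2 h4 P.C (X.s1769 L P.C.simple)

/-- `3` divides `|A|` -/
theorem three_dvd (P : Top F L A t) : 3 ∣ Nat.card A := by
  obtain ⟨e⟩ := P.hyp.nonempty_equiv
  have h1 : P.B.na * P.B.xa 1 ∈ im A t A := mul_mem P.env.na_mem (P.env.xa_mem 1)
  have h2 : (P.B.na * P.B.xa 1) ^ 3 = 1 := P.env.weyl.na_xa
  have h3 : P.B.na * P.B.xa 1 ≠ 1 := by
    intro h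
    have h' : P.B.xa 1 * P.B.na = 1 := by
      rw [← eq_inv_iff_mul_eq_one] at h
      rw [h, mul_inv_cancel]
    have e1 : P.B.xb 1 = P.B.zl 1 := by
      calc P.B.xb 1 = (P.B.xa 1 * P.B.na) * P.B.xb 1 := by rw [h', one_mul]
        _ = P.B.xa 1 * (P.B.na * P.B.xb 1) := by group
        _ = (P.B.xa 1 * P.B.zl 1) * P.B.na := by rw [P.B.na_xb]; group
        _ = P.B.zl 1 * (P.B.xa 1 * P.B.na) := by rw [(P.B.xa_zl 1 1).eq]; group
        _ = _ := by rw [h', mul_one]
    have e2 : P.B.xa 0 * P.B.v1 1 0 0 = P.B.xa 0 * P.B.v1 0 0 1 := by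
      rw [Base.v1, Base.v1, Comm.xb_zero, Comm.zs_zero, Comm.zl_zero, mul_one, mul_one, one_mul, one_mul, e1]
    exact one_ne_zero (Env.nf_inj e2).2.1
  have h4 : orderOf (⟨_, h1⟩ : im A t A) = 3 :=
    orderOf_eq_prime (Subtype.ext h2) fun h => h3 (congrArg Subtype.val h)
  have h5 := _root_.orderOf_dvd_natCard (⟨_, h1⟩ : im A t A)
  rw [h4, Nat.card_congr e.toEquiv] at h5
  exact h5.trans (card_quotient_dvd_card _)

/-- **The core statement for the type `Sp₄(q)`.** -/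
theorem core_of (X : Ext.{u}) (hA : EndA.{u}) : Core.{u} (fun Q _ => TypeSp4 Q) := by
  intro G _ _ L A t C hZ hT
  obtain ⟨F, _, _, a, ha, hc, ⟨e⟩⟩ := hT
  have h2 : CharP F 2 := by
    obtain ⟨p, hp⟩ := CharP.exists F
    have h4 : p.Prime := CharP.char_is_prime F p
    have h5 : p ∣ 2 := by
      have h1 : ((Fintype.card F : ℕ) : F) = 0 := by simp
      rw [CharP.cast_eq_zero_iff F p, hc] at h1
      exact h4.dvd_of_dvd_pow h1
    rwa [(Nat.prime_dvd_prime_iff_eq h4 Nat.prime_two).1 h5] at hp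
  have four : 4 ≤ Nat.card F := by
    rw [Nat.card_eq_fintype_card, hc]
    calc 4 = 2 ^ 2 := rfl
      _ ≤ 2 ^ a := Nat.pow_le_pow_right (by norm_num) ha
  obtain ⟨P⟩ := exists_top C hZ four e
  rcases P.cases with h | (h | h) | (h | h)
  · exact hA F G L A t P (three_dvd P) h
  · exact concl_B X P h
  · exact concl_B' X P h
  · exact concl_C X P h
  · exact concl_C' X P h

end final

end Cfsg.Agent.StdSpFour.Main
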