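import Cfsg.Agent.StdSpFour.RingAE

/-!
# Type `Sp₄`, case (A): shifting the second layers

`L.shift α β`: `p_a(u) ↦ p_a(u) x_a(αu)`, `p_s(m) ↦ p_s(m) z_s(αm)`, `p_b(s) ↦ p_b(s) x_b(βs)`, `p_l(r) ↦ p_l(r) z_l(βr)`.
-/
set_option autoImplicit false
set_option linter.unusedSectionVars false

namespace Cfsg.Agent.StdSpFour

open Cfsg.Agent.StdSpFour.Comm

variable {F G : Type*} [Field F] [Group G] {B : Base F G}

theorem shift_add {p x : F → G} (hp : ∀ u v, p (u + v) = p u * p v) (hx : ∀ u v, x (u + v) = x u * x v)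
    (hc : ∀ u v, Commute (p u) (x v)) (α u v : F) :
    p (u + v) * x (α * (u + v)) = p u * x (α * u) * (p v * x (α * v)) := by
  rw [hp, mul_add, hx]
  have := (hc v (α * u)).eq
  calc p u * p v * (x (α * u) * x (α * v)) = p u * (p v * x (α * u)) * x (α * v) := by group
    _ = _ := by rw [this]; group

theorem shift_t {t : G} {p x : F → G} (ht : ∀ u, t * p u = p u * t * x u) (htx : ∀ u, Commute t (x u))
    (hx : ∀ u v, x (u + v) = x u * x v) (α u : F) :
    t * (p u * x (α * u)) = p u * x (α * u) * t * x u := by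
  have hc : Commute (x u) (x (α * u)) := by rw [commute_iff_eq, ← hx, ← hx, add_comm]
  calc t * (p u * x (α * u)) = (t * p u) * x (α * u) := by group
    _ = p u * t * (x u * x (α * u)) := by rw [ht]; group
    _ = p u * (t * x (α * u)) * x u := by rw [hc.eq]; group
    _ = _ := by rw [(htx _).eq]; group

theorem shift_h {h : G} {p x : F → G} {c : F} (hp : ∀ u, h * p u = p (c * u) * h) (hx : ∀ u, h * x u = x (c * u) * h)
    (α u : F) : h * (p u * x (α * u)) = p (c * u) * x (α * (c * u)) * h := by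
  calc h * (p u * x (α * u)) = (h * p u) * x (α * u) := by group
    _ = p (c * u) * (h * x (α * u)) := by rw [hp]; group
    _ = _ := by rw [hx, ← mul_assoc, show c * (α * u) = α * (c * u) by ring]

theorem shift_n {n : G} {p x q y : F → G} (hp : ∀ u, n * p u = q u * n) (hx : ∀ u, n * x u = y u * n) (α u : F) :
    n * (p u * x (α * u)) = q u * y (α * u) * n := by
  calc n * (p u * x (α * u)) = (n * p u) * x (α * u) := by group
    _ = q u * (n * x (α * u)) := by rw [hp]; group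
    _ = _ := by rw [hx, ← mul_assoc]

/-- shift of the layers -/
def RingL.shift (L : RingL B) (α β : F) : RingL B where
  pa := fun u => L.pa u * B.xa (α * u)
  pb := fun u => L.pb u * B.xb (β * u)
  ps := fun u => L.ps u * B.zs (α * u)
  pl := fun u => L.pl u * B.zl (β * u)
  pa_add := shift_add L.pa_add B.xa_add L.pa_xa α
  pb_add := shift_add L.pb_add B.xb_add L.pb_xb β
  ps_add := shift_add L.ps_add B.zs_add L.ps_zs α
  pl_add := shift_add L.pl_add B.zl_add L.pl_zl β
  t_pa := shift_t L.t_pa B.t_xa B.xa_add α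
  t_pb := shift_t L.t_pb B.t_xb B.xb_add β
  t_ps := shift_t L.t_ps B.t_zs B.zs_add α
  t_pl := shift_t L.t_pl B.t_zl B.zl_add β
  pa_xa := fun u v => (L.pa_xa u v).mul_left (comm_of_add B.xa_add _ _)
  pa_zs := fun u v => (L.pa_zs u v).mul_left (B.xa_zs _ _)
  pa_zl := fun u v => (L.pa_zl u v).mul_left (B.xa_zl _ _)
  pa_ps := fun u m => ((L.pa_ps u m).mul_right (L.pa_zs u _)).mul_left ((L.ps_xa m _).symm.mul_right (B.xa_zs _ _))
  pa_pl := fun u m => ((L.pa_pl u m).mul_right (L.pa_zl u _)).mul_left ((L.pl_xa m _).symm.mul_right (B.xa_zl _ _))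
  pb_xb := fun u v => (L.pb_xb u v).mul_left (comm_of_add B.xb_add _ _)
  pb_zs := fun u v => (L.pb_zs u v).mul_left (B.xb_zs _ _)
  pb_zl := fun u v => (L.pb_zl u v).mul_left (B.xb_zl _ _)
  pb_ps := fun u m => ((L.pb_ps u m).mul_right (L.pb_zs u _)).mul_left ((L.ps_xb m _).symm.mul_right (B.xb_zs _ _))
  pb_pl := fun u m => ((L.pb_pl u m).mul_right (L.pb_zl u _)).mul_left ((L.pl_xb m _).symm.mul_right (B.xb_zl _ _))
  ps_xa := fun m u => (L.ps_xa m u).mul_left (B.xa_zs _ _).symm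
  ps_xb := fun m u => (L.ps_xb m u).mul_left (B.xb_zs _ _).symm
  ps_zs := fun m u => (L.ps_zs m u).mul_left (comm_of_add B.zs_add _ _)
  ps_zl := fun m u => (L.ps_zl m u).mul_left (B.zs_zl _ _)
  ps_pl := fun m r => ((L.ps_pl m r).mul_right (L.ps_zl m _)).mul_left ((L.pl_zs r _).symm.mul_right (B.zs_zl _ _))
  pl_xa := fun m u => (L.pl_xa m u).mul_left (B.xa_zl _ _).symm
  pl_xb := fun m u => (L.pl_xb m u).mul_left (B.xb_zl _ _).symm
  pl_zs := fun m u => (L.pl_zs m u).mul_left (B.zs_zl _ _).symm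
  pl_zl := fun m u => (L.pl_zl m u).mul_left (comm_of_add B.zl_add _ _)
  h_pa := fun a b => shift_h (L.h_pa a b) (B.h_xa a b) α
  h_pb := fun a b => shift_h (L.h_pb a b) (B.h_xb a b) β
  h_ps := fun a b => shift_h (L.h_ps a b) (B.h_zs a b) α
  h_pl := fun a b => shift_h (L.h_pl a b) (B.h_zl a b) β
  nb_pa := shift_n L.nb_pa B.nb_xa α
  nb_ps := shift_n L.nb_ps B.nb_zs α
  nb_pl := shift_n L.nb_pl B.nb_zl β
  na_pb := shift_n L.na_pb B.na_xb β
  na_pl := shift_n L.na_pl B.na_zl β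
  na_ps := shift_n L.na_ps B.na_zs α

variable [CharP F 2]

/-- constructor of `RingA` -/
def RingL.mkA (L : RingL B) {δ κ μ : F}
    (h1 : ∀ u s, cj (B.xb s) (L.pa u) = L.V u 0 (u * s) 0 (u ^ 2 * s) (δ * (u ^ 2 * s)))
    (h2 : ∀ u s, cj (L.pb s) (B.xa u) = L.V 0 u (u * s) 0 (u ^ 2 * s) 0)
    (h3 : ∀ u s, cj (L.pb s) (L.pa u) =
      L.V u 0 (u * s) (κ * (u * s)) ((1 + δ) * (u ^ 2 * s)) (μ * (u ^ 2 * s))) : RingA B δ κ μ where
  toRingL := L
  pa_xb := by
    intro u s
    have h := h1 u s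
    rw [L.V_eq, B.xa_zero, B.zs_zero, mul_one, mul_one] at h
    rw [← mul_assoc (L.ps _), ← mul_assoc (L.pa u), ← mul_assoc (L.pa u), ← h, cj]
    group
  xa_pb := by
    intro u s
    have h := h2 u s
    rw [L.V_eq, L.pa_zero, B.zs_zero, B.zl_zero, one_mul, mul_one, mul_one] at h
    rw [← mul_assoc (B.xa u), ← h, cj]
    group
  pa_pb := by
    intro u s
    have h := h3 u s
    rw [L.V_eq, B.xa_zero, mul_one] at h
    have e : L.pa u * (L.ps (u * s) * B.zs (κ * (u * s)) * (L.pl ((1 + δ) * (u ^ 2 * s)) * B.zl (μ * (u ^ 2 * s)))) =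
        L.pa u * L.ps (u * s) * B.zs (κ * (u * s)) * L.pl ((1 + δ) * (u ^ 2 * s)) * B.zl (μ * (u ^ 2 * s)) := by
      group
    rw [e, ← h, cj]
    group

theorem RingL.shift_V (L : RingL B) (α β w u m k r l : F) :
    (L.shift α β).V w u m k r l = L.V w (u + α * w) m (k + α * m) r (l + β * r) := by
  rw [RingL.V_eq]
  show L.pa w * B.xa (α * w) * B.xa u * (L.ps m * B.zs (α * m)) * B.zs k * (L.pl r * B.zl (β * r)) * B.zl l = _
  rw [L.V_pa, L.V_xa, L.V_xa, L.V_ps, L.V_zs, L.V_zs, L.V_pl, L.V_zl, L.V_zl]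
  simp only [L.V_mul]
  congr 1 <;> ring

/-- **shift of `RingA`** -/
def RingA.shift {δ κ μ : F} (R : RingA B δ κ μ) (c : F) :
    RingA B (δ + c ^ 2 + c) (κ + c ^ 2 + c) (μ + c ^ 2 + c) :=
  (R.toRingL.shift c c).mkA
    (by
      intro u s
      have e1 : (R.toRingL.shift c c).pa u = R.V u (c * u) 0 0 0 0 := by
        show R.pa u * B.xa (c * u) = _
        rw [R.V_pa, R.V_xa, R.V_mul]; simp only [add_zero, zero_add]
      rw [e1, R.cj_xb_V, RingL.shift_V]
      have h2 : (2 : F) = 0 := CharTwo.two_eq_zero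
      congr 1
      · ring
      · ring
      · ring
      · ring
      · linear_combination (-(c * u ^ 2 * s)) * h2)
    (by
      intro u s
      have e1 : (R.toRingL.shift c c).pb s = R.pb s * B.xb (c * s) := rfl
      rw [e1, cj_mul_left, R.V_xa, R.cj_pb_V, R.cj_xb_V, RingL.shift_V]
      congr 1 <;> ring)
    (by
      intro u s
      have e1 : (R.toRingL.shift c c).pb s = R.pb s * B.xb (c * s) := rfl
      have e2 : (R.toRingL.shift c c).pa u = R.V u (c * u) 0 0 0 0 := by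
        show R.pa u * B.xa (c * u) = _
        rw [R.V_pa, R.V_xa, R.V_mul]; simp only [add_zero, zero_add]
      rw [e1, e2, cj_mul_left, R.cj_pb_V, R.cj_xb_V, RingL.shift_V]
      have h2 : (2 : F) = 0 := CharTwo.two_eq_zero
      congr 1
      · ring
      · linear_combination (c * u * s) * h2
      · linear_combination (-(c * u * s)) * h2
      · ring
      · linear_combination (-(c * u ^ 2 * s) - c ^ 2 * u ^ 2 * s) * h2)

end Cfsg.Agent.StdSpFour
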