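import Cfsg.Agent.StdSpFour.EndAInst
import Cfsg.Agent.StdSpFour.RingAShift
import Cfsg.Agent.StdSpFour.Env

/-!
# Type `Sp₄`, case (A): construction of `RingA`
-/
set_option autoImplicit false
set_option linter.unusedSectionVars false

namespace Cfsg.Agent.StdSpFour

namespace RingMake

open Cfsg.Agent.StdSpFour.EndA Cfsg.Agent.StdSpFour.Comm

variable {F G : Type*} [Field F] [CharP F 2] [Group G] {B : Base F G}

/-- The relations of case (A), with the second layers named. -/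
theorem exists_relA' [Finite F] (hF : 4 ≤ Nat.card F) (hB : B.Self) (S : ShortLayer B) (L : LongLayer B)
    (hSe : S.e = 0) (hLe : L.e = 0) (hSc : S.c = 0) (hLc : L.c = 0) :
    ∃ R : RelA B, R.pa = Comm.p' S ∧ R.pb = Prime.q' L ∧ R.ps = S.p ∧ R.pl = L.q := by
  have ps_xa : ∀ m u, Commute (S.p m) (B.xa u) := by
    intro m u
    have h := S.xa_p u m
    rw [hSe, zero_mul, zero_mul, B.zl_zero, mul_one] at h
    exact h.symm
  have pl_xb : ∀ m u, Commute (L.q m) (B.xb u) := by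
    intro m u
    obtain ⟨r, rfl⟩ := FieldAux.exists_sq m
    obtain ⟨s, rfl⟩ := FieldAux.exists_sq u
    have h := L.xb_q s r
    rw [hLe, zero_mul, B.zs_zero, mul_one] at h
    exact h.symm
  have pa_zs : ∀ u m, Commute (Comm.p' S u) (B.zs m) := by
    intro u m
    have h := Comm.zs_p' S m u
    rw [hSe, zero_mul, zero_mul, B.zl_zero, mul_one] at h
    exact h.symm
  have pb_zl : ∀ u m, Commute (Prime.q' L u) (B.zl m) := by
    intro u m
    obtain ⟨r, rfl⟩ := FieldAux.exists_sq u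
    obtain ⟨s, rfl⟩ := FieldAux.exists_sq m
    have h := Prime.zl_q' L s r
    rw [hLe, zero_mul, B.zs_zero, mul_one] at h
    exact h.symm
  have ps_sq : ∀ u, S.p u * S.p u = 1 := fun u => by rw [S.p_sq, hSc, zero_mul, B.zs_zero]
  have pl_sq : ∀ u, L.q u * L.q u = 1 := fun u => by rw [L.q_sq, hLc, zero_mul, B.zl_zero]
  have pa_sq : ∀ u, Comm.p' S u * Comm.p' S u = 1 := fun u => by
    rw [Comm.p'_sq, hSc, zero_mul, B.xa_zero]
  have pb_sq : ∀ u, Prime.q' L u * Prime.q' L u = 1 := fun u => by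
    rw [Prime.q'_sq, hLc, zero_mul, B.xb_zero]
  have inj : ∀ {u s m r}, B.xa u * B.xb s * B.zs m * B.zl r = 1 → u = 0 ∧ s = 0 ∧ m = 0 ∧ r = 0 :=
    fun h => B.inj _ _ _ _ h
  have la : Lay B.t B.xa (Comm.p' S) :=
    { x_add := B.xa_add
      x_inj := fun u h => (inj (u := u) (s := 0) (m := 0) (r := 0)
        (by rw [h, B.xb_zero, B.zs_zero, B.zl_zero, one_mul, one_mul, one_mul])).1
      t_x := B.t_xa
      p_zero := Comm.p'_zero S
      t_p := Comm.t_p' S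
      p_sq := pa_sq
      p_add := Comm.p'_add S
      p_x := Comm.p'_xa S }
  have lb : Lay B.t B.xb (Prime.q' L) :=
    { x_add := B.xb_add
      x_inj := fun u h => (inj (u := 0) (s := u) (m := 0) (r := 0)
        (by rw [h, B.xa_zero, B.zs_zero, B.zl_zero, one_mul, one_mul, one_mul])).2.1
      t_x := B.t_xb
      p_zero := Prime.q'_zero L
      t_p := Prime.t_q' L
      p_sq := pb_sq
      p_add := Prime.q'_add L
      p_x := Prime.q'_xb L }
  have ls : Lay B.t B.zs S.p :=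
    { x_add := B.zs_add
      x_inj := fun u h => (inj (u := 0) (s := 0) (m := u) (r := 0)
        (by rw [h, B.xa_zero, B.xb_zero, B.zl_zero, one_mul, one_mul, one_mul])).2.2.1
      t_x := B.t_zs
      p_zero := S.p_zero
      t_p := S.t_p
      p_sq := ps_sq
      p_add := S.p_add
      p_x := S.p_zs }
  have ll : Lay B.t B.zl L.q :=
    { x_add := B.zl_add
      x_inj := fun u h => (inj (u := 0) (s := 0) (m := 0) (r := u)
        (by rw [h, B.xa_zero, B.xb_zero, B.zs_zero, one_mul, one_mul, one_mul])).2.2.2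
      t_x := B.t_zl
      p_zero := L.q_zero
      t_p := L.t_q
      p_sq := pl_sq
      p_add := L.q_add
      p_x := L.q_zl }
  have ps_pl : ∀ m r, Commute (S.p m) (L.q r) := Prime.p_q hF hB S L
  have pa_pl : ∀ u m, Commute (Comm.p' S u) (L.q m) := Prime.p'_q hF hB S L
  have pb_ps : ∀ u m, Commute (Prime.q' L u) (S.p m) := Prime.q'_p hF hB S L
  -- the elements `p q z_s z_l`
  have y_sq : ∀ m r k l, S.p m * L.q r * (B.zs k * B.zl l) * (S.p m * L.q r * (B.zs k * B.zl l)) = 1 := by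
    intro m r k l
    have c1 : Commute (S.p m * L.q r) (B.zs k * B.zl l) :=
      ((S.p_zs m k).mul_right (S.p_zl m l)).mul_left ((L.q_zs r k).mul_right (L.q_zl r l))
    exact prod_sq c1 (prod_sq (ps_pl m r) (ps_sq m) (pl_sq r)) (prod_sq (B.zs_zl k l) (B.zs_zs k) (B.zl_zl' l))
  have y_form : ∀ m r k l, S.p m * L.q r * (B.zs k * B.zl l) = S.p m * B.zs k * (L.q r * B.zl l) := by
    intro m r k l
    calc S.p m * L.q r * (B.zs k * B.zl l) = S.p m * (L.q r * B.zs k) * B.zl l := by group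
      _ = _ := by rw [(L.q_zs r k).eq]; group
  -- `κ = 0`
  have pa_ps : ∀ u m, Commute (Comm.p' S u) (S.p m) := by
    obtain ⟨κ, hκ⟩ := Prime.p'_p hF hB S
    obtain ⟨ε, ε', hx⟩ := Prime.p'_xb hF hB S L
    have h1 := hx 1 1
    simp only [hSe, add_zero, one_pow, mul_one] at h1
    have h2 : Comm.p' S 1 * (S.p 1 * L.q 1 * (B.zs ε * B.zl ε')) *
        (Comm.p' S 1 * (S.p 1 * L.q 1 * (B.zs ε * B.zl ε'))) = 1 := by
      rw [← h1]
      calc (B.xb 1)⁻¹ * Comm.p' S 1 * B.xb 1 * ((B.xb 1)⁻¹ * Comm.p' S 1 * B.xb 1)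
          = (B.xb 1)⁻¹ * (Comm.p' S 1 * Comm.p' S 1) * B.xb 1 := by group
        _ = 1 := by rw [pa_sq, mul_one, inv_mul_cancel]
    have h3 : Comm.p' S 1 * (S.p 1 * L.q 1 * (B.zs ε * B.zl ε')) =
        B.zl κ * ((S.p 1 * L.q 1 * (B.zs ε * B.zl ε')) * Comm.p' S 1) := by
      have h4 := hκ 1 1
      rw [mul_one, mul_one] at h4
      have c1 : Commute (Comm.p' S 1) (L.q 1 * (B.zs ε * B.zl ε')) :=
        (pa_pl 1 1).mul_right ((pa_zs 1 ε).mul_right (Comm.p'_zl S 1 ε'))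
      calc Comm.p' S 1 * (S.p 1 * L.q 1 * (B.zs ε * B.zl ε'))
          = (Comm.p' S 1 * S.p 1) * (L.q 1 * (B.zs ε * B.zl ε')) := by group
        _ = B.zl κ * S.p 1 * (Comm.p' S 1 * (L.q 1 * (B.zs ε * B.zl ε'))) := by rw [h4]; group
        _ = _ := by rw [c1.eq]; group
    have h5 : B.zl κ = 1 := kappa_zero h3 (Comm.p'_zl S 1 κ).symm (pa_sq 1) (y_sq _ _ _ _) h2
    have hk : κ = 0 := ll.x_inj _ h5
    intro u m
    have h6 := hκ u m
    rw [hk, zero_mul, B.zl_zero, one_mul] at h6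
    exact h6
  have pb_pl : ∀ u m, Commute (Prime.q' L u) (L.q m) := by
    obtain ⟨κ, hκ⟩ := Prime.q'_q hF hB L
    obtain ⟨ε, η, hx⟩ := Prime.q'_xa hF hB S L
    have h1 := hx 1 1
    simp only [hLe, add_zero, one_pow, mul_one] at h1
    have c0 : L.q 1 * S.p 1 * (B.zl ε * B.zs η) = S.p 1 * L.q 1 * (B.zs η * B.zl ε) := by
      rw [← (ps_pl 1 1).eq, (B.zs_zl η ε).eq]
    rw [c0] at h1
    have h2 : Prime.q' L 1 * (S.p 1 * L.q 1 * (B.zs η * B.zl ε)) *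
        (Prime.q' L 1 * (S.p 1 * L.q 1 * (B.zs η * B.zl ε))) = 1 := by
      rw [← h1]
      calc (B.xa 1)⁻¹ * Prime.q' L 1 * B.xa 1 * ((B.xa 1)⁻¹ * Prime.q' L 1 * B.xa 1)
          = (B.xa 1)⁻¹ * (Prime.q' L 1 * Prime.q' L 1) * B.xa 1 := by group
        _ = 1 := by rw [pb_sq, mul_one, inv_mul_cancel]
    have h3 : Prime.q' L 1 * (S.p 1 * L.q 1 * (B.zs η * B.zl ε)) =
        B.zs κ * ((S.p 1 * L.q 1 * (B.zs η * B.zl ε)) * Prime.q' L 1) := by
      have h4 := hκ 1 1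
      rw [mul_one, mul_one, one_pow] at h4
      have c1 : Commute (Prime.q' L 1) (B.zs η * B.zl ε) :=
        (Prime.q'_zs L 1 η).mul_right (pb_zl 1 ε)
      have c2 : Commute (B.zs κ) (S.p 1) := (S.p_zs 1 κ).symm
      calc Prime.q' L 1 * (S.p 1 * L.q 1 * (B.zs η * B.zl ε))
          = (Prime.q' L 1 * S.p 1) * L.q 1 * (B.zs η * B.zl ε) := by group
        _ = S.p 1 * (Prime.q' L 1 * L.q 1) * (B.zs η * B.zl ε) := by rw [(pb_ps 1 1).eq]; group
        _ = (S.p 1 * B.zs κ) * L.q 1 * (Prime.q' L 1 * (B.zs η * B.zl ε)) := by rw [h4]; group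
        _ = _ := by rw [c1.eq, ← c2.eq]; group
    have h5 : B.zs κ = 1 := kappa_zero h3 (Prime.q'_zs L 1 κ).symm (pb_sq 1) (y_sq _ _ _ _) h2
    have hk : κ = 0 := ls.x_inj _ h5
    intro u m
    obtain ⟨r, rfl⟩ := FieldAux.exists_sq m
    obtain ⟨s, rfl⟩ := FieldAux.exists_sq u
    have h6 := hκ s r
    rw [hk, zero_mul, B.zs_zero, one_mul] at h6
    exact h6
  refine ⟨{
    pa := Comm.p' S
    pb := Prime.q' L
    ps := S.p
    pl := L.q
    la := la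
    lb := lb
    ls := ls
    ll := ll
    ps_xa := ps_xa
    ps_xb := S.p_xb
    ps_zl := S.p_zl
    pl_xa := L.q_xa
    pl_xb := pl_xb
    pl_zs := L.q_zs
    ps_pl := ps_pl
    pa_zs := pa_zs
    pa_zl := Comm.p'_zl S
    pb_zs := Prime.q'_zs L
    pb_zl := pb_zl
    pa_ps := pa_ps
    pa_pl := pa_pl
    pb_ps := pb_ps
    pb_pl := pb_pl
    pa_xb := ?_
    xa_pb := ?_
    h_pa := Comm.h_p' S
    h_pb := Prime.h_q' L
    h_ps := S.h_p
    h_pl := L.h_q }, rfl, rfl, rfl, rfl⟩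
  · obtain ⟨ε, ε', hx⟩ := Prime.p'_xb hF hB S L
    intro u s
    refine ⟨ε * (u * s), ε' * (u ^ 2 * s), ?_⟩
    have h1 := hx u s
    rw [hSe, add_zero, one_mul, y_form] at h1
    rw [mul_assoc (B.xb s), ← h1]
    group
  · obtain ⟨ε, η, hx⟩ := Prime.q'_xa hF hB S L
    intro u s
    refine ⟨η * (u * s), ε * (u ^ 2 * s), ?_⟩
    have h1 := hx s u
    have c0 : L.q (u ^ 2 * s) * S.p (u * s) * (B.zl (ε * (u ^ 2 * s)) * B.zs (η * (u * s))) =
        S.p (u * s) * L.q (u ^ 2 * s) * (B.zs (η * (u * s)) * B.zl (ε * (u ^ 2 * s))) := by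
      rw [← (ps_pl _ _).eq, (B.zs_zl _ _).eq]
    rw [hLe, add_zero, one_mul, c0] at h1
    have h2 := y_sq (u * s) (u ^ 2 * s) (η * (u * s)) (ε * (u ^ 2 * s))
    rw [← y_form]
    set y := S.p (u * s) * L.q (u ^ 2 * s) * (B.zs (η * (u * s)) * B.zl (ε * (u ^ 2 * s)))
    have h3 : Prime.q' L s * B.xa u = B.xa u * Prime.q' L s * y := by
      rw [mul_assoc (B.xa u), ← h1]; group
    rw [h3, mul_assoc _ y y, h2, mul_one]


/-- The layers with the constants of `[p_a, x_b]`, `[p_b, x_a]` and the Weyl elements. -/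
structure Links (R : RelA B) (ε ε' η η' : F) : Prop where
  xb : ∀ u s, cj (B.xb s) (R.pa u) = R.pa u * R.zh (u * s) (ε * (u * s)) (u ^ 2 * s) (ε' * (u ^ 2 * s))
  xa : ∀ u s, cj (B.xa u) (R.pb s) = R.pb s * R.zh (u * s) (η * (u * s)) (u ^ 2 * s) (η' * (u ^ 2 * s))
  nb_pa : ∀ u, B.nb * R.pa u = R.ps u * B.nb
  nb_ps : ∀ u, B.nb * R.ps u = R.pa u * B.nb
  na_pb : ∀ u, B.na * R.pb u = R.pl u * B.na
  na_pl : ∀ u, B.na * R.pl u = R.pb u * B.na
  nb_pl : ∀ u, ∃ k, B.nb * R.pl u = R.pl u * B.zl k * B.nb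
  na_ps : ∀ u, ∃ k, B.na * R.ps u = R.ps u * B.zs k * B.na

namespace Links

variable {R : RelA B} {ε ε' η η' : F} (h : Links R ε ε' η η')
include h

theorem zh_mul' (m k r l m' k' r' l' : F) {k1 l1 : F} (h1 : R.ps m * R.ps m' = R.ps (m + m') * B.zs k1)
    (h2 : R.pl r * R.pl r' = R.pl (r + r') * B.zl l1) :
    R.zh m k r l * R.zh m' k' r' l' = R.zh (m + m') (k1 + k + k') (r + r') (l1 + l + l') := by
  unfold RelA.zh
  rw [B.zs_add, B.zs_add, B.zl_add, B.zl_add]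
  have e1 := (R.ls_ll m' k' r l).eq
  have e2 := (R.ls.p_x m' k).eq
  have e3 := (R.ll.p_x r' l).eq
  calc R.ps m * B.zs k * (R.pl r * B.zl l) * (R.ps m' * B.zs k' * (R.pl r' * B.zl l'))
      = R.ps m * B.zs k * ((R.pl r * B.zl l) * (R.ps m' * B.zs k')) * (R.pl r' * B.zl l') := by group
    _ = R.ps m * (B.zs k * R.ps m') * B.zs k' * R.pl r * (B.zl l * R.pl r') * B.zl l' := by rw [← e1]; group
    _ = (R.ps m * R.ps m') * B.zs k * B.zs k' * (R.pl r * R.pl r') * B.zl l * B.zl l' := by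
        rw [← e2, ← e3]; group
    _ = _ := by rw [h1, h2]; group

theorem add0 (s s' : F) : R.ps (s + s') = R.ps s * R.ps s' ∧ R.pl (s + s') = R.pl s * R.pl s' := by
  obtain ⟨k1, h1⟩ := R.ls.p_add s' s
  obtain ⟨l1, h2⟩ := R.ll.p_add s' s
  have e1 := h.xb 1 (s + s')
  have e2 := h.xb 1 s
  have e3 := h.xb 1 s'
  simp only [one_mul, one_pow] at e1 e2 e3
  rw [B.xb_add, cj_mul_left, e2, cj_mul, e3, cj_of_comm (R.zh_xb _ _ _ _ _)] at e1
  rw [mul_assoc, h.zh_mul' _ _ _ _ _ _ _ _ h1 h2, add_comm s s'] at e1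
  have e4 := R.zh_inj (mul_left_cancel e1)
  have hk : k1 = 0 := by linear_combination e4.2.1
  have hl : l1 = 0 := by linear_combination e4.2.2.2
  rw [hk, B.zs_zero, mul_one] at h1
  rw [hl, B.zl_zero, mul_one] at h2
  constructor
  · rw [add_comm, ← h1, (R.ls.p_p s' s).eq]
  · rw [add_comm, ← h2, (R.ll.p_p s' s).eq]

theorem ps_add (s s' : F) : R.ps (s + s') = R.ps s * R.ps s' := (h.add0 s s').1
theorem pl_add (s s' : F) : R.pl (s + s') = R.pl s * R.pl s' := (h.add0 s s').2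

theorem pa_eq (u : F) : R.pa u = B.nb * R.ps u * B.nb⁻¹ := by rw [h.nb_ps, mul_inv_cancel_right]
theorem pb_eq (u : F) : R.pb u = B.na * R.pl u * B.na⁻¹ := by rw [h.na_pl, mul_inv_cancel_right]

theorem pa_add (s s' : F) : R.pa (s + s') = R.pa s * R.pa s' := by
  rw [h.pa_eq, h.ps_add, h.pa_eq, h.pa_eq]; group
theorem pb_add (s s' : F) : R.pb (s + s') = R.pb s * R.pb s' := by
  rw [h.pb_eq, h.pl_add, h.pb_eq, h.pb_eq]; group

omit h in
theorem n_eq {n x : G} (hn : n * n = 1) (hx : x * x = 1) (h3 : (n * x) ^ 3 = 1) : n = x * (n * x * n⁻¹) * x := by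
  have hni : n⁻¹ = n := inv_eq_of_mul_eq_one_right hn
  have h1 : n * x * n * (x * n * x) = 1 := by
    rw [← h3, pow_succ, pow_two]; group
  have h2 : n * x * n = (x * n * x)⁻¹ := eq_inv_of_mul_eq_one_left h1
  have hxi : x⁻¹ = x := inv_eq_of_mul_eq_one_right hx
  rw [hni, h2, mul_inv_rev, mul_inv_rev, hxi, hni]
  calc n = (x * x) * n * (x * x) := by rw [hx, one_mul, mul_one]
    _ = _ := by group

variable (W : Weyl B)
include W

theorem nb_pl' (r : F) : B.nb * R.pl r = R.pl r * B.nb := by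
  obtain ⟨k, hk⟩ := h.nb_pl r
  have h1 : Commute (B.nb * B.xb 1 * B.nb⁻¹) (R.pl r) := by
    have hni : B.nb⁻¹ = B.nb := inv_eq_of_mul_eq_one_right W.nb_sq
    have e1 : B.nb⁻¹ * R.pl r * B.nb = R.pl r * B.zl k := by
      rw [hni, hk, mul_assoc, W.nb_sq, mul_one]
    have e2 : Commute (B.xb 1) (B.nb⁻¹ * R.pl r * B.nb) := by
      rw [e1]
      exact (R.pl_xb r 1).symm.mul_right (B.xb_zl 1 k)
    have e3 := e2.map (MulAut.conj B.nb)
    simp only [MulAut.conj_apply] at e3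
    have e4 : B.nb * (B.nb⁻¹ * R.pl r * B.nb) * B.nb⁻¹ = R.pl r := by group
    rwa [e4] at e3
  have h2 := n_eq W.nb_sq (B.xb_xb 1) W.nb_xb
  have h3 : Commute B.nb (R.pl r) := by
    rw [h2]
    exact ((R.pl_xb r 1).symm.mul_left h1).mul_left (R.pl_xb r 1).symm
  exact h3

theorem na_ps' (r : F) : B.na * R.ps r = R.ps r * B.na := by
  obtain ⟨k, hk⟩ := h.na_ps r
  have h1 : Commute (B.na * B.xa 1 * B.na⁻¹) (R.ps r) := by
    have hni : B.na⁻¹ = B.na := inv_eq_of_mul_eq_one_right W.na_sq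
    have e1 : B.na⁻¹ * R.ps r * B.na = R.ps r * B.zs k := by
      rw [hni, hk, mul_assoc, W.na_sq, mul_one]
    have e2 : Commute (B.xa 1) (B.na⁻¹ * R.ps r * B.na) := by
      rw [e1]
      exact (R.ps_xa r 1).symm.mul_right (B.xa_zs 1 k)
    have e3 := e2.map (MulAut.conj B.na)
    simp only [MulAut.conj_apply] at e3
    have e4 : B.na * (B.na⁻¹ * R.ps r * B.na) * B.na⁻¹ = R.ps r := by group
    rwa [e4] at e3
  have h2 := n_eq W.na_sq (B.xa_xa 1) W.na_xa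
  have h3 : Commute B.na (R.ps r) := by
    rw [h2]
    exact ((R.ps_xa r 1).symm.mul_left h1).mul_left (R.ps_xa r 1).symm
  exact h3

/-- the layers as `RingL` -/
def toL : RingL B where
  pa := R.pa
  pb := R.pb
  ps := R.ps
  pl := R.pl
  pa_add := h.pa_add
  pb_add := h.pb_add
  ps_add := h.ps_add
  pl_add := h.pl_add
  t_pa := R.la.t_p
  t_pb := R.lb.t_p
  t_ps := R.ls.t_p
  t_pl := R.ll.t_p
  pa_xa := R.la.p_x
  pa_zs := R.pa_zs
  pa_zl := R.pa_zl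
  pa_ps := R.pa_ps
  pa_pl := R.pa_pl
  pb_xb := R.lb.p_x
  pb_zs := R.pb_zs
  pb_zl := R.pb_zl
  pb_ps := R.pb_ps
  pb_pl := R.pb_pl
  ps_xa := R.ps_xa
  ps_xb := R.ps_xb
  ps_zs := R.ls.p_x
  ps_zl := R.ps_zl
  ps_pl := R.ps_pl
  pl_xa := R.pl_xa
  pl_xb := R.pl_xb
  pl_zs := R.pl_zs
  pl_zl := R.ll.p_x
  h_pa := R.h_pa
  h_pb := R.h_pb
  h_ps := R.h_ps
  h_pl := R.h_pl
  nb_pa := h.nb_pa
  nb_ps := h.nb_ps
  nb_pl := h.nb_pl' W
  na_pb := h.na_pb
  na_pl := h.na_pl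
  na_ps := h.na_ps' W

omit W in
theorem cj_of_mul {g x y : G} (e : g * y = x * g) : cj g x = y := by
  rw [cj, mul_assoc, ← e, inv_mul_cancel_left]

omit W in
theorem cj_inv_of_mul {g x y : G} (e : g * x = y * g) : cj g⁻¹ x = y := by
  rw [cj, inv_inv, e, mul_inv_cancel_right]

/-- `ε = 0` -/
theorem eps_zero : ε = 0 := by
  set L := h.toL W with hL
  have e1 : cj B.nb (R.ps 1) = R.pa 1 := cj_of_mul h (h.nb_pa 1)
  have e2 : cj (B.xb 1) (R.pa 1) = L.V 1 0 1 ε 1 ε' := by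
    rw [h.xb 1 1]
    simp only [mul_one, one_pow]
    rw [L.V_eq, B.xa_zero]
    show R.pa 1 * R.zh 1 ε 1 ε' = R.pa 1 * 1 * R.ps 1 * B.zs ε * R.pl 1 * B.zl ε'
    unfold RelA.zh; group
  have e3 : ∀ w u m k r l, cj B.nb⁻¹ (L.V w u m k r l) = L.V m k w u r l := by
    intro w u m k r l
    have h1 := L.cj_nb_V m k w u r l
    rw [← h1, ← cj_mul_left, mul_inv_cancel, cj, inv_one, one_mul, mul_one]
  have e4 : cj (B.xb 1) (B.xa ε) = L.V 0 ε 0 ε 0 (ε ^ 2) := by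
    rw [cj, mul_assoc, B.xa_xb, L.V_eq, L.pa_zero, L.ps_zero, L.pl_zero, mul_one, mul_one]
    group
  have e5 : cj (B.xb 1) (R.ps 1) = R.ps 1 := cj_of_comm (R.ps_xb 1 1)
  have e6 : R.ps 1 = L.V 0 0 1 0 0 0 := L.V_ps 1
  have e7 : ∀ m k r l, cj (B.xb 1) (L.V 0 0 m k r l) = L.V 0 0 m k r l := by
    intro m k r l
    rw [← L.V_Zf]
    exact cj_of_comm (L.Zf_xb _ _ _ _ _)
  have h1 : cj B.nb (R.ps 1) = cj (B.xb 1) (cj (B.nb * B.xb 1 * B.nb⁻¹) (cj (B.xb 1) (R.ps 1))) := by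
    rw [← cj_mul_left, ← cj_mul_left]
    congr 1
    rw [← mul_assoc]
    exact n_eq W.nb_sq (B.xb_xb 1) W.nb_xb
  rw [e1, e5, cj_mul_left, cj_mul_left, e1, e2, e3] at h1
  have e8 : L.V 1 ε 1 0 1 ε' = R.pa 1 * B.xa ε * L.V 0 0 1 0 1 ε' := by
    have : R.pa 1 = L.V 1 0 0 0 0 0 := L.V_pa 1
    rw [this, L.V_xa, L.V_mul, L.V_mul]; simp only [add_zero, zero_add]
  have e9 : R.pa 1 = L.V 1 0 0 0 0 0 := L.V_pa 1
  rw [e8, cj_mul, cj_mul, e2, e4, e7, L.V_mul, L.V_mul, e9] at h1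
  have h2 := L.V_inj h1
  have h3 := h2.2.1
  rw [zero_add, add_zero] at h3
  exact h3.symm

/-- `η' = 0` -/
theorem eta_zero : η' = 0 := by
  set L := h.toL W with hL
  have e1 : cj B.na (R.pl 1) = R.pb 1 := cj_of_mul h (h.na_pb 1)
  have e2 : cj (B.xa 1) (R.pb 1) = R.pb 1 * L.V 0 0 1 η 1 η' := by
    rw [h.xa 1 1]
    simp only [mul_one, one_pow]
    congr 1
    exact L.V_Zf 1 η 1 η'
  have e3 : cj B.na⁻¹ (R.pb 1 * L.V 0 0 1 η 1 η') = L.V 0 0 1 η 1 0 * (R.pb 1 * B.xb η') := by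
    rw [cj_mul, ← L.V_Zf, RingL.Zf, cj_mul, cj_mul, cj_mul, cj_inv_of_mul h (h.na_pb 1)]
    rw [show cj B.na⁻¹ (L.ps 1) = L.ps 1 from cj_inv_of_mul h (L.na_ps 1),
      cj_inv_of_mul h (B.na_zs η), show cj B.na⁻¹ (L.pl 1) = L.pb 1 from cj_inv_of_mul h (L.na_pl 1),
      cj_inv_of_mul h (B.na_zl η')]
    have : L.V 0 0 1 η 1 0 = R.pl 1 * (R.ps 1 * B.zs η) := by
      have a1 : R.pl 1 = L.V 0 0 0 0 1 0 := L.V_pl 1
      have a2 : R.ps 1 = L.V 0 0 1 0 0 0 := L.V_ps 1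
      rw [a1, a2, L.V_zs, L.V_mul, L.V_mul]; simp only [add_zero, zero_add]
    rw [this]
    show R.pl 1 * (R.ps 1 * B.zs η * (R.pb 1 * B.xb η')) = _
    group
  have e4 : cj (B.xa 1) (B.xb η') = B.xb η' * L.V 0 0 0 η' 0 η' := by
    have h1 := B.xa_xb 1 η'
    rw [one_mul, one_pow, one_mul] at h1
    have h2 : B.xb η' * B.xa 1 = B.xa 1 * B.xb η' * L.V 0 0 0 η' 0 η' := by
      have a1 : L.V 0 0 0 η' 0 η' = B.zs η' * B.zl η' := by
        rw [L.V_zs, L.V_zl, L.V_mul]; simp only [add_zero, zero_add]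
      have a2 : L.V 0 0 0 η' 0 η' * L.V 0 0 0 η' 0 η' = 1 := L.V_sq _ _ _ _ _ _
      rw [h1, mul_assoc (B.xb η' * B.xa 1), ← a1, mul_assoc, a2, mul_one]
    rw [cj, mul_assoc, h2]; group
  have e5 : cj (B.xa 1) (R.pl 1) = R.pl 1 := cj_of_comm (R.pl_xa 1 1)
  have e7 : ∀ m k r l, cj (B.xa 1) (L.V 0 0 m k r l) = L.V 0 0 m k r l := by
    intro m k r l
    rw [← L.V_Zf]
    exact cj_of_comm (L.Zf_xa _ _ _ _ _)
  have h1 : cj B.na (R.pl 1) = cj (B.xa 1) (cj (B.na * B.xa 1 * B.na⁻¹) (cj (B.xa 1) (R.pl 1))) := by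
    rw [← cj_mul_left, ← cj_mul_left]
    congr 1
    rw [← mul_assoc]
    exact n_eq W.na_sq (B.xa_xa 1) W.na_xa
  rw [e1, e5, cj_mul_left, cj_mul_left, e1, e2, e3, cj_mul, cj_mul, e2, e4, e7] at h1
  have c1 : Commute (L.V 0 0 1 η 1 0) (R.pb 1) := by
    rw [← L.V_Zf]; exact L.Zf_pb _ _ _ _ _
  have c2 : Commute (L.V 0 0 1 η 1 η') (B.xb η') := by
    rw [← L.V_Zf]; exact L.Zf_xb _ _ _ _ _
  have c3 : Commute (L.V 0 0 1 η 1 0) (B.xb η') := by
    rw [← L.V_Zf]; exact L.Zf_xb _ _ _ _ _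
  have h2 : R.pb 1 = R.pb 1 * (B.xb η' * L.V 0 0 0 η' 0 0) := by
    nth_rewrite 1 [h1]
    calc L.V 0 0 1 η 1 0 * (R.pb 1 * L.V 0 0 1 η 1 η' * (B.xb η' * L.V 0 0 0 η' 0 η'))
        = (L.V 0 0 1 η 1 0 * R.pb 1) * (L.V 0 0 1 η 1 η' * B.xb η') * L.V 0 0 0 η' 0 η' := by group
      _ = R.pb 1 * (L.V 0 0 1 η 1 0 * B.xb η') * (L.V 0 0 1 η 1 η' * L.V 0 0 0 η' 0 η') := by
          rw [c1.eq, c2.eq]; group
      _ = R.pb 1 * B.xb η' * (L.V 0 0 1 η 1 0 * (L.V 0 0 1 η 1 η' * L.V 0 0 0 η' 0 η')) := by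
          rw [c3.eq]; group
      _ = _ := by
          rw [L.V_mul, L.V_mul, mul_assoc]
          congr 2
          simp only [add_zero]
          congr 1
          · exact CharTwo.add_self_eq_zero _
          · rw [← add_assoc, CharTwo.add_self_eq_zero, zero_add]
          · exact CharTwo.add_self_eq_zero _
          · rw [CharTwo.add_self_eq_zero, add_zero]
  have h3 : B.xb η' * L.V 0 0 0 η' 0 0 = 1 := by
    have : R.pb 1 * (B.xb η' * L.V 0 0 0 η' 0 0) = R.pb 1 := h2.symm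
    exact mul_eq_left.1 this
  rw [← L.V_zs] at h3
  have h4 := B.inj 0 η' η' 0 (by rw [B.xa_zero, B.zl_zero, one_mul, mul_one]; exact h3)
  exact h4.2.1

end Links

/-- the constants of `[p_a, p_b]` -/
theorem exists_pp (L : RingL B) {δ : F}
    (h1 : ∀ u s, cj (B.xb s) (L.pa u) = L.V u 0 (u * s) 0 (u ^ 2 * s) (δ * (u ^ 2 * s)))
    (h2 : ∀ u s, cj (L.pb s) (B.xa u) = L.V 0 u (u * s) 0 (u ^ 2 * s) 0)
    (h3 : ∀ u s, ∃ m k r l, cj (L.pb s) (L.pa u) = L.V u 0 m k r l) :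
    ∃ κ μ, ∀ u s, cj (L.pb s) (L.pa u) =
      L.V u 0 (u * s) (κ * (u * s)) ((1 + δ) * (u ^ 2 * s)) (μ * (u ^ 2 * s)) := by
  obtain ⟨m, κ, r, μ, h4⟩ := h3 1 1
  -- conjugation by `t`
  have ht : ∀ x : G, cj B.t x = B.t * x * B.t := by intro x; rw [cj, B.t_inv]
  have tpb : cj B.t (L.pb 1) = L.pb 1 * B.xb 1 := by
    rw [ht, L.t_pb, mul_assoc _ (B.xb 1) B.t, ← (B.t_xb 1).eq, ← mul_assoc, mul_assoc (L.pb 1), B.tt, mul_one]
  have h5 : cj (L.pb 1 * B.xb 1) (L.V 1 1 0 0 0 0) = L.V 1 (0 + 1) m (κ + m) r (μ + r) := by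
    have e1 : L.V 1 1 0 0 0 0 = cj B.t (L.pa 1) := by
      rw [ht, L.V_pa, L.t_V]; simp only [zero_add]
    rw [e1, ← tpb, ← L.t_V, ← h4, ← ht]
    have : ∀ g x : G, cj (cj B.t g) (cj B.t x) = cj B.t (cj g x) := by
      intro g x
      simp only [cj]; group
    rw [this]
  have h6 : cj (L.pb 1 * B.xb 1) (L.V 1 1 0 0 0 0) =
      L.V 1 (0 + 1) (m + 1 + 1) (κ + 1) (r + 1 + 1) (μ + δ + 1) := by
    have e1 : L.V 1 1 0 0 0 0 = L.pa 1 * B.xa 1 := by
      rw [L.V_pa, L.V_xa, L.V_mul]; simp only [add_zero, zero_add]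
    have e2 : cj (B.xb 1) (B.xa 1) = L.V 0 1 0 1 0 1 := by
      rw [cj, mul_assoc, B.xa_xb, L.V_eq, L.pa_zero, L.ps_zero, L.pl_zero]
      simp only [mul_one, one_mul, one_pow]
      group
    have e3 : ∀ m k r l, cj (B.xb 1) (L.V 0 0 m k r l) = L.V 0 0 m k r l := by
      intro m k r l
      rw [← L.V_Zf]
      exact cj_of_comm (L.Zf_xb _ _ _ _ _)
    have e4 : L.V 1 0 m κ r μ = L.pa 1 * L.V 0 0 m κ r μ := by
      rw [L.V_pa, L.V_mul]; simp only [add_zero, zero_add]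
    have e5 : L.V 0 1 (1 * 1) 0 (1 ^ 2 * 1) 0 = B.xa 1 * L.V 0 0 1 0 1 0 := by
      rw [L.V_xa, L.V_mul]; simp only [add_zero, zero_add, one_mul, one_pow]
    rw [e1, cj_mul, cj_mul_left, cj_mul_left, h4, h2, e4, e5, cj_mul, cj_mul, h1, e2, e3, e3, L.V_mul, L.V_mul, L.V_mul]
    congr 1 <;> ring
  rw [h5] at h6
  obtain ⟨-, -, -, h7, -, h8⟩ := L.V_inj h6
  have hm : m = 1 := by linear_combination h7
  have hr : r = 1 + δ := by linear_combination h8
  subst hm hr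
  refine ⟨κ, μ, fun u s => ?_⟩
  by_cases hu : u = 0
  · subst hu
    rw [L.pa_zero, cj_one]
    simp only [zero_mul, mul_zero, ne_eq, OfNat.ofNat_ne_zero, not_false_eq_true, zero_pow]
    rw [L.V_zero]
  by_cases hs : s = 0
  · subst hs
    rw [L.pb_zero, L.V_pa, cj, inv_one, one_mul, mul_one]
    simp only [mul_zero]
  have e1 := L.cj_h_V (Units.mk0 u hu) (Units.mk0 s hs) 1 0 1 κ (1 + δ) μ
  rw [← h4] at e1
  have e2 : cj (B.h (Units.mk0 u hu) (Units.mk0 s hs))⁻¹ (cj (L.pb 1) (L.pa 1)) = cj (L.pb s) (L.pa u) := by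
    have a1 : cj (B.h (Units.mk0 u hu) (Units.mk0 s hs))⁻¹ (L.pb 1) = L.pb s := by
      rw [cj, inv_inv, L.h_pb, mul_inv_cancel_right, Units.val_mk0, mul_one]
    have a2 : cj (B.h (Units.mk0 u hu) (Units.mk0 s hs))⁻¹ (L.pa 1) = L.pa u := by
      rw [cj, inv_inv, L.h_pa, mul_inv_cancel_right, Units.val_mk0, mul_one]
    rw [← a1, ← a2]
    simp only [cj]; group
  rw [← e2, e1]
  simp only [Units.val_mk0]
  congr 1 <;> ring

/-- **The ring relations of case (A).** -/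
theorem exists_ringA [Finite F] (hF : 4 ≤ Nat.card F) (hB : B.Self) (W : Weyl B) (S : ShortLayer B) (L : LongLayer B)
    (hSe : S.e = 0) (hLe : L.e = 0) (hSc : S.c = 0) (hLc : L.c = 0) :
    ∃ δ κ μ, Nonempty (RingA B δ κ μ) := by
  have := Fintype.ofFinite F
  have hF' : 4 ≤ Fintype.card F := by rwa [← Nat.card_eq_fintype_card]
  obtain ⟨R, r1, r2, r3, r4⟩ := exists_relA' hF hB S L hSe hLe hSc hLc
  obtain ⟨ε, ε', hx⟩ := Prime.p'_xb hF hB S L
  obtain ⟨η', η, hy⟩ := Prime.q'_xa hF hB S L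
  have H : Links R ε ε' η η' :=
    { xb := by
        intro u s
        have h := hx u s
        rw [hSe, add_zero, one_mul] at h
        rw [r1, cj]
        unfold RelA.zh
        rw [r3, r4, h]
        have c1 := (L.q_zs (u ^ 2 * s) (ε * (u * s))).eq
        calc p' S u * (S.p (u * s) * L.q (u ^ 2 * s) * (B.zs (ε * (u * s)) * B.zl (ε' * (u ^ 2 * s))))
            = p' S u * (S.p (u * s) * (L.q (u ^ 2 * s) * B.zs (ε * (u * s))) * B.zl (ε' * (u ^ 2 * s))) := by group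
          _ = _ := by rw [c1]; group
      xa := by
        intro u s
        have h := hy s u
        rw [hLe, add_zero, one_mul] at h
        rw [r2, cj]
        unfold RelA.zh
        rw [r3, r4, h]
        have c1 := (L.q_zs (u ^ 2 * s) (η * (u * s))).eq
        have c2 : L.q (u ^ 2 * s) * S.p (u * s) = S.p (u * s) * L.q (u ^ 2 * s) := by
          rw [← r3, ← r4, (R.ps_pl _ _).eq]
        have c3 := (B.zs_zl (η * (u * s)) (η' * (u ^ 2 * s))).eq
        calc Prime.q' L s * (L.q (u ^ 2 * s) * S.p (u * s) * (B.zl (η' * (u ^ 2 * s)) * B.zs (η * (u * s))))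
            = Prime.q' L s * ((L.q (u ^ 2 * s) * S.p (u * s)) * (B.zs (η * (u * s)) * B.zl (η' * (u ^ 2 * s)))) := by
              rw [c3]
          _ = Prime.q' L s * (S.p (u * s) * (L.q (u ^ 2 * s) * B.zs (η * (u * s))) * B.zl (η' * (u ^ 2 * s))) := by
              rw [c2]; group
          _ = _ := by rw [c1]; group
      nb_pa := by
        intro u
        rw [r1, r3, p'_eq]
        have hni : B.nb⁻¹ = B.nb := inv_eq_of_mul_eq_one_right W.nb_sq
        calc B.nb * (B.nb * S.p u * B.nb⁻¹) = (B.nb * B.nb) * S.p u * B.nb⁻¹ := by group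
          _ = _ := by rw [W.nb_sq, one_mul, hni]
      nb_ps := by
        intro u
        rw [r1, r3, p'_eq, inv_mul_cancel_right]
      na_pb := by
        intro u
        rw [r2, r4, Prime.q', MulAut.conj_apply]
        have hni : B.na⁻¹ = B.na := inv_eq_of_mul_eq_one_right W.na_sq
        calc B.na * (B.na * L.q u * B.na⁻¹) = (B.na * B.na) * L.q u * B.na⁻¹ := by group
          _ = _ := by rw [W.na_sq, one_mul, hni]
      na_pl := by
        intro u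
        rw [r2, r4, Prime.q', MulAut.conj_apply, inv_mul_cancel_right]
      nb_pl := by
        intro u
        obtain ⟨k, hk⟩ := nb_q hF hB L u
        refine ⟨k, ?_⟩
        rw [r4, ← (L.q_zl u k).symm.eq, ← hk, MulAut.conj_apply, inv_mul_cancel_right]
      na_ps := by
        intro u
        obtain ⟨k, hk⟩ := nb_q hF (Swap.swap_self B hB) (Swap.swapL S) (u ^ 2)
        refine ⟨Swap.rt k, ?_⟩
        rw [r3]
        change MulAut.conj B.na (S.p (Swap.rt (u ^ 2))) = B.zs (Swap.rt k) * S.p (Swap.rt (u ^ 2)) at hk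
        rw [Swap.rt_sq, ← (S.p_zs u _).eq] at hk
        rw [← hk, MulAut.conj_apply, inv_mul_cancel_right] }
  have hε := H.eps_zero W
  have hη := H.eta_zero W
  subst hε hη
  set L0 := H.toL W with hL0
  set L1 := L0.shift 0 η with hL1
  have e1 : ∀ u, L1.pa u = L0.V u 0 0 0 0 0 := by
    intro u
    show L0.pa u * B.xa (0 * u) = _
    rw [zero_mul, B.xa_zero, mul_one, L0.V_pa]
  have p1 : ∀ u s, cj (B.xb s) (L1.pa u) = L1.V u 0 (u * s) 0 (u ^ 2 * s) ((ε' + η) * (u ^ 2 * s)) := by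
    intro u s
    have a1 : L1.pa u = L0.pa u := by rw [e1, ← L0.V_pa]
    have a2 : cj (B.xb s) (L0.pa u) = L0.pa u * L0.Zf (u * s) (0 * (u * s)) (u ^ 2 * s) (ε' * (u ^ 2 * s)) := H.xb u s
    rw [a1, a2, L0.V_Zf, L0.V_pa, L0.V_mul, RingL.shift_V]
    have h2 : (2 : F) = 0 := CharTwo.two_eq_zero
    congr 1
    all_goals first | ring1 | linear_combination (-(η * u ^ 2 * s)) * h2
  have p2 : ∀ u s, cj (L1.pb s) (B.xa u) = L1.V 0 u (u * s) 0 (u ^ 2 * s) 0 := by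
    intro u s
    have a1 : cj (B.xa u) (L0.pb s) = L0.pb s * L0.Zf (u * s) (η * (u * s)) (u ^ 2 * s) (0 * (u ^ 2 * s)) := H.xa u s
    have a2 : cj (L0.pb s) (B.xa u) = B.xa u * L0.Zf (u * s) (η * (u * s)) (u ^ 2 * s) (0 * (u ^ 2 * s)) := by
      set ζ := L0.Zf (u * s) (η * (u * s)) (u ^ 2 * s) (0 * (u ^ 2 * s)) with hζ
      have b1 : ζ * ζ = 1 := by rw [hζ, L0.V_Zf, L0.V_sq]
      have b2 : Commute ζ (L0.pb s) := L0.Zf_pb _ _ _ _ _
      have b3 : Commute ζ (B.xa u) := L0.Zf_xa _ _ _ _ _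
      have b4 : L0.pb s * B.xa u = B.xa u * (L0.pb s * ζ) := by rw [← a1, cj]; group
      rw [cj, mul_assoc]
      have b5 : B.xa u * L0.pb s = L0.pb s * (B.xa u * ζ) := by
        calc B.xa u * L0.pb s = B.xa u * L0.pb s * (ζ * ζ) := by rw [b1, mul_one]
          _ = B.xa u * (L0.pb s * ζ) * ζ := by group
          _ = _ := by rw [← b4]; group
      rw [b5, inv_mul_cancel_left]
    have a3 : L1.pb s = L0.pb s * B.xb (η * s) := rfl
    have a4 : cj (B.xb (η * s)) (B.xa u) = L0.V 0 u 0 (u * (η * s)) 0 (u ^ 2 * (η * s)) := by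
      rw [cj, mul_assoc, B.xa_xb, L0.V_eq, L0.pa_zero, L0.ps_zero, L0.pl_zero]
      simp only [mul_one, one_mul]
      group
    rw [a3, cj_mul_left, a2, cj_mul, a4, cj_of_comm (L0.Zf_xb _ _ _ _ _), L0.V_Zf, L0.V_mul, RingL.shift_V]
    have h2 : (2 : F) = 0 := CharTwo.two_eq_zero
    congr 1
    all_goals first | ring1 | linear_combination (η * u * s) * h2
  have p3 : ∀ u s, ∃ m k r l, cj (L1.pb s) (L1.pa u) = L1.V u 0 m k r l := by
    intro u s
    obtain ⟨_, ⟨m, k, r, l, rfl⟩, hc⟩ := R.pa_pb hB hF' u s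
    have a1 : cj (L0.pb s) (L0.pa u) = L0.pa u * L0.Zf m k r l := by
      have b1 : L0.pa u * L0.pb s = L0.pb s * L0.pa u * L0.Zf m k r l := hc
      rw [cj, mul_assoc, b1]; group
    have a2 : L1.pb s = L0.pb s * B.xb (η * s) := rfl
    have a3 : L1.pa u = L0.pa u := by rw [e1, ← L0.V_pa]
    have a4 : cj (B.xb (η * s)) (L0.pa u) = L0.pa u * L0.Zf (u * (η * s)) (0 * (u * (η * s))) (u ^ 2 * (η * s))
      (ε' * (u ^ 2 * (η * s))) := H.xb u (η * s)
    rw [a2, a3, cj_mul_left, a1, cj_mul, a4, cj_of_comm (L0.Zf_xb _ _ _ _ _), L0.V_Zf, L0.V_Zf, L0.V_pa, L0.V_mul,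
      L0.V_mul]
    have a5 : ∀ w u m k r l, L0.V w u m k r l = L1.V w u m k r (l + η * r) := by
      intro w u m k r l
      rw [RingL.shift_V]
      have h2 : (2 : F) = 0 := CharTwo.two_eq_zero
      congr 1
      all_goals first | ring1 | linear_combination (-(η * r)) * h2
    rw [a5]
    simp only [add_zero]
    exact ⟨_, _, _, _, rfl⟩
  obtain ⟨κ, μ, h⟩ := exists_pp L1 p1 p2 p3
  exact ⟨_, _, _, ⟨L1.mkA p1 p2 h⟩⟩

end RingMake
end Cfsg.Agent.StdSpFour
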