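import Cfsg.Agent.StdSpFour.RingATriv
import Cfsg.Agent.StdSpFour.RingAMake

/-!
# Type `Sp₄`, case (A): `RingA B δ δ δ`, and `RingA B 0 0 0` when `δ = c² + c`
-/
set_option autoImplicit false
set_option linter.unusedSectionVars false

namespace Cfsg.Agent.StdSpFour

open Cfsg.Agent.StdSpFour.Comm

variable {F G : Type*} [Field F] [CharP F 2] [Group G] {B : Base F G} {A : Subgroup G}

namespace RingA

/-- forget the constants -/
def toRelA {δ κ μ : F} (R : RingA B δ κ μ) : EndA.RelA B where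
  pa := R.pa
  pb := R.pb
  ps := R.ps
  pl := R.pl
  la :=
    { x_add := B.xa_add
      x_inj := fun u h => (B.inj u 0 0 0
        (by rw [h, B.xb_zero, B.zs_zero, B.zl_zero, one_mul, one_mul, one_mul])).1
      t_x := B.t_xa
      p_zero := R.pa_zero
      t_p := R.t_pa
      p_sq := R.pa_sq
      p_add := fun u v => ⟨0, by rw [B.xa_zero, mul_one, R.pa_add]⟩
      p_x := R.pa_xa }
  lb :=
    { x_add := B.xb_add
      x_inj := fun u h => (B.inj 0 u 0 0
        (by rw [h, B.xa_zero, B.zs_zero, B.zl_zero, one_mul, one_mul, one_mul])).2.1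
      t_x := B.t_xb
      p_zero := R.pb_zero
      t_p := R.t_pb
      p_sq := R.pb_sq
      p_add := fun u v => ⟨0, by rw [B.xb_zero, mul_one, R.pb_add]⟩
      p_x := R.pb_xb }
  ls :=
    { x_add := B.zs_add
      x_inj := fun u h => (B.inj 0 0 u 0
        (by rw [h, B.xa_zero, B.xb_zero, B.zl_zero, one_mul, one_mul, one_mul])).2.2.1
      t_x := B.t_zs
      p_zero := R.ps_zero
      t_p := R.t_ps
      p_sq := R.ps_sq
      p_add := fun u v => ⟨0, by rw [B.zs_zero, mul_one, R.ps_add]⟩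
      p_x := R.ps_zs }
  ll :=
    { x_add := B.zl_add
      x_inj := fun u h => (B.inj 0 0 0 u
        (by rw [h, B.xa_zero, B.xb_zero, B.zs_zero, one_mul, one_mul, one_mul])).2.2.2
      t_x := B.t_zl
      p_zero := R.pl_zero
      t_p := R.t_pl
      p_sq := R.pl_sq
      p_add := fun u v => ⟨0, by rw [B.zl_zero, mul_one, R.pl_add]⟩
      p_x := R.pl_zl }
  ps_xa := R.ps_xa
  ps_xb := R.ps_xb
  ps_zl := R.ps_zl
  pl_xa := R.pl_xa
  pl_xb := R.pl_xb
  pl_zs := R.pl_zs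
  ps_pl := R.ps_pl
  pa_zs := R.pa_zs
  pa_zl := R.pa_zl
  pb_zs := R.pb_zs
  pb_zl := R.pb_zl
  pa_ps := R.pa_ps
  pa_pl := R.pa_pl
  pb_ps := R.pb_ps
  pb_pl := R.pb_pl
  pa_xb := fun u s => ⟨0, δ * (u ^ 2 * s), by
    rw [R.pa_xb, B.zs_zero, mul_one]; group⟩
  xa_pb := fun u s => ⟨0, 0, by
    rw [R.xa_pb, B.zs_zero, B.zl_zero, mul_one, mul_one]; group⟩
  h_pa := R.h_pa
  h_pb := R.h_pb
  h_ps := R.h_ps
  h_pl := R.h_pl

theorem toRelA_zh {δ κ μ : F} (R : RingA B δ κ μ) (m k r l : F) : R.toRelA.zh m k r l = R.Zf m k r l := rfl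

theorem V_mem_Ma {δ κ μ : F} (R : RingA B δ κ μ) (w u m k r l : F) : R.V w u m k r l ∈ R.toRelA.Ma := by
  rw [EndA.RelA.mem_Ma]
  exact ⟨w, u, R.Zf m k r l, ⟨m, k, r, l, rfl⟩, rfl⟩

theorem triv [Finite F] [Finite G] (hE : Env B A) (hF : 4 ≤ Nat.card F) {δ κ μ : F} (R : RingA B δ κ μ) : R.Triv := by
  intro y h1 h2 h3 w u m k r l
  have h4 := R.toRelA.triv hE hF (y := y⁻¹) (fun r => (h1 r).inv_left) (fun l => (h2 l).inv_left) (by
    intro g hg
    obtain ⟨w, u, _, ⟨m, k, r, l, rfl⟩, rfl⟩ := (EndA.RelA.mem_Ma R.toRelA).1 hg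
    obtain ⟨r', l', h5⟩ := h3 w u m k
    rw [toRelA_zh]
    have e1 : R.toRelA.pa w * B.xa u * R.Zf m k r l = R.V w u m k 0 0 * R.V 0 0 0 0 r l := by
      rw [R.V_mul]; simp only [add_zero, zero_add]; rfl
    have e2 : cj y (R.V 0 0 0 0 r l) = R.V 0 0 0 0 r l := by
      have : R.V 0 0 0 0 r l = R.pl r * B.zl l := by
        rw [R.V_pl, R.V_zl, R.V_mul]; simp only [add_zero, zero_add]
      rw [this]
      exact cj_of_comm ((h1 r).symm.mul_left (h2 l).symm)
    refine ⟨r', l', ?_⟩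
    have e3 : y⁻¹ * (R.toRelA.pa w * B.xa u * R.Zf m k r l) * y⁻¹⁻¹ = cj y (R.V w u m k 0 0 * R.V 0 0 0 0 r l) := by
      rw [e1, cj, inv_inv]
    rw [e3, cj_mul, h5, e2, e1, R.V_mul, R.V_mul, R.V_inv, R.V_mul]
    show _ = R.pl r' * B.zl l'
    rw [R.V_pl, R.V_zl, R.V_mul]
    have h2 : (2 : F) = 0 := CharTwo.two_eq_zero
    congr 1
    · linear_combination w * h2
    · linear_combination u * h2
    · linear_combination m * h2
    · linear_combination k * h2
    · linear_combination r * h2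
    · linear_combination l * h2)
  have h5 := h4 _ (R.V_mem_Ma w u m k r l)
  have h6 := h5.inv_left
  rwa [inv_inv] at h6

end RingA

/-- **The ring relations.** -/
theorem exists_ringA [Finite F] [Finite G] (hE : Env B A) (hF : 4 ≤ Nat.card F) (S : ShortLayer B) (L : LongLayer B)
    (hSe : S.e = 0) (hLe : L.e = 0) (hSc : S.c = 0) (hLc : L.c = 0) : ∃ δ, Nonempty (RingA B δ δ δ) := by
  obtain ⟨δ, κ, μ, ⟨R⟩⟩ := RingMake.exists_ringA hF hE.self hE.weyl S L hSe hLe hSc hLc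
  obtain ⟨h1, h2⟩ := R.consts hF (R.triv hE hF)
  subst h1 h2
  exact ⟨_, ⟨R⟩⟩

/-- **split case** -/
theorem RingA.split {δ : F} (R : RingA B δ δ δ) {c : F} (hc : δ = c ^ 2 + c) : Nonempty (RingA B 0 0 0) := by
  have h := R.shift c
  have e : δ + c ^ 2 + c = 0 := by
    rw [hc]
    have h2 : (2 : F) = 0 := CharTwo.two_eq_zero
    linear_combination (c ^ 2 + c) * h2
  rw [e] at h
  exact ⟨h⟩

end Cfsg.Agent.StdSpFour
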