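import Cfsg.Agent.StdSpFour.RingAGrf
import Mathlib.GroupTheory.Index

/-!
# Type `Sp₄`, case (A): an outer involution forces `δ = c² + c`
-/
set_option autoImplicit false
set_option linter.unusedSectionVars false

namespace Cfsg.Agent.StdSpFour

open Cfsg.Agent.StdSpFour.Comm Cfsg.Agent.StdSpFour.Fld Cfsg.Agent.StdSpFour.RingL

namespace ArtinSch

variable (F : Type*) [Field F] [CharP F 2]

/-- `x ↦ x² + x` -/
def wp : F →+ F where
  toFun x := x ^ 2 + x
  map_zero' := by rw [zero_pow two_ne_zero, add_zero]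
  map_add' x y := by rw [CharTwo.add_sq]; ring

variable {F}

theorem wp_apply (x : F) : wp F x = x ^ 2 + x := rfl

theorem card_ker : Nat.card (wp F).ker = 2 := by
  have h : ∀ x, x ∈ (wp F).ker ↔ x = 0 ∨ x = 1 := by
    intro x
    rw [AddMonoidHom.mem_ker, wp_apply]
    constructor
    · intro h
      have h1 : x * (x + 1) = 0 := by rw [← h]; ring
      rcases mul_eq_zero.1 h1 with h2 | h2
      · exact Or.inl h2
      · exact Or.inr (CharTwo.add_eq_zero.1 h2)
    · rintro (rfl | rfl)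
      · rw [zero_pow two_ne_zero, add_zero]
      · rw [one_pow]; exact CharTwo.add_self_eq_zero 1
  have h2 : ((wp F).ker : Set F) = {0, 1} := by
    ext x
    rw [SetLike.mem_coe, h]
    rfl
  have h3 : Nat.card (wp F).ker = ((wp F).ker : Set F).ncard := rfl
  rw [h3, h2]
  exact Set.ncard_pair zero_ne_one

theorem index_range [Finite F] : (wp F).range.index = 2 := by
  have h1 : Nat.card (wp F).range * (wp F).range.index = Nat.card F := AddSubgroup.card_mul_index _
  have h2 : Nat.card (wp F).ker * (wp F).ker.index = Nat.card F := AddSubgroup.card_mul_index _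
  have h3 : (wp F).ker.index = Nat.card (wp F).range := AddSubgroup.index_ker _
  rw [card_ker, h3, ← h1, mul_comm] at h2
  have h4 : 0 < Nat.card (wp F).range := Nat.card_pos
  exact (Nat.eq_of_mul_eq_mul_left h4 h2).symm

theorem mem_iff (ψ : F ≃+* F) (x : F) : ψ x ∈ (wp F).range ↔ x ∈ (wp F).range := by
  constructor
  · rintro ⟨y, hy⟩
    refine ⟨ψ.symm y, ?_⟩
    apply ψ.injective
    rw [← hy, wp_apply, wp_apply, map_add, map_pow, ψ.apply_symm_apply]
  · rintro ⟨y, rfl⟩
    exact ⟨ψ y, by rw [wp_apply, wp_apply, map_add, map_pow]⟩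

/-- `x + ψ x` is of the form `c² + c`. -/
theorem exists_add [Finite F] (ψ : F ≃+* F) (x : F) : ∃ c, x + ψ x = c ^ 2 + c := by
  have h : x + ψ x ∈ (wp F).range := by
    rw [AddSubgroup.add_mem_iff_of_index_two index_range, mem_iff]
  obtain ⟨c, hc⟩ := h
  exact ⟨c, hc.symm⟩

/-- field case -/
theorem exists_fld [Finite F] {σ : F ≃+* F} (h2 : ∀ x, σ (σ x) = x) (h1 : σ ≠ 1) {δ μ : F} (hμ : σ μ = μ)
    (h : μ ^ 2 + μ = δ + σ δ) : ∃ c, δ = c ^ 2 + c := by
  obtain ⟨a, ha⟩ : ∃ a, σ a ≠ a := by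
    by_contra hcon
    push Not at hcon
    exact h1 (RingEquiv.ext hcon)
  set t := a + σ a with ht
  have ht0 : t ≠ 0 := by
    intro h
    exact ha (CharTwo.add_eq_zero.1 h).symm
  have hst : σ t = t := by rw [ht, map_add, h2, add_comm]
  set e := a / t with he
  have hee : e + σ e = 1 := by
    rw [he, map_div₀, hst, ← add_div, ← ht, div_self ht0]
  -- `ω = μ e`
  set ω := μ * e with hω
  have hωω : ω + σ ω = μ := by
    rw [hω, map_mul, hμ, ← mul_add, hee, mul_one]
  set d := δ + ω ^ 2 + ω with hd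
  have hdd : σ d = d := by
    have h3 : σ ω = μ + ω := by
      rw [← hωω, add_assoc, add_comm (σ ω), ← add_assoc, CharTwo.add_self_eq_zero, zero_add]
    have h4 : σ δ = μ ^ 2 + μ + δ := by
      rw [h, add_assoc, add_comm (σ δ), ← add_assoc, CharTwo.add_self_eq_zero, zero_add]
    rw [hd, map_add, map_add, map_pow, h3, h4]
    have h2' : (2 : F) = 0 := CharTwo.two_eq_zero
    linear_combination (μ ^ 2 + μ + μ * ω) * h2'
  obtain ⟨c, hc⟩ := exists_add σ (e * d)
  have h5 : e * d + σ (e * d) = d := by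
    rw [map_mul, hdd, ← add_mul, hee, one_mul]
  rw [h5] at hc
  refine ⟨c + ω, ?_⟩
  have h2' : (2 : F) = 0 := CharTwo.two_eq_zero
  linear_combination hc - hd - c * ω * h2' - (ω ^ 2 + ω) * h2'

end ArtinSch

variable {F G : Type*} [Field F] [CharP F 2] [Finite F] [Group G] {B : Base F G}

namespace RingA

/-- **an involutory field element forces `δ = c² + c`** -/
theorem split_of_fld (hF : 4 ≤ Nat.card F) (hB : B.Self) {δ κ μ' : F} (R : RingA B δ κ μ') {σ : F ≃+* F} {f : G}
    (hf : IsFld B σ f) (hff : f * f = 1) (hσ : σ ≠ 1) : ∃ c, δ = c ^ 2 + c := by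
  obtain ⟨μ, h1, h2⟩ := R.exists_fact hF hB hf
  have h3 : ∀ x, σ (σ x) = x := by
    intro x
    have e1 : f * f * B.xa x = B.xa (σ (σ x)) * (f * f) := by
      rw [mul_assoc, hf.xa, ← mul_assoc, hf.xa, mul_assoc]
    rw [hff, one_mul, mul_one] at e1
    have e2 := R.V_xa x
    rw [e1, R.V_xa] at e2
    exact (R.V_inj e2).2.1
  have h4 : f * f * R.pa 1 = R.pa 1 * B.xa μ * B.xa (σ μ) * (f * f) := by
    have e1 := h1.pa 1
    rw [map_one, mul_one] at e1
    calc f * f * R.pa 1 = f * (f * R.pa 1) := by group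
      _ = f * (R.pa 1 * B.xa μ * f) := by rw [e1]
      _ = (f * R.pa 1) * B.xa μ * f := by group
      _ = R.pa 1 * B.xa μ * (f * B.xa μ) * f := by rw [e1]; group
      _ = _ := by rw [hf.xa]; group
  rw [hff, one_mul, mul_one, R.V_pa, R.V_xa, R.V_xa, R.V_mul, R.V_mul] at h4
  have h5 := (R.V_inj h4).2.1
  rw [zero_add] at h5
  have h6 : σ μ = μ := (CharTwo.add_eq_zero.1 h5.symm).symm
  exact ArtinSch.exists_fld h3 hσ h6 h2

/-- **an involutory graph element forces `δ = c² + c`** -/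
theorem split_of_grf (hF : 4 ≤ Nat.card F) (hB : B.Self) {δ κ μ' : F} (R : RingA B δ κ μ') {ψ : F ≃+* F} {y : G}
    (hy : IsGrf B ψ y) (hyy : y * y = 1) : ∃ c, δ = c ^ 2 + c := by
  obtain ⟨μ, ν, h1, -, h3⟩ := R.exists_gact hF hB hy
  have h4 : y * y * R.pa 1 = R.pa 1 * B.xa ν * B.xa (ψ μ) * (y * y) := by
    have e1 := h1.pa 1
    have e2 := h1.pb 1
    rw [map_one, one_pow, mul_one] at e1
    rw [map_one, mul_one] at e2
    calc y * y * R.pa 1 = y * (y * R.pa 1) := by group
      _ = y * (R.pb 1 * B.xb μ * y) := by rw [e1]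
      _ = (y * R.pb 1) * B.xb μ * y := by group
      _ = R.pa 1 * B.xa ν * (y * B.xb μ) * y := by rw [e2]; group
      _ = _ := by rw [hy.xb]; group
  rw [hyy, one_mul, mul_one, R.V_pa, R.V_xa, R.V_xa, R.V_mul, R.V_mul] at h4
  have h5 := (R.V_inj h4).2.1
  rw [zero_add] at h5
  have h6 : ν = ψ μ := CharTwo.add_eq_zero.1 h5.symm
  obtain ⟨c, hc⟩ := ArtinSch.exists_add (ψ.trans (frobeniusEquiv F 2)) μ
  refine ⟨c, ?_⟩
  rw [← hc, RingEquiv.trans_apply, frobeniusEquiv_def, ← h6]
  have h2' : (2 : F) = 0 := CharTwo.two_eq_zero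
  linear_combination -h3 - (ν ^ 2) * h2'

end RingA

end Cfsg.Agent.StdSpFour
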