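import Cfsg.Agent.StdSpFour.Main
import Cfsg.Agent.StdSpFour.Dich
import Cfsg.Agent.StdSpFour.RingAEnd
import Cfsg.Agent.StdSpFour.RingAOut
import Cfsg.Agent.StdRank2.L3End

/-!
# Type `Sp₄(q)`, `q ≥ 4` even: the join of case (A)

`Top.alt`: (I) no outer elements, or (II) the split ring `RingA P.B 0 0 0` and an outer involution.
`closing`: a Sylow 2-subgroup of `L` of class two gives the conclusion (S1170).
-/

set_option autoImplicit false
set_option linter.unusedSectionVars false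
set_option linter.dupNamespace false

namespace Cfsg.Agent.StdSpFour.Main

open Subgroup Cfsg.Agent.StdEven.Loc Cfsg.Agent.StdEven.Syl
open Cfsg.Agent.StdEven.StepFour Cfsg.Agent.StdEven.CoreQuot Cfsg.Agent.StdL2.Setup
open Cfsg.Agent.StdRank2
open Cfsg.Agent.StdSpFour Cfsg.Agent.StdSpFour.Env Cfsg.Agent.StdSpFour.Trich Cfsg.Agent.StdSpFour.Fld
open scoped commutatorElement

universe u v

variable {F : Type v} [Field F] [Finite F] [CharP F 2] {G : Type u} [Group G] [Finite G] {L A : Subgroup G} {t : G}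
  (P : Top F L A t)

/-- the ring relations of case (A) -/
theorem Top.ringA (h : CaseA P.B) : ∃ δ : F, Nonempty (RingA P.B δ δ δ) := by
  obtain ⟨S0, L0, h1, h2, h3, h4⟩ := h
  exact exists_ringA P.env P.four S0 L0 h1 h2 h3 h4

/-- case (II): an outer involution in `T` -/
def Top.Out : Prop := ∃ f, ∃ hf : f ∈ P.T, f * f = 1 ∧ f ∉ XStart.UG P.S ∧ t * f ∉ XStart.UG P.S ∧
  ((∃ σ : F ≃+* F, σ ≠ 1 ∧ IsFld P.B σ (pr A t ⟨f, P.hyp.T_le hf⟩)) ∨
    ∃ ψ : F ≃+* F, IsGrf P.B ψ (pr A t ⟨f, P.hyp.T_le hf⟩))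

/-- **the alternative** -/
theorem Top.dich : (∀ y ∈ P.T, y * y ∈ XStart.UG P.S → y ∈ XStart.UG P.S ∨ t * y ∈ XStart.UG P.S) ∨ P.Out :=
  Dich.dich P.hyp P.S P.four P.schX P.UT P.had

/-- an outer involution gives the split ring -/
theorem Top.split (h : CaseA P.B) (hO : P.Out) : Nonempty (RingA P.B 0 0 0) := by
  obtain ⟨δ, ⟨R⟩⟩ := P.ringA h
  obtain ⟨f, hf, hff, -, -, h1⟩ := hO
  have hsq : pr A t ⟨f, P.hyp.T_le hf⟩ * pr A t ⟨f, P.hyp.T_le hf⟩ = 1 := by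
    rw [← map_mul, show (⟨f, P.hyp.T_le hf⟩ : ↥(NO A t)) * ⟨f, P.hyp.T_le hf⟩ = 1 from Subtype.ext hff, map_one]
  have h2 : ∃ c : F, δ = c ^ 2 + c := by
    rcases h1 with ⟨σ, h1, h2⟩ | ⟨ψ, h2⟩
    · exact R.split_of_fld P.four P.env.self h2 hsq h1
    · exact R.split_of_grf P.four P.env.self h2 hsq
  obtain ⟨c, hc⟩ := h2
  exact R.split hc

section closing

open Cfsg.Agent.StdEven.Red

/-- **the closing of case (A)**: `S` a Sylow 2-subgroup of `L` of class two -/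
theorem closing {S : Subgroup G} (h1170 : Cfsg.Agent.StdSz.Out.S1170Stmt.{u}) (C : Conf L A t) (hS : IsSyl S L)
    (hnc : ∃ x ∈ S, ∃ y ∈ S, x * y ≠ y * x) (hcl : ∀ x ∈ S, ∀ y ∈ S, ∀ z ∈ S, ⁅x, y⁆ * z = z * ⁅x, y⁆)
    (h16 : 16 ≤ Nat.card S) (h3 : 3 ∣ Nat.card A) (htL : t ∉ L) : Concl L t :=
  ⟨Or.inl (L3End.lie h1170 C hS hnc hcl h16 h3), htL⟩

end closing

end Cfsg.Agent.StdSpFour.Main
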