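import Cfsg.Agent.StdSpFour.MainA
import Cfsg.Agent.StdSpFour.EndAConcl
import Cfsg.Agent.StdSpFour.SplitA.InstFin

/-!
# Type `Sp₄(q)`, `q ≥ 4` even: the end of case (A), and the core statement modulo the external theorems
-/

set_option autoImplicit false
set_option linter.unusedSectionVars false
set_option linter.dupNamespace false

namespace Cfsg.Agent.StdSpFour.Main

open Subgroup Cfsg.Agent.StdEven.Loc Cfsg.Agent.StdEven.Syl Cfsg.Agent.StdEven.CoreQuot
open Cfsg.Agent.StdL2.Setup Cfsg.Agent.StdEven.Red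
open Cfsg.Agent.StdSpFour Cfsg.Agent.StdSpFour.Trich

universe u v

/-- **Case (A).** -/
theorem concl_A {F : Type v} [Field F] [Finite F] [CharP F 2] {G : Type u} [Group G] [Finite G] {L A : Subgroup G}
    {t : G} (h1170 : Cfsg.Agent.StdSz.Out.S1170Stmt.{u}) (P : Top F L A t) (hA : CaseA P.B) : Concl L t := by
  rcases P.dich with hI | hO
  · exact EndAConcl.concl h1170 P.sit P.hyp hA hI
  · obtain ⟨R⟩ := P.split hA hO
    obtain ⟨f, hf, hff, h1, h2, -⟩ := hO
    exact SplitA.InstFin.concl_outer h1170 P.C P.hyp P.S P.env R P.four P.sch P.sit.UT P.had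
      ⟨f, hf, h1, h2, by rw [hff]; exact one_mem _⟩

theorem endA (h1170 : Cfsg.Agent.StdSz.Out.S1170Stmt.{u}) : EndA.{u} :=
  fun _ _ _ _ _ _ _ _ _ _ P _ hA => concl_A h1170 P hA

/-- **The core statement for the type `Sp₄(q)`**, from the external theorems. -/
theorem core_ext (X : Ext.{u}) (h1170 : Cfsg.Agent.StdSz.Out.S1170Stmt.{u}) : Core.{u} (fun Q _ => TypeSp4 Q) :=
  core_of X (endA h1170)

end Cfsg.Agent.StdSpFour.Main
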