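import Mathlib.GroupTheory.Sylow
import Mathlib.GroupTheory.Subgroup.Centralizer

/-!
# The facts on `T` alone (closing of S1778, targets `U₄(q)`, `U₅(q)`), in a model group `M`

The fields are those of `CloseDefs.RelFacts` in which only `T`, `Z`, `Q`, `W`, `S` occur, for `T = ⊤`.
-/

set_option autoImplicit false

namespace Cfsg.Agent.StdSpFour.ModelFacts

/-- the facts on `T`, for `T = ⊤` -/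
structure TFacts {M : Type*} [Group M] (q : ℕ) (Z Q W : Subgroup M) (S : Set M) : Prop where
  Z_le_W : Z ≤ W
  Z_le_Q : Z ≤ Q
  Z_card : Nat.card Z = q
  Z_sq : ∀ z ∈ Z, z * z = 1
  Z_cent : ∀ z ∈ Z, ∀ x : M, z * x = x * z
  W_sq : ∀ w ∈ W, w * w = 1
  W_card : Nat.card W = q ^ 4
  W_uniq : ∀ U : Subgroup M, (∀ x ∈ U, x * x = 1) → Nat.card U = q ^ 4 → U = W
  Q_sq : ∀ x ∈ Q, x * x ∈ Z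
  Q_uniq : ∀ U : Subgroup M, Z ≤ U → (∀ x ∈ U, x * x ∈ Z) → Nat.card U = Nat.card Q → U = Q
  Q_cent : ∀ x : M, (∀ y ∈ Q, x * y = y * x) → x ∈ Z
  Q_cent_mod : ∀ x : M, (∀ y ∈ Q, x * y * x⁻¹ * y⁻¹ ∈ Z) → x ∈ Q
  Q_pair : ∀ d ∈ Q, d ∉ Z → ∀ z ∈ Z, ∃ e ∈ Q, d * e * d⁻¹ * e⁻¹ = z
  WQ_card : Nat.card ↥(W ⊓ Q) = q ^ 3
  inv_T : ∀ x : M, x * x = 1 → x ∈ W ∨ x ∈ Q
  S_W : ∀ x ∈ S, x ∈ W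
  S_Q : ∀ x ∈ S, x ∈ Q → x ∈ Z
  S_card : Nat.card S = (q ^ 2 + 1) * (q - 1)
  S_count : ∀ w ∈ W, w ≠ 1 → w ∉ S → Nat.card {m : M // m ∈ S ∧ m * w ∈ S} = q * (q - 1)
  four : (∀ y : M, y ∉ Q → y * y ∈ Z → ∃ z ∈ Z, y * z ∈ S) ∨
    ((∀ y : M, y ∉ Q → y * y ∈ Z →
        (∃ z ∈ Z, y * z ∈ S) ∨ (y * y ≠ 1 ∧ ∀ x : M, y * x * y⁻¹ * x⁻¹ ∈ W ∧ y * x * y⁻¹ * x⁻¹ ∈ Q)) ∧
      ∀ v ∈ Q, v * v ≠ 1 → Nat.card {x : M // v * x * v⁻¹ * x⁻¹ ∈ Z} * q ^ 2 ≤ Nat.card M)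
  R_sq : ∀ x : M, ∀ w ∈ W, (x * x) * w = w * (x * x)
  R_card : Nat.card M = q ^ 2 * Nat.card ↥(Subgroup.centralizer (W : Set M))
  T_WQ : ∀ x : M, ∀ w ∈ W, w ∈ Q → x * w * x⁻¹ * w⁻¹ ∈ Z
  T_W : ∀ x : M, ∀ w ∈ W, x * w * x⁻¹ * w⁻¹ ∈ Q
  hyp_one : ∀ B : Subgroup M, Subgroup.centralizer (W : Set M) ≤ B → 2 * Nat.card B = Nat.card M →
    ∀ w ∈ W, (∀ x ∈ B, x * w = w * x) → w ∈ Z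
  hyp_two : ∀ B : Subgroup M, Subgroup.centralizer (W : Set M) ≤ B → 2 * Nat.card B = Nat.card M →
    ∀ w ∈ W, (∀ x ∈ B, x * w * x⁻¹ * w⁻¹ ∈ Z) → w ∈ Q
  TQ_onto : ∀ x : M, x ∉ Q → x * x ∈ Q → ∀ w ∈ W, w ∈ Q → ∃ y ∈ Q, ∃ z ∈ Z, w = x * y * x⁻¹ * y⁻¹ * z
  TQ_W : ∀ x : M, x ∉ Q → x * x ∈ Q → ∀ y ∈ Q, x * y * x⁻¹ * y⁻¹ ∈ W
  chain_one : ∀ x : M, ∀ y ∈ Q, ∀ w ∈ W, w ∈ Q → (x * y * x⁻¹ * y⁻¹) * w = w * (x * y * x⁻¹ * y⁻¹)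
  chain_two : ∀ x : M, ∀ y ∈ Q, (∀ w ∈ W, w ∈ Q → y * w = w * y) → x * y * x⁻¹ * y⁻¹ ∈ W

end Cfsg.Agent.StdSpFour.ModelFacts
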