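import Cfsg.Agent.StdSpFour.ModelFacts

/-!
# Transport of `TFacts` along an injective homomorphism `f : M →* G`
-/

set_option autoImplicit false
set_option linter.unusedSectionVars false

namespace Cfsg.Agent.StdSpFour.ModelMap

open Cfsg.Agent.StdSpFour.ModelFacts Subgroup

variable {M G : Type*} [Group M] [Group G] {q : ℕ} {Z Q W : Subgroup M} {S : Set M}

theorem mem_map_inj {f : M →* G} (hf : Function.Injective f) {A : Subgroup M} {x : M} : f x ∈ A.map f ↔ x ∈ A := by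
  constructor
  · rintro ⟨y, hy, e⟩
    rw [← hf e]; exact hy
  · exact fun h => ⟨x, h, rfl⟩

theorem mem_image_inj {f : M →* G} (hf : Function.Injective f) {A : Set M} {x : M} : f x ∈ f '' A ↔ x ∈ A := by
  constructor
  · rintro ⟨y, hy, e⟩
    rw [← hf e]; exact hy
  · exact fun h => ⟨x, h, rfl⟩

variable {f : M →* G} (hf : Function.Injective f) (H : TFacts q Z Q W S)

include hf

theorem pull {U : Subgroup G} (h : U ≤ f.range) : (U.comap f).map f = U := Subgroup.map_comap_eq_self h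

theorem card_pull {U : Subgroup G} (h : U ≤ f.range) : Nat.card (U.comap f) = Nat.card U := by
  conv_rhs => rw [← pull hf h]
  rw [Subgroup.card_map_of_injective hf]

theorem card_range : Nat.card f.range = Nat.card M :=
  (Nat.card_congr (MonoidHom.ofInjective hf).toEquiv).symm

include H

theorem Z_card : Nat.card (Z.map f) = q := by rw [Subgroup.card_map_of_injective hf, H.Z_card]
theorem W_card : Nat.card (W.map f) = q ^ 4 := by rw [Subgroup.card_map_of_injective hf, H.W_card]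
theorem WQ_card : Nat.card ↥(W.map f ⊓ Q.map f) = q ^ 3 := by
  rw [← Subgroup.map_inf _ _ _ hf, Subgroup.card_map_of_injective hf, H.WQ_card]

omit hf in
theorem Z_sq : ∀ z ∈ Z.map f, z * z = 1 := by
  rintro _ ⟨z, hz, rfl⟩
  rw [← map_mul, H.Z_sq z hz, map_one]

omit hf in
theorem W_sq : ∀ z ∈ W.map f, z * z = 1 := by
  rintro _ ⟨z, hz, rfl⟩
  rw [← map_mul, H.W_sq z hz, map_one]

omit hf in
theorem Z_cent : ∀ z ∈ Z.map f, ∀ x ∈ f.range, z * x = x * z := by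
  rintro _ ⟨z, hz, rfl⟩ _ ⟨x, rfl⟩
  rw [← map_mul, H.Z_cent z hz x, map_mul]

theorem W_uniq : ∀ U : Subgroup G, U ≤ f.range → (∀ x ∈ U, x * x = 1) → Nat.card U = q ^ 4 → U = W.map f := by
  intro U hU hsq hcard
  rw [← pull hf hU]
  congr 1
  apply H.W_uniq
  · intro x hx
    apply hf
    rw [map_mul, hsq _ hx, map_one]
  · rw [card_pull hf hU, hcard]

omit hf in
theorem Q_sq : ∀ x ∈ Q.map f, x * x ∈ Z.map f := by
  rintro _ ⟨z, hz, rfl⟩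
  rw [← map_mul]
  exact ⟨_, H.Q_sq z hz, rfl⟩

theorem Q_uniq : ∀ U : Subgroup G, U ≤ f.range → Z.map f ≤ U → (∀ x ∈ U, x * x ∈ Z.map f) →
    Nat.card U = Nat.card (Q.map f) → U = Q.map f := by
  intro U hU hZ hsq hcard
  rw [← pull hf hU]
  congr 1
  apply H.Q_uniq
  · intro z hz
    exact hZ ⟨z, hz, rfl⟩
  · intro x hx
    have := hsq _ hx
    rw [← map_mul, mem_map_inj hf] at this
    exact this
  · rw [card_pull hf hU, hcard, Subgroup.card_map_of_injective hf]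

theorem Q_cent : ∀ x ∈ f.range, (∀ y ∈ Q.map f, x * y = y * x) → x ∈ Z.map f := by
  rintro _ ⟨x, rfl⟩ hx
  refine ⟨x, H.Q_cent x fun y hy => ?_, rfl⟩
  apply hf
  rw [map_mul, map_mul]
  exact hx _ ⟨y, hy, rfl⟩

theorem Q_cent_mod : ∀ x ∈ f.range, (∀ y ∈ Q.map f, x * y * x⁻¹ * y⁻¹ ∈ Z.map f) → x ∈ Q.map f := by
  rintro _ ⟨x, rfl⟩ hx
  refine ⟨x, H.Q_cent_mod x fun y hy => ?_, rfl⟩
  have := hx _ ⟨y, hy, rfl⟩
  rw [← map_inv, ← map_inv, ← map_mul, ← map_mul, ← map_mul, mem_map_inj hf] at this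
  exact this

theorem Q_pair : ∀ d ∈ Q.map f, d ∉ Z.map f → ∀ z ∈ Z.map f, ∃ e ∈ Q.map f, d * e * d⁻¹ * e⁻¹ = z := by
  rintro _ ⟨d, hd, rfl⟩ h _ ⟨z, hz, rfl⟩
  obtain ⟨e, he, h1⟩ := H.Q_pair d hd (fun h' => h ⟨d, h', rfl⟩) z hz
  exact ⟨f e, ⟨e, he, rfl⟩, by rw [← h1]; simp only [map_mul, map_inv]⟩

theorem inv_T : ∀ x ∈ f.range, x * x = 1 → x ∈ W.map f ∨ x ∈ Q.map f := by
  rintro _ ⟨x, rfl⟩ hx
  rcases H.inv_T x (hf (by rw [map_mul, hx, map_one])) with h | h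
  · exact Or.inl ⟨x, h, rfl⟩
  · exact Or.inr ⟨x, h, rfl⟩

theorem S_Q : ∀ x ∈ f '' S, x ∈ Q.map f → x ∈ Z.map f := by
  rintro _ ⟨x, hx, rfl⟩ h
  exact ⟨x, H.S_Q x hx ((mem_map_inj hf).1 h), rfl⟩

theorem S_card : Nat.card (f '' S) = (q ^ 2 + 1) * (q - 1) := by
  rw [← H.S_card]
  exact Nat.card_image_of_injective hf _

theorem S_count : ∀ w ∈ W.map f, w ≠ 1 → w ∉ f '' S → Nat.card {m : G // m ∈ f '' S ∧ m * w ∈ f '' S} = q * (q - 1) := by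
  rintro _ ⟨w, hw, rfl⟩ h1 hS
  rw [← H.S_count w hw (fun e => h1 (by rw [e, map_one])) (fun h => hS ⟨w, h, rfl⟩)]
  symm
  refine Nat.card_congr (Equiv.ofBijective (fun m => ⟨f m.1, ⟨m.1, m.2.1, rfl⟩, by
    rw [← map_mul]; exact ⟨_, m.2.2, rfl⟩⟩) ⟨?_, ?_⟩)
  · intro m m' h
    exact Subtype.ext (hf (congrArg Subtype.val h))
  · rintro ⟨_, ⟨m, hm, rfl⟩, h⟩
    rw [← map_mul] at h
    exact ⟨⟨m, hm, (mem_image_inj hf).1 h⟩, rfl⟩

theorem card_sub (P : G → Prop) : Nat.card {x : G // x ∈ f.range ∧ P x} = Nat.card {x : M // P (f x)} := by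
  symm
  refine Nat.card_congr (Equiv.ofBijective (fun m => ⟨f m.1, ⟨m.1, rfl⟩, m.2⟩) ⟨?_, ?_⟩)
  · intro m m' h
    exact Subtype.ext (hf (congrArg Subtype.val h))
  · rintro ⟨_, ⟨m, rfl⟩, h⟩
    exact ⟨⟨m, h⟩, rfl⟩

theorem four : (∀ y ∈ f.range, y ∉ Q.map f → y * y ∈ Z.map f → ∃ z ∈ Z.map f, y * z ∈ f '' S) ∨
    ((∀ y ∈ f.range, y ∉ Q.map f → y * y ∈ Z.map f →
        (∃ z ∈ Z.map f, y * z ∈ f '' S) ∨ (y * y ≠ 1 ∧ ∀ x ∈ f.range, y * x * y⁻¹ * x⁻¹ ∈ W.map f ∧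
          y * x * y⁻¹ * x⁻¹ ∈ Q.map f)) ∧
      ∀ v ∈ Q.map f, v * v ≠ 1 →
        Nat.card {x : G // x ∈ f.range ∧ v * x * v⁻¹ * x⁻¹ ∈ Z.map f} * q ^ 2 ≤ Nat.card f.range) := by
  rcases H.four with h | ⟨h1, h2⟩
  · left
    rintro _ ⟨y, rfl⟩ hy hyy
    rw [← map_mul, mem_map_inj hf] at hyy
    obtain ⟨z, hz, h3⟩ := h y (fun h' => hy ⟨y, h', rfl⟩) hyy
    exact ⟨f z, ⟨z, hz, rfl⟩, _, h3, by rw [map_mul]⟩
  · right
    refine ⟨?_, ?_⟩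
    · rintro _ ⟨y, rfl⟩ hy hyy
      rw [← map_mul, mem_map_inj hf] at hyy
      rcases h1 y (fun h' => hy ⟨y, h', rfl⟩) hyy with ⟨z, hz, h3⟩ | ⟨h3, h4⟩
      · left
        exact ⟨f z, ⟨z, hz, rfl⟩, _, h3, by rw [map_mul]⟩
      · right
        refine ⟨fun h5 => h3 (hf (by rw [map_mul, h5, map_one])), ?_⟩
        rintro _ ⟨x, rfl⟩
        obtain ⟨h5, h6⟩ := h4 x
        exact ⟨⟨_, h5, by simp only [map_mul, map_inv]⟩, ⟨_, h6, by simp only [map_mul, map_inv]⟩⟩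
    · rintro _ ⟨v, hv, rfl⟩ hvv
      rw [card_sub hf H, card_range hf]
      have h3 := h2 v hv (fun h' => hvv (by rw [← map_mul, h', map_one]))
      have h4 : Nat.card {x : M // f v * f x * (f v)⁻¹ * (f x)⁻¹ ∈ Z.map f} =
          Nat.card {x : M // v * x * v⁻¹ * x⁻¹ ∈ Z} := by
        refine Nat.card_congr (Equiv.subtypeEquivRight fun x => ?_)
        rw [← map_inv, ← map_inv, ← map_mul, ← map_mul, ← map_mul, mem_map_inj hf]
      rw [h4]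
      exact h3

omit hf in
theorem R_sq : ∀ x ∈ f.range, ∀ w ∈ W.map f, (x * x) * w = w * (x * x) := by
  rintro _ ⟨x, rfl⟩ _ ⟨w, hw, rfl⟩
  rw [← map_mul, ← map_mul, H.R_sq x w hw, map_mul]

omit H in
theorem cent_map (W : Subgroup M) : f.range ⊓ centralizer (W.map f : Set G) = (centralizer (W : Set M)).map f := by
  ext x
  constructor
  · rintro ⟨⟨x, rfl⟩, hx⟩
    refine ⟨x, ?_, rfl⟩
    rw [SetLike.mem_coe, mem_centralizer_iff]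
    intro w hw
    apply hf
    rw [map_mul, map_mul]
    exact mem_centralizer_iff.1 hx _ ⟨w, hw, rfl⟩
  · rintro ⟨x, hx, rfl⟩
    refine mem_inf.2 ⟨⟨x, rfl⟩, ?_⟩
    rw [mem_centralizer_iff]
    rintro _ ⟨w, hw, rfl⟩
    rw [← map_mul, mem_centralizer_iff.1 hx w hw, map_mul]

theorem R_card : Nat.card f.range = q ^ 2 * Nat.card ↥(f.range ⊓ Subgroup.centralizer (W.map f : Set G)) := by
  rw [cent_map hf, Subgroup.card_map_of_injective hf, card_range hf, H.R_card]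

theorem T_WQ : ∀ x ∈ f.range, ∀ w ∈ W.map f, w ∈ Q.map f → x * w * x⁻¹ * w⁻¹ ∈ Z.map f := by
  rintro _ ⟨x, rfl⟩ _ ⟨w, hw, rfl⟩ hq
  exact ⟨_, H.T_WQ x w hw ((mem_map_inj hf).1 hq), by simp only [map_mul, map_inv]⟩

omit hf in
theorem T_W : ∀ x ∈ f.range, ∀ w ∈ W.map f, x * w * x⁻¹ * w⁻¹ ∈ Q.map f := by
  rintro _ ⟨x, rfl⟩ _ ⟨w, hw, rfl⟩
  exact ⟨_, H.T_W x w hw, by simp only [map_mul, map_inv]⟩

theorem hyp_one : ∀ B : Subgroup G, f.range ⊓ Subgroup.centralizer (W.map f : Set G) ≤ B → B ≤ f.range →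
    2 * Nat.card B = Nat.card f.range → ∀ w ∈ W.map f, (∀ x ∈ B, x * w = w * x) → w ∈ Z.map f := by
  rintro B hB1 hB2 hB3 _ ⟨w, hw, rfl⟩ h
  refine ⟨w, H.hyp_one (B.comap f) ?_ ?_ w hw ?_, rfl⟩
  · intro x hx
    rw [cent_map hf] at hB1
    exact hB1 ⟨x, hx, rfl⟩
  · rw [card_pull hf hB2, hB3, card_range hf]
  · intro x hx
    apply hf
    rw [map_mul, map_mul]
    exact h _ hx

theorem hyp_two : ∀ B : Subgroup G, f.range ⊓ Subgroup.centralizer (W.map f : Set G) ≤ B → B ≤ f.range →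
    2 * Nat.card B = Nat.card f.range → ∀ w ∈ W.map f, (∀ x ∈ B, x * w * x⁻¹ * w⁻¹ ∈ Z.map f) → w ∈ Q.map f := by
  rintro B hB1 hB2 hB3 _ ⟨w, hw, rfl⟩ h
  refine ⟨w, H.hyp_two (B.comap f) ?_ ?_ w hw ?_, rfl⟩
  · intro x hx
    rw [cent_map hf] at hB1
    exact hB1 ⟨x, hx, rfl⟩
  · rw [card_pull hf hB2, hB3, card_range hf]
  · intro x hx
    have := h _ hx
    rw [← map_inv, ← map_inv, ← map_mul, ← map_mul, ← map_mul, mem_map_inj hf] at this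
    exact this

theorem TQ_onto : ∀ x ∈ f.range, x ∉ Q.map f → x * x ∈ Q.map f → ∀ w ∈ W.map f, w ∈ Q.map f →
    ∃ y ∈ Q.map f, ∃ z ∈ Z.map f, w = x * y * x⁻¹ * y⁻¹ * z := by
  rintro _ ⟨x, rfl⟩ hx hxx _ ⟨w, hw, rfl⟩ hw'
  rw [← map_mul, mem_map_inj hf] at hxx
  obtain ⟨y, hy, z, hz, h⟩ := H.TQ_onto x (fun h => hx ⟨x, h, rfl⟩) hxx w hw ((mem_map_inj hf).1 hw')
  refine ⟨f y, ⟨y, hy, rfl⟩, f z, ⟨z, hz, rfl⟩, ?_⟩
  rw [h]
  simp only [map_mul, map_inv]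

theorem TQ_W : ∀ x ∈ f.range, x ∉ Q.map f → x * x ∈ Q.map f → ∀ y ∈ Q.map f, x * y * x⁻¹ * y⁻¹ ∈ W.map f := by
  rintro _ ⟨x, rfl⟩ hx hxx _ ⟨y, hy, rfl⟩
  rw [← map_mul, mem_map_inj hf] at hxx
  exact ⟨_, H.TQ_W x (fun h => hx ⟨x, h, rfl⟩) hxx y hy, by simp only [map_mul, map_inv]⟩

theorem chain_one : ∀ x ∈ f.range, ∀ y ∈ Q.map f, ∀ w ∈ W.map f, w ∈ Q.map f →
    (x * y * x⁻¹ * y⁻¹) * w = w * (x * y * x⁻¹ * y⁻¹) := by
  rintro _ ⟨x, rfl⟩ _ ⟨y, hy, rfl⟩ _ ⟨w, hw, rfl⟩ hw'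
  have := congrArg f (H.chain_one x y hy w hw ((mem_map_inj hf).1 hw'))
  simpa only [map_mul, map_inv] using this

theorem chain_two : ∀ x ∈ f.range, ∀ y ∈ Q.map f, (∀ w ∈ W.map f, w ∈ Q.map f → y * w = w * y) →
    x * y * x⁻¹ * y⁻¹ ∈ W.map f := by
  rintro _ ⟨x, rfl⟩ _ ⟨y, hy, rfl⟩ h
  refine ⟨_, H.chain_two x y hy fun w hw hw' => ?_, by simp only [map_mul, map_inv]⟩
  apply hf
  rw [map_mul, map_mul]
  exact h _ ⟨w, hw, rfl⟩ ⟨w, hw', rfl⟩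

end Cfsg.Agent.StdSpFour.ModelMap
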