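import Cfsg.Agent.StdSpFour.EnvFacts

/-!
If some `n` normalising `J = ⟨t⟩ U` maps `t` to `t z`, `1 ≠ z ∈ Z = Z(U)`, then `t ~ t z_s` or `t ~ t z_l`:
`n` permutes the mixed elements of `Z`, because they are the commutators `≠ 1` of involutions of `J`.
-/
set_option autoImplicit false
set_option linter.unusedSectionVars false

open Subgroup Pointwise
open scoped commutatorElement

namespace Cfsg.Agent.StdSpFour

open Swap Env EnvSwap EnvFacts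

namespace NormJ

variable {F G : Type*} [Field F] [CharP F 2] [Finite F] [Group G] {B : Base F G} {A : Subgroup G}

variable (B) in
/-- membership in `J = ⟨t⟩ U` -/
def IsJ (g : G) : Prop := IsU B g ∨ IsU B (B.t * g)

theorem isU_t {g : G} (h : IsU B g) : Commute B.t g := by
  obtain ⟨u, s, m, r, rfl⟩ := h
  exact (B.t_xa u).mul_right (B.t_v1 s m r)

theorem IsJ.split {g : G} (h : IsJ B g) : ∃ u, IsU B u ∧ (g = u ∨ g = B.t * u) := by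
  rcases h with h | h
  · exact ⟨g, h, Or.inl rfl⟩
  · exact ⟨B.t * g, h, Or.inr (by rw [← mul_assoc, B.tt, one_mul])⟩

theorem comm_t_left {x y : G} (hy : Commute B.t y) : ⁅B.t * x, y⁆ = B.t * ⁅x, y⁆ * B.t⁻¹ := by
  rw [commutatorElement_def, commutatorElement_def, mul_inv_rev]
  have h1 : B.t * y⁻¹ = y⁻¹ * B.t := hy.inv_right.eq
  have h2 : B.t⁻¹ * y⁻¹ = y⁻¹ * B.t⁻¹ := hy.inv_right.inv_left.eq
  calc B.t * x * y * (x⁻¹ * B.t⁻¹) * y⁻¹ = B.t * x * y * x⁻¹ * (B.t⁻¹ * y⁻¹) := by group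
    _ = _ := by rw [h2]; group

theorem comm_isJ_aux {x y : G} (hx : IsJ B x) (hy : IsU B y) : ∃ u, IsU B u ∧ (x = u ∨ x = B.t * u) ∧
    ⁅x, y⁆ = ⁅u, y⁆ := by
  obtain ⟨u, hu, h⟩ := hx.split
  refine ⟨u, hu, h, ?_⟩
  rcases h with h | h
  · rw [h]
  · rw [h, comm_t_left (isU_t hy)]
    obtain ⟨m, r, h1⟩ := comm_isU hu hy
    rw [h1, (B.t_v1 0 m r).eq]; group

theorem comm_isJ {x y : G} (hx : IsJ B x) (hy : IsJ B y) : ∃ u v, IsU B u ∧ IsU B v ∧ (x = u ∨ x = B.t * u) ∧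
    (y = v ∨ y = B.t * v) ∧ ⁅x, y⁆ = ⁅u, v⁆ := by
  obtain ⟨v, hv, h⟩ := hy.split
  have h1 : ⁅x, y⁆ = ⁅x, v⁆ := by
    rcases h with h | h
    · rw [h]
    · obtain ⟨u, hu, h2, h3⟩ := comm_isJ_aux hx hv
      rw [h3, h]
      have h4 : Commute B.t x := by
        rcases h2 with h2 | h2
        · rw [h2]; exact isU_t hu
        · rw [h2]; exact (Commute.refl _).mul_right (isU_t hu)
      rw [← commutatorElement_inv, comm_t_left h4, ← h3]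
      obtain ⟨m, r, h5⟩ := comm_isU hu hv
      have h6 : ⁅v, x⁆ = (B.v1 0 m r)⁻¹ := by rw [← h5, ← h3, commutatorElement_inv]
      rw [h6, h3, h5, (B.t_v1 0 m r).inv_right.eq]; group
  obtain ⟨u, hu, h2, h3⟩ := comm_isJ_aux hx hv
  exact ⟨u, v, hu, hv, h2, h, h1.trans h3⟩

theorem isU_sq (u s m r : F) : B.xa u * B.v1 s m r * (B.xa u * B.v1 s m r) = B.v1 0 (u * s) (u ^ 2 * s) := by
  calc B.xa u * B.v1 s m r * (B.xa u * B.v1 s m r) = B.xa u * (B.v1 s m r * B.xa u) * B.v1 s m r := by group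
    _ = (B.xa u * B.xa u) * (B.v1 s (m + u * s) (r + u ^ 2 * s) * B.v1 s m r) := by rw [v1_xa]; group
    _ = _ := by
      rw [B.xa_xa, B.v1_mul, one_mul]
      congr 1
      · exact CharTwo.add_self_eq_zero s
      · rw [add_comm m, add_assoc, CharTwo.add_self_eq_zero, add_zero]
      · rw [add_comm r, add_assoc, CharTwo.add_self_eq_zero, add_zero]

/-- involutions of `U` lie in `V₁ ∪ V₂`. -/
theorem inv_isU {u : G} (hu : IsU B u) (h : u * u = 1) :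
    (∃ s m r, u = B.v1 s m r) ∨ ∃ a m r, u = B.xa a * B.v1 0 m r := by
  obtain ⟨a, s, m, r, rfl⟩ := hu
  rw [isU_sq, ← B.v1_zero] at h
  have h1 := (B.v1_inj h).2.1
  rcases mul_eq_zero.1 h1 with h2 | h2
  · exact Or.inl ⟨s, m, r, by rw [h2, B.xa_zero, one_mul]⟩
  · exact Or.inr ⟨a, m, r, by rw [h2]⟩

theorem comm_v1_v2 (s m r a m' r' : F) : ⁅B.xa a * B.v1 0 m' r', B.v1 s m r⁆ = B.v1 0 (a * s) (a ^ 2 * s) := by
  rw [commutatorElement_def]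
  have h1 : B.xa a * B.v1 0 m' r' * B.v1 s m r = B.v1 s (m + a * s) (r + a ^ 2 * s) * (B.xa a * B.v1 0 m' r') := by
    calc B.xa a * B.v1 0 m' r' * B.v1 s m r = B.xa a * (B.v1 0 m' r' * B.v1 s m r) := by group
      _ = (B.xa a * B.v1 s m r) * B.v1 0 m' r' := by rw [(B.v1_comm 0 m' r' s m r).eq]; group
      _ = _ := by rw [B.xa_v1]; group
  rw [h1, mul_inv_cancel_right, B.v1_inv, B.v1_mul]
  congr 1
  · exact CharTwo.add_self_eq_zero s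
  · rw [add_comm m, add_assoc, CharTwo.add_self_eq_zero, add_zero]
  · rw [add_comm r, add_assoc, CharTwo.add_self_eq_zero, add_zero]

/-- the commutators `≠ 1` of involutions of `J` are mixed -/
theorem comm_mixed {x y : G} (hx : IsJ B x) (hy : IsJ B y) (hxx : x * x = 1) (hyy : y * y = 1)
    (hne : ⁅x, y⁆ ≠ 1) : ∃ a b, a ≠ 0 ∧ b ≠ 0 ∧ ⁅x, y⁆ = B.v1 0 a b := by
  obtain ⟨u, v, hu, hv, h1, h2, h3⟩ := comm_isJ hx hy
  have sqt : ∀ {g w : G}, IsU B w → (g = w ∨ g = B.t * w) → g * g = 1 → w * w = 1 := by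
    intro g w hw h4 h5
    rcases h4 with h4 | h4
    · rw [← h4]; exact h5
    · have h6 := (isU_t hw).eq
      rw [h4] at h5
      calc w * w = (B.t * B.t) * (w * w) := by rw [B.tt, one_mul]
        _ = B.t * (B.t * w) * w := by group
        _ = B.t * (w * B.t) * w := by rw [h6]
        _ = B.t * w * (B.t * w) := by group
        _ = 1 := h5
  have huu := sqt hu h1 hxx
  have hvv := sqt hv h2 hyy
  rw [h3] at hne ⊢
  have fin : ∀ a s, B.v1 0 (a * s) (a ^ 2 * s) ≠ 1 → ∃ a' b, a' ≠ 0 ∧ b ≠ 0 ∧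
      B.v1 0 (a * s) (a ^ 2 * s) = B.v1 0 a' b := by
    intro a s h
    have ha : a ≠ 0 := by
      rintro rfl
      apply h
      rw [zero_mul, sq, zero_mul, zero_mul, B.v1_zero]
    have hs : s ≠ 0 := by
      rintro rfl
      apply h
      rw [mul_zero, mul_zero, B.v1_zero]
    exact ⟨_, _, mul_ne_zero ha hs, mul_ne_zero (pow_ne_zero 2 ha) hs, rfl⟩
  rcases inv_isU hu huu with ⟨s, m, r, h4⟩ | ⟨a, m, r, h4⟩
  · rcases inv_isU hv hvv with ⟨s', m', r', h5⟩ | ⟨a', m', r', h5⟩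
    · exfalso
      apply hne
      rw [h4, h5, commutatorElement_eq_one_iff_commute]
      exact B.v1_comm _ _ _ _ _ _
    · have h6 : ⁅u, v⁆ = B.v1 0 (a' * s) (a' ^ 2 * s) := by
        rw [h4, h5, ← commutatorElement_inv, comm_v1_v2, B.v1_inv]
      rw [h6] at hne ⊢
      exact fin _ _ hne
  · rcases inv_isU hv hvv with ⟨s', m', r', h5⟩ | ⟨a', m', r', h5⟩
    · have h6 : ⁅u, v⁆ = B.v1 0 (a * s') (a ^ 2 * s') := by
        rw [h4, h5, comm_v1_v2]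
      rw [h6] at hne ⊢
      exact fin _ _ hne
    · exfalso
      apply hne
      rw [h4, h5, commutatorElement_eq_one_iff_commute]
      have c1 : Commute (B.xa a) (B.xa a') := by rw [commute_iff_eq, ← B.xa_add, ← B.xa_add, add_comm]
      have c2 : Commute (B.xa a * B.v1 0 m r) (B.v1 0 m' r') := IsU.comm_z ⟨a, 0, m, r, rfl⟩ _ _
      have c3 : Commute (B.v1 0 m r) (B.xa a') := (IsU.comm_z (IsU.xa a') m r).symm
      exact (c1.mul_left c3).mul_right c2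

/-- `n` maps mixed elements to mixed elements. -/
theorem mixed_conj {n : G} (hn : ∀ g, IsJ B g → IsJ B (n * g * n⁻¹)) {m r : F} (hm : m ≠ 0) (hr : r ≠ 0) :
    ∃ a b, a ≠ 0 ∧ b ≠ 0 ∧ n * B.v1 0 m r * n⁻¹ = B.v1 0 a b := by
  set u := r * m⁻¹ with hu
  set s := m ^ 2 * r⁻¹ with hs
  have h1 : u * s = m := by rw [hu, hs]; field_simp
  have h2 : u ^ 2 * s = r := by rw [hu, hs]; field_simp
  have h3 : ⁅B.xa u, B.v1 s 0 0⁆ = B.v1 0 m r := by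
    have := comm_v1_v2 (B := B) s 0 0 u 0 0
    rwa [B.v1_zero, mul_one, h1, h2] at this
  have h4 : n * B.v1 0 m r * n⁻¹ = ⁅n * B.xa u * n⁻¹, n * B.v1 s 0 0 * n⁻¹⁆ := by
    rw [← h3, commutatorElement_def, commutatorElement_def]; group
  rw [h4]
  apply comm_mixed
  · exact hn _ (Or.inl (IsU.xa u))
  · exact hn _ (Or.inl (IsU.v1 _ _ _))
  · calc n * B.xa u * n⁻¹ * (n * B.xa u * n⁻¹) = n * (B.xa u * B.xa u) * n⁻¹ := by group
      _ = 1 := by rw [B.xa_xa]; group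
  · calc n * B.v1 s 0 0 * n⁻¹ * (n * B.v1 s 0 0 * n⁻¹) = n * (B.v1 s 0 0 * B.v1 s 0 0) * n⁻¹ := by group
      _ = 1 := by rw [B.v1_v1]; group
  · rw [← h4]
    intro h5
    have h6 : B.v1 0 m r = 1 := by
      calc B.v1 0 m r = n⁻¹ * (n * B.v1 0 m r * n⁻¹) * n := by group
        _ = 1 := by rw [h5]; group
    rw [← B.v1_zero] at h6
    exact hm (B.v1_inj h6).2.1

/-- **pure fusion** -/
theorem pure_fusion (hF : 4 ≤ Nat.card F) {n : G} (hn : ∀ g, IsJ B g → IsJ B (n * g * n⁻¹))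
    (hn' : ∀ g, IsJ B g → IsJ B (n⁻¹ * g * n)) {m r : F} (hmr : B.v1 0 m r ≠ 1)
    (ht : n * B.t * n⁻¹ = B.t * B.v1 0 m r) :
    ∃ g w, w ≠ 0 ∧ (g * B.t * g⁻¹ = B.t * B.zs w ∨ g * B.t * g⁻¹ = B.t * B.zl w) := by
  have := Fintype.ofFinite F
  have hF' : 4 ≤ Fintype.card F := by rwa [Nat.card_eq_fintype_card] at hF
  obtain ⟨x, hx0, hx1⟩ := FieldAux.exists_ne hF'
  have hx1' : x + 1 ≠ 0 := fun h => hx1 (FieldAux.eq_of_add_eq_zero h)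
  have hx1'' : 1 + x ≠ 0 := by rwa [add_comm]
  have hn'' : ∀ g, IsJ B g → IsJ B (n⁻¹ * g * n⁻¹⁻¹) := by
    intro g hg
    rw [inv_inv]; exact hn' g hg
  by_cases hm : m = 0
  · have hr : r ≠ 0 := by
      rintro rfl
      exact hmr (by rw [hm, B.v1_zero])
    exact ⟨n, r, hr, Or.inr (by rw [ht, hm, Base.v1_zl])⟩
  by_cases hr : r = 0
  · exact ⟨n, m, hm, Or.inl (by rw [ht, hr, Base.v1_zs])⟩
  -- `y = n⁻¹ z_s(m x) n`
  have hy : ∃ a b, n⁻¹ * B.zs (m * x) * n = B.v1 0 a b := by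
    obtain ⟨a1, b1, -, -, h1⟩ := mixed_conj hn'' (m := m * x * (x + 1)) (r := 1)
      (mul_ne_zero (mul_ne_zero hm hx0) hx1') one_ne_zero
    obtain ⟨a2, b2, -, -, h2⟩ := mixed_conj hn'' (m := m * x * x) (r := 1)
      (mul_ne_zero (mul_ne_zero hm hx0) hx0) one_ne_zero
    refine ⟨a1 + a2, b1 + b2, ?_⟩
    have h3 : B.zs (m * x) = B.v1 0 (m * x * (x + 1)) 1 * B.v1 0 (m * x * x) 1 := by
      rw [B.v1_mul, ← Base.v1_zs]
      congr 1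
      · rw [add_zero]
      · rw [mul_add, mul_one, add_comm (m * x * x), add_assoc, CharTwo.add_self_eq_zero, add_zero]
      · rw [CharTwo.add_self_eq_zero]
    rw [inv_inv] at h1 h2
    have h4 : B.v1 0 (a1 + a2) (b1 + b2) = B.v1 0 a1 b1 * B.v1 0 a2 b2 := by rw [B.v1_mul, add_zero]
    rw [h4, ← h1, ← h2, h3]; group
  obtain ⟨a, b, hab⟩ := hy
  have hzs : n * B.v1 0 a b * n⁻¹ = B.zs (m * x) := by rw [← hab]; group
  have hnm : a = 0 ∨ b = 0 := by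
    by_contra h
    push Not at h
    obtain ⟨a', b', -, hb', h1⟩ := mixed_conj hn h.1 h.2
    rw [hzs, ← Base.v1_zs] at h1
    exact hb' (B.v1_inj h1).2.2.symm
  have hne : ¬ (a = 0 ∧ b = 0) := by
    rintro ⟨rfl, rfl⟩
    rw [B.v1_zero, mul_one, mul_inv_cancel, ← Base.v1_zs, ← B.v1_zero] at hzs
    exact mul_ne_zero hm hx0 (B.v1_inj hzs).2.1.symm
  -- the torus element
  set γ : Fˣ := Units.mk0 (1 + x) hx1'' with hγ
  have hh : B.h γ⁻¹ (γ ^ 2) * B.v1 0 m r * (B.h γ⁻¹ (γ ^ 2))⁻¹ = B.v1 0 (m + m * x) r := by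
    rw [B.h_v1, mul_inv_cancel_right]
    have e1 : ((γ : Fˣ) : F) = 1 + x := rfl
    have e2 : ((γ⁻¹ : Fˣ) : F) = (1 + x)⁻¹ := by rw [Units.val_inv_eq_inv_val]; rfl
    congr 1
    · rw [mul_zero]
    · rw [e2, Units.val_pow_eq_pow_val, e1]; field_simp
    · rw [e2, Units.val_pow_eq_pow_val, e1]; field_simp
  have htab : n * (B.t * B.v1 0 a b) * n⁻¹ = B.t * B.v1 0 (m + m * x) r := by
    calc n * (B.t * B.v1 0 a b) * n⁻¹ = (n * B.t * n⁻¹) * (n * B.v1 0 a b * n⁻¹) := by group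
      _ = B.t * (B.v1 0 m r * B.v1 0 (m * x) 0) := by rw [ht, hzs, Base.v1_zs]; group
      _ = _ := by rw [B.v1_mul, add_zero, add_zero]
  have hconj : (n⁻¹ * B.h γ⁻¹ (γ ^ 2) * n) * B.t * (n⁻¹ * B.h γ⁻¹ (γ ^ 2) * n)⁻¹ = B.t * B.v1 0 a b := by
    have hth := (B.t_h γ⁻¹ (γ ^ 2)).eq
    calc (n⁻¹ * B.h γ⁻¹ (γ ^ 2) * n) * B.t * (n⁻¹ * B.h γ⁻¹ (γ ^ 2) * n)⁻¹
        = n⁻¹ * (B.h γ⁻¹ (γ ^ 2) * (n * B.t * n⁻¹) * (B.h γ⁻¹ (γ ^ 2))⁻¹) * n := by group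
      _ = n⁻¹ * ((B.h γ⁻¹ (γ ^ 2) * B.t) * B.v1 0 m r * (B.h γ⁻¹ (γ ^ 2))⁻¹) * n := by rw [ht]; group
      _ = n⁻¹ * (B.t * (B.h γ⁻¹ (γ ^ 2) * B.v1 0 m r * (B.h γ⁻¹ (γ ^ 2))⁻¹)) * n := by rw [← hth]; group
      _ = n⁻¹ * (n * (B.t * B.v1 0 a b) * n⁻¹) * n := by rw [hh, htab]
      _ = _ := by group
  rcases hnm with h | h
  · refine ⟨n⁻¹ * B.h γ⁻¹ (γ ^ 2) * n, b, fun hb => hne ⟨h, hb⟩, Or.inr ?_⟩
    rw [hconj, h, Base.v1_zl]
  · refine ⟨n⁻¹ * B.h γ⁻¹ (γ ^ 2) * n, a, fun ha => hne ⟨ha, h⟩, Or.inl ?_⟩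
    rw [hconj, h, Base.v1_zs]

/-- conjugating `t y` by the torus -/
theorem torus_move {n : G} {m r m' r' : F} (hm : m ≠ 0) (hr : r ≠ 0) (hm' : m' ≠ 0) (hr' : r' ≠ 0)
    (ht : n * B.t * n⁻¹ = B.t * B.v1 0 m r) : ∃ g, g * B.t * g⁻¹ = B.t * B.v1 0 m' r' := by
  -- `αβ m = m'`, `α²β r = r'`
  set a : Fˣ := Units.mk0 (m' * m⁻¹) (mul_ne_zero hm' (inv_ne_zero hm)) with ha
  set b : Fˣ := Units.mk0 (r' * r⁻¹) (mul_ne_zero hr' (inv_ne_zero hr)) with hb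
  refine ⟨B.h (b * a⁻¹) (a ^ 2 * b⁻¹) * n, ?_⟩
  have hth := (B.t_h (b * a⁻¹) (a ^ 2 * b⁻¹)).eq
  have ea : (a : F) = m' * m⁻¹ := rfl
  have eb : (b : F) = r' * r⁻¹ := rfl
  have hh : B.h (b * a⁻¹) (a ^ 2 * b⁻¹) * B.v1 0 m r * (B.h (b * a⁻¹) (a ^ 2 * b⁻¹))⁻¹ = B.v1 0 m' r' := by
    rw [B.h_v1, mul_inv_cancel_right, mul_zero]
    have e1 : (((b * a⁻¹ : Fˣ) : F) * ((a ^ 2 * b⁻¹ : Fˣ) : F)) = (a : F) := by
      rw [← Units.val_mul]; congr 1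
      rw [sq, mul_assoc b, ← mul_assoc a⁻¹, ← mul_assoc a⁻¹, inv_mul_cancel, one_mul, mul_comm a, ← mul_assoc,
        mul_inv_cancel, one_mul]
    have e2 : (((b * a⁻¹ : Fˣ) : F) ^ 2 * ((a ^ 2 * b⁻¹ : Fˣ) : F)) = (b : F) := by
      rw [← Units.val_pow_eq_pow_val, ← Units.val_mul]; congr 1
      rw [mul_pow, inv_pow, mul_assoc, inv_mul_cancel_left, sq, mul_assoc, mul_inv_cancel, mul_one]
    rw [e1, e2, ea, eb, inv_mul_cancel_right₀ hm, inv_mul_cancel_right₀ hr]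
  calc B.h (b * a⁻¹) (a ^ 2 * b⁻¹) * n * B.t * (B.h (b * a⁻¹) (a ^ 2 * b⁻¹) * n)⁻¹
      = B.h (b * a⁻¹) (a ^ 2 * b⁻¹) * (n * B.t * n⁻¹) * (B.h (b * a⁻¹) (a ^ 2 * b⁻¹))⁻¹ := by group
    _ = (B.h (b * a⁻¹) (a ^ 2 * b⁻¹) * B.t) * B.v1 0 m r * (B.h (b * a⁻¹) (a ^ 2 * b⁻¹))⁻¹ := by rw [ht]; group
    _ = B.t * (B.h (b * a⁻¹) (a ^ 2 * b⁻¹) * B.v1 0 m r * (B.h (b * a⁻¹) (a ^ 2 * b⁻¹))⁻¹) := by rw [← hth]; group
    _ = _ := by rw [hh]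

/-- `n⁻¹` maps pure elements to pure elements. -/
theorem pure_conj (hF : 4 ≤ Nat.card F) {n : G} (hn : ∀ g, IsJ B g → IsJ B (n * g * n⁻¹))
    (hn' : ∀ g, IsJ B g → IsJ B (n⁻¹ * g * n)) {m r : F} (hmr : m = 0 ∨ r = 0) (hne : B.v1 0 m r ≠ 1) :
    ∃ a b, (a = 0 ∨ b = 0) ∧ ¬ (a = 0 ∧ b = 0) ∧ n⁻¹ * B.v1 0 m r * n = B.v1 0 a b := by
  have := Fintype.ofFinite F
  have hF' : 4 ≤ Fintype.card F := by rwa [Nat.card_eq_fintype_card] at hF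
  obtain ⟨x, hx0, hx1⟩ := FieldAux.exists_ne hF'
  have hn'' : ∀ g, IsJ B g → IsJ B (n⁻¹ * g * n⁻¹⁻¹) := by
    intro g hg
    rw [inv_inv]; exact hn' g hg
  have hx1' : x + 1 ≠ 0 := fun h => hx1 (FieldAux.eq_of_add_eq_zero h)
  -- a mixed element `z'` with `z z'` mixed
  obtain ⟨m', r', hm', hr', hm2, hr2⟩ : ∃ m' r' : F, m' ≠ 0 ∧ r' ≠ 0 ∧ m + m' ≠ 0 ∧ r + r' ≠ 0 := by
    have key : ∀ y : F, ∃ y' : F, y' ≠ 0 ∧ y + y' ≠ 0 := by
      intro y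
      by_cases hy : y = 0
      · exact ⟨1, one_ne_zero, by rw [hy, zero_add]; exact one_ne_zero⟩
      · refine ⟨y * x, mul_ne_zero hy hx0, ?_⟩
        rw [show y + y * x = y * (x + 1) by ring]
        exact mul_ne_zero hy hx1'
    obtain ⟨m', h1, h2⟩ := key m
    obtain ⟨r', h3, h4⟩ := key r
    exact ⟨m', r', h1, h3, h2, h4⟩
  obtain ⟨a1, b1, -, -, h1⟩ := mixed_conj hn'' hm2 hr2
  obtain ⟨a2, b2, -, -, h2⟩ := mixed_conj hn'' hm' hr'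
  rw [inv_inv] at h1 h2
  have h3 : B.v1 0 m r = B.v1 0 (m + m') (r + r') * B.v1 0 m' r' := by
    rw [B.v1_mul, add_zero, add_assoc, CharTwo.add_self_eq_zero, add_zero, add_assoc, CharTwo.add_self_eq_zero,
      add_zero]
  have h4 : n⁻¹ * B.v1 0 m r * n = B.v1 0 (a1 + a2) (b1 + b2) := by
    have h5 : B.v1 0 (a1 + a2) (b1 + b2) = B.v1 0 a1 b1 * B.v1 0 a2 b2 := by rw [B.v1_mul, add_zero]
    rw [h5, ← h1, ← h2, h3]; group
  refine ⟨_, _, ?_, ?_, h4⟩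
  · by_contra h
    push Not at h
    obtain ⟨a', b', ha', hb', h6⟩ := mixed_conj hn h.1 h.2
    rw [← h4] at h6
    have h7 : B.v1 0 m r = B.v1 0 a' b' := by rw [← h6]; group
    obtain ⟨-, h8, h9⟩ := B.v1_inj h7
    rcases hmr with h10 | h10
    · exact ha' (by rw [← h8, h10])
    · exact hb' (by rw [← h9, h10])
  · rintro ⟨h5, h6⟩
    rw [h5, h6, B.v1_zero] at h4
    apply hne
    calc B.v1 0 m r = n * (n⁻¹ * B.v1 0 m r * n) * n⁻¹ := by group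
      _ = 1 := by rw [h4]; group

/-- **mixed fusion in `N(J)` gives both kinds of pure fusion.** -/
theorem mixed_fusion (hF : 4 ≤ Nat.card F) {n : G} (hn : ∀ g, IsJ B g → IsJ B (n * g * n⁻¹))
    (hn' : ∀ g, IsJ B g → IsJ B (n⁻¹ * g * n)) {m r : F} (hm : m ≠ 0) (hr : r ≠ 0)
    (ht : n * B.t * n⁻¹ = B.t * B.v1 0 m r) :
    (∃ g w, w ≠ 0 ∧ g * B.t * g⁻¹ = B.t * B.zs w) ∧ ∃ g w, w ≠ 0 ∧ g * B.t * g⁻¹ = B.t * B.zl w := by
  have := Fintype.ofFinite F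
  have hF' : 4 ≤ Fintype.card F := by rwa [Nat.card_eq_fintype_card] at hF
  obtain ⟨x, hx0, hx1⟩ := FieldAux.exists_ne hF'
  have hx1' : x + 1 ≠ 0 := fun h => hx1 (FieldAux.eq_of_add_eq_zero h)
  -- conjugating pure elements
  have conj : ∀ {a b c d : F}, n⁻¹ * B.v1 0 c d * n = B.v1 0 a b → m + c ≠ 0 → r + d ≠ 0 →
      ∃ g, g * B.t * g⁻¹ = B.t * B.v1 0 a b := by
    intro a b c d h hmc hrd
    obtain ⟨g, hg⟩ := torus_move hm hr hmc hrd ht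
    refine ⟨n⁻¹ * g, ?_⟩
    have h1 : n * (B.t * B.v1 0 a b) * n⁻¹ = B.t * B.v1 0 (m + c) (r + d) := by
      rw [← h]
      calc n * (B.t * (n⁻¹ * B.v1 0 c d * n)) * n⁻¹ = (n * B.t * n⁻¹) * B.v1 0 c d := by group
        _ = B.t * (B.v1 0 m r * B.v1 0 c d) := by rw [ht, mul_assoc]
        _ = _ := by rw [B.v1_mul, add_zero]
    calc n⁻¹ * g * B.t * (n⁻¹ * g)⁻¹ = n⁻¹ * (g * B.t * g⁻¹) * n := by group
      _ = n⁻¹ * (n * (B.t * B.v1 0 a b) * n⁻¹) * n := by rw [hg, h1]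
      _ = _ := by group
  have hmx : m + m * x ≠ 0 := by
    rw [show m + m * x = m * (x + 1) by ring]; exact mul_ne_zero hm hx1'
  have hrx : r + r * x ≠ 0 := by
    rw [show r + r * x = r * (x + 1) by ring]; exact mul_ne_zero hr hx1'
  have hne1 : B.v1 0 (m * x) 0 ≠ 1 := by
    intro h
    rw [← B.v1_zero] at h
    exact mul_ne_zero hm hx0 (B.v1_inj h).2.1
  have hne2 : B.v1 0 0 (r * x) ≠ 1 := by
    intro h
    rw [← B.v1_zero] at h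
    exact mul_ne_zero hr hx0 (B.v1_inj h).2.2
  obtain ⟨a1, b1, h1, h1', e1⟩ := pure_conj hF hn hn' (Or.inr rfl) hne1
  obtain ⟨a2, b2, h2, h2', e2⟩ := pure_conj hF hn hn' (Or.inl rfl) hne2
  obtain ⟨g1, hg1⟩ := conj e1 hmx (by rwa [add_zero])
  obtain ⟨g2, hg2⟩ := conj e2 (by rwa [add_zero]) hrx
  -- the product of the two pure elements is mixed
  have hn'' : ∀ g, IsJ B g → IsJ B (n⁻¹ * g * n⁻¹⁻¹) := by
    intro g hg
    rw [inv_inv]; exact hn' g hg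
  obtain ⟨a3, b3, ha3, hb3, e3⟩ := mixed_conj hn'' (mul_ne_zero hm hx0) (mul_ne_zero hr hx0)
  rw [inv_inv] at e3
  have e4 : B.v1 0 a3 b3 = B.v1 0 (a1 + a2) (b1 + b2) := by
    have h5 : B.v1 0 (a1 + a2) (b1 + b2) = B.v1 0 a1 b1 * B.v1 0 a2 b2 := by rw [B.v1_mul, add_zero]
    have h6 : B.v1 0 (m * x) (r * x) = B.v1 0 (m * x) 0 * B.v1 0 0 (r * x) := by
      rw [B.v1_mul, add_zero, add_zero, zero_add]
    rw [h5, ← e1, ← e2, ← e3, h6]; group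
  obtain ⟨-, e5, e6⟩ := B.v1_inj e4
  rcases h1 with h1 | h1
  · -- `a1 = 0`, so `a2 ≠ 0`, `b2 = 0`, `b1 ≠ 0`
    have ha2 : a2 ≠ 0 := by
      rintro rfl
      exact ha3 (by rw [e5, h1, add_zero])
    have hb2 : b2 = 0 := h2.resolve_left ha2
    have hb1 : b1 ≠ 0 := by
      rintro rfl
      exact hb3 (by rw [e6, hb2, add_zero])
    exact ⟨⟨g2, a2, ha2, by rw [hg2, hb2, Base.v1_zs]⟩, ⟨g1, b1, hb1, by rw [hg1, h1, Base.v1_zl]⟩⟩
  · have hb2 : b2 ≠ 0 := by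
      rintro rfl
      exact hb3 (by rw [e6, h1, add_zero])
    have ha2 : a2 = 0 := h2.resolve_right hb2
    have ha1 : a1 ≠ 0 := by
      rintro rfl
      exact ha3 (by rw [e5, ha2, add_zero])
    exact ⟨⟨g1, a1, ha1, by rw [hg1, h1, Base.v1_zs]⟩, ⟨g2, b2, hb2, by rw [hg2, ha2, Base.v1_zl]⟩⟩

end NormJ

end Cfsg.Agent.StdSpFour
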