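import Mathlib.Algebra.Group.Subgroup.Lattice
import Mathlib.Algebra.Field.Basic
import Mathlib.Algebra.Field.ZMod
import Mathlib.Algebra.CharP.Two
import Mathlib.Tactic

/-!
# Bruhat decomposition of a rank one group in characteristic two, inside a central extension

`X = {x(s)}`, `n` an involution with `n x(1) n = x(1) n x(1)`, `h` with `h x(s) h⁻¹ = x(μ s)`, `n h n = h⁻¹`, `μ` a
generator of `Fˣ`.  Then every element of `⟨X, n X n⟩` is `x(a) h^j` or `x(a) h^j n x(b)`.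
-/

set_option autoImplicit false

namespace Cfsg.Agent.StdSpFour.RankOne

open Subgroup

variable {F G : Type*} [Field F] [Group G]

/-- the data -/
structure Data (F : Type*) [Field F] {G : Type*} [Group G] (x : F → G) (n h : G) (μ : Fˣ) : Prop where
  gen : ∀ β : Fˣ, ∃ j : ℤ, μ ^ j = β
  add : ∀ a b, x (a + b) = x a * x b
  nn : n * n = 1
  one : n * x 1 * n = x 1 * n * x 1
  act : ∀ a, h * x a = x (μ * a) * h
  inv : n * h * n = h⁻¹

namespace Data

variable {x : F → G} {n h : G} {μ : Fˣ} (D : Data F x n h μ)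
include D

theorem zero : x 0 = 1 := by
  have h1 := D.add 0 0
  rw [add_zero] at h1
  exact mul_eq_left.1 h1.symm

theorem neg (a : F) : (x a)⁻¹ = x (-a) := by
  apply inv_eq_of_mul_eq_one_right
  rw [← D.add, add_neg_cancel, D.zero]

theorem n_inv : n⁻¹ = n := inv_eq_of_mul_eq_one_left D.nn

theorem actj (j : ℤ) (a : F) : h ^ j * x a = x ((μ ^ j : Fˣ) * a) * h ^ j := by
  have e : ∀ a, h * x a * h⁻¹ = x (μ * a) := fun a => by rw [D.act, mul_inv_cancel_right]
  have e' : ∀ a, h⁻¹ * x a * h = x ((μ⁻¹ : Fˣ) * a) := by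
    intro a
    have h1 := e ((μ⁻¹ : Fˣ) * a)
    rw [← mul_assoc, ← Units.val_mul, mul_inv_cancel, Units.val_one, one_mul] at h1
    rw [← h1]; group
  induction j using Int.induction_on generalizing a with
  | zero => simp
  | succ i ih =>
    rw [zpow_add_one, mul_assoc, D.act, ← mul_assoc, ih, zpow_add_one μ, Units.val_mul, mul_assoc, mul_assoc]
  | pred i ih =>
    rw [zpow_sub_one, mul_assoc]
    have h1 : h⁻¹ * x a = x ((μ⁻¹ : Fˣ) * a) * h⁻¹ := by rw [← e']; group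
    rw [h1, ← mul_assoc, ih, zpow_sub_one μ, Units.val_mul, mul_assoc, mul_assoc]

theorem invj (j : ℤ) : n * h ^ j * n = h ^ (-j) := by
  have h1 : n * h ^ j * n⁻¹ = (n * h * n⁻¹) ^ j := (conj_zpow).symm
  rw [D.n_inv, D.inv, inv_zpow, ← zpow_neg] at h1
  exact h1

theorem n_h (j : ℤ) : n * h ^ j = h ^ (-j) * n := by
  rw [← D.invj j]
  calc n * h ^ j = n * h ^ j * (n * n) := by rw [D.nn, mul_one]
    _ = _ := by group

/-- `n x(u) n = x(u⁻¹) h^{-2j} n x(u⁻¹)`, `μ^j = u` -/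
theorem n_x_n {u : F} (hu : u ≠ 0) : ∃ j : ℤ, n * x u * n = x u⁻¹ * h ^ j * n * x u⁻¹ := by
  obtain ⟨j, hj⟩ := D.gen (Units.mk0 u hu)
  have hj1 : ((μ ^ j : Fˣ) : F) = u := by rw [hj, Units.val_mk0]
  have hj2 : ((μ ^ (-j) : Fˣ) : F) = u⁻¹ := by rw [zpow_neg, hj, Units.val_inv_eq_inv_val, Units.val_mk0]
  refine ⟨-j + -j, ?_⟩
  have h1 : x u = h ^ j * x 1 * h ^ (-j) := by
    rw [D.actj, hj1, mul_one, zpow_neg, mul_inv_cancel_right]
  have h2 := D.n_h j
  have h3 : h ^ (-j) * n = n * h ^ j := h2.symm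
  have h4 := D.actj (-j) 1
  rw [hj2, mul_one] at h4
  have h5 : x 1 * h ^ j = h ^ j * x u⁻¹ := by
    calc x 1 * h ^ j = h ^ j * (h ^ (-j) * x 1) * h ^ j := by rw [zpow_neg]; group
      _ = h ^ j * x u⁻¹ := by rw [h4, zpow_neg]; group
  calc n * x u * n = (n * h ^ j) * x 1 * (h ^ (-j) * n) := by rw [h1]; group
    _ = (h ^ (-j) * n) * x 1 * (n * h ^ j) := by rw [h2, h3]
    _ = h ^ (-j) * (n * x 1 * n) * h ^ j := by group
    _ = (h ^ (-j) * x 1) * n * (x 1 * h ^ j) := by rw [D.one]; group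
    _ = x u⁻¹ * h ^ (-j) * (n * h ^ j) * x u⁻¹ := by rw [h4, h5]; group
    _ = x u⁻¹ * (h ^ (-j) * h ^ (-j)) * n * x u⁻¹ := by rw [h2]; group
    _ = _ := by rw [← zpow_add]

/-- the big set -/
def Br : Subgroup G where
  carrier := {g | (∃ a, ∃ j : ℤ, g = x a * h ^ j) ∨ ∃ a, ∃ j : ℤ, ∃ b, g = x a * h ^ j * n * x b}
  one_mem' := Or.inl ⟨0, 0, by rw [D.zero, zpow_zero, one_mul]⟩
  mul_mem' := by
    have l1 : ∀ (j : ℤ) a, h ^ j * x a = x ((μ ^ j : Fˣ) * a) * h ^ j := D.actj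
    rintro _ _ (⟨a, j, rfl⟩ | ⟨a, j, b, rfl⟩) (⟨a', j', rfl⟩ | ⟨a', j', b', rfl⟩)
    · left
      refine ⟨a + (μ ^ j : Fˣ) * a', j + j', ?_⟩
      rw [D.add, zpow_add]
      calc x a * h ^ j * (x a' * h ^ j') = x a * (h ^ j * x a') * h ^ j' := by group
        _ = _ := by rw [l1]; group
    · right
      refine ⟨a + (μ ^ j : Fˣ) * a', j + j', b', ?_⟩
      rw [D.add, zpow_add]
      calc x a * h ^ j * (x a' * h ^ j' * n * x b') = x a * (h ^ j * x a') * h ^ j' * n * x b' := by group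
        _ = _ := by rw [l1]; group
    · right
      have e1 : (μ ^ j' : Fˣ) * ((μ ^ (-j') : Fˣ) * (b + a')) = b + a' := by
        rw [← mul_assoc, ← Units.val_mul, ← zpow_add, add_neg_cancel, zpow_zero, Units.val_one, one_mul]
      refine ⟨a, j + -j', (μ ^ (-j') : Fˣ) * (b + a'), ?_⟩
      have e2 := l1 j' ((μ ^ (-j') : Fˣ) * (b + a'))
      rw [e1] at e2
      calc x a * h ^ j * n * x b * (x a' * h ^ j') = x a * h ^ j * n * (x b * x a' * h ^ j') := by group
        _ = x a * h ^ j * (n * h ^ j') * x ((μ ^ (-j') : Fˣ) * (b + a')) := by rw [← D.add, ← e2]; group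
        _ = x a * (h ^ j * h ^ (-j')) * n * x ((μ ^ (-j') : Fˣ) * (b + a')) := by rw [D.n_h]; group
        _ = _ := by rw [← zpow_add]
    · by_cases hu : b + a' = 0
      · left
        refine ⟨a + (μ ^ (j + -j') : Fˣ) * b', j + -j', ?_⟩
        rw [D.add]
        calc x a * h ^ j * n * x b * (x a' * h ^ j' * n * x b')
            = x a * h ^ j * n * (x b * x a') * h ^ j' * n * x b' := by group
          _ = x a * h ^ j * (n * h ^ j' * n) * x b' := by rw [← D.add, hu, D.zero]; group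
          _ = x a * (h ^ (j + -j') * x b') := by rw [D.invj, zpow_add]; group
          _ = _ := by rw [l1]; group
      · right
        obtain ⟨i, hi⟩ := D.n_x_n hu
        have e3 : ∀ y, x y * h ^ (-j') = h ^ (-j') * x ((μ ^ j' : Fˣ) * y) := by
          intro y
          rw [l1, ← mul_assoc, ← Units.val_mul, ← zpow_add, neg_add_cancel, zpow_zero, Units.val_one, one_mul]
        refine ⟨a + (μ ^ j : Fˣ) * (b + a')⁻¹, j + i + j', (μ ^ j' : Fˣ) * (b + a')⁻¹ + b', ?_⟩
        rw [D.add, D.add]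
        calc x a * h ^ j * n * x b * (x a' * h ^ j' * n * x b')
            = x a * h ^ j * n * (x b * x a') * (h ^ j' * n) * x b' := by group
          _ = x a * h ^ j * n * x (b + a') * (h ^ j' * n) * x b' := by rw [← D.add]
          _ = x a * h ^ j * n * x (b + a') * (n * h ^ (-j')) * x b' := by
              rw [D.n_h (-j'), neg_neg]
          _ = x a * h ^ j * (n * x (b + a') * n) * h ^ (-j') * x b' := by group
          _ = x a * (h ^ j * x (b + a')⁻¹) * h ^ i * n * (x (b + a')⁻¹ * h ^ (-j')) * x b' := by rw [hi]; group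
          _ = x a * x ((μ ^ j : Fˣ) * (b + a')⁻¹) * h ^ j * h ^ i * (n * h ^ (-j')) *
                x ((μ ^ j' : Fˣ) * (b + a')⁻¹) * x b' := by rw [l1, e3]; group
          _ = x a * x ((μ ^ j : Fˣ) * (b + a')⁻¹) * (h ^ j * h ^ i * h ^ j') * n *
                (x ((μ ^ j' : Fˣ) * (b + a')⁻¹) * x b') := by rw [D.n_h (-j'), neg_neg]; group
          _ = _ := by rw [← zpow_add, ← zpow_add]
  inv_mem' := by
    have l1 : ∀ (j : ℤ) a, h ^ j * x a = x ((μ ^ j : Fˣ) * a) * h ^ j := D.actj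
    rintro _ (⟨a, j, rfl⟩ | ⟨a, j, b, rfl⟩)
    · left
      refine ⟨(μ ^ (-j) : Fˣ) * (-a), -j, ?_⟩
      rw [mul_inv_rev, D.neg, ← zpow_neg, l1]
    · right
      refine ⟨-b, j, -a, ?_⟩
      have h1 := D.n_h (-j)
      rw [neg_neg] at h1
      rw [mul_inv_rev, mul_inv_rev, mul_inv_rev, D.neg, D.neg, D.n_inv, ← zpow_neg, ← mul_assoc, ← mul_assoc,
        mul_assoc (x (-b)), h1, ← mul_assoc]

theorem mem_Br {g : G} : g ∈ D.Br ↔
    (∃ a, ∃ j : ℤ, g = x a * h ^ j) ∨ ∃ a, ∃ j : ℤ, ∃ b, g = x a * h ^ j * n * x b := Iff.rfl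

theorem x_mem (a : F) : x a ∈ D.Br := Or.inl ⟨a, 0, by rw [zpow_zero, mul_one]⟩

theorem n_mem : n ∈ D.Br := Or.inr ⟨0, 0, 0, by rw [D.zero, zpow_zero, one_mul, one_mul, mul_one]⟩

theorem nxn_mem (a : F) : n * x a * n⁻¹ ∈ D.Br :=
  mul_mem (mul_mem D.n_mem (D.x_mem a)) (inv_mem D.n_mem)

end Data

/-- correcting the torus element: `n h n h = k` with `k` central of odd order -/
theorem exists_corr {G : Type*} [Group G] {n h k : G} (nn : n * n = 1) (hk : n * h * n * h = k) (ho : Odd (orderOf k))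
    (hkn : k * n = n * k) : ∃ j : ℕ, n * (h * k ^ j) * n = (h * k ^ j)⁻¹ := by
  obtain ⟨m, hm⟩ := ho
  have n_inv : n⁻¹ = n := inv_eq_of_mul_eq_one_left nn
  -- `k` commutes with `h`
  have h1 : h * n * h * n = k := by
    have : n * k * n = k := by rw [← hkn, mul_assoc, nn, mul_one]
    rw [← this, ← hk]
    calc h * n * h * n = (n * n) * h * n * h * n := by rw [nn, one_mul]
      _ = _ := by group
  have hkh : Commute k h := by
    show k * h = h * k
    calc k * h = h * (n * h * n * h) := by rw [← h1]; group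
      _ = _ := by rw [hk]
  have hkn' : Commute k n := hkn
  refine ⟨m, ?_⟩
  have e1 : Commute (k ^ m) h := hkh.pow_left m
  have e2 : Commute (k ^ m) n := hkn'.pow_left m
  rw [eq_comm, inv_eq_iff_mul_eq_one]
  have e3 : k ^ m * k ^ m * k = 1 := by
    rw [← pow_add, ← pow_succ, show m + m + 1 = orderOf k by omega, pow_orderOf_eq_one]
  calc h * k ^ m * (n * (h * k ^ m) * n) = h * (k ^ m * n) * h * (k ^ m * n) := by group
    _ = h * n * (k ^ m * h) * n * k ^ m := by rw [e2.eq]; group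
    _ = h * n * h * (k ^ m * n) * k ^ m := by rw [e1.eq]; group
    _ = (h * n * h * n) * (k ^ m * k ^ m) := by rw [e2.eq]; group
    _ = k * (k ^ m * k ^ m) := by rw [h1]
    _ = k ^ m * k ^ m * k := by rw [← pow_add, ← pow_succ, ← pow_succ']
    _ = 1 := e3

end Cfsg.Agent.StdSpFour.RankOne
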