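import Cfsg.Agent.StdSpFour.V1
import Cfsg.Agent.StdSpFour.Comm
import Cfsg.Agent.StdSpFour.FieldAux

/-!
# Type `Sp₄`, case (A): the ring relations

`RingA B δ κ μ`: the second layers with additive root groups `p`, and the constants of
`[p_a, x_b]`, `[x_a, p_b]`, `[p_a, p_b]`.  `V w u m k r l`: the elements of `M̂_a = X̂_a Ẑ`.
-/
set_option autoImplicit false
set_option linter.unusedSectionVars false

namespace Cfsg.Agent.StdSpFour

variable {F G : Type*} [Field F] [Group G]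

/-- The second layers of case (A) over the four positive root groups, additive, with the action of torus and Weyl
elements. -/
structure RingL (B : Base F G) where
  pa : F → G
  pb : F → G
  ps : F → G
  pl : F → G
  pa_add : ∀ u v, pa (u + v) = pa u * pa v
  pb_add : ∀ u v, pb (u + v) = pb u * pb v
  ps_add : ∀ u v, ps (u + v) = ps u * ps v
  pl_add : ∀ u v, pl (u + v) = pl u * pl v
  t_pa : ∀ u, B.t * pa u = pa u * B.t * B.xa u
  t_pb : ∀ u, B.t * pb u = pb u * B.t * B.xb u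
  t_ps : ∀ u, B.t * ps u = ps u * B.t * B.zs u
  t_pl : ∀ u, B.t * pl u = pl u * B.t * B.zl u
  pa_xa : ∀ u v, Commute (pa u) (B.xa v)
  pa_zs : ∀ u m, Commute (pa u) (B.zs m)
  pa_zl : ∀ u m, Commute (pa u) (B.zl m)
  pa_ps : ∀ u m, Commute (pa u) (ps m)
  pa_pl : ∀ u m, Commute (pa u) (pl m)
  pb_xb : ∀ u v, Commute (pb u) (B.xb v)
  pb_zs : ∀ u m, Commute (pb u) (B.zs m)
  pb_zl : ∀ u m, Commute (pb u) (B.zl m)
  pb_ps : ∀ u m, Commute (pb u) (ps m)
  pb_pl : ∀ u m, Commute (pb u) (pl m)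
  ps_xa : ∀ m u, Commute (ps m) (B.xa u)
  ps_xb : ∀ m u, Commute (ps m) (B.xb u)
  ps_zs : ∀ m u, Commute (ps m) (B.zs u)
  ps_zl : ∀ m u, Commute (ps m) (B.zl u)
  ps_pl : ∀ m r, Commute (ps m) (pl r)
  pl_xa : ∀ m u, Commute (pl m) (B.xa u)
  pl_xb : ∀ m u, Commute (pl m) (B.xb u)
  pl_zs : ∀ m u, Commute (pl m) (B.zs u)
  pl_zl : ∀ m u, Commute (pl m) (B.zl u)
  h_pa : ∀ (α β : Fˣ) u, B.h α β * pa u = pa (α * u) * B.h α β
  h_pb : ∀ (α β : Fˣ) u, B.h α β * pb u = pb (β * u) * B.h α β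
  h_ps : ∀ (α β : Fˣ) u, B.h α β * ps u = ps (α * β * u) * B.h α β
  h_pl : ∀ (α β : Fˣ) u, B.h α β * pl u = pl (α ^ 2 * β * u) * B.h α β
  nb_pa : ∀ u, B.nb * pa u = ps u * B.nb
  nb_ps : ∀ u, B.nb * ps u = pa u * B.nb
  nb_pl : ∀ u, B.nb * pl u = pl u * B.nb
  na_pb : ∀ u, B.na * pb u = pl u * B.na
  na_pl : ∀ u, B.na * pl u = pb u * B.na
  na_ps : ∀ u, B.na * ps u = ps u * B.na

/-- The relations of case (A) with constants. -/
structure RingA (B : Base F G) (δ κ μ : F) extends RingL B where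
  pa_xb : ∀ u s, pa u * B.xb s = B.xb s * (pa u * (ps (u * s) * (pl (u ^ 2 * s) * B.zl (δ * (u ^ 2 * s)))))
  xa_pb : ∀ u s, B.xa u * pb s = pb s * (B.xa u * (ps (u * s) * pl (u ^ 2 * s)))
  pa_pb : ∀ u s, pa u * pb s =
    pb s * (pa u * (ps (u * s) * B.zs (κ * (u * s)) * (pl ((1 + δ) * (u ^ 2 * s)) * B.zl (μ * (u ^ 2 * s)))))

namespace RingL

variable {B : Base F G}

section zero

variable (R : RingL B)

theorem pa_zero : R.pa 0 = 1 := by
  have := R.pa_add 0 0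
  rw [add_zero] at this
  exact left_eq_mul.1 this
theorem pb_zero : R.pb 0 = 1 := by
  have := R.pb_add 0 0
  rw [add_zero] at this
  exact left_eq_mul.1 this
theorem ps_zero : R.ps 0 = 1 := by
  have := R.ps_add 0 0
  rw [add_zero] at this
  exact left_eq_mul.1 this
theorem pl_zero : R.pl 0 = 1 := by
  have := R.pl_add 0 0
  rw [add_zero] at this
  exact left_eq_mul.1 this

theorem pa_pa (u v : F) : Commute (R.pa u) (R.pa v) := by
  rw [commute_iff_eq, ← R.pa_add, ← R.pa_add, add_comm]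
theorem pb_pb (u v : F) : Commute (R.pb u) (R.pb v) := by
  rw [commute_iff_eq, ← R.pb_add, ← R.pb_add, add_comm]
theorem ps_ps (u v : F) : Commute (R.ps u) (R.ps v) := by
  rw [commute_iff_eq, ← R.ps_add, ← R.ps_add, add_comm]
theorem pl_pl (u v : F) : Commute (R.pl u) (R.pl v) := by
  rw [commute_iff_eq, ← R.pl_add, ← R.pl_add, add_comm]

end zero

variable [CharP F 2] (R : RingL B)

theorem pa_sq (u : F) : R.pa u * R.pa u = 1 := by rw [← R.pa_add, CharTwo.add_self_eq_zero, R.pa_zero]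
theorem pb_sq (u : F) : R.pb u * R.pb u = 1 := by rw [← R.pb_add, CharTwo.add_self_eq_zero, R.pb_zero]
theorem ps_sq (u : F) : R.ps u * R.ps u = 1 := by rw [← R.ps_add, CharTwo.add_self_eq_zero, R.ps_zero]
theorem pl_sq (u : F) : R.pl u * R.pl u = 1 := by rw [← R.pl_add, CharTwo.add_self_eq_zero, R.pl_zero]
theorem pa_inv (u : F) : (R.pa u)⁻¹ = R.pa u := inv_eq_of_mul_eq_one_right (R.pa_sq u)
theorem pb_inv (u : F) : (R.pb u)⁻¹ = R.pb u := inv_eq_of_mul_eq_one_right (R.pb_sq u)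
theorem ps_inv (u : F) : (R.ps u)⁻¹ = R.ps u := inv_eq_of_mul_eq_one_right (R.ps_sq u)
theorem pl_inv (u : F) : (R.pl u)⁻¹ = R.pl u := inv_eq_of_mul_eq_one_right (R.pl_sq u)

/-! ### `M̂_a` -/

/-- the elements of `Ẑ` -/
def Zf (m k r l : F) : G := R.ps m * B.zs k * (R.pl r * B.zl l)

/-- the elements of `M̂_a = X̂_a Ẑ` -/
def V (w u m k r l : F) : G := R.pa w * B.xa u * R.Zf m k r l

theorem sgl (m k r l : F) : Commute (R.ps m * B.zs k) (R.pl r * B.zl l) :=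
  ((R.ps_pl m r).mul_right (R.ps_zl m l)).mul_left ((R.pl_zs r k).symm.mul_right (B.zs_zl k l))

theorem Zf_mul (m k r l m' k' r' l' : F) :
    R.Zf m k r l * R.Zf m' k' r' l' = R.Zf (m + m') (k + k') (r + r') (l + l') := by
  unfold Zf
  rw [R.ps_add, B.zs_add, R.pl_add, B.zl_add]
  have h1 := (R.sgl m' k' r l).eq
  have h2 := (R.ps_zs m' k).eq
  have h3 := (R.pl_zl r' l).eq
  calc R.ps m * B.zs k * (R.pl r * B.zl l) * (R.ps m' * B.zs k' * (R.pl r' * B.zl l'))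
      = R.ps m * B.zs k * ((R.pl r * B.zl l) * (R.ps m' * B.zs k')) * (R.pl r' * B.zl l') := by group
    _ = R.ps m * (B.zs k * R.ps m') * B.zs k' * R.pl r * (B.zl l * R.pl r') * B.zl l' := by rw [← h1]; group
    _ = _ := by rw [← h2, ← h3]; group

theorem Zf_zero : R.Zf 0 0 0 0 = 1 := by
  unfold Zf
  rw [R.ps_zero, R.pl_zero, B.zs_zero, B.zl_zero]; group

theorem Zf_pa (m k r l u : F) : Commute (R.Zf m k r l) (R.pa u) :=
  ((R.pa_ps u m).symm.mul_left (R.pa_zs u k).symm).mul_left ((R.pa_pl u r).symm.mul_left (R.pa_zl u l).symm)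

theorem Zf_xa (m k r l u : F) : Commute (R.Zf m k r l) (B.xa u) :=
  ((R.ps_xa m u).mul_left (B.xa_zs u k).symm).mul_left ((R.pl_xa r u).mul_left (B.xa_zl u l).symm)

theorem Zf_pb (m k r l u : F) : Commute (R.Zf m k r l) (R.pb u) :=
  ((R.pb_ps u m).symm.mul_left (R.pb_zs u k).symm).mul_left ((R.pb_pl u r).symm.mul_left (R.pb_zl u l).symm)

theorem Zf_xb (m k r l u : F) : Commute (R.Zf m k r l) (B.xb u) :=
  ((R.ps_xb m u).mul_left (B.xb_zs u k).symm).mul_left ((R.pl_xb r u).mul_left (B.xb_zl u l).symm)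

theorem V_mul (w u m k r l w' u' m' k' r' l' : F) :
    R.V w u m k r l * R.V w' u' m' k' r' l' = R.V (w + w') (u + u') (m + m') (k + k') (r + r') (l + l') := by
  unfold V
  rw [R.pa_add, B.xa_add, ← R.Zf_mul]
  have h1 : Commute (R.Zf m k r l) (R.pa w' * B.xa u') := (R.Zf_pa _ _ _ _ _).mul_right (R.Zf_xa _ _ _ _ _)
  have h2 := (R.pa_xa w' u).eq
  calc R.pa w * B.xa u * R.Zf m k r l * (R.pa w' * B.xa u' * R.Zf m' k' r' l')
      = R.pa w * B.xa u * (R.Zf m k r l * (R.pa w' * B.xa u')) * R.Zf m' k' r' l' := by group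
    _ = R.pa w * (B.xa u * R.pa w') * B.xa u' * (R.Zf m k r l * R.Zf m' k' r' l') := by rw [h1.eq]; group
    _ = _ := by rw [← h2]; group

theorem V_zero : R.V 0 0 0 0 0 0 = 1 := by
  unfold V
  rw [R.pa_zero, B.xa_zero, R.Zf_zero]; group

theorem V_sq (w u m k r l : F) : R.V w u m k r l * R.V w u m k r l = 1 := by
  rw [R.V_mul]
  simp only [CharTwo.add_self_eq_zero]
  exact R.V_zero

theorem V_inv (w u m k r l : F) : (R.V w u m k r l)⁻¹ = R.V w u m k r l :=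
  inv_eq_of_mul_eq_one_right (R.V_sq _ _ _ _ _ _)

theorem V_comm (w u m k r l w' u' m' k' r' l' : F) : Commute (R.V w u m k r l) (R.V w' u' m' k' r' l') := by
  rw [commute_iff_eq, R.V_mul, R.V_mul]
  congr 1 <;> ring

theorem V_pa (w : F) : R.pa w = R.V w 0 0 0 0 0 := by unfold V; rw [R.Zf_zero, B.xa_zero]; group
theorem V_xa (u : F) : B.xa u = R.V 0 u 0 0 0 0 := by unfold V; rw [R.Zf_zero, R.pa_zero]; group
theorem V_Zf (m k r l : F) : R.Zf m k r l = R.V 0 0 m k r l := by unfold V; rw [B.xa_zero, R.pa_zero]; group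
theorem V_ps (m : F) : R.ps m = R.V 0 0 m 0 0 0 := by
  rw [← R.V_Zf]; unfold Zf; rw [B.zs_zero, R.pl_zero, B.zl_zero]; group
theorem V_zs (k : F) : B.zs k = R.V 0 0 0 k 0 0 := by
  rw [← R.V_Zf]; unfold Zf; rw [R.ps_zero, R.pl_zero, B.zl_zero]; group
theorem V_pl (r : F) : R.pl r = R.V 0 0 0 0 r 0 := by
  rw [← R.V_Zf]; unfold Zf; rw [R.ps_zero, B.zs_zero, B.zl_zero]; group
theorem V_zl (l : F) : B.zl l = R.V 0 0 0 0 0 l := by
  rw [← R.V_Zf]; unfold Zf; rw [R.ps_zero, B.zs_zero, R.pl_zero]; group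

theorem V_eq (w u m k r l : F) : R.V w u m k r l = R.pa w * B.xa u * R.ps m * B.zs k * R.pl r * B.zl l := by
  unfold V Zf; group

/-- `t` acts on `M̂_a` -/
theorem t_V (w u m k r l : F) : B.t * R.V w u m k r l * B.t = R.V w (u + w) m (k + m) r (l + r) := by
  have e1 : ∀ {p x : G}, B.t * p = p * B.t * x → Commute B.t x → B.t * p * B.t = p * x := by
    intro p x h h'
    rw [h, mul_assoc _ x B.t, ← h'.eq, ← mul_assoc, mul_assoc p B.t B.t, B.tt, mul_one]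
  have e2 : ∀ {x : G}, Commute B.t x → B.t * x * B.t = x := by
    intro x h
    rw [h.eq, mul_assoc, B.tt, mul_one]
  have f1 := e1 (R.t_pa w) (B.t_xa w)
  have f2 := e2 (B.t_xa u)
  have f3 := e1 (R.t_ps m) (B.t_zs m)
  have f4 := e2 (B.t_zs k)
  have f5 := e1 (R.t_pl r) (B.t_zl r)
  have f6 := e2 (B.t_zl l)
  have h1 : B.t * R.V w u m k r l * B.t = (B.t * R.pa w * B.t) * (B.t * B.xa u * B.t) * (B.t * R.ps m * B.t) *
      (B.t * B.zs k * B.t) * (B.t * R.pl r * B.t) * (B.t * B.zl l * B.t) := by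
    rw [R.V_eq]
    have ht : B.t⁻¹ = B.t := B.t_inv
    have : ∀ a b c d e f : G, B.t * (a * b * c * d * e * f) * B.t =
        (B.t * a * B.t) * (B.t * b * B.t) * (B.t * c * B.t) * (B.t * d * B.t) * (B.t * e * B.t) * (B.t * f * B.t) := by
      intro a b c d e f
      calc B.t * (a * b * c * d * e * f) * B.t
          = B.t * a * (B.t * B.t) * b * (B.t * B.t) * c * (B.t * B.t) * d * (B.t * B.t) * e * (B.t * B.t) * f * B.t := by
            rw [B.tt]; group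
        _ = _ := by group
    exact this _ _ _ _ _ _
  rw [h1, f1, f2, f3, f4, f5, f6, R.V_pa, R.V_xa, R.V_xa, R.V_ps, R.V_zs, R.V_zs, R.V_pl, R.V_zl, R.V_zl]
  simp only [R.V_mul]
  congr 1 <;> ring

theorem V_inj0 {w u m k r l : F} (h : R.V w u m k r l = 1) :
    w = 0 ∧ u = 0 ∧ m = 0 ∧ k = 0 ∧ r = 0 ∧ l = 0 := by
  have h1 := R.t_V w u m k r l
  rw [h, mul_one, B.tt] at h1
  have h2 : R.V 0 w 0 m 0 r = 1 := by
    have : R.V w u m k r l * R.V w (u + w) m (k + m) r (l + r) = 1 := by rw [h, ← h1, one_mul]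
    rw [R.V_mul] at this
    rw [← this]
    congr 1
    · exact (CharTwo.add_self_eq_zero w).symm
    · rw [← add_assoc, CharTwo.add_self_eq_zero, zero_add]
    · exact (CharTwo.add_self_eq_zero m).symm
    · rw [← add_assoc, CharTwo.add_self_eq_zero, zero_add]
    · exact (CharTwo.add_self_eq_zero r).symm
    · rw [← add_assoc, CharTwo.add_self_eq_zero, zero_add]
  have key : ∀ {w m r : F}, R.V 0 w 0 m 0 r = 1 → w = 0 ∧ m = 0 ∧ r = 0 := by
    intro w m r h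
    have h3 := B.inj w 0 m r (by
      rw [← h, R.V_eq, R.pa_zero, R.ps_zero, R.pl_zero, B.xb_zero]; group)
    exact ⟨h3.1, h3.2.2.1, h3.2.2.2⟩
  obtain ⟨hw, hm, hr⟩ := key h2
  subst hw hm hr
  obtain ⟨hu, hk, hl⟩ := key h
  exact ⟨rfl, hu, rfl, hk, rfl, hl⟩

theorem V_inj {w u m k r l w' u' m' k' r' l' : F} (h : R.V w u m k r l = R.V w' u' m' k' r' l') :
    w = w' ∧ u = u' ∧ m = m' ∧ k = k' ∧ r = r' ∧ l = l' := by
  have h1 : R.V (w + w') (u + u') (m + m') (k + k') (r + r') (l + l') = 1 := by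
    rw [← R.V_mul, h, R.V_sq]
  obtain ⟨h1, h2, h3, h4, h5, h6⟩ := R.V_inj0 h1
  exact ⟨CharTwo.add_eq_zero.1 h1, CharTwo.add_eq_zero.1 h2, CharTwo.add_eq_zero.1 h3, CharTwo.add_eq_zero.1 h4,
    CharTwo.add_eq_zero.1 h5, CharTwo.add_eq_zero.1 h6⟩

open Cfsg.Agent.StdSpFour.Comm

theorem cj_nb_V (w u m k r l : F) : cj B.nb (R.V w u m k r l) = R.V m k w u r l := by
  have e : ∀ {x y : G}, B.nb * y = x * B.nb → cj B.nb x = y := by
    intro x y h
    rw [cj, mul_assoc, ← h, inv_mul_cancel_left]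
  rw [R.V_eq, cj_mul, cj_mul, cj_mul, cj_mul, cj_mul, e (R.nb_ps w), e (B.nb_zs u), e (R.nb_pa m), e (B.nb_xa k),
    e (R.nb_pl r), e (B.nb_zl l), R.V_ps, R.V_zs, R.V_pa, R.V_xa, R.V_pl, R.V_zl]
  simp only [R.V_mul]
  congr 1 <;> ring

theorem cj_h_V (α β : Fˣ) (w u m k r l : F) : cj (B.h α β)⁻¹ (R.V w u m k r l) =
    R.V (α * w) (α * u) (α * β * m) (α * β * k) (α ^ 2 * β * r) (α ^ 2 * β * l) := by
  have e : ∀ {x y : G}, B.h α β * x = y * B.h α β → cj (B.h α β)⁻¹ x = y := by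
    intro x y h
    rw [cj, inv_inv, h, mul_inv_cancel_right]
  rw [R.V_eq, cj_mul, cj_mul, cj_mul, cj_mul, cj_mul, e (R.h_pa α β w), e (B.h_xa α β u), e (R.h_ps α β m),
    e (B.h_zs α β k), e (R.h_pl α β r), e (B.h_zl α β l), R.V_pa, R.V_xa, R.V_ps, R.V_zs, R.V_pl, R.V_zl]
  simp only [R.V_mul]
  congr 1 <;> ring

end RingL
end Cfsg.Agent.StdSpFour
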