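import Cfsg.Agent.StdSpFour.RingA
import Cfsg.Agent.StdSpFour.Comm

/-!
# Type `Sp₄`, case (A): `κ = μ = δ`

One relation of `SL₂(F[J])`: `X_b(J) X_{-b}(s(J+1)) = X_{-b}(s(J+1)/d) X_b(dJ) h(d)`, `d = 1 + sκ`, holds modulo the
elements acting trivially on `M̂_a/Ẑ_l` and on `Ẑ_l`.
-/
set_option autoImplicit false
set_option linter.unusedSectionVars false

namespace Cfsg.Agent.StdSpFour

open Cfsg.Agent.StdSpFour.Comm

variable {F G : Type*} [Field F] [Group G]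

namespace RingA

variable {B : Base F G} {δ κ μ : F} [CharP F 2] (R : RingA B δ κ μ)

theorem cj_sq {g x : G} (h : x * x = 1) : cj g x * cj g x = 1 := by
  rw [← cj_mul, h, cj_one]

theorem cj_xb_pa (u s : F) : cj (B.xb s) (R.pa u) = R.V u 0 (u * s) 0 (u ^ 2 * s) (δ * (u ^ 2 * s)) := by
  rw [cj, mul_assoc, R.pa_xb, inv_mul_cancel_left, R.V_eq, B.xa_zero, B.zs_zero]
  group

theorem cj_xb_V (s w u m k r l : F) : cj (B.xb s) (R.V w u m k r l) =
    R.V w u (m + w * s) (k + u * s) (r + w ^ 2 * s) (l + u ^ 2 * s + δ * (w ^ 2 * s)) := by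
  have h1 : cj (B.xb s) (B.xa u) = R.V 0 u 0 (u * s) 0 (u ^ 2 * s) := by
    rw [cj, mul_assoc, B.xa_xb, R.V_eq, R.pa_zero, R.ps_zero, R.pl_zero]
    group
  have h2 : cj (B.xb s) (R.Zf m k r l) = R.V 0 0 m k r l := by
    rw [cj_of_comm (R.Zf_xb _ _ _ _ _), R.V_Zf]
  rw [RingL.V, cj_mul, cj_mul, R.cj_xb_pa, h1, h2, R.V_mul, R.V_mul]
  congr 1 <;> ring

theorem cj_pb_V (s w u m k r l : F) : cj (R.pb s) (R.V w u m k r l) =
    R.V w u (m + u * s + w * s) (k + κ * (w * s)) (r + u ^ 2 * s + (1 + δ) * (w ^ 2 * s)) (l + μ * (w ^ 2 * s)) := by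
  have h0 : cj (R.pb s) (R.pa w) =
      R.V w 0 (w * s) (κ * (w * s)) ((1 + δ) * (w ^ 2 * s)) (μ * (w ^ 2 * s)) := by
    rw [cj, mul_assoc, R.pa_pb, inv_mul_cancel_left, R.V_eq, B.xa_zero]
    group
  have h1 : cj (R.pb s) (B.xa u) = R.V 0 u (u * s) 0 (u ^ 2 * s) 0 := by
    rw [cj, mul_assoc, R.xa_pb, R.V_eq, R.pa_zero, B.zs_zero, B.zl_zero]
    group
  have h2 : cj (R.pb s) (R.Zf m k r l) = R.V 0 0 m k r l := by
    rw [cj_of_comm (R.Zf_pb _ _ _ _ _), R.V_Zf]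
  rw [RingL.V, cj_mul, cj_mul, h0, h1, h2, R.V_mul, R.V_mul]
  congr 1 <;> ring

/-- the left hand side -/
def wL (s : F) : G := R.pb 1 * (B.nb * (R.pb s * B.xb s) * B.nb)

/-- the right hand side -/
def wR (s : F) (d : Fˣ) : G :=
  B.nb * (R.pb (s * ((d⁻¹ : Fˣ) : F)) * B.xb (s * ((d⁻¹ : Fˣ) : F))) * B.nb * R.pb d * (B.h d (d⁻¹ ^ 2))⁻¹

theorem cj_wL (s w u m k r l : F) : cj (R.wL s) (R.V w u m k r l) =
    R.V ((1 + κ * s) * w + s * k) ((1 + κ * s) * u + κ * (s * m) + s * k) (m + u + w) (k + κ * w)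
      (r + u ^ 2 + (1 + δ) * w ^ 2 + (k + κ * w) ^ 2 * s + δ * ((m + u + w) ^ 2 * s))
      (l + μ * w ^ 2 + (μ + δ) * ((m + u + w) ^ 2 * s) + (k + κ * w) ^ 2 * s) := by
  rw [wL, cj_mul_left, cj_mul_left, cj_mul_left, cj_mul_left, R.cj_pb_V, R.cj_nb_V, R.cj_pb_V, R.cj_xb_V, R.cj_nb_V]
  have h2 : (2 : F) = 0 := CharTwo.two_eq_zero
  congr 1
  · linear_combination (m * s + u * s + w * s) * h2
  · linear_combination (κ * w * s) * h2
  · ring
  · ring
  · linear_combination (m + u + w) ^ 2 * s * h2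
  · ring

theorem V_congr4 {w u m k r l w' u' m' k' : F} (h1 : w = w') (h2 : u = u') (h3 : m = m') (h4 : k = k') :
    ∃ r' l', R.V w u m k r l = R.V w' u' m' k' r' l' := ⟨r, l, by rw [h1, h2, h3, h4]⟩

theorem cj_wR {s : F} {d : Fˣ} (hd : (d : F) = 1 + κ * s) (w u m k : F) : ∃ r l, cj (R.wR s d) (R.V w u m k 0 0) =
    R.V ((1 + κ * s) * w + s * k) ((1 + κ * s) * u + κ * (s * m) + s * k) (m + u + w) (k + κ * w) r l := by
  have hd0 : (d : F) ≠ 0 := d.ne_zero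
  rw [wR, cj_mul_left, cj_mul_left, cj_mul_left, cj_mul_left, cj_mul_left, R.cj_nb_V, R.cj_pb_V, R.cj_xb_V, R.cj_nb_V,
    R.cj_pb_V, R.cj_h_V]
  have h2 : (2 : F) = 0 := CharTwo.two_eq_zero
  have e : ((d⁻¹ : Fˣ) : F) = (d : F)⁻¹ := Units.val_inv_eq_inv_val d
  have e1 : ((d : F) * ((d : F)⁻¹) ^ 2) * (d : F) = 1 := by field_simp
  have e0 : (d : F) * (d : F)⁻¹ = 1 := mul_inv_cancel₀ hd0
  rw [Units.val_pow_eq_pow_val, e]
  generalize hi : (d : F)⁻¹ = i at *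
  generalize (d : F) = D at *
  clear e hd0 hi
  apply R.V_congr4
  · linear_combination (k * s + 2 * (m * s)) * e0 + w * hd + (m * s) * h2
  · linear_combination (κ * m * s + k * s) * e0 + u * hd
  · clear e1
    grind
  · clear e1
    grind

/-- Elements acting trivially on `Ẑ_l` and on `M̂_a/Ẑ_l` act trivially on `M̂_a`. -/
def Triv : Prop := ∀ y : G, (∀ r, Commute y (R.pl r)) → (∀ l, Commute y (B.zl l)) →
  (∀ w u m k, ∃ r l, cj y (R.V w u m k 0 0) = R.V w u m k r l) → ∀ w u m k r l, Commute y (R.V w u m k r l)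

theorem commute_nb_pl (r : F) : Commute B.nb (R.pl r) := R.nb_pl r

theorem commute_h_pl (d : Fˣ) (r : F) : Commute (B.h d (d⁻¹ ^ 2)) (R.pl r) := by
  have h := R.h_pl d (d⁻¹ ^ 2) r
  have e : ((d : F) ^ 2 * ((d⁻¹ ^ 2 : Fˣ) : F)) * r = r := by
    rw [← Units.val_pow_eq_pow_val, ← Units.val_mul, inv_pow, mul_inv_cancel, Units.val_one, one_mul]
  rw [e] at h
  exact h

theorem commute_h_zl (d : Fˣ) (r : F) : Commute (B.h d (d⁻¹ ^ 2)) (B.zl r) := by
  have h := B.h_zl d (d⁻¹ ^ 2) r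
  have e : ((d : F) ^ 2 * ((d⁻¹ ^ 2 : Fˣ) : F)) * r = r := by
    rw [← Units.val_pow_eq_pow_val, ← Units.val_mul, inv_pow, mul_inv_cancel, Units.val_one, one_mul]
  rw [e] at h
  exact h

/-- **`κ = μ = δ`** -/
theorem consts (hF : 4 ≤ Nat.card F) (hT : R.Triv) : κ = δ ∧ μ = δ := by
  -- `s ≠ 0`, `1 + κ s ≠ 0`
  obtain ⟨s, hs, hd⟩ : ∃ s : F, s ≠ 0 ∧ 1 + κ * s ≠ 0 := by
    obtain ⟨l, l', hl⟩ := exists_units (F := F) hF
    by_cases h1 : 1 + κ * 1 = 0
    · refine ⟨l, l.ne_zero, ?_⟩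
      have h2 : κ = 1 := by
        have : 1 + κ = 0 := by rwa [mul_one] at h1
        exact (CharTwo.add_eq_zero.1 this).symm
      rw [h2, one_mul, ← hl]
      exact l'.ne_zero
    · exact ⟨1, one_ne_zero, h1⟩
  set d : Fˣ := Units.mk0 _ hd with hdd
  have hdv : (d : F) = 1 + κ * s := rfl
  have hpb : ∀ s r, Commute (R.pb s) (R.pl r) := R.pb_pl
  have c1 : ∀ {g : G}, (Commute (R.pb 1) g) → (∀ s, Commute (R.pb s) g) → (∀ s, Commute (B.xb s) g) → Commute B.nb g →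
      Commute (B.h d (d⁻¹ ^ 2)) g → Commute (R.wL s * (R.wR s d)⁻¹) g := by
    intro g _ h1 h2 h3 h4
    have e1 : Commute (R.wL s) g := (h1 1).mul_left ((h3.mul_left ((h1 s).mul_left (h2 s))).mul_left h3)
    have e2 : Commute (R.wR s d) g :=
      ((((h3.mul_left ((h1 _).mul_left (h2 _))).mul_left h3)).mul_left (h1 _)).mul_left h4.inv_left
    exact e1.mul_left e2.inv_left
  have hy := hT (R.wL s * (R.wR s d)⁻¹)
    (fun r => c1 (R.pb_pl 1 r) (fun s => R.pb_pl s r) (fun s => (R.pl_xb r s).symm) (R.nb_pl r) (R.commute_h_pl d r))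
    (fun r => c1 (R.pb_zl 1 r) (fun s => R.pb_zl s r) (fun s => B.xb_zl s r) (B.nb_zl r) (commute_h_zl d r))
    (by
      intro w u m k
      obtain ⟨r', l', h1⟩ := R.cj_wR hdv w u m k
      have h2 := R.cj_wL s w u m k 0 0
      rw [cj_mul_left, h2]
      have h3 : ∀ x y r l : F, R.V ((1 + κ * s) * w + s * k) ((1 + κ * s) * u + κ * (s * m) + s * k) (m + u + w)
          (k + κ * w) x y = cj (R.wR s d) (R.V w u m k 0 0) * R.V 0 0 0 0 (x + r') (y + l') := by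
        intro x y r l
        rw [h1, R.V_mul]
        have h2 : (2 : F) = 0 := CharTwo.two_eq_zero
        congr 1
        · ring
        · ring
        · ring
        · ring
        · linear_combination -r' * h2
        · linear_combination -l' * h2
      rw [h3 _ _ 0 0, cj_mul]
      have h4 : cj (R.wR s d)⁻¹ (cj (R.wR s d) (R.V w u m k 0 0)) = R.V w u m k 0 0 := by
        rw [← cj_mul_left, mul_inv_cancel, cj, inv_one, one_mul, mul_one]
      rw [h4]
      have h5 : ∀ r l, Commute (R.wR s d) (R.V 0 0 0 0 r l) := by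
        intro r l
        have h6 : ∀ {g : G}, (∀ s, Commute (R.pb s) g) → (∀ s, Commute (B.xb s) g) → Commute B.nb g →
            Commute (B.h d (d⁻¹ ^ 2)) g → Commute (R.wR s d) g := by
          intro g h1 h2 h3 h4
          exact ((((h3.mul_left ((h1 _).mul_left (h2 _))).mul_left h3)).mul_left (h1 _)).mul_left h4.inv_left
        have e1 := h6 (g := R.pl r) (fun s => R.pb_pl s r) (fun s => (R.pl_xb r s).symm) (R.nb_pl r) (R.commute_h_pl d r)
        have e2 := h6 (g := B.zl l) (fun s => R.pb_zl s l) (fun s => B.xb_zl s l) (B.nb_zl l) (commute_h_zl d l)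
        have e3 : R.V 0 0 0 0 r l = R.pl r * B.zl l := by
          rw [R.V_pl, R.V_zl, R.V_mul]; simp only [add_zero, zero_add]
        rw [e3]
        exact e1.mul_right e2
      rw [cj_of_comm (h5 _ _).symm.inv_right, R.V_mul]
      exact R.V_congr4 (add_zero _) (add_zero _) (add_zero _) (add_zero _))
  have h1 := hy 0 1 0 0 0 0
  have h2 : cj (R.wL s) (R.V 0 1 0 0 0 0) = cj (R.wR s d) (R.V 0 1 0 0 0 0) := by
    have h3 : cj (R.wL s * (R.wR s d)⁻¹) (R.V 0 1 0 0 0 0) = R.V 0 1 0 0 0 0 := cj_of_comm h1.symm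
    rw [cj_mul_left] at h3
    have h4 := congrArg (cj (R.wR s d)) h3
    rw [← cj_mul_left, inv_mul_cancel, cj, inv_one, one_mul, mul_one] at h4
    exact h4
  have h3 : cj (R.wR s d) (R.V 0 1 0 0 0 0) = R.V 0 d 1 0 d 0 := by
    rw [wR, cj_mul_left, cj_mul_left, cj_mul_left, cj_mul_left, cj_mul_left, R.cj_nb_V, R.cj_pb_V, R.cj_xb_V,
      R.cj_nb_V, R.cj_pb_V, R.cj_h_V]
    have e : ((d⁻¹ : Fˣ) : F) = (d : F)⁻¹ := Units.val_inv_eq_inv_val d
    have e0 : (d : F) * (d : F)⁻¹ = 1 := mul_inv_cancel₀ hd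
    rw [Units.val_pow_eq_pow_val, e]
    generalize hi : (d : F)⁻¹ = i at *
    generalize (d : F) = D at *
    congr 1
    · ring
    · ring
    · linear_combination (D * i + 1) * e0
    · ring
    · linear_combination D * (D * i + 1) * e0
    · ring
  rw [R.cj_wL, h3] at h2
  obtain ⟨-, -, -, -, h5, h6⟩ := R.V_inj h2
  have h7 : s * (δ + κ) = 0 := by
    have h2' : (2 : F) = 0 := CharTwo.two_eq_zero
    linear_combination h5 + hdv + (s * κ) * h2'
  have h8 : s * (μ + δ) = 0 := by linear_combination h6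
  have h9 := CharTwo.add_eq_zero.1 ((mul_eq_zero.1 h7).resolve_left hs)
  have h10 := CharTwo.add_eq_zero.1 ((mul_eq_zero.1 h8).resolve_left hs)
  exact ⟨h9.symm, h10⟩

end RingA
end Cfsg.Agent.StdSpFour
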