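import Cfsg.Agent.StdSpFour.RingAShift
import Cfsg.Agent.StdSpFour.Fld

/-!
# Type `Sp₄`, case (A): field and graph elements on the second layers

`fld`: a field element `f` maps `p_r(u)` to `p_r(σu) x_r(μσu)`, and `μ² + μ = δ + σδ`.
`grf`: a graph element maps `p_a(u)` to `p_b(ψ(u)²) x_b(μψ(u)²)`, `p_b(s)` to `p_a(ψs) x_a(νψs)`, and
`μ = ν + ψδ = ν² + δ`.
-/
set_option autoImplicit false
set_option linter.unusedSectionVars false

namespace Cfsg.Agent.StdSpFour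

open Cfsg.Agent.StdSpFour.Comm Cfsg.Agent.StdSpFour.Fld

variable {F G : Type*} [Field F] [CharP F 2] [Group G] {B : Base F G}

namespace RingL

theorem sq_ne {t p x y : G} (htt : t * t = 1) (h : t * p = p * t * x) (hx : x * x = 1) (hpx : Commute p x)
    (htx : Commute t x) (hy : y * y = 1) (hpy : Commute p y) (hty : Commute t y) (hp : p * p = 1) :
    p * (t * y) * (p * (t * y)) = x := by
  have h1 : p * t = t * p * x := by rw [h, mul_assoc _ x x, hx, mul_one]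
  calc p * (t * y) * (p * (t * y)) = (p * t) * (y * p) * (t * y) := by group
    _ = (p * t) * p * (y * t) * y := by rw [← hpy.eq]; group
    _ = (p * t) * p * t * (y * y) := by rw [← hty.eq]; group
    _ = t * p * (x * p) * t := by rw [hy, mul_one, h1]; group
    _ = t * (p * p) * (x * t) := by rw [← hpx.eq]; group
    _ = t * t * x := by rw [hp, mul_one, ← htx.eq]; group
    _ = x := by rw [htt, one_mul]

/-- elements over `x_a(1)` -/
theorem key1 (hF : 4 ≤ Nat.card F) (hB : B.Self) (R : RingL B) {g : G} (hgt : B.t * g = g * B.t * B.xa 1)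
    (ha : ∀ u, Commute g (B.xa u)) (hs : ∀ u, Commute g (B.zs u)) (hl : ∀ u, Commute g (B.zl u))
    (hh : ∀ β, Commute g (B.h 1 β)) (hg : g * g = 1) : ∃ μ, g = R.pa 1 * B.xa μ := by
  obtain ⟨l, hl1⟩ := exists_ne (F := F) hF
  have hx : B.xa 1 * B.xa 1 = 1 := B.xa_xa 1
  have ct : Commute (R.pa 1 * g) B.t := by
    have h1 : R.pa 1 * B.t = B.t * R.pa 1 * B.xa 1 := by rw [R.t_pa, mul_assoc _ (B.xa 1), hx, mul_one]
    have h2 : g * B.t = B.t * g * B.xa 1 := by rw [hgt, mul_assoc _ (B.xa 1), hx, mul_one]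
    show R.pa 1 * g * B.t = B.t * (R.pa 1 * g)
    calc R.pa 1 * g * B.t = R.pa 1 * (g * B.t) := by group
      _ = (R.pa 1 * B.t) * (g * B.xa 1) := by rw [h2]; group
      _ = B.t * R.pa 1 * (B.xa 1 * g) * B.xa 1 := by rw [h1]; group
      _ = B.t * (R.pa 1 * g) * (B.xa 1 * B.xa 1) := by rw [← (ha 1).eq]; group
      _ = _ := by rw [hx, mul_one]
  obtain ⟨c, u, m, r, hc, h1⟩ := form2 hB ct (fun u => (R.pa_xa 1 u).mul_left (ha u))
    (fun u => (R.pa_zs 1 u).mul_left (hs u)) (fun u => (R.pa_zl 1 u).mul_left (hl u))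
  have h2 : Commute (R.pa 1 * g * B.xa u) (B.h 1 l) := by
    have e1 : Commute (R.pa 1) (B.h 1 l) := by
      have := R.h_pa 1 l 1
      rw [Units.val_one, one_mul] at this
      exact this.symm
    have e2 : Commute (B.xa u) (B.h 1 l) := by
      have := B.h_xa 1 l u
      rw [Units.val_one, one_mul] at this
      exact this.symm
    exact (e1.mul_left (hh l)).mul_left e2
  have h3 : R.pa 1 * g * B.xa u = c * (B.xb 0 * B.zs m * B.zl r) := by
    rw [h1, B.xb_zero, one_mul]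
    have e1 := (B.xa_zs u m).eq
    have e2 := (B.xa_zl u r).eq
    calc c * (B.xa u * B.zs m * B.zl r) * B.xa u = c * (B.xa u * B.zs m * (B.zl r * B.xa u)) := by group
      _ = c * (B.xa u * (B.zs m * B.xa u) * B.zl r) := by rw [← e2]; group
      _ = c * ((B.xa u * B.xa u) * B.zs m * B.zl r) := by rw [← e1]; group
      _ = _ := by rw [B.xa_xa, one_mul]
  have h4 := eq_tau1 hc h3 hl1 h2
  have h5 : g = R.pa 1 * (c * B.xa u) := by
    rw [← h4]
    calc g = (R.pa 1 * R.pa 1) * g * (B.xa u * B.xa u) := by rw [R.pa_sq, B.xa_xa, one_mul, mul_one]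
      _ = _ := by group
  rcases hc with rfl | rfl
  · exact ⟨u, by rw [h5, one_mul]⟩
  · exfalso
    have h6 := sq_ne B.tt (R.t_pa 1) hx (R.pa_xa 1 1) (B.t_xa 1) (B.xa_xa u) (R.pa_xa 1 u) (B.t_xa u) (R.pa_sq 1)
    rw [← h5, hg] at h6
    have h7 := B.inj 1 0 0 0 (by rw [← h6, B.xb_zero, B.zs_zero, B.zl_zero]; group)
    exact one_ne_zero h7.1

/-- elements over `x_b(1)` -/
theorem key2 (hF : 4 ≤ Nat.card F) (hB : B.Self) (R : RingL B) {g : G} (hgt : B.t * g = g * B.t * B.xb 1)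
    (ha : ∀ u, Commute g (B.xb u)) (hs : ∀ u, Commute g (B.zs u)) (hl : ∀ u, Commute g (B.zl u))
    (hh : ∀ α, Commute g (B.h α 1)) (hg : g * g = 1) : ∃ μ, g = R.pb 1 * B.xb μ := by
  obtain ⟨l, hl1⟩ := exists_ne (F := F) hF
  have hx : B.xb 1 * B.xb 1 = 1 := B.xb_xb 1
  have ct : Commute (R.pb 1 * g) B.t := by
    have h1 : R.pb 1 * B.t = B.t * R.pb 1 * B.xb 1 := by rw [R.t_pb, mul_assoc _ (B.xb 1), hx, mul_one]
    have h2 : g * B.t = B.t * g * B.xb 1 := by rw [hgt, mul_assoc _ (B.xb 1), hx, mul_one]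
    show R.pb 1 * g * B.t = B.t * (R.pb 1 * g)
    calc R.pb 1 * g * B.t = R.pb 1 * (g * B.t) := by group
      _ = (R.pb 1 * B.t) * (g * B.xb 1) := by rw [h2]; group
      _ = B.t * R.pb 1 * (B.xb 1 * g) * B.xb 1 := by rw [h1]; group
      _ = B.t * (R.pb 1 * g) * (B.xb 1 * B.xb 1) := by rw [← (ha 1).eq]; group
      _ = _ := by rw [hx, mul_one]
  obtain ⟨u, m, r, h1⟩ := hB.cent1 _ ct (fun u => (R.pb_xb 1 u).mul_left (ha u))
    (fun u => (R.pb_zs 1 u).mul_left (hs u)) (fun u => (R.pb_zl 1 u).mul_left (hl u))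
  have h1' : ∃ c, Tau B c ∧ R.pb 1 * g = c * (B.xb u * B.zs m * B.zl r) := by
    rcases h1 with h1 | h1
    · exact ⟨1, Or.inl rfl, by rw [h1, one_mul]⟩
    · exact ⟨B.t, Or.inr rfl, h1⟩
  obtain ⟨c, hc, h1⟩ := h1'
  have h2 : Commute (R.pb 1 * g * B.xb u) (B.h l 1) := by
    have e1 : Commute (R.pb 1) (B.h l 1) := by
      have := R.h_pb l 1 1
      rw [Units.val_one, one_mul] at this
      exact this.symm
    have e2 : Commute (B.xb u) (B.h l 1) := by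
      have := B.h_xb l 1 u
      rw [Units.val_one, one_mul] at this
      exact this.symm
    exact (e1.mul_left (hh l)).mul_left e2
  have h3 : R.pb 1 * g * B.xb u = c * (B.xa 0 * B.zs m * B.zl r) := by
    rw [h1, B.xa_zero, one_mul]
    have e1 := (B.xb_zs u m).eq
    have e2 := (B.xb_zl u r).eq
    calc c * (B.xb u * B.zs m * B.zl r) * B.xb u = c * (B.xb u * B.zs m * (B.zl r * B.xb u)) := by group
      _ = c * (B.xb u * (B.zs m * B.xb u) * B.zl r) := by rw [← e2]; group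
      _ = c * ((B.xb u * B.xb u) * B.zs m * B.zl r) := by rw [← e1]; group
      _ = _ := by rw [B.xb_xb, one_mul]
  have h4 := eq_tau2 hc h3 hl1 h2
  have h5 : g = R.pb 1 * (c * B.xb u) := by
    rw [← h4]
    calc g = (R.pb 1 * R.pb 1) * g * (B.xb u * B.xb u) := by rw [R.pb_sq, B.xb_xb, one_mul, mul_one]
      _ = _ := by group
  rcases hc with rfl | rfl
  · exact ⟨u, by rw [h5, one_mul]⟩
  · exfalso
    have h6 := sq_ne B.tt (R.t_pb 1) hx (R.pb_xb 1 1) (B.t_xb 1) (B.xb_xb u) (R.pb_xb 1 u) (B.t_xb u) (R.pb_sq 1)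
    rw [← h5, hg] at h6
    have h7 := B.inj 0 1 0 0 (by rw [← h6, B.xa_zero, B.zs_zero, B.zl_zero]; group)
    exact one_ne_zero h7.2.1

/-- action of `f` on the second layers: `f p_r(u) f⁻¹ = p_{r'}(σu) x_{r'}(μσu)` -/
structure FAct (R : RingL B) (σ : F ≃+* F) (μ : F) (f : G) : Prop where
  pa : ∀ u, f * R.pa u = R.pa (σ u) * B.xa (μ * σ u) * f
  pb : ∀ u, f * R.pb u = R.pb (σ u) * B.xb (μ * σ u) * f
  ps : ∀ u, f * R.ps u = R.ps (σ u) * B.zs (μ * σ u) * f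
  pl : ∀ u, f * R.pl u = R.pl (σ u) * B.zl (μ * σ u) * f

theorem conj_of {f x y : G} (h : f * x = y * f) : f * x * f⁻¹ = y := by rw [h, mul_inv_cancel_right]

theorem of_conj {f x y : G} (h : f * x * f⁻¹ = y) : f * x = y * f := by rw [← h, inv_mul_cancel_right]

/-- commuting transported by conjugation -/
theorem comm_conj' {f x y y' : G} (h2 : f * y = y' * f) (h : Commute x y) :
    Commute (f * x * f⁻¹) y' := by
  rw [← conj_of h2]
  have := h.map (MulAut.conj f)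
  simpa only [MulAut.conj_apply] using this

theorem cj_inv_eq (f x : G) : cj f⁻¹ x = f * x * f⁻¹ := by rw [cj, inv_inv]

theorem exists_pa (hF : 4 ≤ Nat.card F) (hB : B.Self) (R : RingL B) {σ : F ≃+* F} {f : G} (hf : IsFld B σ f) :
    ∃ μ, ∀ u, f * R.pa u = R.pa (σ u) * B.xa (μ * σ u) * f := by
  obtain ⟨μ, hμ⟩ := R.key1 hF hB (g := f * R.pa 1 * f⁻¹)
    (by
      have h1 := hf.t
      have h2 := conj_of h1
      calc B.t * (f * R.pa 1 * f⁻¹) = (f * B.t * f⁻¹) * (f * R.pa 1 * f⁻¹) := by rw [h2]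
        _ = f * (B.t * R.pa 1) * f⁻¹ := by group
        _ = f * R.pa 1 * f⁻¹ * (f * B.t * f⁻¹) * (f * B.xa 1 * f⁻¹) := by rw [R.t_pa]; group
        _ = _ := by rw [h2, conj_of (hf.xa 1), map_one])
    (fun u => by
      obtain ⟨v, rfl⟩ := σ.surjective u
      exact comm_conj' (hf.xa v) (R.pa_xa 1 v))
    (fun u => by
      obtain ⟨v, rfl⟩ := σ.surjective u
      exact comm_conj' (hf.zs v) (R.pa_zs 1 v))
    (fun u => by
      obtain ⟨v, rfl⟩ := σ.surjective u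
      exact comm_conj' (hf.zl v) (R.pa_zl 1 v))
    (fun β => by
      obtain ⟨γ, rfl⟩ := um_surj σ β
      have h1 := R.h_pa 1 γ 1
      rw [Units.val_one, one_mul] at h1
      have h2 := hf.h 1 γ
      rw [map_one] at h2
      exact comm_conj' h2 (Eq.symm h1))
    (by
      calc f * R.pa 1 * f⁻¹ * (f * R.pa 1 * f⁻¹) = f * (R.pa 1 * R.pa 1) * f⁻¹ := by group
        _ = 1 := by rw [R.pa_sq]; group)
  refine ⟨μ, fun u => ?_⟩
  by_cases hu : u = 0
  · rw [hu, map_zero, mul_zero, R.pa_zero, B.xa_zero, mul_one, mul_one, one_mul]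
  apply of_conj
  have h1 := R.h_pa (Units.mk0 u hu) 1 1
  rw [Units.val_mk0, mul_one] at h1
  have h2 := hf.h (Units.mk0 u hu) 1
  rw [map_one] at h2
  have h3 := R.h_pa (um σ (Units.mk0 u hu)) 1 1
  have h4 := B.h_xa (um σ (Units.mk0 u hu)) 1 μ
  rw [um_val, Units.val_mk0] at h3 h4
  rw [mul_one] at h3
  have e1 : R.pa u = B.h (Units.mk0 u hu) 1 * R.pa 1 * (B.h (Units.mk0 u hu) 1)⁻¹ := (conj_of h1).symm
  calc f * R.pa u * f⁻¹ = (f * B.h (Units.mk0 u hu) 1 * f⁻¹) * (f * R.pa 1 * f⁻¹) *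
        (f * B.h (Units.mk0 u hu) 1 * f⁻¹)⁻¹ := by rw [e1]; group
    _ = B.h (um σ (Units.mk0 u hu)) 1 * (R.pa 1 * B.xa μ) * (B.h (um σ (Units.mk0 u hu)) 1)⁻¹ := by
        rw [conj_of h2, hμ]
    _ = (B.h (um σ (Units.mk0 u hu)) 1 * R.pa 1) * B.xa μ * (B.h (um σ (Units.mk0 u hu)) 1)⁻¹ := by group
    _ = R.pa (σ u) * (B.h (um σ (Units.mk0 u hu)) 1 * B.xa μ) * (B.h (um σ (Units.mk0 u hu)) 1)⁻¹ := by
        rw [h3]; group
    _ = _ := by rw [h4, mul_comm (σ u)]; group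

theorem exists_pb (hF : 4 ≤ Nat.card F) (hB : B.Self) (R : RingL B) {σ : F ≃+* F} {f : G} (hf : IsFld B σ f) :
    ∃ μ, ∀ u, f * R.pb u = R.pb (σ u) * B.xb (μ * σ u) * f := by
  obtain ⟨μ, hμ⟩ := R.key2 hF hB (g := f * R.pb 1 * f⁻¹)
    (by
      have h1 := hf.t
      have h2 := conj_of h1
      calc B.t * (f * R.pb 1 * f⁻¹) = (f * B.t * f⁻¹) * (f * R.pb 1 * f⁻¹) := by rw [h2]
        _ = f * (B.t * R.pb 1) * f⁻¹ := by group
        _ = f * R.pb 1 * f⁻¹ * (f * B.t * f⁻¹) * (f * B.xb 1 * f⁻¹) := by rw [R.t_pb]; group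
        _ = _ := by rw [h2, conj_of (hf.xb 1), map_one])
    (fun u => by
      obtain ⟨v, rfl⟩ := σ.surjective u
      exact comm_conj' (hf.xb v) (R.pb_xb 1 v))
    (fun u => by
      obtain ⟨v, rfl⟩ := σ.surjective u
      exact comm_conj' (hf.zs v) (R.pb_zs 1 v))
    (fun u => by
      obtain ⟨v, rfl⟩ := σ.surjective u
      exact comm_conj' (hf.zl v) (R.pb_zl 1 v))
    (fun β => by
      obtain ⟨γ, rfl⟩ := um_surj σ β
      have h1 := R.h_pb γ 1 1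
      rw [Units.val_one, one_mul] at h1
      have h2 := hf.h γ 1
      rw [map_one] at h2
      exact comm_conj' h2 (Eq.symm h1))
    (by
      calc f * R.pb 1 * f⁻¹ * (f * R.pb 1 * f⁻¹) = f * (R.pb 1 * R.pb 1) * f⁻¹ := by group
        _ = 1 := by rw [R.pb_sq]; group)
  refine ⟨μ, fun u => ?_⟩
  by_cases hu : u = 0
  · rw [hu, map_zero, mul_zero, R.pb_zero, B.xb_zero, mul_one, mul_one, one_mul]
  apply of_conj
  have h1 := R.h_pb 1 (Units.mk0 u hu) 1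
  rw [Units.val_mk0, mul_one] at h1
  have h2 := hf.h 1 (Units.mk0 u hu)
  rw [map_one] at h2
  have h3 := R.h_pb 1 (um σ (Units.mk0 u hu)) 1
  have h4 := B.h_xb 1 (um σ (Units.mk0 u hu)) μ
  rw [um_val, Units.val_mk0] at h3 h4
  rw [mul_one] at h3
  have e1 : R.pb u = B.h 1 (Units.mk0 u hu) * R.pb 1 * (B.h 1 (Units.mk0 u hu))⁻¹ := (conj_of h1).symm
  calc f * R.pb u * f⁻¹ = (f * B.h 1 (Units.mk0 u hu) * f⁻¹) * (f * R.pb 1 * f⁻¹) *
        (f * B.h 1 (Units.mk0 u hu) * f⁻¹)⁻¹ := by rw [e1]; group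
    _ = B.h 1 (um σ (Units.mk0 u hu)) * (R.pb 1 * B.xb μ) * (B.h 1 (um σ (Units.mk0 u hu)))⁻¹ := by
        rw [conj_of h2, hμ]
    _ = (B.h 1 (um σ (Units.mk0 u hu)) * R.pb 1) * B.xb μ * (B.h 1 (um σ (Units.mk0 u hu)))⁻¹ := by group
    _ = R.pb (σ u) * (B.h 1 (um σ (Units.mk0 u hu)) * B.xb μ) * (B.h 1 (um σ (Units.mk0 u hu)))⁻¹ := by
        rw [h3]; group
    _ = _ := by rw [h4, mul_comm (σ u)]; group

end RingL

namespace RingA

open RingL

/-- **field elements on the second layers** -/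
theorem exists_fact (hF : 4 ≤ Nat.card F) (hB : B.Self) {δ κ μ' : F} (R : RingA B δ κ μ') {σ : F ≃+* F} {f : G}
    (hf : IsFld B σ f) : ∃ μ, FAct R.toRingL σ μ f ∧ μ ^ 2 + μ = δ + σ δ := by
  obtain ⟨μ, h1⟩ := R.exists_pa hF hB hf
  obtain ⟨ν, h2⟩ := R.exists_pb hF hB hf
  have h3 : ∀ u, f * R.ps u = R.ps (σ u) * B.zs (μ * σ u) * f := by
    intro u
    have e1 : R.ps u = B.nb * R.pa u * B.nb⁻¹ := (conj_of (R.nb_pa u)).symm
    apply of_conj
    calc f * R.ps u * f⁻¹ = (f * B.nb * f⁻¹) * (f * R.pa u * f⁻¹) * (f * B.nb * f⁻¹)⁻¹ := by rw [e1]; group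
      _ = B.nb * (R.pa (σ u) * B.xa (μ * σ u)) * B.nb⁻¹ := by rw [conj_of hf.nb, conj_of (h1 u)]
      _ = (B.nb * R.pa (σ u)) * B.xa (μ * σ u) * B.nb⁻¹ := by group
      _ = R.ps (σ u) * (B.nb * B.xa (μ * σ u)) * B.nb⁻¹ := by rw [R.nb_pa]; group
      _ = _ := by rw [B.nb_xa]; group
  have h4 : ∀ u, f * R.pl u = R.pl (σ u) * B.zl (ν * σ u) * f := by
    intro u
    have e1 : R.pl u = B.na * R.pb u * B.na⁻¹ := (conj_of (R.na_pb u)).symm
    apply of_conj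
    calc f * R.pl u * f⁻¹ = (f * B.na * f⁻¹) * (f * R.pb u * f⁻¹) * (f * B.na * f⁻¹)⁻¹ := by rw [e1]; group
      _ = B.na * (R.pb (σ u) * B.xb (ν * σ u)) * B.na⁻¹ := by rw [conj_of hf.na, conj_of (h2 u)]
      _ = (B.na * R.pb (σ u)) * B.xb (ν * σ u) * B.na⁻¹ := by group
      _ = R.pl (σ u) * (B.na * B.xb (ν * σ u)) * B.na⁻¹ := by rw [R.na_pb]; group
      _ = _ := by rw [B.na_xb]; group
  -- the action on `V`
  have hV : ∀ w u m k r l, cj f⁻¹ (R.V w u m k r l) = R.V (σ w) (σ u + μ * σ w) (σ m) (σ k + μ * σ m) (σ r)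
      (σ l + ν * σ r) := by
    intro w u m k r l
    have g : ∀ {x y : G}, f * x = y * f → cj f⁻¹ x = y := fun h => by rw [cj_inv_eq, conj_of h]
    rw [R.V_eq, cj_mul, cj_mul, cj_mul, cj_mul, cj_mul, g (h1 w), g (hf.xa u), g (h3 m), g (hf.zs k), g (h4 r),
      g (hf.zl l), R.V_pa, R.V_xa, R.V_xa, R.V_ps, R.V_zs, R.V_zs, R.V_pl, R.V_zl, R.V_zl]
    simp only [R.V_mul]
    congr 1 <;> ring
  have e1 : cj (cj f⁻¹ (B.xb 1)) (cj f⁻¹ (R.pa 1)) = cj f⁻¹ (cj (B.xb 1) (R.pa 1)) := by simp only [cj]; group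
  have e2 : cj (cj f⁻¹ (R.pb 1)) (cj f⁻¹ (B.xa 1)) = cj f⁻¹ (cj (R.pb 1) (B.xa 1)) := by simp only [cj]; group
  have e3 : cj f⁻¹ (B.xb 1) = B.xb 1 := by rw [cj_inv_eq, conj_of (hf.xb 1), map_one]
  have e4 : cj f⁻¹ (R.pb 1) = R.pb 1 * B.xb ν := by rw [cj_inv_eq, conj_of (h2 1), map_one, mul_one]
  rw [e3, R.V_pa, hV, R.cj_xb_V, R.cj_xb_V, hV] at e1
  rw [e4, R.V_xa, hV, cj_mul_left, R.cj_pb_V, R.cj_xb_V, R.cj_pb_V, hV] at e2
  simp only [map_zero, map_one, mul_one, mul_zero, zero_add, add_zero, one_pow, one_mul, ne_eq,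
    OfNat.ofNat_ne_zero, not_false_eq_true, zero_pow] at e1 e2
  obtain ⟨-, -, -, -, -, e5⟩ := R.V_inj e1
  obtain ⟨-, -, -, e6, -, -⟩ := R.V_inj e2
  subst e6
  refine ⟨_, ⟨h1, h2, h3, h4⟩, ?_⟩
  have h2 : (2 : F) = 0 := CharTwo.two_eq_zero
  linear_combination e5 + ν * h2 - δ * h2

end RingA

end Cfsg.Agent.StdSpFour
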