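import Cfsg.Agent.StdSpFour.EndAGroup
import Cfsg.Agent.StdSpFour.EnvFacts
import Mathlib.GroupTheory.Perm.Cycle.Type
import Mathlib.GroupTheory.QuotientGroup.Basic
import Mathlib.GroupTheory.Index

/-!
S1778, type Sp₄(q), case (A): `M = X̂_a Ẑ` is elementary abelian of order `q⁶`; an element of a finite group which
centralises `{p_l(r) z_l(l)}` and acts trivially on `M` modulo `{p_l(r) z_l(l)}` centralises `M`.
-/
set_option autoImplicit false
set_option linter.unusedSectionVars false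

open Subgroup
open scoped commutatorElement

namespace Cfsg.Agent.StdSpFour

open Swap Env EnvSwap EnvFacts

namespace RingA

variable {F G : Type*} [Field F] [CharP F 2] [Finite F] [Group G] {B : Base F G} {A : Subgroup G}

/-- `P₁` preserves the quadratic form `m² + s r` of `V₁`. -/
theorem quad (hE : Env B A) {x : G} (hx : x ∈ P1 B) : ∀ s m r, ∃ s' m' r',
    x * B.v1 s m r * x⁻¹ = B.v1 s' m' r' ∧ m' ^ 2 + s' * r' = m ^ 2 + s * r := by
  rw [P1] at hx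
  induction hx using closure_induction with
  | mem y hy =>
    intro s m r
    rcases hy with rfl | ⟨u, rfl⟩ | ⟨s', m', r', rfl⟩
    · exact ⟨r, m, s, by rw [B.na_v1]; group, by ring⟩
    · refine ⟨s, m + u * s, r + u ^ 2 * s, by rw [B.xa_v1]; group, ?_⟩
      have h1 : (m + u * s) ^ 2 = m ^ 2 + (u * s) ^ 2 := CharTwo.add_sq _ _
      have h2 : (u * s) ^ 2 + (u * s) ^ 2 = 0 := CharTwo.add_self_eq_zero _
      calc (m + u * s) ^ 2 + s * (r + u ^ 2 * s) = m ^ 2 + s * r + ((u * s) ^ 2 + (u * s) ^ 2) := by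
            rw [h1]; ring
        _ = _ := by rw [h2, add_zero]
    · exact ⟨s, m, r, by rw [(B.v1_comm s' m' r' s m r).eq]; group, rfl⟩
  | one => intro s m r; exact ⟨s, m, r, by group, rfl⟩
  | mul x y hx hy ihx ihy =>
    intro s m r
    obtain ⟨s1, m1, r1, h1, e1⟩ := ihy s m r
    obtain ⟨s2, m2, r2, h2, e2⟩ := ihx s1 m1 r1
    refine ⟨s2, m2, r2, ?_, e2.trans e1⟩
    rw [← h2, ← h1]; group
  | inv x hx ihx =>
    intro s m r
    obtain ⟨⟨s1, m1, r1, h1⟩, -⟩ := hE.v_norm_both hx s m r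
    obtain ⟨s2, m2, r2, h2, e2⟩ := ihx s1 m1 r1
    have h3 : B.v1 s m r = B.v1 s2 m2 r2 := by rw [← h2, ← h1]; group
    obtain ⟨rfl, rfl, rfl⟩ := B.v1_inj h3
    exact ⟨s1, m1, r1, by rw [inv_inv]; exact h1, e2.symm⟩

/-- Elements of `C(t)` acting on `V₁` by a homomorphism into `Z_s` centralise `V₁`. -/
theorem triv_v1 (hE : Env B A) (hF : 4 ≤ Nat.card F) {c : G} (hct : Commute c B.t)
    (hz : ∀ m, Commute c (B.zs m)) (h : ∀ s m r, ∃ k, c * B.v1 s m r * c⁻¹ = B.v1 s (m + k) r) :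
    ∀ s m r, Commute c (B.v1 s m r) := by
  have hvz : ∀ s m k r, B.v1 s (m + k) r = B.v1 s m r * B.zs k := by
    intro s m k r
    rw [← Base.v1_zs, B.v1_mul, add_zero, add_zero]
  -- `c` maps `P₁` into `A`
  have hA : ∀ x ∈ P1 B, c * x * c⁻¹ ∈ A := by
    intro x hx
    have h1 : (P1 B).map (MulAut.conj c).toMonoidHom ≤ A := by
      apply hE.maxA
      · rw [← map_commutator, hE.perf1 hF]
      · rintro _ ⟨y, hy, rfl⟩
        have h2 := hE.comm y (hE.P1_le hy)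
        show Commute (c * y * c⁻¹) B.t
        exact (hct.mul_left h2).mul_left hct.inv_left
    exact h1 ⟨x, hx, rfl⟩
  have key : ∀ x ∈ P1 B, ∀ s m r s' m' r' k k', x * B.v1 s m r * x⁻¹ = B.v1 s' m' r' →
      c * B.v1 s m r * c⁻¹ = B.v1 s (m + k) r → c * B.v1 s' m' r' * c⁻¹ = B.v1 s' (m' + k') r' → k = k' := by
    intro x hx s m r s' m' r' k k' h1 h2 h3
    set a := c * x * c⁻¹ * x⁻¹ with ha
    have haA : a ∈ A := mul_mem (hA x hx) (inv_mem (hE.P1_le hx))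
    have hxz : Commute x (B.zs 1) := hE.z1 hx 1
    have haz : Commute a (B.zs 1) :=
      (((hz 1).mul_left hxz).mul_left (hz 1).inv_left).mul_left hxz.inv_left
    have haP : a ∈ P1 B := cent_zs hE haA one_ne_zero haz
    have h4 : a * B.v1 s' m' r' * a⁻¹ = B.v1 s' (m' + (k' + k)) r' := by
      have e1 : c⁻¹ * B.v1 s m r * c = B.v1 s m r * B.zs k := by
        have e2 : c * (B.v1 s m r * B.zs k) * c⁻¹ = B.v1 s m r := by
          have e3 : c * (B.v1 s m r * B.zs k) * c⁻¹ = c * B.v1 s m r * c⁻¹ * B.zs k := by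
            have := (hz k).inv_left.eq
            calc c * (B.v1 s m r * B.zs k) * c⁻¹ = c * B.v1 s m r * (B.zs k * c⁻¹) := by group
              _ = _ := by rw [← this]; group
          rw [e3, h2, hvz, mul_assoc, B.zs_zs, mul_one]
        calc c⁻¹ * B.v1 s m r * c = c⁻¹ * (c * (B.v1 s m r * B.zs k) * c⁻¹) * c := by rw [e2]
          _ = _ := by group
      have e4 : x * (B.v1 s m r * B.zs k) * x⁻¹ = B.v1 s' m' r' * B.zs k := by
        have := (hE.z1 hx k).inv_left.eq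
        calc x * (B.v1 s m r * B.zs k) * x⁻¹ = x * B.v1 s m r * (B.zs k * x⁻¹) := by group
          _ = x * B.v1 s m r * x⁻¹ * B.zs k := by rw [← this]; group
          _ = _ := by rw [h1]
      have e5 : c * (B.v1 s' m' r' * B.zs k) * c⁻¹ = B.v1 s' m' r' * B.zs k' * B.zs k := by
        have := (hz k).inv_left.eq
        calc c * (B.v1 s' m' r' * B.zs k) * c⁻¹ = c * B.v1 s' m' r' * (B.zs k * c⁻¹) := by group
          _ = c * B.v1 s' m' r' * c⁻¹ * B.zs k := by rw [← this]; group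
          _ = _ := by rw [h3, hvz]
      have e6 : a * B.v1 s' m' r' * a⁻¹ =
          c * (x * (c⁻¹ * (x⁻¹ * B.v1 s' m' r' * x) * c) * x⁻¹) * c⁻¹ := by
        rw [ha]; group
      have e7 : x⁻¹ * B.v1 s' m' r' * x = B.v1 s m r := by rw [← h1]; group
      rw [e6, e7, e1, e4, e5, ← add_assoc, hvz, hvz]
    obtain ⟨s2, m2, r2, h5, h6⟩ := quad hE haP s' m' r'
    rw [h4] at h5
    obtain ⟨rfl, rfl, rfl⟩ := B.v1_inj h5
    have h7 : (m' + (k' + k)) ^ 2 = m' ^ 2 := add_right_cancel h6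
    rw [CharTwo.add_sq] at h7
    have h8 : (k' + k) ^ 2 = 0 := by
      have : m' ^ 2 + (k' + k) ^ 2 = m' ^ 2 + 0 := by rw [h7, add_zero]
      exact add_left_cancel this
    have h9 : k' + k = 0 := pow_eq_zero_iff two_ne_zero |>.1 h8
    exact (FieldAux.eq_of_add_eq_zero h9).symm
  choose φ hφ using h
  have hadd : ∀ s m r s' m' r', φ (s + s') (m + m') (r + r') = φ s m r + φ s' m' r' := by
    intro s m r s' m' r'
    have h1 : c * (B.v1 s m r * B.v1 s' m' r') * c⁻¹ =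
        (c * B.v1 s m r * c⁻¹) * (c * B.v1 s' m' r' * c⁻¹) := by group
    rw [B.v1_mul, hφ, hφ, hφ, B.v1_mul] at h1
    have h2 := (B.v1_inj h1).2.1
    have h3 : m + m' + φ (s + s') (m + m') (r + r') = m + m' + (φ s m r + φ s' m' r') := by
      rw [h2]; ring
    exact add_left_cancel h3
  have hzero : ∀ m, φ 0 m 0 = 0 := by
    intro m
    have h1 := hφ 0 m 0
    have h2 : c * B.v1 0 m 0 * c⁻¹ = B.v1 0 m 0 := by
      rw [Base.v1_zs, (hz m).eq]; group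
    rw [h2] at h1
    exact left_eq_add.1 (B.v1_inj h1).2.1
  have hxa : ∀ u s m r, φ s m r = φ s (m + u * s) (r + u ^ 2 * s) := fun u s m r =>
    key _ (xa_P1 u) _ _ _ _ _ _ _ _ (by rw [B.xa_v1]; group) (hφ _ _ _) (hφ _ _ _)
  have hna : ∀ s m r, φ s m r = φ r m s := fun s m r =>
    key _ na_P1 _ _ _ _ _ _ _ _ (by rw [B.na_v1]; group) (hφ _ _ _) (hφ _ _ _)
  have hr : ∀ r, φ 0 0 r = 0 := by
    intro r
    obtain ⟨u, rfl⟩ := FieldAux.exists_sq r
    have h1 := hxa u 1 0 0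
    have h2 := hadd 1 0 0 0 u (u ^ 2)
    have h3 := hadd 0 u 0 0 0 (u ^ 2)
    rw [hzero] at h3
    simp only [mul_one, zero_add, add_zero] at h1 h2 h3
    rw [← h1, h3] at h2
    exact left_eq_add.1 h2
  have hs : ∀ s, φ s 0 0 = 0 := fun s => by rw [hna, hr]
  intro s m r
  have h1 : φ s m r = 0 := by
    have h2 := hadd s 0 0 0 m r
    have h3 := hadd 0 m 0 0 0 r
    simp only [zero_add, add_zero] at h2 h3
    rw [h2, h3, hs, hzero, hr, add_zero, add_zero]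
  have h2 := hφ s m r
  rw [h1, add_zero] at h2
  show c * B.v1 s m r = B.v1 s m r * c
  calc c * B.v1 s m r = c * B.v1 s m r * c⁻¹ * c := by group
    _ = _ := by rw [h2]

end RingA

namespace EndA
namespace RelA

variable {F G : Type*} [Field F] [CharP F 2] [Group G] {B : Base F G} (R : RelA B)

/-- `M = X̂_a Ẑ` -/
def Ma : Subgroup G where
  carrier := {g | ∃ a ∈ R.la.grp, ∃ ζ ∈ R.Zh, g = a * ζ}
  mul_mem' := by
    rintro _ _ ⟨a, ha, ζ, hζ, rfl⟩ ⟨a', ha', ζ', hζ', rfl⟩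
    refine ⟨a * a', mul_mem ha ha', ζ * ζ', mul_mem hζ hζ', ?_⟩
    have := (R.Zh_a hζ ha').eq
    calc a * ζ * (a' * ζ') = a * (ζ * a') * ζ' := by group
      _ = _ := by rw [this]; group
  one_mem' := ⟨1, one_mem _, 1, one_mem _, by rw [one_mul]⟩
  inv_mem' := by
    rintro _ ⟨a, ha, ζ, hζ, rfl⟩
    refine ⟨a⁻¹, inv_mem ha, ζ⁻¹, inv_mem hζ, ?_⟩
    rw [mul_inv_rev, (R.Zh_a (inv_mem hζ) (inv_mem ha)).eq]

theorem mem_Ma {g : G} : g ∈ R.Ma ↔ ∃ u v, ∃ ζ ∈ R.Zh, g = R.pa u * B.xa v * ζ := by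
  constructor
  · rintro ⟨_, ⟨u, v, rfl⟩, ζ, hζ, rfl⟩
    exact ⟨u, v, ζ, hζ, rfl⟩
  · rintro ⟨u, v, ζ, hζ, rfl⟩
    exact ⟨_, R.la.form_mem u v, ζ, hζ, rfl⟩

theorem a_le_Ma : R.la.grp ≤ R.Ma := fun a ha => ⟨a, ha, 1, one_mem _, by rw [mul_one]⟩
theorem Zh_le_Ma : R.Zh ≤ R.Ma := fun z hz => ⟨1, one_mem _, z, hz, by rw [one_mul]⟩

theorem ll_le_Zh : R.ll.grp ≤ R.Zh := by
  rintro _ ⟨r, l, rfl⟩
  exact ⟨0, 0, r, l, by rw [zh, R.ls.p_zero, B.zs_zero, one_mul, one_mul]⟩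

theorem Ma_comm {x y : G} (hx : x ∈ R.Ma) (hy : y ∈ R.Ma) : Commute x y := by
  obtain ⟨a, ha, ζ, hζ, rfl⟩ := hx
  obtain ⟨a', ha', ζ', hζ', rfl⟩ := hy
  exact ((R.la.comm ha ha').mul_right (R.Zh_a hζ' ha).symm).mul_left
    ((R.Zh_a hζ ha').mul_right (R.Zh_comm hζ hζ'))

theorem Ma_sq {x : G} (hx : x ∈ R.Ma) : x * x = 1 := by
  obtain ⟨a, ha, ζ, hζ, rfl⟩ := hx
  calc a * ζ * (a * ζ) = a * (ζ * a) * ζ := by group
    _ = (a * a) * (ζ * ζ) := by rw [(R.Zh_a hζ ha).eq]; group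
    _ = 1 := by rw [R.la.sq ha, R.Zh_sq hζ, one_mul]

theorem Ma_inv {x : G} (hx : x ∈ R.Ma) : x⁻¹ = x := inv_eq_of_mul_eq_one_right (R.Ma_sq hx)

/-- `t m t = m [m, t]` -/
theorem tt_Ma (u v m k r l : F) : B.t * (R.pa u * B.xa v * R.zh m k r l) * B.t =
    R.pa u * B.xa v * R.zh m k r l * (B.xa u * (B.zs m * B.zl r)) := by
  have h1 : Commute (R.zh m k r l) (B.xa u) := R.Zh_a (R.zh_mem m k r l) (R.la.x_mem u)
  calc B.t * (R.pa u * B.xa v * R.zh m k r l) * B.t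
      = B.t * (R.pa u * B.xa v) * 1 * R.zh m k r l * B.t := by group
    _ = (B.t * (R.pa u * B.xa v) * B.t) * (B.t * R.zh m k r l * B.t) := by rw [← B.tt]; group
    _ = R.pa u * B.xa v * (B.xa u * R.zh m k r l) * (B.zs m * B.zl r) := by
        rw [R.la.tt_form B.tt, R.tt_zh]; group
    _ = _ := by rw [← h1.eq]; group

theorem t_Ma {x : G} (hx : x ∈ R.Ma) : B.t * x * B.t ∈ R.Ma := by
  obtain ⟨u, v, _, ⟨m, k, r, l, rfl⟩, rfl⟩ := R.mem_Ma.1 hx
  rw [R.tt_Ma]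
  exact mul_mem hx (mul_mem (R.a_le_Ma (R.la.x_mem u)) (R.Zh_le_Ma (mul_mem (R.zs_mem m) (R.zl_mem r))))

/-- `C_M(t) = V₂`, in the form used below. -/
theorem Ma_cent {x : G} (hx : x ∈ R.Ma) (h : x * (B.t * x * B.t) = 1) : ∃ v k l, x = B.xa v * B.zs k * B.zl l := by
  obtain ⟨u, v, _, ⟨m, k, r, l, rfl⟩, rfl⟩ := R.mem_Ma.1 hx
  rw [R.tt_Ma, ← mul_assoc, R.Ma_sq hx, one_mul] at h
  obtain ⟨hu, -, hm, hr⟩ := B.inj u 0 m r (by rw [B.xb_zero, mul_one, ← h]; group)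
  subst hu hm hr
  refine ⟨v, k, l, ?_⟩
  rw [R.la.p_zero, R.zh_zs_zl, one_mul, mul_assoc]

theorem V2_mem (v k l : F) : B.xa v * B.zs k * B.zl l ∈ R.Ma :=
  mul_mem (mul_mem (R.a_le_Ma (R.la.x_mem v)) (R.Zh_le_Ma (R.zs_mem k))) (R.Zh_le_Ma (R.zl_mem l))

/-- The involutions `t v`, `v ∈ V₂`, are conjugate to `t` under `M`. -/
theorem exists_conj (v k l : F) : ∃ w ∈ R.Ma, w * B.t * w⁻¹ = B.t * (B.xa v * B.zs k * B.zl l) := by
  refine ⟨R.pa v * (R.ps k * R.pl l), mul_mem (R.a_le_Ma (R.la.p_mem v)) (mul_mem ?_ ?_), ?_⟩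
  · refine R.Zh_le_Ma ⟨k, 0, 0, 0, ?_⟩
    rw [zh, B.zs_zero, R.ll.p_zero, B.zl_zero, mul_one, mul_one, mul_one]
  · exact R.Zh_le_Ma (R.ll_le_Zh (R.ll.p_mem l))
  · have h1 : R.ps k * B.zl l * (R.ps k)⁻¹ = B.zl l := by rw [(R.ps_zl k l).eq]; group
    have h2 : R.pa v * (B.zs k * B.zl l) * (R.pa v)⁻¹ = B.zs k * B.zl l := by
      rw [((R.pa_zs v k).mul_right (R.pa_zl v l)).eq]; group
    calc R.pa v * (R.ps k * R.pl l) * B.t * (R.pa v * (R.ps k * R.pl l))⁻¹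
        = R.pa v * (R.ps k * (R.pl l * B.t * (R.pl l)⁻¹) * (R.ps k)⁻¹) * (R.pa v)⁻¹ := by group
      _ = R.pa v * ((R.ps k * B.t * (R.ps k)⁻¹) * (R.ps k * B.zl l * (R.ps k)⁻¹)) * (R.pa v)⁻¹ := by
          rw [R.ll.conj_t]; group
      _ = (R.pa v * B.t * (R.pa v)⁻¹) * (R.pa v * (B.zs k * B.zl l) * (R.pa v)⁻¹) := by
          rw [R.ls.conj_t, h1]; group
      _ = _ := by rw [R.la.conj_t, h2]; group

/-- `Y`: the elements centralising `N = {p_l(r) z_l(l)}` and acting trivially on `M/N` -/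
def Ya : Subgroup G where
  carrier := {y | (∀ n ∈ R.ll.grp, Commute y n) ∧ ∀ m ∈ R.Ma, y * m * y⁻¹ * m⁻¹ ∈ R.ll.grp}
  mul_mem' := by
    rintro y y' ⟨h1, h2⟩ ⟨h1', h2'⟩
    refine ⟨fun n hn => (h1 n hn).mul_left (h1' n hn), fun m hm => ?_⟩
    have h3 : y * (y' * m * y'⁻¹ * m⁻¹) * y⁻¹ = y' * m * y'⁻¹ * m⁻¹ := by
      rw [(h1 _ (h2' m hm)).eq]; group
    have h4 : y * y' * m * (y * y')⁻¹ * m⁻¹ =
        (y * (y' * m * y'⁻¹ * m⁻¹) * y⁻¹) * (y * m * y⁻¹ * m⁻¹) := by group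
    rw [h4, h3]
    exact mul_mem (h2' m hm) (h2 m hm)
  one_mem' := ⟨fun n _ => Commute.one_left n, fun m _ => by
    rw [one_mul, inv_one, mul_one, mul_inv_cancel]; exact one_mem _⟩
  inv_mem' := by
    rintro y ⟨h1, h2⟩
    refine ⟨fun n hn => (h1 n hn).inv_left, fun m hm => ?_⟩
    have h3 : y⁻¹ * m * y⁻¹⁻¹ * m⁻¹ = y⁻¹ * ((y * m * y⁻¹ * m⁻¹)⁻¹ * y) := by group
    rw [h3, ← (h1 _ (inv_mem (h2 m hm))).eq, inv_mul_cancel_left]
    exact inv_mem (h2 m hm)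

theorem Ya_comm {y n : G} (hy : y ∈ R.Ya) (hn : n ∈ R.ll.grp) : Commute y n := hy.1 n hn
theorem Ya_act {y m : G} (hy : y ∈ R.Ya) (hm : m ∈ R.Ma) : y * m * y⁻¹ * m⁻¹ ∈ R.ll.grp := hy.2 m hm

theorem ll_le_Ma : R.ll.grp ≤ R.Ma := R.ll_le_Zh.trans R.Zh_le_Ma

theorem Ma_le_Ya : R.Ma ≤ R.Ya := by
  intro x hx
  refine ⟨fun n hn => R.Ma_comm hx (R.ll_le_Ma hn), fun m hm => ?_⟩
  have : x * m * x⁻¹ * m⁻¹ = 1 := by rw [(R.Ma_comm hx hm).eq]; group
  rw [this]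
  exact one_mem _

theorem Ya_conj {y m : G} (hy : y ∈ R.Ya) (hm : m ∈ R.Ma) : y * m * y⁻¹ ∈ R.Ma := by
  have h1 := mul_mem (R.ll_le_Ma (R.Ya_act hy hm)) hm
  rwa [inv_mul_cancel_right] at h1

theorem t_ll {n : G} (hn : n ∈ R.ll.grp) : B.t * n * B.t ∈ R.ll.grp := by
  obtain ⟨r, l, rfl⟩ := hn
  rw [R.ll.tt_form B.tt]
  exact mul_mem (R.ll.form_mem r l) (R.ll.x_mem r)

theorem t_Ya {y : G} (hy : y ∈ R.Ya) : B.t * y * B.t ∈ R.Ya := by
  have ht : B.t⁻¹ = B.t := inv_eq_of_mul_eq_one_right B.tt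
  have hc : ∀ x z : G, (B.t * x * B.t) * (B.t * z * B.t) = B.t * (x * z) * B.t := by
    intro x z
    calc (B.t * x * B.t) * (B.t * z * B.t) = B.t * x * (B.t * B.t) * z * B.t := by group
      _ = _ := by rw [B.tt]; group
  have hcc : ∀ x : G, B.t * (B.t * x * B.t) * B.t = x := by
    intro x
    calc B.t * (B.t * x * B.t) * B.t = (B.t * B.t) * x * (B.t * B.t) := by group
      _ = x := by rw [B.tt, one_mul, mul_one]
  have hi : ∀ x : G, (B.t * x * B.t)⁻¹ = B.t * x⁻¹ * B.t := by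
    intro x; rw [mul_inv_rev, mul_inv_rev, ht, mul_assoc]
  refine ⟨fun n hn => ?_, fun m hm => ?_⟩
  · have h1 := (R.Ya_comm hy (R.t_ll hn)).eq
    show B.t * y * B.t * n = n * (B.t * y * B.t)
    calc B.t * y * B.t * n = (B.t * y * B.t) * (B.t * (B.t * n * B.t) * B.t) := by rw [hcc]
      _ = B.t * ((B.t * n * B.t) * y) * B.t := by rw [hc, h1]
      _ = (B.t * (B.t * n * B.t) * B.t) * (B.t * y * B.t) := by rw [← hc]
      _ = _ := by rw [hcc]
  · have h1 := R.t_ll (R.Ya_act hy (R.t_Ma hm))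
    rw [← hc, ← hc, ← hc, ← hi, ← hi, hcc] at h1
    exact h1

theorem t_notMem_Ya : B.t ∉ R.Ya := by
  intro h
  have h1 := R.Ya_act h (R.a_le_Ma (R.la.p_mem 1))
  have ht : B.t⁻¹ = B.t := inv_eq_of_mul_eq_one_right B.tt
  have h2 : B.t * R.pa 1 * B.t⁻¹ * (R.pa 1)⁻¹ = B.xa 1 := by
    have h3 := R.la.conj_t 1
    have h4 := (R.la.t_x 1).eq
    calc B.t * R.pa 1 * B.t⁻¹ * (R.pa 1)⁻¹ = B.t * (R.pa 1 * B.t * (R.pa 1)⁻¹) := by rw [ht]; group
      _ = B.t * B.t * B.xa 1 := by rw [h3]; group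
      _ = _ := by rw [B.tt, one_mul]
  rw [h2] at h1
  have h3 := R.xa_xb_mem (u := 1) (s := 0) (by rw [B.xb_zero, mul_one]; exact R.ll_le_Zh h1)
  exact one_ne_zero h3.1

/-- `y²` centralises `M` -/
theorem Ya_sq {y m : G} (hy : y ∈ R.Ya) (hm : m ∈ R.Ma) : Commute (y * y) m := by
  set n := y * m * y⁻¹ * m⁻¹ with hn
  have h1 : n ∈ R.ll.grp := R.Ya_act hy hm
  have h2 : y * m * y⁻¹ = n * m := by rw [hn]; group
  have h3 : y * n * y⁻¹ = n := by rw [(R.Ya_comm hy h1).eq]; group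
  have h4 : y * y * m * (y * y)⁻¹ = m := by
    calc y * y * m * (y * y)⁻¹ = y * (y * m * y⁻¹) * y⁻¹ := by group
      _ = y * (n * m) * y⁻¹ := by rw [h2]
      _ = (y * n * y⁻¹) * (y * m * y⁻¹) := by group
      _ = (n * n) * m := by rw [h3, h2]; group
      _ = m := by rw [R.ll.sq h1, one_mul]
  show y * y * m = m * (y * y)
  calc y * y * m = y * y * m * (y * y)⁻¹ * (y * y) := by group
    _ = _ := by rw [h4]

variable [Finite F] {A : Subgroup G}

/-- `C_Y(t) = V₂` -/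
theorem Ya_cent (hE : Env B A) (hF : 4 ≤ Nat.card F) {c : G} (hc : c ∈ R.Ya) (ht : Commute c B.t) :
    c ∈ R.Ma := by
  have key : ∀ s m r, Commute c ((swap B).v1 s m r) := by
    refine RingA.triv_v1 (env_swap hE) hF ht (fun m => R.Ya_comm hc (R.ll.x_mem m)) ?_
    intro s m r
    have h1 : (swap B).v1 s m r ∈ R.Ma := by
      show B.xa (rt s) * B.zl m * B.zs (rt r) ∈ R.Ma
      exact mul_mem (mul_mem (R.a_le_Ma (R.la.x_mem _)) (R.Zh_le_Ma (R.zl_mem m))) (R.Zh_le_Ma (R.zs_mem _))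
    obtain ⟨u, l, h2⟩ := R.Ya_act hc h1
    have h3 : Commute B.t (R.pl u * B.zl l) := by
      rw [← h2]
      have h4 : Commute B.t ((swap B).v1 s m r) := Base.t_v1 (B := swap B) s m r
      exact ((ht.symm.mul_right h4).mul_right ht.symm.inv_right).mul_right h4.inv_right
    have h4 : B.zl u = 1 := by
      have h5 := R.ll.t_form u l
      rw [h3.eq] at h5
      exact left_eq_mul.1 h5
    have h5 : u = 0 := R.ll.x_inj _ h4
    rw [h5, R.ll.p_zero, one_mul] at h2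
    refine ⟨l, ?_⟩
    have h6 : c * (swap B).v1 s m r * c⁻¹ = (swap B).v1 0 l 0 * (swap B).v1 s m r := by
      have h7 : (swap B).v1 0 l 0 = B.zl l := Base.v1_zs (B := swap B) l
      rw [h7, ← h2]; group
    rw [h6, Base.v1_mul, zero_add, zero_add, add_comm l]
  have hxa : ∀ u, Commute c (B.xa u) := by
    intro u
    have h1 := key (u ^ 2) 0 0
    rw [Base.v1_xb] at h1
    change Commute c (B.xa (rt (u ^ 2))) at h1
    rwa [rt_sq] at h1
  have hzs : ∀ u, Commute c (B.zs u) := by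
    intro u
    have h1 := key 0 0 (u ^ 2)
    rw [Base.v1_zl] at h1
    change Commute c (B.zs (rt (u ^ 2))) at h1
    rwa [rt_sq] at h1
  have hzl : ∀ u, Commute c (B.zl u) := fun u => R.Ya_comm hc (R.ll.x_mem u)
  obtain ⟨s, m, r, h | h⟩ := hE.self.cent2 c ht hxa hzs hzl
  · rw [h]; exact R.V2_mem s m r
  · exfalso
    apply R.t_notMem_Ya
    have h1 : B.t = c * (B.xa s * B.zs m * B.zl r)⁻¹ := by rw [h]; group
    rw [h1]
    exact mul_mem hc (inv_mem (R.Ma_le_Ya (R.V2_mem s m r)))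

/-- the fixed cosets of `t` on `Y/M` -/
theorem Ya_fix (hE : Env B A) (hF : 4 ≤ Nat.card F) {y m : G} (hy : y ∈ R.Ya) (hm : m ∈ R.Ma)
    (h : B.t * y * B.t = y * m) : y ∈ R.Ma := by
  have ht : B.t⁻¹ = B.t := inv_eq_of_mul_eq_one_right B.tt
  have h1 : y⁻¹ * B.t * y = m * B.t := by
    calc y⁻¹ * B.t * y = y⁻¹ * (B.t * y * B.t) * B.t⁻¹ := by group
      _ = _ := by rw [h, ht]; group
  have h2 : m * (B.t * m * B.t) = 1 := by
    calc m * (B.t * m * B.t) = (m * B.t) * (m * B.t) := by group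
      _ = y⁻¹ * (B.t * B.t) * y := by rw [← h1]; group
      _ = 1 := by rw [B.tt]; group
  obtain ⟨v, k, l, h3⟩ := R.Ma_cent hm h2
  obtain ⟨w, hw, h4⟩ := R.exists_conj v k l
  have h5 : m * B.t = B.t * m := by
    calc m * B.t = m * B.t * (m * (B.t * m * B.t))⁻¹ := by rw [h2, inv_one, mul_one]
      _ = m * B.t * (B.t * m⁻¹ * B.t * m⁻¹) := by rw [mul_inv_rev, mul_inv_rev, mul_inv_rev, ht]; group
      _ = m * (B.t * B.t) * m⁻¹ * B.t * m⁻¹ := by group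
      _ = B.t * m⁻¹ := by rw [B.tt]; group
      _ = B.t * m := by rw [R.Ma_inv hm]
  rw [← h3, ← h5, ← h1] at h4
  have h6 : Commute (y * w) B.t := by
    show y * w * B.t = B.t * (y * w)
    calc y * w * B.t = y * (w * B.t * w⁻¹) * w := by group
      _ = _ := by rw [h4]; group
  have h7 := R.Ya_cent hE hF (mul_mem hy (R.Ma_le_Ya hw)) h6
  have h8 := mul_mem h7 (inv_mem hw)
  rwa [mul_inv_cancel_right] at h8

/-- **Triviality.** -/
theorem triv' [Finite G] (hE : Env B A) (hF : 4 ≤ Nat.card F) {y : G} (hy : y ∈ R.Ya) :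
    ∀ m ∈ R.Ma, Commute y m := by
  classical
  let M' : Subgroup R.Ya := R.Ma.subgroupOf R.Ya
  have hN : M'.Normal := by
    refine ⟨fun n hn g => ?_⟩
    rw [mem_subgroupOf] at hn ⊢
    exact R.Ya_conj g.2 hn
  -- conjugation by `t`
  have ht : B.t⁻¹ = B.t := inv_eq_of_mul_eq_one_right B.tt
  let f : R.Ya →* R.Ya :=
    { toFun := fun y => ⟨B.t * y * B.t, R.t_Ya y.2⟩
      map_one' := Subtype.ext (by show B.t * 1 * B.t = 1; rw [mul_one, B.tt])
      map_mul' := fun x z => Subtype.ext (by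
        show B.t * (x * z) * B.t = (B.t * x * B.t) * (B.t * z * B.t)
        calc B.t * (x * z : G) * B.t = B.t * x * 1 * z * B.t := by group
          _ = _ := by rw [← B.tt]; group) }
  have hf : M' ≤ M'.comap f := by
    intro x hx
    rw [mem_subgroupOf] at hx
    rw [mem_comap, mem_subgroupOf]
    exact R.t_Ma hx
  let φ : (R.Ya ⧸ M') →* (R.Ya ⧸ M') := QuotientGroup.map M' M' f hf
  have hφ : ∀ q, φ (φ q) = q := by
    intro q
    induction q using QuotientGroup.induction_on with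
    | H x =>
      show ((f (f x) : R.Ya) : R.Ya ⧸ M') = x
      congr 1
      apply Subtype.ext
      show B.t * (B.t * x * B.t) * B.t = x
      calc B.t * (B.t * (x : G) * B.t) * B.t = (B.t * B.t) * x * (B.t * B.t) := by group
        _ = x := by rw [B.tt, one_mul, mul_one]
  have hfix : ∀ q, φ q = q → q = 1 := by
    intro q
    induction q using QuotientGroup.induction_on with
    | H x =>
      intro h
      have h1 : ((f x : R.Ya) : R.Ya ⧸ M') = x := h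
      have h2 := QuotientGroup.eq.1 h1.symm
      rw [mem_subgroupOf] at h2
      have h3 : B.t * (x : G) * B.t = x * ((x : G)⁻¹ * (B.t * x * B.t)) := by group
      exact (QuotientGroup.eq_one_iff x).2 (mem_subgroupOf.2 (R.Ya_fix hE hF x.2 h2 h3))
  have := Fintype.ofFinite (R.Ya ⧸ M')
  have hodd : Fintype.card (R.Ya ⧸ M') ≡ 1 [MOD 2] := by
    have h1 := Equiv.Perm.card_fixedPoints_modEq (α := R.Ya ⧸ M') (f := (φ : R.Ya ⧸ M' → R.Ya ⧸ M')) (p := 2)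
      (n := 1) (by
        funext q
        show φ (φ q) = q
        exact hφ q)
    have h2 : Fintype.card (Function.fixedPoints (φ : R.Ya ⧸ M' → R.Ya ⧸ M')) = 1 := by
      rw [Fintype.card_eq_one_iff]
      exact ⟨⟨1, map_one φ⟩, fun q => Subtype.ext (hfix q.1 q.2)⟩
    rw [h2] at h1
    exact h1
  have hidx : M'.index % 2 = 1 := by
    rw [Subgroup.index, Nat.card_eq_fintype_card]
    exact hodd
  obtain ⟨j, hj⟩ : ∃ j, M'.index = 2 * j + 1 := ⟨M'.index / 2, by omega⟩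
  have hp : y ^ (2 * j + 1) ∈ R.Ma := by
    have h1 := M'.pow_index_mem ⟨y, hy⟩
    rw [hj, mem_subgroupOf] at h1
    exact h1
  intro m hm
  have h1 : Commute (y ^ (2 * j + 1)) m := R.Ma_comm hp hm
  have h2 : Commute ((y * y) ^ j) m := (R.Ya_sq hy hm).pow_left j
  have h3 : y = ((y * y) ^ j)⁻¹ * y ^ (2 * j + 1) := by
    rw [← sq, ← pow_mul, pow_succ]; group
  rw [h3]
  exact h2.inv_left.mul_left h1

/-- **Triviality**, without `Ya`. -/
theorem triv [Finite G] (hE : Env B A) (hF : 4 ≤ Nat.card F) {y : G} (h1 : ∀ r, Commute y (R.pl r))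
    (h2 : ∀ l, Commute y (B.zl l))
    (h3 : ∀ m ∈ R.Ma, ∃ r l, y * m * y⁻¹ * m⁻¹ = R.pl r * B.zl l) : ∀ m ∈ R.Ma, Commute y m := by
  refine R.triv' hE hF ⟨?_, h3⟩
  rintro _ ⟨r, l, rfl⟩
  exact (h1 r).mul_right (h2 l)

end RelA
end EndA
end Cfsg.Agent.StdSpFour
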