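import Cfsg.Agent.StdSpFour.RingAE
import Cfsg.Agent.StdSpFour.RingATriv

/-!
# Type `Sp₄`, case (A): `RingL.Triv` holds in finite groups, hence `κ = μ = δ`
-/
set_option autoImplicit false
set_option linter.unusedSectionVars false

namespace Cfsg.Agent.StdSpFour

open EndA Comm

variable {F G : Type*} [Field F] [CharP F 2] [Group G] {B : Base F G}

theorem Base.xa_inj0 (B : Base F G) (u : F) (h : B.xa u = 1) : u = 0 :=
  (B.inj u 0 0 0 (by rw [h, B.xb_zero, B.zs_zero, B.zl_zero, one_mul, one_mul, one_mul])).1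

theorem Base.xb_inj0 (B : Base F G) (u : F) (h : B.xb u = 1) : u = 0 :=
  (B.inj 0 u 0 0 (by rw [h, B.xa_zero, B.zs_zero, B.zl_zero, one_mul, one_mul, one_mul])).2.1

theorem Base.zs_inj0 (B : Base F G) (u : F) (h : B.zs u = 1) : u = 0 :=
  (B.inj 0 0 u 0 (by rw [h, B.xa_zero, B.xb_zero, B.zl_zero, one_mul, one_mul, one_mul])).2.2.1

theorem Base.zl_inj0 (B : Base F G) (u : F) (h : B.zl u = 1) : u = 0 :=
  (B.inj 0 0 0 u (by rw [h, B.xa_zero, B.xb_zero, B.zs_zero, one_mul, one_mul, one_mul])).2.2.2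

namespace RingL

variable (R : RingL B)

theorem toLay {x p : F → G} (x_add : ∀ u v, x (u + v) = x u * x v) (x_inj : ∀ u, x u = 1 → u = 0)
    (t_x : ∀ u, Commute B.t (x u)) (p_add : ∀ u v, p (u + v) = p u * p v)
    (t_p : ∀ u, B.t * p u = p u * B.t * x u) (p_x : ∀ u v, Commute (p u) (x v)) : Lay B.t x p where
  x_add := x_add
  x_inj := x_inj
  t_x := t_x
  p_zero := by
    have := p_add 0 0
    rw [add_zero] at this
    exact left_eq_mul.1 this
  t_p := t_p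
  p_sq := fun u => by
    have h0 : p 0 = 1 := by
      have := p_add 0 0
      rw [add_zero] at this
      exact left_eq_mul.1 this
    rw [← p_add, CharTwo.add_self_eq_zero, h0]
  p_add := fun u v => ⟨0, by
    have h0 : x 0 = 1 := by
      have := x_add 0 0
      rw [add_zero] at this
      exact left_eq_mul.1 this
    rw [h0, mul_one, p_add]⟩
  p_x := p_x

end RingL

namespace RingA

variable {δ κ μ : F} (R : RingA B δ κ μ)

/-- The layers as `RelA`. -/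
def toRel : RelA B where
  pa := R.pa
  pb := R.pb
  ps := R.ps
  pl := R.pl
  la := RingL.toLay B.xa_add B.xa_inj0 B.t_xa R.pa_add R.t_pa R.pa_xa
  lb := RingL.toLay B.xb_add B.xb_inj0 B.t_xb R.pb_add R.t_pb R.pb_xb
  ls := RingL.toLay B.zs_add B.zs_inj0 B.t_zs R.ps_add R.t_ps R.ps_zs
  ll := RingL.toLay B.zl_add B.zl_inj0 B.t_zl R.pl_add R.t_pl R.pl_zl
  ps_xa := R.ps_xa
  ps_xb := R.ps_xb
  ps_zl := R.ps_zl
  pl_xa := R.pl_xa
  pl_xb := R.pl_xb
  pl_zs := R.pl_zs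
  ps_pl := R.ps_pl
  pa_zs := R.pa_zs
  pa_zl := R.pa_zl
  pb_zs := R.pb_zs
  pb_zl := R.pb_zl
  pa_ps := R.pa_ps
  pa_pl := R.pa_pl
  pb_ps := R.pb_ps
  pb_pl := R.pb_pl
  pa_xb := fun u s => ⟨0, δ * (u ^ 2 * s), by rw [R.pa_xb, B.zs_zero, mul_one]; group⟩
  xa_pb := fun u s => ⟨0, 0, by rw [R.xa_pb, B.zs_zero, B.zl_zero, mul_one, mul_one]; group⟩
  h_pa := R.h_pa
  h_pb := R.h_pb
  h_ps := R.h_ps
  h_pl := R.h_pl

theorem V_mem_MaL (w u m k r l : F) : R.V w u m k r l ∈ R.toRel.Ma :=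
  R.toRel.mem_Ma.2 ⟨w, u, _, R.toRel.zh_mem m k r l, rfl⟩

variable [Finite F] [Finite G] {A : Subgroup G}

/-- **`Triv`** -/
theorem trivL (hE : Env B A) (hF : 4 ≤ Nat.card F) : R.Triv := by
  intro y h1 h2 h3
  have h4 : ∀ m ∈ R.toRel.Ma, Commute y⁻¹ m := by
    refine R.toRel.triv hE hF (fun r => (h1 r).inv_left) (fun l => (h2 l).inv_left) ?_
    intro m hm
    obtain ⟨w, u, _, ⟨m', k, r, l, rfl⟩, rfl⟩ := R.toRel.mem_Ma.1 hm
    obtain ⟨r', l', h5⟩ := h3 w u m' k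
    refine ⟨r', l', ?_⟩
    -- `V w u m k r l = V w u m k 0 0 * V 0 0 0 0 r l`
    have e1 : R.pa w * B.xa u * R.toRel.zh m' k r l = R.V w u m' k 0 0 * (R.pl r * B.zl l) := by
      show R.pa w * B.xa u * (R.ps m' * B.zs k * (R.pl r * B.zl l)) =
        R.pa w * B.xa u * (R.ps m' * B.zs k * (R.pl 0 * B.zl 0)) * (R.pl r * B.zl l)
      rw [R.pl_zero, B.zl_zero]; group
    have e2 : R.V w u m' k r' l' = R.V w u m' k 0 0 * (R.pl r' * B.zl l') := by
      show R.pa w * B.xa u * (R.ps m' * B.zs k * (R.pl r' * B.zl l')) =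
        R.pa w * B.xa u * (R.ps m' * B.zs k * (R.pl 0 * B.zl 0)) * (R.pl r' * B.zl l')
      rw [R.pl_zero, B.zl_zero]; group
    have c1 : Commute y (R.pl r * B.zl l) := (h1 r).mul_right (h2 l)
    have c2 : Commute (R.V w u m' k 0 0) (R.pl r * B.zl l) := by
      have := R.V_comm w u m' k 0 0 0 0 0 0 r l
      have e3 : R.V 0 0 0 0 r l = R.pl r * B.zl l := by
        rw [RingL.V_eq, R.pa_zero, B.xa_zero, R.ps_zero, B.zs_zero]; group
      rwa [e3] at this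
    have c3 : Commute (R.V w u m' k 0 0) (R.pl r' * B.zl l') := by
      have := R.V_comm w u m' k 0 0 0 0 0 0 r' l'
      have e3 : R.V 0 0 0 0 r' l' = R.pl r' * B.zl l' := by
        rw [RingL.V_eq, R.pa_zero, B.xa_zero, R.ps_zero, B.zs_zero]; group
      rwa [e3] at this
    rw [cj, e2] at h5
    show y⁻¹ * (R.pa w * B.xa u * R.toRel.zh m' k r l) * y⁻¹⁻¹ * (R.pa w * B.xa u * R.toRel.zh m' k r l)⁻¹ =
      R.pl r' * B.zl l'
    rw [e1, inv_inv]
    set v := R.V w u m' k 0 0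
    set n := R.pl r * B.zl l
    calc y⁻¹ * (v * n) * y * (v * n)⁻¹ = y⁻¹ * v * (n * y) * n⁻¹ * v⁻¹ := by group
      _ = (y⁻¹ * v * y) * v⁻¹ := by rw [← c1.eq]; group
      _ = _ := by rw [h5, c3.eq]; group
  intro w u m k r l
  have := (h4 _ (R.V_mem_MaL w u m k r l)).inv_left
  rwa [inv_inv] at this

/-- **`κ = μ = δ`** in finite groups. -/
theorem consts' (R : RingA B δ κ μ) (hE : Env B A) (hF : 4 ≤ Nat.card F) : κ = δ ∧ μ = δ :=
  R.consts hF (R.trivL hE hF)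

end RingA

end Cfsg.Agent.StdSpFour
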