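import Cfsg.Agent.SplitTwo.RootSys

/-!
S1778, type Sp₄(q): a root group system `RootSys 4` from eight root groups permuted by two reflections
(section 8 of blueprints/S1778-UQ-closing-helper516.md).

`X i`, `i ∈ ZMod 8`; `na : X i → X (4 - i)`, `nb : X i → X (2 - i)`; all commutator relations, intersections and
Weyl elements follow from those of the positive root groups `X 0, X 1, X 2, X 3`.
-/

set_option autoImplicit false

namespace Cfsg.Agent.StdSpFour.RootEight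

open Subgroup Cfsg.Agent.SplitTwo

variable {G : Type*} [Group G]

/-- `g H g⁻¹` -/
abbrev cjS (g : G) (H : Subgroup G) : Subgroup G := H.map (MulAut.conj g).toMonoidHom

theorem mem_cjS {g x : G} {H : Subgroup G} : g * x * g⁻¹ ∈ cjS g H ↔ x ∈ H := by
  constructor
  · rintro ⟨y, hy, e⟩
    have e' : g * y * g⁻¹ = g * x * g⁻¹ := e
    have : y = x := mul_left_cancel (mul_right_cancel e')
    rwa [← this]
  · intro h
    exact ⟨x, h, rfl⟩

theorem cjS_mul (g h : G) (H : Subgroup G) : cjS (g * h) H = cjS g (cjS h H) := by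
  ext x
  constructor
  · rintro ⟨y, hy, rfl⟩
    exact ⟨h * y * h⁻¹, ⟨y, hy, rfl⟩, by simp [mul_assoc]⟩
  · rintro ⟨_, ⟨y, hy, rfl⟩, rfl⟩
    exact ⟨y, hy, by simp [mul_assoc]⟩

theorem cjS_mono {g : G} {H K : Subgroup G} (h : H ≤ K) : cjS g H ≤ cjS g K := Subgroup.map_mono h

theorem cjS_sup (g : G) (H K : Subgroup G) : cjS g (H ⊔ K) = cjS g H ⊔ cjS g K := Subgroup.map_sup _ _ _

theorem cjS_bot (g : G) : cjS g ⊥ = ⊥ := Subgroup.map_bot _

theorem cjS_comm (g : G) (H K : Subgroup G) : cjS g ⁅H, K⁆ = ⁅cjS g H, cjS g K⁆ :=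
  Subgroup.map_commutator _ _ _

theorem cjS_inf (g : G) (H K : Subgroup G) : cjS g (H ⊓ K) = cjS g H ⊓ cjS g K :=
  Subgroup.map_inf _ _ _ (MulAut.conj g).injective

/-- the input -/
structure Eight (G : Type*) [Group G] where
  X : ZMod (2 * 4) → Subgroup G
  na : G
  nb : G
  na_X : ∀ i, cjS na (X i) = X (4 - i)
  nb_X : ∀ i, cjS nb (X i) = X (2 - i)
  ne0 : X 0 ≠ ⊥
  ne1 : X 1 ≠ ⊥
  c01 : ⁅X 0, X 1⁆ = ⊥
  c12 : ⁅X 1, X 2⁆ = ⊥
  c02 : ⁅X 0, X 2⁆ ≤ X 1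
  c13 : ⁅X 1, X 3⁆ ≤ X 2
  c03 : ⁅X 0, X 3⁆ ≤ X 1 ⊔ X 2
  i0 : X 0 ⊓ (X 1 ⊔ X 2 ⊔ X 3) = ⊥
  i3 : X 3 ⊓ (X 0 ⊔ X 1 ⊔ X 2) = ⊥
  mu0 : ∀ u ∈ X 0, u ≠ 1 → ∃ v ∈ X 4, ∃ v' ∈ X 4, ∀ j, cjS (v * u * v') (X j) = X (4 - j)
  mu3 : ∀ u ∈ X 3, u ≠ 1 → ∃ v ∈ X 7, ∃ v' ∈ X 7, ∀ j, cjS (v * u * v') (X j) = X (2 - j)

namespace Eight

variable (R : Eight G)

/-- the rotation `j ↦ j + 2` -/
def rot : G := R.na * R.nb

theorem rot_X (i : ZMod (2 * 4)) : cjS R.rot (R.X i) = R.X (i + 2) := by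
  rw [rot, cjS_mul, R.nb_X, R.na_X]
  congr 1
  ring

/-- induction: everything follows from `i = 0`, `i = 1` -/
theorem ind {P : ZMod (2 * 4) → Prop} (h0 : P 0) (h1 : P 1) (h : ∀ i, P i → P (i + 2)) (i : ZMod (2 * 4)) : P i := by
  have h2 := h _ h0
  have h3 := h _ h1
  have h4 := h _ h2
  have h5 := h _ h3
  have h6 := h _ h4
  have h7 := h _ h5
  have key : ∀ j : ZMod (2 * 4), j = 0 ∨ j = 1 ∨ j = 0 + 2 ∨ j = 1 + 2 ∨ j = 0 + 2 + 2 ∨ j = 1 + 2 + 2 ∨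
      j = 0 + 2 + 2 + 2 ∨ j = 1 + 2 + 2 + 2 := by decide
  rcases key i with rfl | rfl | rfl | rfl | rfl | rfl | rfl | rfl
  · exact h0
  · exact h1
  · exact h2
  · exact h3
  · exact h4
  · exact h5
  · exact h6
  · exact h7

theorem na' (i j : ZMod (2 * 4)) (h : j = 4 - i) : cjS R.na (R.X i) = R.X j := by rw [R.na_X, h]

theorem nb' (i j : ZMod (2 * 4)) (h : j = 2 - i) : cjS R.nb (R.X i) = R.X j := by rw [R.nb_X, h]

theorem rot' (i j : ZMod (2 * 4)) (h : j = i + 2) : cjS R.rot (R.X i) = R.X j := by rw [R.rot_X, h]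

theorem comm1 (i : ZMod (2 * 4)) : ⁅R.X i, R.X (i + 1)⁆ = ⊥ := by
  refine ind (P := fun i => ⁅R.X i, R.X (i + 1)⁆ = ⊥) ?_ ?_ ?_ i
  · exact R.c01
  · exact R.c12
  · intro i h
    have := congrArg (cjS R.rot) h
    rw [cjS_comm, R.rot_X, R.rot_X, cjS_bot] at this
    rw [← this]
    congr 2
    ring

theorem comm2 (i : ZMod (2 * 4)) : ⁅R.X i, R.X (i + 2)⁆ ≤ R.X (i + 1) := by
  refine ind (P := fun i => ⁅R.X i, R.X (i + 2)⁆ ≤ R.X (i + 1)) ?_ ?_ ?_ i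
  · exact R.c02
  · exact R.c13
  · intro i h
    have := cjS_mono (g := R.rot) h
    rw [cjS_comm, R.rot_X, R.rot_X, R.rot_X] at this
    have e : i + 1 + 2 = i + 2 + 1 := by ring
    rwa [e] at this

theorem comm3 (i : ZMod (2 * 4)) : ⁅R.X i, R.X (i + 3)⁆ ≤ R.X (i + 1) ⊔ R.X (i + 2) := by
  refine ind (P := fun i => ⁅R.X i, R.X (i + 3)⁆ ≤ R.X (i + 1) ⊔ R.X (i + 2)) ?_ ?_ ?_ i
  · exact R.c03
  · have h := cjS_mono (g := R.na) R.c03
    rw [cjS_comm, cjS_sup, R.na' 0 (1 + 3) (by decide), R.na' 3 1 (by decide), R.na' 1 (1 + 2) (by decide),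
      R.na' 2 (1 + 1) (by decide), commutator_comm, sup_comm] at h
    exact h
  · intro i h
    have := cjS_mono (g := R.rot) h
    rw [cjS_comm, cjS_sup, R.rot_X, R.rot_X, R.rot_X, R.rot_X] at this
    have e1 : i + 1 + 2 = i + 2 + 1 := by ring
    have e3 : i + 3 + 2 = i + 2 + 3 := by ring
    rwa [e1, e3] at this

theorem inter (i : ZMod (2 * 4)) : R.X i ⊓ (R.X (i + 1) ⊔ R.X (i + 2) ⊔ R.X (i + 3)) = ⊥ := by
  refine ind (P := fun i => R.X i ⊓ (R.X (i + 1) ⊔ R.X (i + 2) ⊔ R.X (i + 3)) = ⊥) ?_ ?_ ?_ i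
  · exact R.i0
  · have h := congrArg (cjS R.na) R.i3
    rw [cjS_inf, cjS_sup, cjS_sup, cjS_bot, R.na' 3 1 (by decide), R.na' 0 (1 + 3) (by decide),
      R.na' 1 (1 + 2) (by decide), R.na' 2 (1 + 1) (by decide)] at h
    rw [← h]
    congr 1
    rw [sup_comm (R.X (1 + 1)), sup_comm _ (R.X (1 + 3)), ← sup_assoc]
  · intro i h
    have := congrArg (cjS R.rot) h
    rw [cjS_inf, cjS_sup, cjS_sup, cjS_bot, R.rot_X, R.rot_X, R.rot_X, R.rot_X] at this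
    have e1 : i + 1 + 2 = i + 2 + 1 := by ring
    have e3 : i + 3 + 2 = i + 2 + 3 := by ring
    rwa [e1, e3] at this

theorem ne_bot (i : ZMod (2 * 4)) : R.X i ≠ ⊥ := by
  refine ind (P := fun i => R.X i ≠ ⊥) R.ne0 R.ne1 ?_ i
  intro i h e
  apply h
  rw [← R.rot_X] at e
  exact (Subgroup.map_eq_bot_iff_of_injective _ (MulAut.conj R.rot).injective).mp e

theorem mu (i : ZMod (2 * 4)) : ∀ u ∈ R.X i, u ≠ 1 → ∃ v ∈ R.X (i + 4), ∃ v' ∈ R.X (i + 4),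
    ∀ j, cjS (v * u * v') (R.X j) = R.X (2 * i + 4 - j) := by
  -- transport by `g` with `cjS g (X j) = X (σ j)`
  have key : ∀ (g : G) (σ τ : ZMod (2 * 4) → ZMod (2 * 4)), (∀ j, cjS g (R.X j) = R.X (σ j)) → (∀ j, σ (τ j) = j) →
      ∀ i i' : ZMod (2 * 4), σ i = i' → σ (i + 4) = i' + 4 →
      (∀ j, σ (2 * i + 4 - τ j) = 2 * i' + 4 - j) →
      (∀ u ∈ R.X i, u ≠ 1 → ∃ v ∈ R.X (i + 4), ∃ v' ∈ R.X (i + 4),
        ∀ j, cjS (v * u * v') (R.X j) = R.X (2 * i + 4 - j)) →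
      (∀ u ∈ R.X i', u ≠ 1 → ∃ v ∈ R.X (i' + 4), ∃ v' ∈ R.X (i' + 4),
        ∀ j, cjS (v * u * v') (R.X j) = R.X (2 * i' + 4 - j)) := by
    intro g σ τ hg hτ i i' h1 h2 h3 h u hu hu1
    rw [← h1, ← hg] at hu
    obtain ⟨w, hw, rfl⟩ := hu
    have hw1 : w ≠ 1 := by
      rintro rfl
      exact hu1 (map_one _)
    obtain ⟨v, hv, v', hv', hn⟩ := h w hw hw1
    refine ⟨g * v * g⁻¹, ?_, g * v' * g⁻¹, ?_, fun j => ?_⟩
    · rw [← h2, ← hg, mem_cjS]; exact hv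
    · rw [← h2, ← hg, mem_cjS]; exact hv'
    · have e : g * v * g⁻¹ * (MulAut.conj g).toMonoidHom w * (g * v' * g⁻¹) = g * (v * w * v') * g⁻¹ := by
        change g * v * g⁻¹ * (g * w * g⁻¹) * (g * v' * g⁻¹) = _
        group
      rw [e, cjS_mul, cjS_mul]
      have e1 : cjS g⁻¹ (R.X j) = R.X (τ j) := by
        have := hg (τ j)
        rw [hτ] at this
        rw [← this, ← cjS_mul, inv_mul_cancel]
        ext x
        simp [cjS]
      rw [e1, hn, hg, h3]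
  refine ind (P := fun i => ∀ u ∈ R.X i, u ≠ 1 → ∃ v ∈ R.X (i + 4), ∃ v' ∈ R.X (i + 4),
    ∀ j, cjS (v * u * v') (R.X j) = R.X (2 * i + 4 - j)) ?_ ?_ ?_ i
  · intro u hu hu1
    obtain ⟨v, hv, v', hv', h⟩ := R.mu0 u hu hu1
    refine ⟨v, hv, v', hv', fun j => ?_⟩
    rw [h, mul_zero, zero_add]
  · -- `na : X 3 → X 1`
    refine key R.na (fun j => 4 - j) (fun j => 4 - j) R.na_X (fun j => by ring) 3 1 (by decide) (by decide)
      (by decide) ?_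
    intro u hu hu1
    obtain ⟨v, hv, v', hv', h⟩ := R.mu3 u hu hu1
    refine ⟨v, hv, v', hv', fun j => ?_⟩
    rw [h]
    have : (2 * 3 + 4 : ZMod (2 * 4)) = 2 := by decide
    rw [this]
  · intro i h
    exact key R.rot (fun j => j + 2) (fun j => j - 2) R.rot_X (fun j => by ring) i (i + 2) rfl (by ring)
      (fun j => by ring) h

theorem iSup_Ioo {f : ℕ → Subgroup G} : (⨆ r ∈ Set.Ioo 0 1, f r) = ⊥ ∧ (⨆ r ∈ Set.Ioo 0 2, f r) = f 1 ∧
    (⨆ r ∈ Set.Ioo 0 3, f r) = f 1 ⊔ f 2 ∧ (⨆ r ∈ Set.Ioo 0 4, f r) = f 1 ⊔ f 2 ⊔ f 3 := by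
  refine ⟨?_, ?_, ?_, ?_⟩
  · refine le_antisymm (iSup₂_le fun r hr => ?_) bot_le
    exact absurd hr.1 (by have := hr.2; omega)
  · refine le_antisymm (iSup₂_le fun r hr => ?_) (le_iSup₂_of_le 1 ⟨by norm_num, by norm_num⟩ le_rfl)
    have : r = 1 := by have := hr.1; have := hr.2; omega
    rw [this]
  · refine le_antisymm (iSup₂_le fun r hr => ?_) (sup_le (le_iSup₂_of_le 1 ⟨by norm_num, by norm_num⟩ le_rfl)
      (le_iSup₂_of_le 2 ⟨by norm_num, by norm_num⟩ le_rfl))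
    have : r = 1 ∨ r = 2 := by have := hr.1; have := hr.2; omega
    rcases this with rfl | rfl
    · exact le_sup_left
    · exact le_sup_right
  · refine le_antisymm (iSup₂_le fun r hr => ?_) (sup_le (sup_le (le_iSup₂_of_le 1 ⟨by norm_num, by norm_num⟩ le_rfl)
      (le_iSup₂_of_le 2 ⟨by norm_num, by norm_num⟩ le_rfl)) (le_iSup₂_of_le 3 ⟨by norm_num, by norm_num⟩ le_rfl))
    have : r = 1 ∨ r = 2 ∨ r = 3 := by have := hr.1; have := hr.2; omega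
    rcases this with rfl | rfl | rfl
    · exact le_sup_left.trans le_sup_left
    · exact le_sup_right.trans le_sup_left
    · exact le_sup_right

/-- **the root group system** -/
def rootSys (gen : (⨆ i, R.X i) = ⊤) {p : ℕ} (hp : p.Prime) (h0 : IsPGroup p (R.X 0)) (h1 : IsPGroup p (R.X 1)) :
    RootSys 4 G where
  X := R.X
  H := ⊥
  two_lt := by norm_num
  ne_bot := R.ne_bot
  comm := by
    intro i k h1 h2
    have h3 : k = 1 ∨ k = 2 ∨ k = 3 := by omega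
    rcases h3 with rfl | rfl | rfl
    · rw [(iSup_Ioo (f := fun r => R.X (i + ((r : ℕ) : ZMod (2 * 4))))).1]
      have := R.comm1 i
      rw [← this]
      exact le_of_eq (by norm_num)
    · rw [(iSup_Ioo (f := fun r => R.X (i + ((r : ℕ) : ZMod (2 * 4))))).2.1]
      have := R.comm2 i
      have e1 : ((1 : ℕ) : ZMod (2 * 4)) = 1 := by norm_num
      have e2 : ((2 : ℕ) : ZMod (2 * 4)) = 2 := by norm_num
      rw [e1, e2]
      exact this
    · rw [(iSup_Ioo (f := fun r => R.X (i + ((r : ℕ) : ZMod (2 * 4))))).2.2.1]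
      have := R.comm3 i
      have e1 : ((1 : ℕ) : ZMod (2 * 4)) = 1 := by norm_num
      have e2 : ((2 : ℕ) : ZMod (2 * 4)) = 2 := by norm_num
      have e3 : ((3 : ℕ) : ZMod (2 * 4)) = 3 := by norm_num
      rw [e1, e2, e3]
      exact this
  inter := by
    intro i
    rw [(iSup_Ioo (f := fun r => R.X (i + ((r : ℕ) : ZMod (2 * 4))))).2.2.2]
    have := R.inter i
    have e1 : ((1 : ℕ) : ZMod (2 * 4)) = 1 := by norm_num
    have e2 : ((2 : ℕ) : ZMod (2 * 4)) = 2 := by norm_num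
    have e3 : ((3 : ℕ) : ZMod (2 * 4)) = 3 := by norm_num
    rw [e1, e2, e3]
    exact this
  mu := by
    intro i u hu hu1
    have e4 : ((4 : ℕ) : ZMod (2 * 4)) = 4 := by norm_num
    obtain ⟨v, hv, v', hv', h⟩ := R.mu i u hu hu1
    rw [e4]
    refine ⟨v, hv, v', hv', fun j x => ?_⟩
    rw [← h j, mem_cjS]
  gen := gen
  p := p
  prime := hp
  isPGroup := by
    intro i
    refine ind (P := fun i => IsPGroup p (R.X i)) h0 h1 ?_ i
    intro i h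
    rw [← R.rot_X]
    exact h.map _
  H_conj := by
    intro h hh i x hx
    rw [Subgroup.mem_bot] at hh
    rw [hh]
    simpa using hx

end Eight

end Cfsg.Agent.StdSpFour.RootEight
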