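import Cfsg.Agent.StdSpFour.RootEight

/-!
S1778, type Sp₄(q): the Weyl elements of the short root groups (section 8 of
blueprints/S1778-UQ-closing-helper516.md).

`exists_swap`: rank one.  `mu_of`: if `⟨X 0, n⟩` acts 2-transitively on the conjugates of `T = X 0 X 1 X 2 X 3`, centralises
`D` and `T ∩ C(D) = X 0`, then for `1 ≠ u ∈ X 0` there are `v, v' ∈ X 4` such that `v u v'` acts on the root groups as `n`.
-/

set_option autoImplicit false

namespace Cfsg.Agent.StdSpFour.RootEight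

open Subgroup Cfsg.Agent.SplitTwo

variable {G : Type*} [Group G]

theorem cjS_eq_of_mem {g : G} {H : Subgroup G} (hg : g ∈ H) : cjS g H = H := by
  ext x
  constructor
  · rintro ⟨y, hy, rfl⟩
    exact mul_mem (mul_mem hg hy) (inv_mem hg)
  · intro hx
    refine ⟨g⁻¹ * x * g, mul_mem (mul_mem (inv_mem hg) hx) hg, ?_⟩
    change g * (g⁻¹ * x * g) * g⁻¹ = x
    group

theorem cjS_one (H : Subgroup G) : cjS 1 H = H := cjS_eq_of_mem (one_mem H)

theorem cjS_inv_of {g : G} {H K : Subgroup G} (h : cjS g H = K) : cjS g⁻¹ K = H := by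
  rw [← h, ← cjS_mul, inv_mul_cancel, cjS_one]

theorem cjS_inj {g : G} {H K : Subgroup G} (h : cjS g H = cjS g K) : H = K := by
  have := cjS_inv_of h.symm
  rw [← this, ← cjS_mul, inv_mul_cancel, cjS_one]

theorem cjS_centralizer (g : G) (H : Subgroup G) :
    cjS g (centralizer (H : Set G)) = centralizer (cjS g H : Set G) := by
  ext x
  have e : x = g * (g⁻¹ * x * g) * g⁻¹ := by group
  rw [e, mem_cjS, mem_centralizer_iff, mem_centralizer_iff]
  constructor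
  · rintro h _ ⟨y, hy, rfl⟩
    have := h y hy
    change g * y * g⁻¹ * (g * (g⁻¹ * x * g) * g⁻¹) = g * (g⁻¹ * x * g) * g⁻¹ * (g * y * g⁻¹)
    calc g * y * g⁻¹ * (g * (g⁻¹ * x * g) * g⁻¹) = g * (y * (g⁻¹ * x * g)) * g⁻¹ := by group
      _ = g * (g⁻¹ * x * g * y) * g⁻¹ := by rw [this]
      _ = _ := by group
  · intro h y hy
    have := h (g * y * g⁻¹) (mem_cjS.mpr hy)
    calc y * (g⁻¹ * x * g) = g⁻¹ * (g * y * g⁻¹ * (g * (g⁻¹ * x * g) * g⁻¹)) * g := by group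
      _ = g⁻¹ * (g * (g⁻¹ * x * g) * g⁻¹ * (g * y * g⁻¹)) * g := by rw [this]
      _ = _ := by group

theorem cjS_eq_of_normalizer {g : G} {H : Subgroup G} (hg : g ∈ normalizer (H : Set G)) : cjS g H = H := by
  ext x
  have e : x = g * (g⁻¹ * x * g) * g⁻¹ := by group
  rw [e, mem_cjS]
  exact mem_normalizer_iff.mp hg _

theorem mem_normalizer_of_cjS {g : G} {H : Subgroup G} (h : cjS g H = H) : g ∈ normalizer (H : Set G) := by
  rw [mem_normalizer_iff]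
  intro x
  conv_rhs => rw [← h]
  exact mem_cjS.symm

theorem cjS_eq_of_comm {g : G} {H : Subgroup G} (hg : g ∈ centralizer (H : Set G)) : cjS g H = H := by
  apply cjS_eq_of_normalizer
  rw [mem_normalizer_iff]
  intro x
  have key : ∀ x ∈ H, g * x * g⁻¹ = x := fun x hx => by
    rw [← mem_centralizer_iff.mp hg x hx, mul_inv_cancel_right]
  constructor
  · intro hx
    have hx' : x ∈ H := hx
    have : g * x * g⁻¹ ∈ H := by rw [key x hx']; exact hx'
    exact this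
  · intro hx
    have h1 : g * (g * x * g⁻¹) * g⁻¹ = g * x * g⁻¹ := key _ hx
    have h2 : g * x * g⁻¹ = x := by
      have := mul_left_cancel (mul_right_cancel h1)
      exact this
    have hx' : g * x * g⁻¹ ∈ H := hx
    rw [h2] at hx'
    exact hx'

/-- **rank one** -/
theorem exists_swap {X0 T : Subgroup G} {n : G} (hX : X0 ≤ T) (hn2 : cjS (n * n) T = T)
    (tr : ∀ k ∈ closure ((X0 : Set G) ∪ {n}), cjS k T = T ∨ ∃ x ∈ X0, cjS k T = cjS (x * n) T)
    (reg : ∀ x ∈ X0, cjS (x * n) T = cjS n T → x = 1) {u : G} (hu : u ∈ X0) (hu1 : u ≠ 1) :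
    ∃ v ∈ cjS n X0, ∃ v' ∈ cjS n X0, cjS (v * u * v' * n⁻¹) T = T ∧
      cjS (v * u * v' * n⁻¹) (cjS n T) = cjS n T := by
  have hnK : n ∈ closure ((X0 : Set G) ∪ {n}) := subset_closure (Or.inr rfl)
  have hXK : ∀ x ∈ X0, x ∈ closure ((X0 : Set G) ∪ {n}) := fun x hx => subset_closure (Or.inl hx)
  -- `X4` is transitive on the points `≠ cjS n T`
  have tr4 : ∀ k ∈ closure ((X0 : Set G) ∪ {n}), cjS k T = cjS n T ∨ ∃ y ∈ cjS n X0, cjS k T = cjS y T := by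
    intro k hk
    rcases tr (n⁻¹ * k) (mul_mem (inv_mem hnK) hk) with e | ⟨x, hx, e⟩
    · left
      rw [cjS_mul] at e
      have := cjS_inv_of e
      rw [inv_inv] at this
      exact this.symm
    · right
      refine ⟨n * x * n⁻¹, mem_cjS.mpr hx, ?_⟩
      have h1 : cjS k T = cjS n (cjS (n⁻¹ * k) T) := by rw [← cjS_mul, mul_inv_cancel_left]
      rw [h1, e, ← cjS_mul]
      have h2 : n * (x * n) = n * x * n⁻¹ * (n * n) := by group
      rw [h2, cjS_mul, hn2]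
  have hne : ∀ x ∈ X0, x ≠ 1 → ∃ y ∈ cjS n X0, cjS (x * n) T = cjS y T := by
    intro x hx hx1
    rcases tr4 (x * n) (mul_mem (hXK x hx) hnK) with e | h
    · exact absurd (reg x hx e) hx1
    · exact h
  obtain ⟨y, hy, ey⟩ := hne u hu hu1
  obtain ⟨v', hv', ev⟩ := hne u⁻¹ (inv_mem hu) (fun e => hu1 (inv_eq_one.mp e))
  have h4 : ∀ y ∈ cjS n X0, cjS y (cjS n T) = cjS n T := fun y hy =>
    cjS_eq_of_mem (Subgroup.map_mono hX hy)
  have hv : y⁻¹ ∈ cjS n X0 := inv_mem hy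
  -- `n' = y⁻¹ u v'` swaps the two points
  have s1 : cjS (y⁻¹ * u * v') T = cjS n T := by
    have e1 : y⁻¹ * u * v' = y⁻¹ * (u * v') := mul_assoc _ _ _
    rw [e1, cjS_mul y⁻¹ (u * v'), cjS_mul u v', ← ev, ← cjS_mul u (u⁻¹ * n), mul_inv_cancel_left]
    exact h4 _ hv
  have s2 : cjS (y⁻¹ * u * v') (cjS n T) = T := by
    have e1 : y⁻¹ * u * n = y⁻¹ * (u * n) := mul_assoc _ _ _
    rw [cjS_mul, h4 _ hv', ← cjS_mul, e1, cjS_mul, ey, ← cjS_mul, inv_mul_cancel, cjS_one]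
  have s3 : cjS n⁻¹ T = cjS n T := by
    conv_lhs => rw [← hn2]
    rw [← cjS_mul, inv_mul_cancel_left]
  refine ⟨y⁻¹, hv, v', hv', ?_, ?_⟩
  · rw [cjS_mul, s3, s2]
  · rw [cjS_mul, ← cjS_mul n⁻¹ n, inv_mul_cancel, cjS_one, s1]

/-- the Weyl elements of `X 0` -/
theorem mu_of {X : ZMod (2 * 4) → Subgroup G} {n : G} {D T R R' : Subgroup G}
    (n_X : ∀ i, cjS n (X i) = X (4 - i))
    (hD0 : X 0 ≤ centralizer (D : Set G)) (hDn : n ∈ centralizer (D : Set G))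
    (hTD : T ⊓ centralizer (D : Set G) ≤ X 0) (hX : X 0 ≤ T)
    (hn2 : cjS (n * n) T = T)
    (tr : ∀ k ∈ closure ((X 0 : Set G) ∪ {n}), cjS k T = T ∨ ∃ x ∈ X 0, cjS k T = cjS (x * n) T)
    (reg : ∀ x ∈ X 0, cjS (x * n) T = cjS n T → x = 1)
    (nR : cjS n R = R) (nR' : cjS n R' = R') (nor : X 0 ≤ normalizer (R : Set G)) (nor' : X 0 ≤ normalizer (R' : Set G))
    (cent : R ⊓ centralizer (X 0 : Set G) = X 1) (cent' : R' ⊓ centralizer (X 0 : Set G) = X 7)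
    (com : X 1 ⊔ ⁅X 0, R⁆ = X 1 ⊔ X 2) (com' : X 7 ⊔ ⁅X 0, R'⁆ = X 7 ⊔ X 6)
    (inf : (X 1 ⊔ X 2) ⊓ (X 3 ⊔ X 2) = X 2) (inf' : (X 7 ⊔ X 6) ⊓ (X 5 ⊔ X 6) = X 6) :
    ∀ u ∈ X 0, u ≠ 1 → ∃ v ∈ X 4, ∃ v' ∈ X 4, ∀ j, cjS (v * u * v') (X j) = X (4 - j) := by
  intro u hu hu1
  have n04 : cjS n (X 0) = X 4 := by rw [n_X, sub_zero]
  obtain ⟨v, hv, v', hv', hT, hT'⟩ := exists_swap hX hn2 tr reg hu hu1
  have h4D : cjS n (X 0) ≤ centralizer (D : Set G) := by
    rintro _ ⟨x, hx, rfl⟩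
    exact mul_mem (mul_mem hDn (hD0 hx)) (inv_mem hDn)
  have h4R : cjS n (X 0) ≤ normalizer (R : Set G) := by
    have hn : n ∈ normalizer (R : Set G) := mem_normalizer_of_cjS nR
    rintro _ ⟨x, hx, rfl⟩
    exact mul_mem (mul_mem hn (nor hx)) (inv_mem hn)
  have h4R' : cjS n (X 0) ≤ normalizer (R' : Set G) := by
    have hn : n ∈ normalizer (R' : Set G) := mem_normalizer_of_cjS nR'
    rintro _ ⟨x, hx, rfl⟩
    exact mul_mem (mul_mem hn (nor' hx)) (inv_mem hn)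
  set h := v * u * v' * n⁻¹ with hh
  have hhD : h ∈ centralizer (D : Set G) := mul_mem (mul_mem (mul_mem (h4D hv) (hD0 hu)) (h4D hv')) (inv_mem hDn)
  have hhR : cjS h R = R := cjS_eq_of_normalizer (mul_mem (mul_mem (mul_mem (h4R hv) (nor hu)) (h4R hv'))
    (inv_mem (mem_normalizer_of_cjS nR)))
  have hhR' : cjS h R' = R' := cjS_eq_of_normalizer (mul_mem (mul_mem (mul_mem (h4R' hv) (nor' hu)) (h4R' hv'))
    (inv_mem (mem_normalizer_of_cjS nR')))
  have cD : ∀ g ∈ centralizer (D : Set G), cjS g (centralizer (D : Set G)) = centralizer (D : Set G) :=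
    fun g hg => cjS_eq_of_mem hg
  -- the root groups
  have e0 : X 0 = T ⊓ centralizer (D : Set G) := le_antisymm (le_inf hX hD0) hTD
  have f0 : cjS h (X 0) = X 0 := by rw [e0, cjS_inf, hT, cD h hhD]
  have e4 : X 4 = cjS n T ⊓ centralizer (D : Set G) := by
    rw [← n04, e0, cjS_inf, cD n hDn]
  have f4 : cjS h (X 4) = X 4 := by rw [e4, cjS_inf, hT', cD h hhD]
  have f1 : cjS h (X 1) = X 1 := by rw [← cent, cjS_inf, hhR, cjS_centralizer, f0]
  have e13 : cjS n (X 1) = X 3 := by rw [n_X]; congr 1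
  have e3 : X 3 = R ⊓ centralizer (X 4 : Set G) := by
    rw [← e13, ← cent, cjS_inf, nR, cjS_centralizer, n04]
  have f3 : cjS h (X 3) = X 3 := by rw [e3, cjS_inf, hhR, cjS_centralizer, f4]
  have e22 : cjS n (X 2) = X 2 := by rw [n_X]; congr 1
  have g12 : cjS h (X 1 ⊔ X 2) = X 1 ⊔ X 2 := by rw [← com, cjS_sup, cjS_comm, f1, f0, hhR]
  have c32 : X 3 ⊔ ⁅X 4, R⁆ = X 3 ⊔ X 2 := by
    rw [← e13, ← n04, ← e22]
    have := congrArg (cjS n) com
    rw [cjS_sup, cjS_comm, cjS_sup, nR] at this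
    rw [this, e22]
  have g32 : cjS h (X 3 ⊔ X 2) = X 3 ⊔ X 2 := by rw [← c32, cjS_sup, cjS_comm, f3, f4, hhR]
  have f2 : cjS h (X 2) = X 2 := by
    conv_lhs => rw [← inf]
    rw [cjS_inf, g12, g32, inf]
  have f7 : cjS h (X 7) = X 7 := by rw [← cent', cjS_inf, hhR', cjS_centralizer, f0]
  have e75 : cjS n (X 7) = X 5 := by rw [n_X]; congr 1
  have e5 : X 5 = R' ⊓ centralizer (X 4 : Set G) := by
    rw [← e75, ← cent', cjS_inf, nR', cjS_centralizer, n04]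
  have f5 : cjS h (X 5) = X 5 := by rw [e5, cjS_inf, hhR', cjS_centralizer, f4]
  have e66 : cjS n (X 6) = X 6 := by rw [n_X]; congr 1
  have g76 : cjS h (X 7 ⊔ X 6) = X 7 ⊔ X 6 := by rw [← com', cjS_sup, cjS_comm, f7, f0, hhR']
  have c56 : X 5 ⊔ ⁅X 4, R'⁆ = X 5 ⊔ X 6 := by
    rw [← e75, ← n04, ← e66]
    have := congrArg (cjS n) com'
    rw [cjS_sup, cjS_comm, cjS_sup, nR'] at this
    rw [this, e66]
  have g56 : cjS h (X 5 ⊔ X 6) = X 5 ⊔ X 6 := by rw [← c56, cjS_sup, cjS_comm, f5, f4, hhR']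
  have f6 : cjS h (X 6) = X 6 := by
    conv_lhs => rw [← inf']
    rw [cjS_inf, g76, g56, inf']
  have fall : ∀ j, cjS h (X j) = X j := by
    intro j
    have key : ∀ j : ZMod (2 * 4), j = 0 ∨ j = 1 ∨ j = 2 ∨ j = 3 ∨ j = 4 ∨ j = 5 ∨ j = 6 ∨ j = 7 := by decide
    rcases key j with rfl | rfl | rfl | rfl | rfl | rfl | rfl | rfl
    · exact f0
    · exact f1
    · exact f2
    · exact f3
    · exact f4
    · exact f5
    · exact f6
    · exact f7
  rw [n04] at hv hv'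
  refine ⟨v, hv, v', hv', fun j => ?_⟩
  have e : v * u * v' = h * n := by rw [hh]; group
  rw [e, cjS_mul, n_X, fall]

end Cfsg.Agent.StdSpFour.RootEight
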