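import Cfsg.Agent.StdSpFour.RootMu

/-!
S1778, type Sp₄(q): restriction of an `Eight` of `G` to a subgroup `E` which contains the root groups.
-/

set_option autoImplicit false

namespace Cfsg.Agent.StdSpFour.RootEight

open Subgroup Cfsg.Agent.SplitTwo

variable {G : Type*} [Group G] {E : Subgroup G}

theorem map_sub {H : Subgroup G} (h : H ≤ E) : (H.subgroupOf E).map E.subtype = H := by
  rw [subgroupOf_map_subtype]
  exact inf_eq_left.2 h

theorem le_of_map {A B : Subgroup ↥E} (h : A.map E.subtype ≤ B.map E.subtype) : A ≤ B :=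
  (Subgroup.map_le_map_iff_of_injective E.subtype_injective).1 h

theorem eq_of_map {A B : Subgroup ↥E} (h : A.map E.subtype = B.map E.subtype) : A = B :=
  le_antisymm (le_of_map h.le) (le_of_map h.ge)

theorem map_cjS (g : ↥E) (A : Subgroup ↥E) : (cjS g A).map E.subtype = cjS (g : G) (A.map E.subtype) := by
  ext x
  constructor
  · rintro ⟨_, ⟨y, hy, rfl⟩, rfl⟩
    exact ⟨y, ⟨y, hy, rfl⟩, rfl⟩
  · rintro ⟨_, ⟨y, hy, rfl⟩, rfl⟩
    exact ⟨g * y * g⁻¹, ⟨y, hy, rfl⟩, rfl⟩

/-- restriction to `E` -/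
def Eight.restrict (R : Eight G) (hX : ∀ i, R.X i ≤ E) (hna : R.na ∈ E) (hnb : R.nb ∈ E) : Eight ↥E where
  X i := (R.X i).subgroupOf E
  na := ⟨R.na, hna⟩
  nb := ⟨R.nb, hnb⟩
  na_X i := by
    apply eq_of_map
    rw [map_cjS, map_sub (hX _), map_sub (hX _)]
    exact R.na_X i
  nb_X i := by
    apply eq_of_map
    rw [map_cjS, map_sub (hX _), map_sub (hX _)]
    exact R.nb_X i
  ne0 := by
    intro h
    apply R.ne0
    rw [← map_sub (hX 0), h, Subgroup.map_bot]
  ne1 := by
    intro h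
    apply R.ne1
    rw [← map_sub (hX 1), h, Subgroup.map_bot]
  c01 := by
    apply eq_of_map
    rw [Subgroup.map_commutator, map_sub (hX _), map_sub (hX _), Subgroup.map_bot]
    exact R.c01
  c12 := by
    apply eq_of_map
    rw [Subgroup.map_commutator, map_sub (hX _), map_sub (hX _), Subgroup.map_bot]
    exact R.c12
  c02 := by
    apply le_of_map
    rw [Subgroup.map_commutator, map_sub (hX _), map_sub (hX _), map_sub (hX _)]
    exact R.c02
  c13 := by
    apply le_of_map
    rw [Subgroup.map_commutator, map_sub (hX _), map_sub (hX _), map_sub (hX _)]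
    exact R.c13
  c03 := by
    apply le_of_map
    rw [Subgroup.map_commutator, Subgroup.map_sup, map_sub (hX _), map_sub (hX _), map_sub (hX _), map_sub (hX _)]
    exact R.c03
  i0 := by
    apply eq_of_map
    rw [Subgroup.map_inf _ _ _ E.subtype_injective, Subgroup.map_sup, Subgroup.map_sup, map_sub (hX _),
      map_sub (hX _), map_sub (hX _), map_sub (hX _), Subgroup.map_bot]
    exact R.i0
  i3 := by
    apply eq_of_map
    rw [Subgroup.map_inf _ _ _ E.subtype_injective, Subgroup.map_sup, Subgroup.map_sup, map_sub (hX _),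
      map_sub (hX _), map_sub (hX _), map_sub (hX _), Subgroup.map_bot]
    exact R.i3
  mu0 := by
    intro u hu hu1
    obtain ⟨v, hv, v', hv', h⟩ := R.mu0 u (mem_subgroupOf.1 hu) (fun e => hu1 (Subtype.ext e))
    refine ⟨⟨v, hX 4 hv⟩, mem_subgroupOf.2 hv, ⟨v', hX 4 hv'⟩, mem_subgroupOf.2 hv', fun j => ?_⟩
    apply eq_of_map
    rw [map_cjS, map_sub (hX _), map_sub (hX _)]
    exact h j
  mu3 := by
    intro u hu hu1
    obtain ⟨v, hv, v', hv', h⟩ := R.mu3 u (mem_subgroupOf.1 hu) (fun e => hu1 (Subtype.ext e))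
    refine ⟨⟨v, hX 7 hv⟩, mem_subgroupOf.2 hv, ⟨v', hX 7 hv'⟩, mem_subgroupOf.2 hv', fun j => ?_⟩
    apply eq_of_map
    rw [map_cjS, map_sub (hX _), map_sub (hX _)]
    exact h j

/-- **`RootSys 4 E` from an `Eight` of `G`** -/
def Eight.rootSysIn (R : Eight G) (gen : (⨆ i, R.X i) = E) (hna : R.na ∈ E) (hnb : R.nb ∈ E) {p : ℕ}
    (hp : p.Prime) (h0 : IsPGroup p (R.X 0)) (h1 : IsPGroup p (R.X 1)) : RootSys 4 ↥E :=
  have hX : ∀ i, R.X i ≤ E := fun i => gen ▸ le_iSup R.X i
  (R.restrict hX hna hnb).rootSys (by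
    apply eq_of_map
    rw [Subgroup.map_iSup]
    have h2 : ∀ i, ((R.restrict hX hna hnb).X i).map E.subtype = R.X i := fun i => map_sub (hX i)
    rw [iSup_congr h2, gen, ← MonoidHom.range_eq_map, Subgroup.range_subtype]) hp
    (h0.comap_subtype) (h1.comap_subtype)

end Cfsg.Agent.StdSpFour.RootEight
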