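import Cfsg.Agent.StdSpFour.Norm
import Cfsg.Agent.StdSpFour.CaseCDefs

/-!
# S1778, type Sp₄(q), case (C): the elements `sg(w)` (bb #8700, (2))
-/

set_option autoImplicit false
set_option linter.unusedSectionVars false
set_option linter.unnecessarySeqFocus false

namespace Cfsg.Agent.StdSpFour.Sg

open Cfsg.Agent.StdSpFour Cfsg.Agent.StdSpFour.Comm
open Cfsg.Agent.StdSpFour.CaseBModel Cfsg.Agent.StdSpFour.CaseBRel Cfsg.Agent.StdSpFour.CaseBHom
open Cfsg.Agent.StdSpFour.Norm Cfsg.Agent.StdSpFour.CaseC QuadraticAlgebra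

variable {F G : Type*} [Field F] [Group G] [CharP F 2] {B : Base F G} {P Q q q' : F → G} {c : F}

theorem zs_sq (x : F) : B.zs x * B.zs x = 1 := sq_of_add B.zs_add x
theorem zl_sq (x : F) : B.zl x * B.zl x = 1 := sq_of_add B.zl_add x

theorem four_eq_zero : (4 : F) = 0 := by
  have h : (2 : F) = 0 := CharTwo.two_eq_zero
  linear_combination 2 * h

theorem three_eq_one : (3 : F) = 1 := by
  have h : (2 : F) = 0 := CharTwo.two_eq_zero
  linear_combination h

/-- ring identities in characteristic two -/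
local macro "ch2" : tactic =>
  `(tactic| first | ring1 | (rw [← sub_eq_zero]; ring_nf; simp [CharTwo.two_eq_zero, four_eq_zero, three_eq_one]))

section

variable (N : Lev B P Q q q' c)
include N

/-- `A(w) = x_a(re w) p'(im w)` -/
def A (w : Rg c) : G := hom N.rels ⟨w.re, w.im, 0, 0, 0, 0⟩

/-- `X(r) = z_s(re r) p(im r)` -/
def X (w : Rg c) : G := hom N.rels ⟨0, 0, 0, w.re, w.im, 0⟩

/-- elements of `V₄` -/
def vv (s m n r : F) : G := hom N.rels ⟨0, 0, s, m, n, r⟩

/-- the definition of `sg(w)` -/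
def sg (w : Rg c) : G := X N (w * th) * (q' 1)⁻¹ * (A N w)⁻¹ * q' 1 * A N w

/-- equations in the model group -/
local macro "tb" : tactic =>
  `(tactic| (simp only [A, X, vv, ← hom_xa N.rels, ← hom_xb N.rels, ← hom_zs N.rels, ← hom_zl N.rels, ← hom_P N.rels,
      ← hom_Q N.rels, ← map_inv, ← map_mul]; congr 1; ext <;> simp [th, nm] <;> ch2))

theorem X_sq (w : Rg c) : X N w * X N w = 1 := by
  rw [← map_one (hom N.rels)]; tb

theorem A_sq (w : Rg c) : A N w * A N w = 1 := by
  rw [← map_one (hom N.rels)]; tb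

theorem def_sg (w : Rg c) : q' 1 * A N w = A N w * (q' 1 * (X N (w * th) * sg N w)) := by
  have h := X_sq N (w * th)
  calc q' 1 * A N w = A N w * q' 1 * ((q' 1)⁻¹ * (A N w)⁻¹ * q' 1 * A N w) := by group
    _ = A N w * q' 1 * ((X N (w * th) * X N (w * th)) * ((q' 1)⁻¹ * (A N w)⁻¹ * q' 1 * A N w)) := by rw [h, one_mul]
    _ = _ := by rw [sg]; group

/-- `V₄^A(w)` -/
theorem vv_A (w : Rg c) (s m n r : F) : vv N s m n r * A N w =
    A N w * vv N s (m + w.re * s) (n + w.im * s) (r + (w.re * n + w.im * m) + nm w * s) := by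
  tb

theorem A_vv (w : Rg c) (s m n r : F) : A N w * vv N s m n r =
    vv N s (m + w.re * s) (n + w.im * s) (r + (w.re * n + w.im * m) + nm w * s) * A N w := by
  tb

theorem sg_vv (w : Rg c) (s m n r : F) : Commute (sg N w) (vv N s m n r) := by
  have h0 : Commute (X N (w * th)) (vv N s m n r) := by
    show _ * _ = _ * _; tb
  have h1 : ∀ s m n r, Commute (q' 1) (vv N s m n r) := fun s m n r => N.q'_v4 1 s m n r
  have h2 : Commute ((A N w)⁻¹ * q' 1 * A N w) (vv N s m n r) := by
    have h3 := (h1 s (m + w.re * s) (n + w.im * s) (r + (w.re * n + w.im * m) + nm w * s)).eq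
    have h4 := A_vv N w s m n r
    have h5 : (A N w)⁻¹ * vv N s (m + w.re * s) (n + w.im * s) (r + (w.re * n + w.im * m) + nm w * s) =
        vv N s m n r * (A N w)⁻¹ := by
      rw [inv_mul_eq_iff_eq_mul, ← mul_assoc, h4]; group
    show _ * _ = _ * _
    calc (A N w)⁻¹ * q' 1 * A N w * vv N s m n r
        = (A N w)⁻¹ * q' 1 * (A N w * vv N s m n r) := by group
      _ = (A N w)⁻¹ * (q' 1 * vv N s (m + w.re * s) (n + w.im * s) (r + (w.re * n + w.im * m) + nm w * s)) *
            A N w := by rw [h4]; group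
      _ = ((A N w)⁻¹ * vv N s (m + w.re * s) (n + w.im * s) (r + (w.re * n + w.im * m) + nm w * s)) * q' 1 *
            A N w := by rw [h3]; group
      _ = _ := by rw [h5]; group
  have e : sg N w = X N (w * th) * (q' 1)⁻¹ * ((A N w)⁻¹ * q' 1 * A N w) := by rw [sg]; group
  rw [e]
  exact (h0.mul_left (h1 s m n r).inv_left).mul_left h2

theorem sg_X (w r : Rg c) : Commute (sg N w) (X N r) := sg_vv N w 0 _ _ 0
theorem sg_xb (w : Rg c) (s : F) : Commute (sg N w) (B.xb s) := by
  rw [← hom_xb N.rels]; exact sg_vv N w _ _ _ _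
theorem sg_zs (w : Rg c) (s : F) : Commute (sg N w) (B.zs s) := by
  rw [← hom_zs N.rels]; exact sg_vv N w _ _ _ _
theorem sg_zl (w : Rg c) (s : F) : Commute (sg N w) (B.zl s) := by
  rw [← hom_zl N.rels]; exact sg_vv N w _ _ _ _
theorem sg_P (w : Rg c) (s : F) : Commute (sg N w) (P s) := by
  rw [← hom_P N.rels]; exact sg_vv N w _ _ _ _

theorem q_A (r : F) (w : Rg c) : Commute (q r) (A N w) := N.q_hom r _
theorem q_X (r : F) (w : Rg c) : Commute (q r) (X N w) := N.q_hom r _
theorem q_zs (r s : F) : Commute (q r) (B.zs s) := by rw [← hom_zs N.rels]; exact N.q_hom r _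
theorem q_zl (r s : F) : Commute (q r) (B.zl s) := by rw [← hom_zl N.rels]; exact N.q_hom r _
theorem q_xb (r s : F) : Commute (q r) (B.xb s) := by rw [← hom_xb N.rels]; exact N.q_hom r _
theorem q_xa (r s : F) : Commute (q r) (B.xa s) := by rw [← hom_xa N.rels]; exact N.q_hom r _
theorem q_P (r s : F) : Commute (q r) (P s) := by rw [← hom_P N.rels]; exact N.q_hom r _
theorem q'_X (r : F) (w : Rg c) : Commute (q' r) (X N w) := N.q'_v4 r _ _ _ _
theorem q'_zs (r s : F) : Commute (q' r) (B.zs s) := by rw [← hom_zs N.rels]; exact N.q'_v4 r _ _ _ _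
theorem q'_zl (r s : F) : Commute (q' r) (B.zl s) := by rw [← hom_zl N.rels]; exact N.q'_v4 r _ _ _ _
theorem q'_xb (r s : F) : Commute (q' r) (B.xb s) := by rw [← hom_xb N.rels]; exact N.q'_v4 r _ _ _ _
theorem q'_P (r s : F) : Commute (q' r) (P s) := by rw [← hom_P N.rels]; exact N.q'_v4 r _ _ _ _

theorem q_q' (x : F) : q (x ^ 2) * q' 1 = q' 1 * q (x ^ 2) * B.zs x := by
  have h := N.q'_q 1 x
  rw [one_pow, one_mul] at h
  calc q (x ^ 2) * q' 1 = q (x ^ 2) * q' 1 * B.zs x * B.zs x := by rw [mul_assoc, zs_sq, mul_one]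
    _ = _ := by rw [← h]

/-- `[sg(w), q(x²)] = z_l(x Tr w)` -/
theorem q_sg (x : F) (w : Rg c) : q (x ^ 2) * sg N w = sg N w * q (x ^ 2) * B.zl (x * w.im) := by
  have h1 := def_sg N w
  have h2 := q_q' N x
  have h3 : B.zs x * A N w = A N w * B.zs x * B.zl (x * w.im) := by tb
  have e1 : q (x ^ 2) * (q' 1 * A N w) =
      A N w * (q' 1 * (X N (w * th) * (sg N w * q (x ^ 2) * B.zl (x * w.im) * B.zs x))) := by
    calc q (x ^ 2) * (q' 1 * A N w) = (q (x ^ 2) * q' 1) * A N w := by group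
      _ = q' 1 * q (x ^ 2) * (B.zs x * A N w) := by rw [h2]; group
      _ = q' 1 * (q (x ^ 2) * A N w) * (B.zs x * B.zl (x * w.im)) := by rw [h3]; group
      _ = (q' 1 * A N w) * q (x ^ 2) * (B.zs x * B.zl (x * w.im)) := by rw [(q_A N _ w).eq]; group
      _ = _ := by rw [h1, (B.zs_zl x (x * w.im)).eq]; group
  have e2 : q (x ^ 2) * (q' 1 * A N w) =
      A N w * (q' 1 * (X N (w * th) * (q (x ^ 2) * sg N w * B.zs x))) := by
    calc q (x ^ 2) * (q' 1 * A N w) = (q (x ^ 2) * A N w) * (q' 1 * (X N (w * th) * sg N w)) := by rw [h1]; group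
      _ = A N w * (q (x ^ 2) * q' 1) * (X N (w * th) * sg N w) := by rw [(q_A N _ w).eq]; group
      _ = A N w * q' 1 * q (x ^ 2) * (B.zs x * X N (w * th)) * sg N w := by rw [h2]; group
      _ = A N w * q' 1 * (q (x ^ 2) * X N (w * th)) * (B.zs x * sg N w) := by
          have : B.zs x * X N (w * th) = X N (w * th) * B.zs x := by tb
          rw [this]; group
      _ = _ := by rw [(q_X N _ _).eq, ← (sg_zs N w x).eq]; group
  rw [e1] at e2
  exact (mul_right_cancel (mul_left_cancel (mul_left_cancel (mul_left_cancel e2)))).symm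

theorem xa_q' (u : F) : B.xa u * q' 1 = q' 1 * B.xa u * P u * (q (u ^ 2))⁻¹ := by
  have h := N.q'_xa 1 u
  rw [mul_one, mul_one] at h
  have h2 : P u * P u = 1 := P_sq N.rels u
  rw [eq_mul_inv_iff_mul_eq, h]
  calc B.xa u * q' 1 * q (u ^ 2) = B.xa u * q' 1 * q (u ^ 2) * (P u * P u) := by rw [h2, mul_one]
    _ = _ := by group

/-- `sg(w)` commutes with `x_a` -/
theorem sg_xa (w : Rg c) (u : F) : Commute (sg N w) (B.xa u) := by
  have h1 := def_sg N w
  have h2 := N.q'_xa 1 u
  rw [mul_one, mul_one] at h2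
  have h3 := xa_q' N u
  have h4 : P u * A N w = A N w * P u * B.zl (u * w.re) := by tb
  have h5 : B.xa u * A N w = A N w * B.xa u := by tb
  have h6 : B.xa u * X N (w * th) = X N (w * th) * B.xa u * B.zl (u * (w.re + w.im)) := by tb
  have h7 := q_sg N u w
  have h7' : (q (u ^ 2))⁻¹ * sg N w * q (u ^ 2) = sg N w * B.zl (u * w.im) := by
    have : sg N w * q (u ^ 2) = q (u ^ 2) * sg N w * B.zl (u * w.im) := by
      rw [h7, mul_assoc, zl_sq, mul_one]
    rw [mul_assoc, this]; group
  have hP := P_sq N.rels u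
  have e1 : q' 1 * A N w * B.xa u = A N w * (q' 1 * (X N (w * th) * (B.xa u * sg N w))) := by
    calc q' 1 * A N w * B.xa u = (q' 1 * B.xa u) * A N w := by rw [mul_assoc, ← h5]; group
      _ = B.xa u * q' 1 * q (u ^ 2) * (P u * A N w) := by rw [h2]; group
      _ = B.xa u * q' 1 * (q (u ^ 2) * A N w) * P u * B.zl (u * w.re) := by rw [h4]; group
      _ = B.xa u * (q' 1 * A N w) * q (u ^ 2) * P u * B.zl (u * w.re) := by rw [(q_A N _ w).eq]; group
      _ = (B.xa u * A N w) * q' 1 * X N (w * th) * sg N w * q (u ^ 2) * P u * B.zl (u * w.re) := by rw [h1]; group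
      _ = A N w * (B.xa u * q' 1) * X N (w * th) * sg N w * q (u ^ 2) * P u * B.zl (u * w.re) := by rw [h5]; group
      _ = A N w * q' 1 * B.xa u * P u * (q (u ^ 2))⁻¹ * X N (w * th) * sg N w * q (u ^ 2) * P u *
            B.zl (u * w.re) := by rw [h3]; group
      _ = A N w * q' 1 * B.xa u * P u * ((q (u ^ 2))⁻¹ * X N (w * th)) * sg N w * (q (u ^ 2) * P u) *
            B.zl (u * w.re) := by group
      _ = A N w * q' 1 * B.xa u * (P u * X N (w * th)) * ((q (u ^ 2))⁻¹ * (sg N w * P u) * q (u ^ 2)) *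
            B.zl (u * w.re) := by rw [((q_X N (u ^ 2) (w * th)).inv_left).eq, (q_P N (u ^ 2) u).eq]; group
      _ = A N w * q' 1 * B.xa u * X N (w * th) * (P u * ((q (u ^ 2))⁻¹ * P u)) * sg N w * q (u ^ 2) *
            B.zl (u * w.re) := by
          have : P u * X N (w * th) = X N (w * th) * P u := by tb
          rw [this, (sg_P N w u).eq]; group
      _ = A N w * q' 1 * (B.xa u * X N (w * th)) * (P u * P u) * ((q (u ^ 2))⁻¹ * sg N w * q (u ^ 2)) *
            B.zl (u * w.re) := by rw [((q_P N (u ^ 2) u).inv_left).eq]; group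
      _ = A N w * q' 1 * X N (w * th) * B.xa u * (B.zl (u * (w.re + w.im)) * sg N w) * B.zl (u * w.im) *
            B.zl (u * w.re) := by rw [h6, h7', hP]; group
      _ = A N w * q' 1 * X N (w * th) * B.xa u * sg N w *
            (B.zl (u * (w.re + w.im)) * B.zl (u * w.im) * B.zl (u * w.re)) := by
          rw [← (sg_zl N w _).eq]; group
      _ = _ := by
          have : B.zl (u * (w.re + w.im)) * B.zl (u * w.im) * B.zl (u * w.re) = 1 := by
            rw [← map_one (hom N.rels)]; tb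
          rw [this]; group
  have e2 : q' 1 * A N w * B.xa u = A N w * (q' 1 * (X N (w * th) * (sg N w * B.xa u))) := by
    rw [h1]; group
  rw [e1] at e2
  exact (mul_left_cancel (mul_left_cancel (mul_left_cancel e2))).symm

theorem t_A (w : Rg c) : B.t * A N w = A N w * (B.t * B.xa w.im) := by
  rw [A, t_hom, tau_apply]
  have h : hom N.rels ⟨w.re + w.im, w.im, 0, 0 + 0, 0, 0⟩ = A N w * B.xa w.im := by tb
  show hom N.rels ⟨w.re + w.im, w.im, 0, 0 + 0, 0, 0⟩ * B.t = _
  rw [h, mul_assoc, ← (B.t_xa w.im).eq]; rfl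

theorem t_X (w : Rg c) : B.t * X N w = X N w * (B.t * B.zs w.im) := by
  rw [X, t_hom, tau_apply]
  have h : hom N.rels ⟨0 + 0, 0, 0, w.re + w.im, w.im, 0⟩ = X N w * B.zs w.im := by tb
  show hom N.rels ⟨0 + 0, 0, 0, w.re + w.im, w.im, 0⟩ * B.t = _
  rw [h, mul_assoc, ← (B.t_zs w.im).eq]; rfl

/-- the `t`-image of `sg(w)` -/
theorem t_sg' (w : Rg c) : B.t * sg N w = sg N w * (B.t * q (w.im ^ 2) * B.zl (star w * star w).re) := by
  have h1 := def_sg N w
  have h3 := xa_q' N w.im
  have h6 : B.xa w.im * X N (w * th) = X N (w * th) * B.xa w.im * B.zl (w.im * (w.re + w.im)) := by tb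
  have hxb : B.xb 1 * X N (w * th) = X N (w * th) * B.xb 1 := by tb
  have hA : B.xb 1 * A N w = A N w * (B.xb 1 * X N w * B.zl (nm w)) := by tb
  have htX := t_X N (w * th)
  have etr : (w * th).im = w.re + w.im := by simp [th]
  rw [etr] at htX
  have htq' := N.t_q' 1
  have hqX := ((q_X N (w.im ^ 2) (w * th)).inv_left).eq
  have hPX : P w.im * X N (w * th) = X N (w * th) * P w.im := by tb
  have hqs : (q (w.im ^ 2))⁻¹ * sg N w = sg N w * (q (w.im ^ 2))⁻¹ * B.zl (w.im * w.im) := by
    have h7 := q_sg N w.im w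
    have h8 := (q_zl N (w.im ^ 2) (w.im * w.im)).inv_left.eq
    have h9 : (q (w.im ^ 2))⁻¹ * sg N w = sg N w * (q (w.im ^ 2) * B.zl (w.im * w.im))⁻¹ := by
      rw [eq_mul_inv_iff_mul_eq]
      calc (q (w.im ^ 2))⁻¹ * sg N w * (q (w.im ^ 2) * B.zl (w.im * w.im))
          = (q (w.im ^ 2))⁻¹ * (sg N w * q (w.im ^ 2) * B.zl (w.im * w.im)) := by group
        _ = _ := by rw [← h7]; group
    rw [h9, mul_inv_rev, inv_of_add B.zl_add, ← h8, mul_assoc]
  -- left hand side
  have e1 : B.t * (q' 1 * A N w) = A N w * (q' 1 * (X N (w * th) * (sg N w * (B.t * (B.xa w.im * B.xb 1 *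
      X N w * B.zl (nm w)))))) := by
    calc B.t * (q' 1 * A N w) = (B.t * q' 1) * A N w := by group
      _ = q' 1 * B.t * (B.xb 1 * A N w) := by rw [htq']; group
      _ = q' 1 * (B.t * A N w) * (B.xb 1 * X N w * B.zl (nm w)) := by rw [hA]; group
      _ = (q' 1 * A N w) * (B.t * B.xa w.im) * (B.xb 1 * X N w * B.zl (nm w)) := by rw [t_A]; group
      _ = _ := by rw [h1]; group
  have e2 : B.t * (q' 1 * A N w) = A N w * (q' 1 * (X N (w * th) * (B.t * sg N w * (B.zs (w.re + w.im) * B.xb 1 *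
      B.xa w.im * B.zl (w.im * (w.re + w.im)) * P w.im * (q (w.im ^ 2))⁻¹ * B.zl (w.im * w.im))))) := by
    calc B.t * (q' 1 * A N w) = (B.t * A N w) * (q' 1 * (X N (w * th) * sg N w)) := by rw [h1]; group
      _ = A N w * B.t * (B.xa w.im * q' 1) * X N (w * th) * sg N w := by rw [t_A]; group
      _ = A N w * (B.t * q' 1) * B.xa w.im * P w.im * ((q (w.im ^ 2))⁻¹ * X N (w * th)) * sg N w := by
          rw [h3]; group
      _ = A N w * q' 1 * B.t * B.xb 1 * B.xa w.im * (P w.im * X N (w * th)) * (q (w.im ^ 2))⁻¹ * sg N w := by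
          rw [htq', hqX]; group
      _ = A N w * q' 1 * B.t * B.xb 1 * (B.xa w.im * X N (w * th)) * P w.im * (q (w.im ^ 2))⁻¹ * sg N w := by
          rw [hPX]; group
      _ = A N w * q' 1 * B.t * (B.xb 1 * X N (w * th)) * B.xa w.im * B.zl (w.im * (w.re + w.im)) * P w.im *
            ((q (w.im ^ 2))⁻¹ * sg N w) := by rw [h6]; group
      _ = A N w * q' 1 * (B.t * X N (w * th)) * B.xb 1 * B.xa w.im * B.zl (w.im * (w.re + w.im)) * P w.im *
            (sg N w * (q (w.im ^ 2))⁻¹ * B.zl (w.im * w.im)) := by rw [hxb, hqs]; group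
      _ = A N w * q' 1 * X N (w * th) * B.t * B.zs (w.re + w.im) * B.xb 1 * B.xa w.im *
            B.zl (w.im * (w.re + w.im)) * (P w.im * sg N w) * ((q (w.im ^ 2))⁻¹ * B.zl (w.im * w.im)) := by
          rw [htX]; group
      _ = A N w * q' 1 * X N (w * th) * B.t * B.zs (w.re + w.im) * B.xb 1 * B.xa w.im *
            (B.zl (w.im * (w.re + w.im)) * sg N w) * P w.im * ((q (w.im ^ 2))⁻¹ * B.zl (w.im * w.im)) := by
          rw [← (sg_P N w w.im).eq]; group
      _ = A N w * q' 1 * X N (w * th) * B.t * B.zs (w.re + w.im) * B.xb 1 * (B.xa w.im * sg N w) *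
            B.zl (w.im * (w.re + w.im)) * P w.im * ((q (w.im ^ 2))⁻¹ * B.zl (w.im * w.im)) := by
          rw [← (sg_zl N w _).eq]; group
      _ = A N w * q' 1 * X N (w * th) * B.t * B.zs (w.re + w.im) * (B.xb 1 * sg N w) * B.xa w.im *
            B.zl (w.im * (w.re + w.im)) * P w.im * ((q (w.im ^ 2))⁻¹ * B.zl (w.im * w.im)) := by
          rw [← (sg_xa N w _).eq]; group
      _ = A N w * q' 1 * X N (w * th) * B.t * (B.zs (w.re + w.im) * sg N w) * B.xb 1 * B.xa w.im *
            B.zl (w.im * (w.re + w.im)) * P w.im * ((q (w.im ^ 2))⁻¹ * B.zl (w.im * w.im)) := by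
          rw [← (sg_xb N w _).eq]; group
      _ = _ := by rw [← (sg_zs N w _).eq]; group
  rw [e1] at e2
  have e3 := mul_left_cancel (mul_left_cancel (mul_left_cancel e2))
  -- `e3 : sg (t Y') = t sg (Y q⁻¹ zl)`
  have e4 : B.zs (w.re + w.im) * B.xb 1 * B.xa w.im * B.zl (w.im * (w.re + w.im)) * P w.im * (q (w.im ^ 2))⁻¹ *
      B.zl (w.im * w.im) = (B.zl (star w * star w).re * q (w.im ^ 2))⁻¹ *
      (B.xa w.im * B.xb 1 * X N w * B.zl (nm w)) := by
    have g1 : B.zs (w.re + w.im) * B.xb 1 * B.xa w.im * B.zl (w.im * (w.re + w.im)) * P w.im =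
      B.zl (star w * star w).re * (B.xa w.im * B.xb 1 * X N w * B.zl (nm w)) * B.zl (w.im * w.im) := by tb
    have g2 : Commute (q (w.im ^ 2))⁻¹ (B.xa w.im * B.xb 1 * X N w * B.zl (nm w)) :=
      ((((q_xa N _ _).mul_right (q_xb N _ _)).mul_right (q_X N _ _)).mul_right (q_zl N _ _)).inv_left
    have g3 := ((q_zl N (w.im ^ 2) (w.im * w.im)).inv_left).eq
    have g4 : (B.zl (star w * star w).re)⁻¹ = B.zl (star w * star w).re := inv_of_add B.zl_add _
    have g5 := ((q_zl N (w.im ^ 2) (star w * star w).re).inv_left).eq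
    rw [mul_inv_rev, g4, g1]
    calc B.zl (star w * star w).re * (B.xa w.im * B.xb 1 * X N w * B.zl (nm w)) * B.zl (w.im * w.im) *
          (q (w.im ^ 2))⁻¹ * B.zl (w.im * w.im)
        = B.zl (star w * star w).re * (B.xa w.im * B.xb 1 * X N w * B.zl (nm w)) * B.zl (w.im * w.im) *
          ((q (w.im ^ 2))⁻¹ * B.zl (w.im * w.im)) := by group
      _ = B.zl (star w * star w).re * (B.xa w.im * B.xb 1 * X N w * B.zl (nm w)) *
          (B.zl (w.im * w.im) * B.zl (w.im * w.im)) * (q (w.im ^ 2))⁻¹ := by rw [g3]; group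
      _ = B.zl (star w * star w).re * ((B.xa w.im * B.xb 1 * X N w * B.zl (nm w)) * (q (w.im ^ 2))⁻¹) := by
          rw [zl_sq]; group
      _ = (B.zl (star w * star w).re * (q (w.im ^ 2))⁻¹) * (B.xa w.im * B.xb 1 * X N w * B.zl (nm w)) := by
          rw [← g2.eq]; group
      _ = _ := by rw [← g5]
  rw [e4, ← mul_assoc, ← mul_assoc (B.t * sg N w)] at e3
  have e5 := mul_right_cancel e3
  rw [eq_mul_inv_iff_mul_eq] at e5
  rw [← e5]
  have g6 := (q_zl N (w.im ^ 2) (star w * star w).re).eq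
  calc sg N w * B.t * (B.zl (star w * star w).re * q (w.im ^ 2))
      = sg N w * B.t * (q (w.im ^ 2) * B.zl (star w * star w).re) := by rw [g6]
    _ = _ := by group

/-! ### centralisers -/

/-- `C(V₄) ∩ C(t) = V₁` -/
theorem cent_vv (hB : B.Self) {y : G} (ht : Commute y B.t) (hv : ∀ s m n r, Commute y (vv N s m n r)) :
    ∃ s m r, y = vv N s m 0 r := by
  obtain ⟨s, m, r, h | h⟩ := hB.cent1 y ht (fun u => by
      rw [← hom_xb N.rels]; exact hv _ _ _ _) (fun u => by
      rw [← hom_zs N.rels]; exact hv _ _ _ _) (fun u => by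
      rw [← hom_zl N.rels]; exact hv _ _ _ _)
  · exact ⟨s, m, r, by rw [h]; tb⟩
  · exfalso
    have e : B.xb s * B.zs m * B.zl r = vv N s m 0 r := by tb
    rw [e] at h
    have h1 : Commute y (P 1) := by rw [← hom_P N.rels]; exact hv _ _ _ _
    have h2 : Commute (vv N s m 0 r) (P 1) := by
      show _ * _ = _ * _; tb
    have h3 : Commute B.t (P 1) := by
      have h4 : B.t = y * (vv N s m 0 r)⁻¹ := by rw [h]; group
      rw [h4]
      exact h1.mul_left h2.inv_left
    have h5 := N.rels.t_P 1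
    rw [h3.eq] at h5
    have h6 : B.zs 1 = 1 := by
      have : P 1 * B.t * B.zs 1 = P 1 * B.t := h5.symm
      exact mul_eq_left.1 this
    exact one_ne_zero (zs_inj B (h6.trans (zs_zero B).symm))

/-- two elements of `C(V₄)` with the same `t`-image differ by `V₁` -/
theorem same (hB : B.Self) {y y' T : G} (hy : ∀ s m n r, Commute y (vv N s m n r))
    (hy' : ∀ s m n r, Commute y' (vv N s m n r)) (h : B.t * y = y * T) (h' : B.t * y' = y' * T) :
    ∃ s m r, y' = y * vv N s m 0 r := by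
  have h1 : Commute (y' * y⁻¹) B.t := by
    have h2 : T * y⁻¹ = y⁻¹ * B.t := by
      rw [eq_inv_mul_iff_mul_eq, ← mul_assoc, ← h]; group
    show y' * y⁻¹ * B.t = B.t * (y' * y⁻¹)
    rw [← mul_assoc, h', mul_assoc, ← h2]; group
  obtain ⟨s, m, r, e⟩ := cent_vv N hB h1 (fun s m n r => (hy' s m n r).mul_left (hy s m n r).inv_left)
  refine ⟨s, m, r, ?_⟩
  rw [(hy s m 0 r).eq, ← e]; group

theorem A_inv (w : Rg c) : (A N w)⁻¹ = A N w := inv_eq_of_mul_eq_one_left (A_sq N w)

theorem conj_A_comm (w : Rg c) {y : G} (hy : ∀ s m n r, Commute y (vv N s m n r)) (s m n r : F) :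
    Commute (A N w * y * A N w) (vv N s m n r) := by
  have h1 := A_vv N w s m n r
  have h2 : A N w * vv N s (m + w.re * s) (n + w.im * s) (r + (w.re * n + w.im * m) + nm w * s) =
      vv N s m n r * A N w := by
    rw [A_vv]
    congr 1
    tb
  show _ * _ = _ * _
  calc A N w * y * A N w * vv N s m n r = A N w * y * (A N w * vv N s m n r) := by group
    _ = A N w * (y * vv N s (m + w.re * s) (n + w.im * s) (r + (w.re * n + w.im * m) + nm w * s)) * A N w := by
        rw [h1]; group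
    _ = (A N w * vv N s (m + w.re * s) (n + w.im * s) (r + (w.re * n + w.im * m) + nm w * s)) * y * A N w := by
        rw [(hy _ _ _ _).eq]; group
    _ = _ := by rw [h2]; group

/-- **(2a)** -/
theorem exists_ell (hB : B.Self) (w w1 : Rg c) :
    ∃ l, sg N w * A N w1 = A N w1 * (sg N w * B.zl l) := by
  set y := A N w1 * sg N w * A N w1 with hy
  set T := B.t * q (w.im ^ 2) * B.zl (star w * star w).re with hT
  have hty : B.t * y = y * T := by
    have h1 := t_sg' N w
    have hxA : B.xa w1.im * A N w1 = A N w1 * B.xa w1.im := by tb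
    have hzA : B.zl (star w * star w).re * A N w1 = A N w1 * B.zl (star w * star w).re := by tb
    have hxz : B.zl (star w * star w).re * B.xa w1.im = B.xa w1.im * B.zl (star w * star w).re := by tb
    have hxx : B.xa w1.im * B.xa w1.im = 1 := sq_of_add B.xa_add _
    calc B.t * y = (B.t * A N w1) * sg N w * A N w1 := by rw [hy]; group
      _ = A N w1 * B.t * (B.xa w1.im * sg N w) * A N w1 := by rw [t_A]; group
      _ = A N w1 * (B.t * sg N w) * (B.xa w1.im * A N w1) := by rw [← (sg_xa N w _).eq]; group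
      _ = A N w1 * sg N w * B.t * q (w.im ^ 2) * (B.zl (star w * star w).re * A N w1) * B.xa w1.im := by
          rw [h1, hxA]; group
      _ = A N w1 * sg N w * B.t * (q (w.im ^ 2) * A N w1) * B.zl (star w * star w).re * B.xa w1.im := by
          rw [hzA]; group
      _ = A N w1 * sg N w * (B.t * A N w1) * q (w.im ^ 2) * (B.zl (star w * star w).re * B.xa w1.im) := by
          rw [(q_A N _ w1).eq]; group
      _ = A N w1 * sg N w * A N w1 * B.t * B.xa w1.im * (q (w.im ^ 2) * B.xa w1.im) * B.zl (star w * star w).re := by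
          rw [t_A, hxz]; group
      _ = A N w1 * sg N w * A N w1 * B.t * (B.xa w1.im * B.xa w1.im) * q (w.im ^ 2) * B.zl (star w * star w).re := by
          rw [(q_xa N _ _).eq]; group
      _ = _ := by rw [hxx, hy, hT]; group
  obtain ⟨b, s, l, e⟩ := same N hB (sg_vv N w) (conj_A_comm N w1 (sg_vv N w)) (t_sg' N w) hty
  rw [← hy] at e
  -- `b = 0`
  have hyx : Commute y (B.xa 1) := by
    have h2 : Commute (A N w1) (B.xa 1) := by show _ * _ = _ * _; tb
    exact (h2.mul_left (sg_xa N w 1)).mul_left h2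
  have hvx : Commute (vv N b s 0 l) (B.xa 1) := by
    have : vv N b s 0 l = (sg N w)⁻¹ * y := by rw [e]; group
    rw [this]
    exact (sg_xa N w 1).inv_left.mul_left hyx
  have hb : b = 0 := by
    have h3 := hvx.eq
    rw [← hom_xa N.rels, vv, ← map_mul, ← map_mul] at h3
    have h4 := congrArg TB.m (hom_injective N.rels h3)
    simpa using h4
  subst hb
  -- `s Tr w1 = 0`
  have hs : s * w1.im = 0 := by
    have h5 : A N w1 * y * A N w1 = sg N w := by
      rw [hy]
      calc A N w1 * (A N w1 * sg N w * A N w1) * A N w1 = (A N w1 * A N w1) * sg N w * (A N w1 * A N w1) := by group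
        _ = _ := by rw [A_sq]; group
    have h6 : vv N 0 s 0 l * A N w1 = A N w1 * (vv N 0 s 0 l * B.zl (s * w1.im)) := by tb
    have h7 : A N w1 * y * A N w1 = sg N w * B.zl (s * w1.im) := by
      have hvs : vv N 0 s 0 l * vv N 0 s 0 l = 1 := by rw [← map_one (hom N.rels)]; tb
      calc A N w1 * y * A N w1 = A N w1 * sg N w * (vv N 0 s 0 l * A N w1) := by rw [e]; group
        _ = (A N w1 * sg N w * A N w1) * (vv N 0 s 0 l * B.zl (s * w1.im)) := by rw [h6]; group
        _ = sg N w * (vv N 0 s 0 l * vv N 0 s 0 l) * B.zl (s * w1.im) := by rw [← hy, e]; group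
        _ = _ := by rw [hvs, mul_one]
    rw [h5] at h7
    have h8 : B.zl (s * w1.im) = 1 := mul_eq_left.1 h7.symm
    exact zl_inj B (h8.trans (zl_zero B).symm)
  have hs0 : s = 0 := by
    rcases mul_eq_zero.1 hs with h9 | h9
    · exact h9
    · have h10 : Commute (sg N w) (A N w1) := by
        have : A N w1 = B.xa w1.re := by rw [A, h9, hom_xa]
        rw [this]; exact sg_xa N w _
      have h11 : y = sg N w := by
        rw [hy, mul_assoc, h10.eq, ← mul_assoc, A_sq, one_mul]
      rw [h11] at e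
      have h12 : vv N 0 s 0 l = 1 := mul_eq_left.1 e.symm
      rw [vv, ← map_one (hom N.rels)] at h12
      exact congrArg TB.m (hom_injective N.rels h12)
  subst hs0
  refine ⟨l, ?_⟩
  have h13 : vv N 0 0 0 l = B.zl l := hom_zl N.rels l
  rw [h13] at e
  rw [← e, hy]
  calc sg N w * A N w1 = (A N w1 * A N w1) * sg N w * A N w1 := by rw [A_sq]; group
    _ = _ := by group

/-- `l(w, w₁)` -/
noncomputable def ell (hB : B.Self) (w w1 : Rg c) : F := Classical.choose (exists_ell N hB w w1)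

theorem ell_spec (hB : B.Self) (w w1 : Rg c) : sg N w * A N w1 = A N w1 * (sg N w * B.zl (ell N hB w w1)) :=
  Classical.choose_spec (exists_ell N hB w w1)

theorem ell_unique (hB : B.Self) {w w1 : Rg c} {l : F} (h : sg N w * A N w1 = A N w1 * (sg N w * B.zl l)) :
    ell N hB w w1 = l := by
  rw [ell_spec N hB] at h
  exact zl_inj B (mul_left_cancel (mul_left_cancel h))

theorem A_add (w w1 : Rg c) : A N (w + w1) = A N w * A N w1 := by tb
theorem X_add (w w1 : Rg c) : X N (w + w1) = X N w * X N w1 := by tb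

theorem zl_A (l : F) (w : Rg c) : B.zl l * A N w = A N w * B.zl l := by tb

theorem ell_add_right (hB : B.Self) (w w1 w2 : Rg c) :
    ell N hB w (w1 + w2) = ell N hB w w1 + ell N hB w w2 := by
  apply ell_unique
  rw [A_add]
  calc sg N w * (A N w1 * A N w2) = (sg N w * A N w1) * A N w2 := by group
    _ = A N w1 * sg N w * (B.zl (ell N hB w w1) * A N w2) := by rw [ell_spec N hB]; group
    _ = A N w1 * (sg N w * A N w2) * B.zl (ell N hB w w1) := by rw [zl_A]; group
    _ = A N w1 * A N w2 * sg N w * (B.zl (ell N hB w w2) * B.zl (ell N hB w w1)) := by rw [ell_spec N hB w w2]; group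
    _ = _ := by rw [← B.zl_add, add_comm]; group

theorem ell_re_right (hB : B.Self) (w : Rg c) (u : F) : ell N hB w ⟨u, 0⟩ = 0 := by
  apply ell_unique
  have h : A N (⟨u, 0⟩ : Rg c) = B.xa u := by rw [A, hom_xa]
  rw [h, (sg_xa N w u).eq, zl_zero, mul_one]

/-- **(2b)** -/
theorem sg_add0 (hB : B.Self) (w w1 : Rg c) :
    sg N (w + w1) = sg N w1 * sg N w * B.zl ((w1 * star w).re + ell N hB w w1) := by
  have h0 := def_sg N (w + w1)
  have h1 := def_sg N w
  have h2 := def_sg N w1
  have h3 : X N (w * th) * A N w1 = A N w1 * (X N (w * th) * B.zl (w1 * star w).re) := by tb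
  have h4 := ell_spec N hB w w1
  have h5 : X N ((w + w1) * th) = X N (w1 * th) * X N (w * th) := by tb
  have e : q' 1 * A N (w + w1) = A N (w + w1) * (q' 1 * (X N ((w + w1) * th) *
      (sg N w1 * sg N w * B.zl ((w1 * star w).re + ell N hB w w1)))) := by
    calc q' 1 * A N (w + w1) = (q' 1 * A N w) * A N w1 := by rw [A_add]; group
      _ = A N w * q' 1 * X N (w * th) * (sg N w * A N w1) := by rw [h1]; group
      _ = A N w * q' 1 * (X N (w * th) * A N w1) * (sg N w * B.zl (ell N hB w w1)) := by rw [h4]; group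
      _ = A N w * (q' 1 * A N w1) * X N (w * th) * (B.zl (w1 * star w).re * sg N w) * B.zl (ell N hB w w1) := by
          rw [h3]; group
      _ = A N w * A N w1 * q' 1 * X N (w1 * th) * (sg N w1 * X N (w * th)) * sg N w *
            (B.zl (w1 * star w).re * B.zl (ell N hB w w1)) := by rw [h2, ← (sg_zl N w _).eq]; group
      _ = A N w * A N w1 * q' 1 * (X N (w1 * th) * X N (w * th)) * sg N w1 * sg N w *
            (B.zl (w1 * star w).re * B.zl (ell N hB w w1)) := by rw [(sg_X N w1 _).eq]; group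
      _ = _ := by rw [h5, A_add, B.zl_add]; group
  rw [h0] at e
  exact mul_left_cancel (mul_left_cancel (mul_left_cancel e))

theorem sg_re (u : F) : sg N (⟨u, 0⟩ : Rg c) = q (u ^ 2) := by
  have h := N.q'_xa 1 u
  rw [mul_one, mul_one] at h
  have hA : A N (⟨u, 0⟩ : Rg c) = B.xa u := by rw [A, hom_xa]
  have hX : X N ((⟨u, 0⟩ : Rg c) * th) = P u := by
    rw [← hom_P N.rels]; tb
  have hP := P_sq N.rels u
  rw [sg, hA, hX]
  calc P u * (q' 1)⁻¹ * (B.xa u)⁻¹ * q' 1 * B.xa u = P u * (q' 1)⁻¹ * (B.xa u)⁻¹ * (q' 1 * B.xa u) := by group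
    _ = P u * (q (u ^ 2) * P u) := by rw [h]; group
    _ = (P u * P u) * q (u ^ 2) := by rw [(q_P N (u ^ 2) u).eq]; group
    _ = _ := by rw [hP, one_mul]

theorem q_zero : q 0 = 1 := by
  have h := N.q_add 0 0
  rw [zero_pow two_ne_zero, add_zero, zero_pow two_ne_zero, mul_zero, zl_zero, mul_one] at h
  exact mul_eq_left.1 h

theorem q'_zero : q' 0 = 1 := by
  have h := N.q'_add 0 0
  rw [zero_pow two_ne_zero, add_zero, zero_pow two_ne_zero, mul_zero, xb_zero, mul_one] at h
  exact mul_eq_left.1 h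

theorem sg_zero : sg N (0 : Rg c) = 1 := by
  have h := sg_re N 0
  rw [zero_pow two_ne_zero, q_zero N] at h
  exact h

theorem ell_re_left (hB : B.Self) (w1 : Rg c) (u : F) : ell N hB ⟨u, 0⟩ w1 = 0 := by
  apply ell_unique
  rw [sg_re, (q_A N _ w1).eq, zl_zero, mul_one]

theorem ell_add_left (hB : B.Self) (w w' w1 : Rg c) :
    ell N hB (w + w') w1 = ell N hB w w1 + ell N hB w' w1 := by
  apply ell_unique
  rw [sg_add0 N hB w w']
  set z := B.zl ((w' * star w).re + ell N hB w w') with hz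
  have hzA : z * A N w1 = A N w1 * z := zl_A N _ _
  have hzz : ∀ l, B.zl l * z = z * B.zl l := fun l => (comm_of_add B.zl_add _ _).eq
  calc sg N w' * sg N w * z * A N w1 = sg N w' * sg N w * (z * A N w1) := by group
    _ = sg N w' * (sg N w * A N w1) * z := by rw [hzA]; group
    _ = (sg N w' * A N w1) * sg N w * (B.zl (ell N hB w w1) * z) := by rw [ell_spec N hB w]; group
    _ = A N w1 * sg N w' * (B.zl (ell N hB w' w1) * sg N w) * (B.zl (ell N hB w w1) * z) := by
        rw [ell_spec N hB w']; group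
    _ = A N w1 * sg N w' * sg N w * (B.zl (ell N hB w' w1) * (B.zl (ell N hB w w1) * z)) := by
        rw [← (sg_zl N w _).eq]; group
    _ = _ := by
        have : B.zl (ell N hB w' w1) * (B.zl (ell N hB w w1) * z) = z * B.zl (ell N hB w w1 + ell N hB w' w1) := by
          rw [hzz (ell N hB w w1), ← mul_assoc, hzz (ell N hB w' w1), mul_assoc, B.zl_add,
            (comm_of_add B.zl_add (ell N hB w w1) _).eq]
        rw [this]; group

theorem sg_sq (hB : B.Self) (w : Rg c) : sg N w * sg N w = B.zl (nm w + ell N hB w w) := by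
  have h := sg_add0 N hB w w
  have e0 : w + w = 0 := by
    ext <;> simp [CharTwo.add_self_eq_zero]
  have e1 : (w * star w).re = nm w := by
    simp [nm]; ch2
  rw [e0, sg_zero, e1] at h
  rw [eq_mul_inv_of_mul_eq h.symm, one_mul, inv_of_add B.zl_add]

/-- **(2c)** -/
theorem sg_q'_one (hB : B.Self) (w : Rg c) :
    sg N w * q' 1 = q' 1 * (sg N w * X N w * B.zl (ell N hB w w)) := by
  have h1 := def_sg N w
  have hq : q' 1 * q' 1 = B.xb 1 := by
    have h := N.q'_add 1 1
    rw [one_pow, CharTwo.add_self_eq_zero, zero_pow two_ne_zero, q'_zero N, one_mul, one_mul] at h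
    exact h
  have h2 : B.xb 1 * A N w = A N w * (B.xb 1 * X N w * B.zl (nm w)) := by tb
  have hXX := X_sq N (w * th)
  have h3 : q' 1 * (q' 1 * A N w) = A N w * (q' 1 * (sg N w * (q' 1 * sg N w))) := by
    calc q' 1 * (q' 1 * A N w) = q' 1 * (A N w * (q' 1 * (X N (w * th) * sg N w))) := by rw [h1]
      _ = (q' 1 * A N w) * (q' 1 * (X N (w * th) * sg N w)) := by group
      _ = A N w * q' 1 * X N (w * th) * sg N w * (q' 1 * X N (w * th)) * sg N w := by rw [h1]; group
      _ = A N w * q' 1 * X N (w * th) * (sg N w * X N (w * th)) * q' 1 * sg N w := by rw [(q'_X N _ _).eq]; group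
      _ = A N w * q' 1 * (X N (w * th) * X N (w * th)) * sg N w * q' 1 * sg N w := by rw [(sg_X N w _).eq]; group
      _ = _ := by rw [hXX]; group
  have h4 : q' 1 * (q' 1 * A N w) = A N w * (q' 1 * (q' 1 * (X N w * B.zl (nm w)))) := by
    calc q' 1 * (q' 1 * A N w) = (q' 1 * q' 1) * A N w := by group
      _ = A N w * (B.xb 1 * X N w * B.zl (nm w)) := by rw [hq, h2]
      _ = _ := by rw [← hq]; group
  rw [h3] at h4
  have h5 := mul_left_cancel (mul_left_cancel h4)
  rw [← mul_assoc, ← eq_mul_inv_iff_mul_eq] at h5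
  have h6 : (sg N w)⁻¹ = sg N w * B.zl (nm w + ell N hB w w) := by
    rw [inv_eq_iff_mul_eq_one, ← mul_assoc, sg_sq N hB, zl_sq]
  rw [h5, h6, B.zl_add]
  have h7 := (sg_zl N w (nm w)).eq
  calc q' 1 * (X N w * B.zl (nm w)) * (sg N w * (B.zl (nm w) * B.zl (ell N hB w w)))
      = q' 1 * (X N w * (B.zl (nm w) * sg N w) * (B.zl (nm w) * B.zl (ell N hB w w))) := by group
    _ = q' 1 * ((X N w * sg N w) * (B.zl (nm w) * B.zl (nm w)) * B.zl (ell N hB w w)) := by rw [← h7]; group
    _ = _ := by rw [zl_sq, ← (sg_X N w w).eq]; group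

end

end Cfsg.Agent.StdSpFour.Sg
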