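import Cfsg.Agent.StdSpFour.SpStart
import Cfsg.Agent.StdRank2.OutSpOuter

/-!
# Type `Sp₄(q)`, `q ≥ 4` even: the start without the hypothesis `Outer`
-/

set_option autoImplicit false
set_option linter.unusedSectionVars false
set_option linter.dupNamespace false

namespace Cfsg.Agent.StdSpFour.SpStart

open Subgroup Cfsg.Agent.SignalizersComponents Cfsg.Agent.StdEven.Syl Cfsg.Agent.StdEven.Loc
open Cfsg.Agent.StdEven.StepFour Cfsg.Agent.StdEven.CoreQuot Cfsg.Agent.StdL2.Setup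
open Cfsg.Agent.StdRank2 Cfsg.Agent.StdRank2.OddLift Cfsg.Agent.StdRank2.B2Lift Cfsg.Agent.StdRank2.B2Std
  Cfsg.Agent.StdRank2.OutB2G Cfsg.Agent.StdRank2.SpFrame Cfsg.Agent.StdRank2.SpSelf
  Cfsg.Agent.StdRank2.SpData Cfsg.Agent.StdRank2.OutSpG Cfsg.Agent.StdRank2.OutSpOuter
open Cfsg.Agent.TitsThree.B2Pkg Cfsg.Agent.TitsThree.RankTwoIdentB2
  Cfsg.Agent.TitsThree.CoreB2 Cfsg.Agent.TitsThree.RankTwoIdx Cfsg.Agent.TitsThree.RankTwoRGD
  Cfsg.Agent.TitsThree.StdData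
open Cfsg.Agent.Schreier.Basic

universe u

variable {G : Type u} [Group G] [Finite G] {L A : Subgroup G} {t : G} {T : Subgroup G}
  {F : Type*} [Field F] [Finite F] [CharP F 2] {S : Std (stdSp F) ↥A} (h : Sit L A t T S)
include h

/-- **`Outer`.** -/
theorem outer : Outer A t T := by
  have hs := h.simple
  have h3 : 3 ≤ Nat.card F := by have := h.four; omega
  obtain ⟨c, hc⟩ := exists_adaptedSp h.hZ S h3 T h.isT.syl.two h.isT.syl.le fun y hy u hu => h.T_norm hy hu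
  exact outer_Sp h3 h.hZ hc t

/-- **`|R| = 2`.** -/
theorem hyp' (hS : Sch ↥A) : Hyp A t T := hyp h hS (outer h)

/-- **The mover.** -/
theorem exists_mover' (hS : Sch ↥A) :
    ∃ g ∈ normalizer (T : Set G), g ∈ normalizer (JG S t : Set G) ∧ (∃ k : ℕ, g ^ 2 ^ k = 1) ∧
      ∃ v ∈ WG S, v ≠ 1 ∧ (∀ x ∈ T, x * v = v * x) ∧ g * t * g⁻¹ = t * v :=
  exists_mover h hS (outer h)

end Cfsg.Agent.StdSpFour.SpStart
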