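import Cfsg.Agent.StdRank2.SpData

/-!
# Type `Sp₄(q)`, `q ≥ 4` even: the start

`JG S t = ⟨t⟩ U`, `WG S = V_I ∩ V_J = Z(U)` as subgroups of `G`.
`data`: `StepFour.Data`; `hyp`: `|R| = 2`; `exists_mover`: an element of `N(T)` with `t ^ g = t v`, `v ∈ WG S`;
`weakX`: `JG` is weakly closed in `X = XQ A t`.
-/

set_option autoImplicit false
set_option linter.unusedSectionVars false
set_option linter.dupNamespace false

namespace Cfsg.Agent.StdSpFour.SpStart

open Subgroup Cfsg.Agent.SignalizersComponents Cfsg.Agent.StdEven.Syl Cfsg.Agent.StdEven.Loc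
open Cfsg.Agent.StdEven.StepFour Cfsg.Agent.StdEven.CoreQuot Cfsg.Agent.StdL2.Setup
open Cfsg.Agent.TitsThree.B2Pkg Cfsg.Agent.TitsThree.RankTwoIdentB2
  Cfsg.Agent.TitsThree.CoreB2 Cfsg.Agent.TitsThree.RankTwoIdx Cfsg.Agent.TitsThree.RankTwoRGD
  Cfsg.Agent.TitsThree.StdData
open Cfsg.Agent.StdRank2 Cfsg.Agent.StdRank2.OddLift Cfsg.Agent.StdRank2.B2Lift Cfsg.Agent.StdRank2.B2Std
  Cfsg.Agent.StdRank2.B2Torus Cfsg.Agent.StdRank2.B2Act Cfsg.Agent.StdRank2.B2Act.Std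
  Cfsg.Agent.StdRank2.B2Par Cfsg.Agent.StdRank2.B2Par.Std Cfsg.Agent.StdRank2.B2Self
  Cfsg.Agent.StdRank2.OutB2G Cfsg.Agent.StdRank2.OutB2Decomp
  Cfsg.Agent.StdRank2.SpFrame Cfsg.Agent.StdRank2.SpSelf Cfsg.Agent.StdRank2.SpData
open Cfsg.Agent.Schreier.Basic

universe u

variable {G : Type u} [Group G] [Finite G] {L A : Subgroup G} {t : G} {T : Subgroup G}
  {F : Type*} [Field F] [Finite F] [CharP F 2]

/-- `J = ⟨t⟩ U`. -/
def JG (S : Std (stdSp F) ↥A) (t : G) : Subgroup G := S.U.map A.subtype ⊔ zpowers t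

/-- `W = V_I ∩ V_J = Z(U)`. -/
noncomputable def WG (S : Std (stdSp F) ↥A) : Subgroup G := (S.VI ⊓ S.VJ).map A.subtype

variable {S : Std (stdSp F) ↥A} (h : Sit L A t T S)
include h

theorem W_eq : W S = WG S := by
  ext x
  rw [h.mem_W]
  constructor
  · rintro ⟨b, c, rfl⟩
    exact ⟨_, (SpSelf.mem_inf S).2 ⟨b, c, rfl⟩, rfl⟩
  · rintro ⟨v, hv, rfl⟩
    obtain ⟨b, c, rfl⟩ := (SpSelf.mem_inf S).1 hv
    exact ⟨b, c, rfl⟩

/-- **The data of `StepFour`.** -/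
theorem data : Data A t T (JG S t) (WG S) := by
  have h1 := h.data
  rw [W_eq h] at h1
  exact h1

theorem mem_JG {x : G} : x ∈ JG S t ↔ x ∈ UG S ∨ t * x ∈ UG S := h.mem_J

/-- An involution of `W`. -/
theorem invol : ((S.m.z₁ (SpFrame.tt 1) : ↥A) : G) ∈ A ∧ ((S.m.z₁ (SpFrame.tt 1) : ↥A) : G) ≠ 1 ∧
    ((S.m.z₁ (SpFrame.tt 1) : ↥A) : G) * ((S.m.z₁ (SpFrame.tt 1) : ↥A) : G) = 1 := by
  refine ⟨(S.m.z₁ (SpFrame.tt 1)).2, ?_, ?_⟩
  · intro h1
    have h2 : (S.m.z₁ (SpFrame.tt 1) : ↥A) = 1 := Subtype.ext h1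
    rw [z₁_eq_nf S.rel, ← nf_one S.rel, tt_one] at h2
    have h3 := (nf_inj_sp S h2).2.1
    exact one_ne_zero h3
  · have h1 : S.m.z₁ (SpFrame.tt 1) * S.m.z₁ (SpFrame.tt 1) = 1 := by
      rw [← S.rel.z₁_mul, tt_mul, CharTwo.add_self_eq_zero, ← tt_one]
      exact mul_one' S.rel.z₁_mul
    exact congrArg Subtype.val h1

/-- Elements of `T` centralising `U` are in `W C(A)`. -/
theorem of_cent {x : G} (hx : x ∈ T) (hc : ∀ v ∈ UG S, x * v = v * x) :
    ∃ v ∈ WG S, v⁻¹ * x ∈ centralizer (A : Set G) := by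
  have hs := h.simple
  have hxN := h.isT.syl.le hx
  have hfix : ∀ v : ↥A, v ∈ S.U → ac A ⟨x, hxN⟩ (QuotientGroup.mk v) = QuotientGroup.mk v := by
    intro v hv
    rw [ac_mk]
    congr 1
    apply Subtype.ext
    show x * (v : G) * x⁻¹ = v
    have h1 : x * (v : G) = v * x := hc _ ⟨v, hv, rfl⟩
    rw [h1, mul_inv_cancel_right]
  obtain ⟨lam, h0, h1⟩ := h.exists_ne
  obtain ⟨u, hu, e⟩ := inner_of_Z (quotStd h.hZ S) (lam_Sp h0 h1) (center_eq_bot (quotStd h.hZ S))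
    (φ := ac A ⟨x, hxN⟩) (fun b => hfix _ (y_mem b)) (fun c => hfix _ (z₁_mem (SpFrame.tt c)))
  obtain ⟨v, hv, hvx⟩ := h.exists_of_inner hx hu e
  refine ⟨v, ?_, hvx⟩
  rw [← W_eq h]
  refine mem_inf.mpr ⟨hv, ?_⟩
  rw [mem_centralizer_iff]
  intro y hy
  have h1 := comm_of_centralizer hvx (UG_le S hy)
  have h2 := hc y hy
  calc y * v = x * (x⁻¹ * (y * x)) * x⁻¹ * v := by group
    _ = x * y * (v⁻¹ * x)⁻¹ := by rw [← h2]; group
    _ = v * ((v⁻¹ * x) * y) * (v⁻¹ * x)⁻¹ := by group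
    _ = v * y := by rw [h1]; group

/-- **`|R| = 2`.** -/
theorem hyp (hS : Sch ↥A) (hO : Outer A t T) : Hyp A t T where
  std := h.conf.std
  ht := h.conf.ht
  htA := h.conf.htA
  hZ := h.hZ
  isT := h.isT
  R := by
    intro r hr hrK
    obtain ⟨i1, i2, i3⟩ := invol h
    refine (data h).R_eq h.conf h.hZ hS hO i1 i2 i3 (X := T ⊓ centralizer (JG S t : Set G)) ?_ ?_ ?_ hr hrK
    · intro r hr hrK
      refine mem_inf.mpr ⟨hr, ?_⟩
      rw [mem_centralizer_iff]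
      intro j hj
      rcases (mem_JG h).mp hj with h1 | h1
      · exact (comm_of_centralizer hrK (UG_le S h1)).symm
      · have h2 := comm_of_centralizer hrK (UG_le S h1)
        have h3 := h.isT.cent r hr
        have h4 : t * (j * r) = t * (r * j) := by
          calc t * (j * r) = r * (t * j) := by rw [h2]; group
            _ = (r * t) * j := by group
            _ = t * (r * j) := by rw [h3]; group
        exact mul_left_cancel h4
    · intro x hx
      obtain ⟨v, hv, hvx⟩ := of_cent h hx.1 (fun v hv => comm_of_centralizer hx.2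
        ((mem_JG h).mpr (Or.inl hv)))
      have hvT : v ∈ T := (data h).J_le ((data h).W_J hv)
      exact ⟨v, (data h).W_A hv, (data h).W_two v hv, v⁻¹ * x, mul_mem (inv_mem hvT) hx.1, hvx, by group⟩
    · intro g hg x hx
      have hgJ := (data h).normalizer_T_le hg
      exact mem_inf.mpr ⟨conj_mem_of_mem_normalizer hg hx.1,
        conj_mem_of_mem_normalizer (normalizer_le_normalizer_centralizer _ hgJ) hx.2⟩

/-- **The mover**: a 2-element of `N(T)` mapping `t` to `t v`. -/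
theorem exists_mover (hS : Sch ↥A) (hO : Outer A t T) :
    ∃ g ∈ normalizer (T : Set G), g ∈ normalizer (JG S t : Set G) ∧ (∃ k : ℕ, g ^ 2 ^ k = 1) ∧
      ∃ v ∈ WG S, v ≠ 1 ∧ (∀ x ∈ T, x * v = v * x) ∧ g * t * g⁻¹ = t * v := by
  obtain ⟨i1, i2, i3⟩ := invol h
  have h1 := (data h).not_syl h.conf h.hZ hS hO i1 i2 i3
  obtain ⟨g, hg, hk, hv⟩ := (data h).exists_normalizer h.conf h1
  exact ⟨g, hg, (data h).normalizer_T_le hg, hk, hv⟩

/-- `JG` is weakly closed in `X`. -/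
theorem weakX (H : Hyp A t T) {x : XQ A t} (hx : ∀ y ∈ im A t (JG S t), x * y * x⁻¹ ∈ im A t T) :
    x ∈ normalizer (im A t (JG S t) : Set (XQ A t)) := by
  have hJ : IsPGroup 2 (JG S t) := h.isT.syl.two.to_le (data h).J_le
  have hJN : JG S t ≤ NO A t := (data h).J_le.trans H.T_le
  -- the preimage of the conjugate in `T`
  let Y2 : Subgroup G := T ⊓ (((im A t (JG S t)).map (MulAut.conj x).toMonoidHom).comap (pr A t)).map
    (NO A t).subtype
  have hY2 : IsPGroup 2 Y2 := h.isT.syl.two.to_le inf_le_left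
  have him : (im A t (JG S t)).map (MulAut.conj x).toMonoidHom = im A t Y2 := by
    apply le_antisymm
    · rintro _ ⟨y, hy, rfl⟩
      have h1 : x * y * x⁻¹ ∈ im A t T := hx y hy
      obtain ⟨n, hn, e⟩ := mem_im.mp h1
      refine mem_im.mpr ⟨n, mem_inf.mpr ⟨hn, n, ?_, rfl⟩, e⟩
      refine mem_comap.mpr ⟨y, hy, ?_⟩
      exact e.symm
    · intro z hz
      obtain ⟨n, hn, rfl⟩ := mem_im.mp hz
      obtain ⟨n', hn', e⟩ := hn.2
      have h1 : n' = n := Subtype.ext e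
      rw [← h1]
      exact hn'
  obtain ⟨g, hg, hgY, -⟩ := H.exists_conj_of_im hJ hY2 hJN him
  have h1 : (g : G) ∈ normalizer (JG S t : Set G) :=
    (data h).mem_normalizer_J fun j hj => (hgY j hj).1
  rw [← hg]
  exact H.pr_mem_normalizer h1

end Cfsg.Agent.StdSpFour.SpStart
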