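import Mathlib

/-!
# Finite fields of characteristic 2 with an involution

`Fx K` is the set of fixed elements; `|K| = |Fx K|²`; the trace form `m x* + m* x` is nondegenerate.
-/

set_option autoImplicit false
set_option linter.unusedSectionVars false

namespace Cfsg.Agent.StdSpFour.StarField

variable {K : Type*} [Field K] [StarRing K]

/-- the norm of a nonzero element is nonzero -/
theorem norm_eq_zero {x : K} (h : x * star x = 0) : x = 0 := by
  rcases mul_eq_zero.1 h with h | h
  · exact h
  · exact star_eq_zero.1 h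

variable (K) in
/-- the fixed elements -/
def Fx : AddSubgroup K where
  carrier := {x | star x = x}
  zero_mem' := star_zero K
  add_mem' := by
    intro a b ha hb
    show star (a + b) = a + b
    rw [star_add, show star a = a from ha, show star b = b from hb]
  neg_mem' := by
    intro a ha
    show star (-a) = -a
    rw [star_neg, show star a = a from ha]

theorem mem_Fx {x : K} : x ∈ Fx K ↔ star x = x := Iff.rfl

variable [CharP K 2]

theorem add_star_mem (x : K) : x + star x ∈ Fx K := by
  rw [mem_Fx, star_add, star_star, add_comm]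

/-- the trace `x ↦ x + x*` -/
def tr : K →+ K where
  toFun x := x + star x
  map_zero' := by simp
  map_add' x y := by rw [star_add]; abel

theorem tr_apply (x : K) : tr x = x + star x := rfl

theorem tr_eq_zero {x : K} : tr x = 0 ↔ x ∈ Fx K := by
  rw [tr_apply, CharTwo.add_eq_zero, mem_Fx, eq_comm]

theorem tr_ker : (tr : K →+ K).ker = Fx K := by
  ext x
  rw [AddMonoidHom.mem_ker, tr_eq_zero]

theorem mul_mem_Fx {f x : K} (hf : f ∈ Fx K) (hx : x ∈ Fx K) : f * x ∈ Fx K := by
  rw [mem_Fx] at *
  rw [star_mul', hf, hx]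

theorem exists_tr_one (hs : ∃ x : K, star x ≠ x) : ∃ w : K, w + star w = 1 := by
  obtain ⟨x, hx⟩ := hs
  have h1 : x + star x ≠ 0 := by
    intro h
    rw [CharTwo.add_eq_zero] at h
    exact hx h.symm
  refine ⟨x * (x + star x)⁻¹, ?_⟩
  have h2 : star (x + star x)⁻¹ = (x + star x)⁻¹ := by
    rw [star_inv₀, star_add, star_star, add_comm]
  rw [star_mul', h2, ← add_mul, mul_inv_cancel₀ h1]

theorem tr_range (hs : ∃ x : K, star x ≠ x) : (tr : K →+ K).range = Fx K := by
  obtain ⟨w, hw⟩ := exists_tr_one hs
  ext f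
  constructor
  · rintro ⟨x, rfl⟩
    exact add_star_mem x
  · intro hf
    refine ⟨f * w, ?_⟩
    rw [tr_apply, star_mul', show star f = f from hf, ← mul_add, hw, mul_one]

/-- `|K| = |F|²` -/
theorem card_eq [Finite K] (hs : ∃ x : K, star x ≠ x) : Nat.card K = Nat.card (Fx K) ^ 2 := by
  have h1 := (tr : K →+ K).ker.card_mul_index
  rw [AddSubgroup.index_ker, tr_range hs, tr_ker] at h1
  rw [← h1, pow_two]

/-- The elements orthogonal to `m ≠ 0` for the trace form. -/
theorem tr_mul_eq_zero {m x : K} (hm : m ≠ 0) : m * star x + x * star m = 0 ↔ ∃ f ∈ Fx K, x = f * m := by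
  constructor
  · intro h
    rw [CharTwo.add_eq_zero] at h
    refine ⟨x / m, ?_, by rw [div_mul_cancel₀ _ hm]⟩
    have hsm : star m ≠ 0 := fun h' => hm (star_eq_zero.1 h')
    rw [mem_Fx, div_eq_mul_inv, star_mul', star_inv₀, ← div_eq_mul_inv, ← div_eq_mul_inv, div_eq_div_iff hsm hm,
      mul_comm, h]
  · rintro ⟨f, hf, rfl⟩
    rw [star_mul', show star f = f from hf]
    have h2 : (2 : K) = 0 := CharTwo.two_eq_zero
    linear_combination m * f * star m * h2

/-- nondegeneracy -/
theorem exists_tr_ne (hs : ∃ x : K, star x ≠ x) {m : K} (hm : m ≠ 0) {f : K} (hf : f ∈ Fx K) :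
    ∃ x, m * star x + x * star m = f := by
  obtain ⟨w, hw⟩ := exists_tr_one hs
  have hsm : star m ≠ 0 := fun h' => hm (star_eq_zero.1 h')
  refine ⟨f * w * (star m)⁻¹, ?_⟩
  have h1 : star (f * w * (star m)⁻¹) = f * star w * m⁻¹ := by
    rw [star_mul', star_mul', star_inv₀, star_star, show star f = f from hf]
  rw [h1]
  have : m * (f * star w * m⁻¹) + f * w * (star m)⁻¹ * star m = f * (w + star w) * 1 := by
    field_simp
    ring
  rw [this, hw, mul_one, mul_one]

end Cfsg.Agent.StdSpFour.StarField
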