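import Cfsg.Agent.StdSpFour.StarField

/-!
# Counting norms; singular vectors of hermitian 2×2 matrices

`N x = x x*`; there are `q + 1` elements of each nonzero norm `f ∈ Fx K`.
`(x, c, d)` with `c d = x x*`: `(q² + 1)(q - 1)` nonzero ones.
-/

set_option autoImplicit false
set_option linter.unusedSectionVars false
set_option linter.unusedSimpArgs false
set_option linter.unusedVariables false

namespace Cfsg.Agent.StdSpFour.StarField

variable {K : Type*} [Field K] [StarRing K] [CharP K 2] [Finite K]

instance finite_Fx : Finite (Fx K) := Subtype.finite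

/-- square roots of fixed elements are fixed -/
theorem exists_sqrt {f : K} (hf : f ∈ Fx K) : ∃ g ∈ Fx K, g * g = f := by
  have hinj : Function.Injective (fun x : Fx K => (⟨x.1 * x.1, mul_mem_Fx x.2 x.2⟩ : Fx K)) := by
    intro a b hab
    have h1 : a.1 * a.1 = b.1 * b.1 := congrArg Subtype.val hab
    apply Subtype.ext
    have h2 : (a.1 + b.1) * (a.1 + b.1) = 0 := by
      linear_combination h1 + (b.1 * b.1 + a.1 * b.1) * (CharTwo.two_eq_zero (R := K))
    exact CharTwo.add_eq_zero.1 (mul_self_eq_zero.1 h2)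
  obtain ⟨g, hg⟩ := (Finite.injective_iff_surjective.1 hinj) ⟨f, hf⟩
  exact ⟨g.1, g.2, congrArg Subtype.val hg⟩

theorem inv_mem_Fx {f : K} (hf : f ∈ Fx K) : f⁻¹ ∈ Fx K := by
  rw [mem_Fx, star_inv₀, show star f = f from hf]

theorem sq_inj {a b : K} (h : a * a = b * b) : a = b := by
  have h2 : (a + b) * (a + b) = 0 := by
    linear_combination h + (b * b + a * b) * (CharTwo.two_eq_zero (R := K))
  exact CharTwo.add_eq_zero.1 (mul_self_eq_zero.1 h2)

/-- polar coordinates -/
theorem card_ne_zero : Nat.card {x : K // x ≠ 0} =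
    Nat.card {x : K // x * star x = 1} * Nat.card {f : Fx K // f ≠ 0} := by
  rw [← Nat.card_prod]
  refine (Nat.card_congr (Equiv.ofBijective
    (fun p : {x : K // x * star x = 1} × {f : Fx K // f ≠ 0} => (⟨p.1.1 * p.2.1.1, ?_⟩ : {x : K // x ≠ 0})) ⟨?_, ?_⟩)).symm
  · apply mul_ne_zero
    · intro h
      have := p.1.2
      rw [h, zero_mul] at this
      exact zero_ne_one this
    · exact fun h => p.2.2 (Subtype.ext h)
  · rintro ⟨⟨x, hx⟩, ⟨⟨f, hf⟩, hf0⟩⟩ ⟨⟨y, hy⟩, ⟨⟨g, hg⟩, hg0⟩⟩ h
    have h1 : x * f = y * g := congrArg Subtype.val h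
    have hf' : star f = f := hf
    have hg' : star g = g := hg
    have h2 : f * f = g * g := by
      have h3 : (x * f) * star (x * f) = (y * g) * star (y * g) := by rw [h1]
      rw [star_mul', star_mul', hf', hg'] at h3
      linear_combination h3 - f * f * hx + g * g * hy
    have h3 : f = g := sq_inj h2
    subst h3
    have hf1 : f ≠ 0 := fun h => hf0 (Subtype.ext h)
    have h4 : x = y := mul_right_cancel₀ hf1 h1
    subst h4
    rfl
  · rintro ⟨z, hz⟩
    obtain ⟨g, hg, hgg⟩ := exists_sqrt (K := K) (f := z * star z) (by rw [mem_Fx, star_mul', star_star, mul_comm])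
    have hg0 : g ≠ 0 := by
      rintro rfl
      rw [zero_mul] at hgg
      exact hz (norm_eq_zero hgg.symm)
    have hg' : star g = g := hg
    refine ⟨(⟨z * g⁻¹, ?_⟩, ⟨⟨g, hg⟩, fun h => hg0 (congrArg Subtype.val h)⟩), Subtype.ext ?_⟩
    · rw [star_mul', star_inv₀, hg']
      have : z * g⁻¹ * (star z * g⁻¹) = z * star z * (g * g)⁻¹ := by
        rw [mul_inv]; ring
      rw [this, hgg, mul_inv_cancel₀]
      rw [← hgg]
      exact mul_ne_zero hg0 hg0
    · show z * g⁻¹ * g = z
      rw [mul_assoc, inv_mul_cancel₀ hg0, mul_one]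

theorem card_ne {α : Type*} [Finite α] (a : α) : Nat.card {x : α // x ≠ a} = Nat.card α - 1 := by
  classical
  have := Fintype.ofFinite α
  rw [Nat.card_eq_fintype_card, Nat.card_eq_fintype_card, Fintype.card_subtype_compl, Fintype.card_subtype_eq]

theorem card_norm_one (hs : ∃ x : K, star x ≠ x) (h2 : 2 ≤ Nat.card (Fx K)) :
    Nat.card {x : K // x * star x = 1} = Nat.card (Fx K) + 1 := by
  have h := card_ne_zero (K := K)
  rw [card_ne, card_ne, card_eq hs] at h
  obtain ⟨m, hm⟩ : ∃ m, Nat.card (Fx K) = m + 1 := ⟨Nat.card (Fx K) - 1, by omega⟩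
  rw [hm] at h ⊢
  have h3 : (m + 1) ^ 2 - 1 = m * (m + 2) := by
    have : (m + 1) ^ 2 = m * (m + 2) + 1 := by ring
    omega
  rw [h3, Nat.add_sub_cancel, mul_comm] at h
  have hm0 : 0 < m := by omega
  have := Nat.eq_of_mul_eq_mul_right hm0 h
  omega

/-- the number of elements of norm `f` -/
theorem card_norm (hs : ∃ x : K, star x ≠ x) (h2 : 2 ≤ Nat.card (Fx K)) {f : K} (hf : f ∈ Fx K) (hf0 : f ≠ 0) :
    Nat.card {x : K // x * star x = f} = Nat.card (Fx K) + 1 := by
  rw [← card_norm_one hs h2]
  obtain ⟨g, hg, hgg⟩ := exists_sqrt hf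
  have hg0 : g ≠ 0 := by
    rintro rfl
    rw [zero_mul] at hgg
    exact hf0 hgg.symm
  have hg' : star g = g := hg
  refine Nat.card_congr
    { toFun := fun x => ⟨x.1 * g⁻¹, ?_⟩
      invFun := fun x => ⟨x.1 * g, ?_⟩
      left_inv := fun x => Subtype.ext (by show x.1 * g⁻¹ * g = x.1; field_simp)
      right_inv := fun x => Subtype.ext (by show x.1 * g * g⁻¹ = x.1; field_simp) }
  · have h1 := x.2
    rw [star_mul', star_inv₀, hg']
    have : x.1 * g⁻¹ * (star x.1 * g⁻¹) = x.1 * star x.1 * (g * g)⁻¹ := by
      rw [mul_inv]; ring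
    rw [this, h1, hgg, mul_inv_cancel₀ hf0]
  · have h1 := x.2
    rw [star_mul', hg']
    linear_combination g * g * h1 + hgg

/-- the number of elements of a given trace against `m` -/
theorem card_tr (hs : ∃ x : K, star x ≠ x) {m : K} (hm : m ≠ 0) {f : K} (hf : f ∈ Fx K) :
    Nat.card {x : K // m * star x + x * star m = f} = Nat.card (Fx K) := by
  obtain ⟨x0, hx0⟩ := exists_tr_ne hs hm hf
  refine (Nat.card_congr (Equiv.ofBijective (fun g : Fx K => (⟨x0 + g.1 * m, ?_⟩ :
    {x : K // m * star x + x * star m = f})) ⟨?_, ?_⟩)).symm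
  · rw [star_add, star_mul', show star g.1 = g.1 from g.2]
    linear_combination hx0 + m * g.1 * star m * (CharTwo.two_eq_zero (R := K))
  · intro a b hab
    have h1 : x0 + a.1 * m = x0 + b.1 * m := congrArg Subtype.val hab
    exact Subtype.ext (mul_right_cancel₀ hm (add_left_cancel h1))
  · rintro ⟨x, hx⟩
    have h1 : m * star (x + x0) + (x + x0) * star m = 0 := by
      rw [star_add]
      linear_combination hx + hx0 + f * (CharTwo.two_eq_zero (R := K))
    obtain ⟨g, hg, h2⟩ := (tr_mul_eq_zero hm).1 h1
    refine ⟨⟨g, hg⟩, Subtype.ext ?_⟩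
    show x0 + g * m = x
    rw [← h2]
    linear_combination x0 * (CharTwo.two_eq_zero (R := K))

/-! ### Hermitian 2×2 matrices -/

/-- the value at `w = (x, c, d)` of the bilinear form with a point: `none = (0, 0, 1)`, `some y = (y, 1, y y*)` -/
def pt (x c d : K) : Option K → K
  | none => c
  | some y => d + c * (y * star y) + (y * star x + x * star y)

theorem pt_mem {x c d : K} (hc : c ∈ Fx K) (hd : d ∈ Fx K) (p : Option K) : pt x c d p ∈ Fx K := by
  cases p with
  | none => exact hc
  | some y =>
    rw [mem_Fx]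
    unfold pt
    simp only [star_add, star_mul', star_star, show star c = c from hc, show star d = d from hd]
    ring

/-- Number of singular points perpendicular to a nonsingular vector. -/
theorem card_perp (hs : ∃ x : K, star x ≠ x) (h2 : 2 ≤ Nat.card (Fx K)) {x c d : K} (hc : c ∈ Fx K) (hd : d ∈ Fx K)
    (hn : c * d ≠ x * star x) : Nat.card {p : Option K // pt x c d p = 0} = Nat.card (Fx K) + 1 := by
  by_cases h0 : c = 0
  · have hx : x ≠ 0 := by
      rintro rfl
      rw [h0] at hn
      simp at hn
    subst h0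
    have e : Nat.card {p : Option K // pt x 0 d p = 0} = Nat.card (Option {y : K // x * star y + y * star x = d}) := by
      refine Nat.card_congr
        { toFun := fun p => match p with
            | ⟨none, _⟩ => none
            | ⟨some y, hy⟩ => some ⟨y, ?_⟩
          invFun := fun p => match p with
            | none => ⟨none, rfl⟩
            | some y => ⟨some y.1, ?_⟩
          left_inv := ?_
          right_inv := ?_ }
      · have h1 : d + 0 * (y * star y) + (y * star x + x * star y) = 0 := hy
        linear_combination h1 - d * (CharTwo.two_eq_zero (R := K))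
      · have h1 := y.2
        show d + 0 * (y.1 * star y.1) + (y.1 * star x + x * star y.1) = 0
        linear_combination h1 + d * (CharTwo.two_eq_zero (R := K))
      · rintro ⟨_ | y, hy⟩ <;> rfl
      · rintro (_ | y) <;> rfl
    rw [e, Finite.card_option, card_tr hs hx hd]
  · have hc' : star c = c := hc
    have hd' : star d = d := hd
    have hf0 : (c * d + x * star x) * (c * c)⁻¹ ≠ 0 := by
      apply mul_ne_zero
      · intro h
        exact hn (CharTwo.add_eq_zero.1 h)
      · exact inv_ne_zero (mul_ne_zero h0 h0)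
    have hf : (c * d + x * star x) * (c * c)⁻¹ ∈ Fx K := by
      apply mul_mem_Fx
      · apply add_mem (mul_mem_Fx hc hd)
        rw [mem_Fx, star_mul', star_star, mul_comm]
      · exact inv_mem_Fx (mul_mem_Fx hc hc)
    rw [← card_norm hs h2 hf hf0]
    have key : ∀ y : K, c * (d + c * (y * star y) + (y * star x + x * star y)) =
        (c * c) * ((y + x * c⁻¹) * star (y + x * c⁻¹)) + (c * d + x * star x) := by
      intro y
      rw [star_add, star_mul', star_inv₀, hc']
      field_simp
      linear_combination -(x * star x) * (CharTwo.two_eq_zero (R := K))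
    refine Nat.card_congr
      { toFun := fun p => match p with
          | ⟨none, h⟩ => absurd h h0
          | ⟨some y, hy⟩ => ⟨y + x * c⁻¹, ?_⟩
        invFun := fun y => ⟨some (y.1 + x * c⁻¹), ?_⟩
        left_inv := ?_
        right_inv := ?_ }
    · have h1 := key y
      have h3 : d + c * (y * star y) + (y * star x + x * star y) = 0 := hy
      rw [h3, mul_zero] at h1
      have h4 : (c * c) * ((y + x * c⁻¹) * star (y + x * c⁻¹)) = c * d + x * star x := by
        rw [eq_comm, CharTwo.add_eq_zero] at h1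
        exact h1
      rw [← h4]
      field_simp
    · have h1 := key (y.1 + x * c⁻¹)
      have h3 : y.1 + x * c⁻¹ + x * c⁻¹ = y.1 := by
        linear_combination x * c⁻¹ * (CharTwo.two_eq_zero (R := K))
      rw [h3, y.2] at h1
      have h4 : (c * c) * ((c * d + x * star x) * (c * c)⁻¹) = c * d + x * star x := by
        field_simp
      rw [h4, CharTwo.add_self_eq_zero] at h1
      exact (mul_eq_zero.1 h1).resolve_left h0
    · rintro ⟨_ | y, hy⟩
      · exact absurd hy h0
      · apply Subtype.ext
        show some (y + x * c⁻¹ + x * c⁻¹) = some y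
        congr 1
        linear_combination x * c⁻¹ * (CharTwo.two_eq_zero (R := K))
    · intro y
      apply Subtype.ext
      show y.1 + x * c⁻¹ + x * c⁻¹ = y.1
      linear_combination x * c⁻¹ * (CharTwo.two_eq_zero (R := K))

theorem card_not_perp (hs : ∃ x : K, star x ≠ x) (h2 : 2 ≤ Nat.card (Fx K)) {x c d : K} (hc : c ∈ Fx K) (hd : d ∈ Fx K)
    (hn : c * d ≠ x * star x) :
    Nat.card {p : Option K // pt x c d p ≠ 0} = Nat.card (Fx K) * (Nat.card (Fx K) - 1) := by
  classical
  have h := card_perp hs h2 hc hd hn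
  have := Fintype.ofFinite K
  have h3 : Nat.card {p : Option K // pt x c d p ≠ 0} = Nat.card (Option K) - Nat.card {p : Option K // pt x c d p = 0} := by
    rw [Nat.card_eq_fintype_card, Nat.card_eq_fintype_card, Nat.card_eq_fintype_card, Fintype.card_subtype_compl]
  rw [h3, h, Finite.card_option, card_eq hs]
  obtain ⟨m, hm⟩ : ∃ m, Nat.card (Fx K) = m + 1 := ⟨Nat.card (Fx K) - 1, by omega⟩
  rw [hm, Nat.add_sub_cancel]
  have : (m + 1) ^ 2 + 1 = (m + 1) * m + (m + 1 + 1) := by ring
  omega

end Cfsg.Agent.StdSpFour.StarField
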