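import Cfsg.Agent.StdSpFour.UFiveFacts

/-!
# Orders of the subgroups of `T5 K`
-/

set_option autoImplicit false
set_option linter.unusedSectionVars false

namespace Cfsg.Agent.StdSpFour.UFiveModel.T5

open Cfsg.Agent.StdSpFour.StarField

variable {K : Type*} [Field K] [StarRing K] [CharP K 2]

theorem her_mem (w1 w2 w3 : K) : her w1 w2 w3 w1 w2 w3 ∈ Fx K := by
  rw [mem_Fx]
  unfold her
  simp only [star_add, star_mul', star_star]
  ring

theorem nrm_mem (y : K) : y * star y ∈ Fx K := by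
  rw [mem_Fx, star_mul', star_star, mul_comm]

theorem sum_star_of {w f x : K} (hw : w + star w = 1) (hf : f ∈ Fx K) (hx : x ∈ Fx K) :
    (f * w + x) + star (f * w + x) = f := by
  rw [star_add, star_mul', show star f = f from hf, show star x = x from hx]
  linear_combination f * hw + x * two0 (K := K)

/-- coordinates of `T5 K` -/
def mkT (w : K) (hw : w + star w = 1) (w1 w2 w3 y : K) (c d : Fx K) : T5 K where
  w1 := w1
  w2 := w2
  w3 := w3
  y := y
  c := her w1 w2 w3 w1 w2 w3 * w + c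
  d := y * star y * w + d
  hc := by
    rw [sum_star_of hw (her_mem _ _ _) c.2]; rfl
  hd := sum_star_of hw (nrm_mem _) d.2

theorem c_mem (w : K) (hw : w + star w = 1) (g : T5 K) : g.c - her g.w1 g.w2 g.w3 g.w1 g.w2 g.w3 * w ∈ Fx K := by
  have h1 := her_mem g.w1 g.w2 g.w3
  have h2 : g.c + star g.c = her g.w1 g.w2 g.w3 g.w1 g.w2 g.w3 := g.hc
  rw [mem_Fx] at *
  rw [star_sub, star_mul', h1]
  linear_combination h2 - her g.w1 g.w2 g.w3 g.w1 g.w2 g.w3 * hw + (her g.w1 g.w2 g.w3 g.w1 g.w2 g.w3 * w - g.c) * two0 (K := K)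

theorem d_mem (w : K) (hw : w + star w = 1) (g : T5 K) : g.d - g.y * star g.y * w ∈ Fx K := by
  have h1 := nrm_mem g.y
  have h2 := g.hd
  rw [mem_Fx] at *
  rw [star_sub, star_mul', h1]
  linear_combination h2 - g.y * star g.y * hw + (g.y * star g.y * w - g.d) * two0 (K := K)

/-- coordinates of `T5 K` -/
def equivT (w : K) (hw : w + star w = 1) : T5 K ≃ (K × K × K × K) × (Fx K × Fx K) where
  toFun g := ((g.w1, g.w2, g.w3, g.y), (⟨_, c_mem w hw g⟩, ⟨_, d_mem w hw g⟩))
  invFun p := mkT w hw p.1.1 p.1.2.1 p.1.2.2.1 p.1.2.2.2 p.2.1 p.2.2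
  left_inv g := by
    ext
    · rfl
    · rfl
    · rfl
    · show her g.w1 g.w2 g.w3 g.w1 g.w2 g.w3 * w + (g.c - her g.w1 g.w2 g.w3 g.w1 g.w2 g.w3 * w) = g.c
      ring
    · rfl
    · show g.y * star g.y * w + (g.d - g.y * star g.y * w) = g.d
      ring
  right_inv p := by
    refine Prod.ext ?_ (Prod.ext ?_ ?_)
    · rfl
    · apply Subtype.ext
      show her _ _ _ _ _ _ * w + (p.2.1 : K) - her _ _ _ _ _ _ * w = _
      show her p.1.1 p.1.2.1 p.1.2.2.1 p.1.1 p.1.2.1 p.1.2.2.1 * w + (p.2.1 : K) -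
        her p.1.1 p.1.2.1 p.1.2.2.1 p.1.1 p.1.2.1 p.1.2.2.1 * w = _
      ring
    · apply Subtype.ext
      show p.1.2.2.2 * star p.1.2.2.2 * w + (p.2.2 : K) - p.1.2.2.2 * star p.1.2.2.2 * w = _
      ring

variable [Finite K]

instance : Finite (Fx K) := Subtype.finite

theorem finite_T5 (hs : ∃ x : K, star x ≠ x) : Finite (T5 K) := by
  obtain ⟨w, hw⟩ := exists_tr_one hs
  exact Finite.of_equiv _ (equivT w hw).symm

theorem card_T (hs : ∃ x : K, star x ≠ x) : Nat.card (T5 K) = Nat.card (Fx K) ^ 10 := by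
  obtain ⟨w, hw⟩ := exists_tr_one hs
  rw [Nat.card_congr (equivT w hw), Nat.card_prod, Nat.card_prod, Nat.card_prod, Nat.card_prod, Nat.card_prod,
    card_eq hs]
  ring

/-- a coordinate subgroup -/
theorem card_of_coord {w : K} (hw : w + star w = 1) {α : Type*} (P : T5 K → Prop)
    (R : (K × K × K × K) × (Fx K × Fx K) → Prop) (hPR : ∀ g, P g ↔ R (equivT w hw g)) :
    Nat.card {g // P g} = Nat.card {p // R p} := Nat.card_congr ((equivT w hw).subtypeEquiv hPR)

end Cfsg.Agent.StdSpFour.UFiveModel.T5
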