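import Cfsg.Agent.StdSpFour.UFiveRootB

/-!
# S1778, type Sp₄(q), target U₅(q): the root group system of `E`
-/

set_option autoImplicit false
set_option linter.unusedSectionVars false
set_option linter.unusedSimpArgs false
set_option linter.unusedVariables false

namespace Cfsg.Agent.StdSpFour.UFive

open Cfsg.Agent.StdSpFour.UFiveModel Cfsg.Agent.StdSpFour.UFiveModel.T5 Cfsg.Agent.StdSpFour.StarField Subgroup
open Cfsg.Agent.StdSpFour.ModelFacts Cfsg.Agent.SplitTwo Cfsg.Agent.StdSpFour.RootEight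
open Cfsg.Agent.StdSpFour.UFour (cg cg_mul cg_one cg_inv cg_comp cg_inv_cg cg_cg_inv cg_inj cg_eq_self comm_of_cg
  mem_norm exists_norm)

variable {K : Type*} [Field K] [StarRing K] [CharP K 2] [Finite K] {G : Type*} [Group G]

/-- the output of the closing for `U₅(q)` -/
structure Closed (V : Env K G) (E : Subgroup G) : Prop where
  top : E = V.T ⊔ V.Ka ⊔ V.Kb
  norm_Z : ∀ g ∈ E, cjS g V.Z = V.Z → cjS g V.Q = V.Q
  norm_Q : ∀ g ∈ E, cjS g V.Q = V.Q → cjS g (V.W ⊓ V.Q) = V.W ⊓ V.Q → cjS g V.T = V.T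

namespace Env

variable (V : Env K G)

theorem f_comm {A B : Subgroup (T5 K)} {C : Subgroup G} (h : ∀ x ∈ A, ∀ y ∈ B, V.f (x * y * x⁻¹ * y⁻¹) ∈ C) :
    ⁅A.map V.f, B.map V.f⁆ ≤ C := by
  rw [commutator_le]
  rintro _ ⟨x, hx, rfl⟩ _ ⟨y, hy, rfl⟩
  have := h x hx y hy
  rwa [map_mul, map_mul, map_mul, map_inv, map_inv] at this

/-- the eight root groups of `E` -/
noncomputable def eight [Finite G] (hs : ∃ x : K, star x ≠ x) (h4 : 4 ≤ Nat.card (Fx K)) {E : Subgroup G}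
    (C : Closed V E) (hbr : V.na * V.nb * V.na * V.nb = V.nb * V.na * V.nb * V.na) : Eight G where
  X := V.X
  na := V.na
  nb := V.nb
  na_X := fun i => V.na_X' i hbr
  nb_X := fun i => V.nb_X' i hbr
  ne0 := by
    intro h
    have h1 : V.f (e1 1) ∈ V.X 0 := V.e1_X0 1
    rw [h, mem_bot] at h1
    exact one_ne_zero (congrArg T5.w1 (V.inj (h1.trans (map_one V.f).symm)))
  ne1 := by
    intro h
    have h1F : (1 : K) ∈ Fx K := star_one K
    have h1 : V.f (ec 1 h1F) ∈ V.X 1 := V.f_X1.2 ⟨rfl, rfl, rfl, rfl⟩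
    rw [h, mem_bot] at h1
    exact one_ne_zero (congrArg T5.c (V.inj (h1.trans (map_one V.f).symm)))
  c01 := by
    have h := V.cent_X0 hs
    rw [eq_bot_iff, commutator_le]
    intro x hx z hz
    have h0 : z ∈ V.R ⊓ centralizer (V.X0 : Set G) := by rw [h]; exact hz
    have h1 := mem_centralizer_iff.1 h0.2 x hx
    show x * z * x⁻¹ * z⁻¹ ∈ _
    rw [h1, mem_bot]
    group
  c12 := by
    rw [eq_bot_iff]
    apply V.f_comm
    rintro x ⟨a1, a2, a3, a4⟩ y ⟨b1, b2, b3, b4, b5⟩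
    have e : x * y = y * x := by
      ext
      · simp only [mul_w1]; ring
      · simp only [mul_w2, a1, b1, a3, b4]; ring
      · simp only [mul_w3, a1, a3, a4, b1, b2, b4, b5, star_zero]; ring
      · simp only [mul_c, a1, a2, a3, a4, b1, b2, b3, b4, b5, star_zero, mul_zero, zero_mul, add_zero, zero_add]
      · simp only [mul_y]; ring
      · simp only [mul_d, a3, b4, star_zero]; ring
    rw [e]
    have : y * x * x⁻¹ * y⁻¹ = 1 := by group
    rw [this, map_one]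
    exact one_mem _
  c02 := by
    apply V.f_comm
    rintro x ⟨a1, a2, a3, a4, a5⟩ y ⟨b1, b2, b3, b4, b5⟩
    have e : x * y * x⁻¹ * y⁻¹ = (x * y) * (y * x)⁻¹ := by group
    rw [e]
    apply V.f_X1.2
    have h1 : (x * y) * (y * x)⁻¹ ∈ Zm K := by
      rw [mul_inv_mem_Zm]
      refine ⟨?_, ?_, ?_, ?_, ?_⟩
      · simp only [mul_w1]; ring
      · simp only [mul_w2, a1, b1, a4, b4, a2, b2]; ring
      · simp only [mul_w3, a1, a2, a3, a4, a5, b1, b2, b4, b5, star_zero]; ring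
      · simp only [mul_y]; ring
      · simp only [mul_d, a4, b4, star_zero]; ring
    exact ⟨h1.1, h1.2.2.1, h1.2.2.2.1, h1.2.2.2.2⟩
  c13 := by
    apply V.f_comm
    rintro x ⟨a1, a2, a3, a4⟩ y ⟨b1, b2, b3, b4⟩
    -- `x y = e y x`, `e ∈ X_2`
    have e : x * y = T5.em (star y.y * x.w2) * (y * x) := by
      ext
      · simp only [mul_w1, T5.em]; ring
      · simp only [mul_w2, a1, b1, b2, T5.em]; ring
      · simp only [mul_w2, mul_w3, mul_w1, a1, a2, a3, a4, b1, b2, b3, T5.em, star_zero]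
        linear_combination (-(star y.y * x.w2)) * two0 (K := K)
      · simp only [mul_c, mul_w1, mul_w2, mul_w3, a1, a2, a3, a4, b1, b2, b3, b4, T5.em, star_zero, mul_zero, zero_mul,
          add_zero, zero_add]
      · simp only [mul_y, T5.em]; ring
      · simp only [mul_d, a3, a4, T5.em, star_zero]; ring
    have h1 : x * y * x⁻¹ * y⁻¹ = T5.em (star y.y * x.w2) := by
      rw [e]; group
    rw [h1]
    exact V.em_X2 _
  c03 := by
    have h : ⁅V.X3, V.X0⁆ ≤ V.X1 ⊔ V.X2 := by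
      apply V.f_comm
      intro x hx y hy
      obtain ⟨⟨b4, b5⟩, b1, b2, b3⟩ := comm_Qm' x (show y ∈ Qm K from ⟨hy.2.2.2.1, hy.2.2.2.2⟩)
      exact V.mem_X12.2 ⟨b1, b4, b5⟩
    rw [commutator_comm] at h
    exact h
  i0 := by
    rw [eq_bot_iff]
    rintro _ ⟨⟨x, hx, rfl⟩, h2⟩
    have h3 : V.X 1 ⊔ V.X 2 ⊔ V.X 3 ≤ V.R :=
      sup_le (sup_le (Subgroup.map_mono fun _ h => h.1) (Subgroup.map_mono fun _ h => h.1))
        (Subgroup.map_mono fun _ h => h.1)
    have h5 : x.w1 = 0 := V.f_R.1 (h3 h2)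
    rw [mem_bot, eq_e1 hx, h5]
    exact map_one V.f
  i3 := by
    rw [eq_bot_iff]
    rintro _ ⟨⟨x, hx, rfl⟩, h2⟩
    have h3 : V.X 0 ⊔ V.X 1 ⊔ V.X 2 ≤ V.Q :=
      sup_le (sup_le (Subgroup.map_mono fun _ h => ⟨h.2.2.2.1, h.2.2.2.2⟩)
        (Subgroup.map_mono fun _ h => ⟨h.2.2.1, h.2.2.2⟩)) (Subgroup.map_mono fun _ h => ⟨h.2.2.2.1, h.2.2.2.2⟩)
    obtain ⟨h5, h6⟩ := V.f_Q.1 (h3 h2)
    obtain ⟨a1, a2, a3, a4⟩ := hx
    have : x = 1 := by
      ext
      · exact a1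
      · exact a2
      · exact a3
      · exact a4
      · exact h5
      · exact h6
    rw [mem_bot, this, map_one]
  mu0 := by
    have hKa : V.Ka ≤ E := by rw [C.top]; exact le_sup_right.trans le_sup_left
    have hKb : V.Kb ≤ E := by rw [C.top]; exact le_sup_right
    refine V.mu0' hs h4 hKa (fun g hg h h' => ?_) hbr
    have hQ := C.norm_Z g hg h'
    exact C.norm_Q g hg hQ (by rw [cjS_inf, h, hQ])
  mu3 := by
    have hKa : V.Ka ≤ E := by rw [C.top]; exact le_sup_right.trans le_sup_left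
    have hKb : V.Kb ≤ E := by rw [C.top]; exact le_sup_right
    exact V.mu3' hs h4 hKb (hKa V.na_mem) C.norm_Z C.norm_Q hbr

/-- `⟨X i⟩ = T ⊔ Ka ⊔ Kb` -/
theorem iSup_X : (⨆ i, V.X i) = V.T ⊔ V.Ka ⊔ V.Kb := by
  have hT : V.T ≤ ⨆ i, V.X i := by
    rintro _ ⟨x, rfl⟩
    rw [decomp x, map_mul, map_mul, map_mul]
    exact mul_mem (mul_mem (mul_mem (le_iSup V.X 0 (V.e1_X0 _)) (le_iSup V.X 1 (V.f_X1.2 (ccE_mem _ _ _))))
      (le_iSup V.X 2 (V.em_X2 _))) (le_iSup V.X 3 (V.ddE_X3 _ _ _))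
  apply le_antisymm
  · set H := V.T ⊔ V.Ka ⊔ V.Kb
    have hTH : V.T ≤ H := le_sup_left.trans le_sup_left
    have ha : V.na ∈ H := mem_sup_left (mem_sup_right V.na_mem)
    have hb : V.nb ∈ H := mem_sup_right V.nb_mem
    have h7 : V.X7 ≤ H := (le_sup_right : V.X7 ≤ V.Kb).trans le_sup_right
    have h4 : V.X4 ≤ H := (le_sup_right : V.X4 ≤ V.Ka).trans (le_sup_right.trans le_sup_left)
    have conj : ∀ g ∈ H, ∀ A : Subgroup G, A ≤ H → cjS g A ≤ H := by
      rintro g hg A hA _ ⟨x, hx, rfl⟩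
      exact mul_mem (mul_mem hg (hA hx)) (inv_mem hg)
    refine iSup_le fun i => ?_
    have key : ∀ j : ZMod (2 * 4), j = 0 ∨ j = 1 ∨ j = 2 ∨ j = 3 ∨ j = 4 ∨ j = 5 ∨ j = 6 ∨ j = 7 := by decide
    rcases key i with rfl | rfl | rfl | rfl | rfl | rfl | rfl | rfl
    · exact V.X0_le.trans hTH
    · exact V.X1_le.trans hTH
    · exact V.X2_le.trans hTH
    · exact V.X3_le.trans hTH
    · exact h4
    · exact conj _ ha _ h7
    · exact conj _ hb _ h4
    · exact h7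
  · exact sup_le (sup_le hT (sup_le (le_iSup V.X 0) (le_iSup V.X 4))) (sup_le (le_iSup V.X 3) (le_iSup V.X 7))

end Env

/-- **The root group system of `E` (type `U₅(q)`)** -/
theorem exists_rootSys [Finite G] (V : Env K G) (hs : ∃ x : K, star x ≠ x) {n : ℕ} (hn : Nat.card (Fx K) = 2 ^ n)
    (h4 : 4 ≤ Nat.card (Fx K)) {E : Subgroup G} (C : Closed V E)
    (hbr : V.na * V.nb * V.na * V.nb = V.nb * V.na * V.nb * V.na) : ∃ R : RootSys 4 ↥E, R.p = 2 := by
  have hKa : V.Ka ≤ E := by rw [C.top]; exact le_sup_right.trans le_sup_left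
  have hna : V.na ∈ E := hKa V.na_mem
  have hnb : V.nb ∈ E := by rw [C.top]; exact mem_sup_right V.nb_mem
  have h0 : IsPGroup 2 V.T := V.T_two hs ⟨n, hn⟩
  exact ⟨(V.eight hs h4 C hbr).rootSysIn (V.iSup_X.trans C.top.symm) hna hnb Nat.prime_two
    (h0.to_le V.X0_le) (h0.to_le V.X1_le), rfl⟩

end Cfsg.Agent.StdSpFour.UFive
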