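import Cfsg.Agent.StdSpFour.UFiveEight
import Cfsg.Agent.StdSpFour.CloseMain
import Cfsg.Agent.SplitTwo.QuadChar

/-!
# S1778, type Sp₄(q), target U₅(q): the end of the field case

`isLie`: `V : Env K G`, `InE V E`, `E` simple: `E` is of Lie type in characteristic 2.
-/

set_option autoImplicit false
set_option linter.unusedSectionVars false

namespace Cfsg.Agent.StdSpFour.UFive

open Subgroup Cfsg.Agent.StdSpFour Cfsg.Agent.StdSpFour.StarField
open Cfsg.Agent.StdSpFour.CloseDefs Cfsg.Agent.StdSpFour.RootEight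
open Cfsg.Agent.Lib Cfsg.Agent.Lib.GoldschmidtFusion
open Cfsg.Agent.TwoFusion.Gold (TProp)
open Cfsg.Agent.StdSpFour.CloseComp Cfsg.Agent.StdSpFour.CloseLoc
open Cfsg.Agent.StdSpFour.CloseSyl (S0506Stmt)

universe u v

variable {K : Type v} [Field K] [StarRing K] [CharP K 2] [Finite K] {G : Type u} [Group G] [Finite G]

/-- **the closing** -/
theorem closed (h0506 : S0506Stmt.{u}) (hZS : ZStarStmt.{u})
    (hT : ∀ (G : Type u) [Group G] [Finite G], IsSimpleGroup G → (∃ a b : G, a * b ≠ b * a) → TProp G)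
    (h1173 : S1173Stmt.{u}) (hs : ∃ x : K, star x ≠ x) {n : ℕ} (hn : Nat.card (Fx K) = 2 ^ n)
    (h4 : 4 ≤ Nat.card (Fx K)) {V : Env K G} {E : Subgroup G} (hE : IsSimpleGroup E) (H : InE V E) : Closed V E where
  top := CloseMain.top (relFacts hs hn h4 H) h0506 hZS hT h1173 hE
  norm_Z := fun _ hg hZ => CloseMain.norm_Z (relFacts hs hn h4 H) h0506 hZS hT h1173 hg hZ
  norm_Q := fun _ hg hQ hWQ => CloseMain.norm_Q (relFacts hs hn h4 H) h0506 hZS hT h1173 hg hQ hWQ

theorem exists_card_Fx (K : Type v) [Field K] [StarRing K] [CharP K 2] [Finite K] :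
    ∃ n, Nat.card (Fx K) = 2 ^ n := by
  have := Fintype.ofFinite K
  obtain ⟨n, -, hn⟩ := FiniteField.card K 2
  have h1 : Nat.card (Fx K) ∣ 2 ^ (n : ℕ) := by
    rw [← hn, ← Nat.card_eq_fintype_card]
    exact AddSubgroup.card_addSubgroup_dvd_card _
  obtain ⟨k, -, hk⟩ := (Nat.dvd_prime_pow Nat.prime_two).1 h1
  exact ⟨k, hk⟩

/-- **the field case** -/
theorem isLie (h0506 : S0506Stmt.{u}) (hZS : ZStarStmt.{u})
    (hT : ∀ (G : Type u) [Group G] [Finite G], IsSimpleGroup G → (∃ a b : G, a * b ≠ b * a) → TProp G)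
    (h1173 : S1173Stmt.{u}) (hs : ∃ x : K, star x ≠ x) (h4 : 4 ≤ Nat.card (Fx K)) {V : Env K G}
    {E : Subgroup G} (hE : IsSimpleGroup E) (H : InE V E)
    (hbr : V.na * V.nb * V.na * V.nb = V.nb * V.na * V.nb * V.na) : Cfsg.IsLieTypeChar 2 E := by
  obtain ⟨n, hn⟩ := exists_card_Fx K
  obtain ⟨R, hR⟩ := exists_rootSys V hs hn h4 (closed h0506 hZS hT h1173 hs hn h4 hE H) hbr
  have := Cfsg.Agent.SplitTwo.QuadChar.isLieTypeChar R
  rwa [hR] at this

namespace Env

/-- the braid relation from the braid relation modulo `Cn` -/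
theorem braid_of (V : Env K G) {k : G} (hk : k ∈ V.Cn)
    (h : V.na * V.nb * V.na * V.nb = V.nb * V.na * V.nb * V.na * k) :
    V.na * V.nb * V.na * V.nb = V.nb * V.na * V.nb * V.na := by
  have ha : V.na * k = k * V.na := (V.Cn_na k hk).symm
  have hb : V.nb * k = k * V.nb := (V.Cn_nb k hk).symm
  have aa := V.na_na
  have bb := V.nb_nb
  -- conjugate by `na`
  have h1 : V.nb * V.na * V.nb * V.na = V.na * V.nb * V.na * V.nb * k := by
    calc V.nb * V.na * V.nb * V.na = (V.na * V.na) * V.nb * V.na * V.nb * V.na := by rw [aa, one_mul]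
      _ = V.na * (V.na * V.nb * V.na * V.nb) * V.na := by group
      _ = V.na * (V.nb * V.na * V.nb * V.na * k) * V.na := by rw [h]
      _ = V.na * V.nb * V.na * V.nb * (V.na * k) * V.na := by group
      _ = V.na * V.nb * V.na * V.nb * k * (V.na * V.na) := by rw [ha]; group
      _ = _ := by rw [aa, mul_one]
  have h2 : k * k = 1 := by
    rw [h1] at h
    have h3 : V.na * V.nb * V.na * V.nb = V.na * V.nb * V.na * V.nb * (k * k) := by
      rw [← mul_assoc]; exact h
    exact mul_eq_left.1 h3.symm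
  rw [h, V.Cn_odd k hk h2, mul_one]

end Env

end Cfsg.Agent.StdSpFour.UFive
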