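import Cfsg.Agent.StdSpFour.UFiveModel
import Cfsg.Agent.StdSpFour.StarField

/-!
# Facts on the Sylow 2-subgroup of `U₅(q)` in coordinates
-/

set_option autoImplicit false
set_option linter.unusedSectionVars false

namespace Cfsg.Agent.StdSpFour.UFiveModel.T5

open Cfsg.Agent.StdSpFour.StarField

variable {K : Type*} [Field K] [StarRing K] [CharP K 2]

/-- the hermitian form -/
def her (w1 w2 w3 v1 v2 v3 : K) : K := w1 * star v3 + w2 * star v2 + w3 * star v1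

theorem two0 : (2 : K) = 0 := CharTwo.two_eq_zero

/-! ### The subgroups -/

variable (K) in
/-- `Z` -/
def Zm : Subgroup (T5 K) where
  carrier := {g | g.w1 = 0 ∧ g.w2 = 0 ∧ g.w3 = 0 ∧ g.y = 0 ∧ g.d = 0}
  one_mem' := ⟨rfl, rfl, rfl, rfl, rfl⟩
  mul_mem' := by
    rintro g g' ⟨a1, a2, a3, a4, a5⟩ ⟨b1, b2, b3, b4, b5⟩
    refine ⟨?_, ?_, ?_, ?_, ?_⟩
    · rw [mul_w1, a1, b1, add_zero]
    · rw [mul_w2, a2, b2, b1, mul_zero, add_zero, add_zero]
    · rw [mul_w3, a3, b3, b2, b1, mul_zero, mul_zero, add_zero, add_zero, add_zero]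
    · rw [mul_y, a4, b4, add_zero]
    · rw [mul_d, a5, b5, b4, mul_zero, add_zero, add_zero]
  inv_mem' := by
    rintro g ⟨a1, a2, a3, a4, a5⟩
    refine ⟨?_, ?_, ?_, ?_, ?_⟩
    · rw [inv_w1, a1]
    · rw [inv_w2, a1, a2, mul_zero, add_zero]
    · rw [inv_w3, a1, a2, a3, mul_zero, mul_zero, add_zero, add_zero]
    · rw [inv_y, a4]
    · rw [inv_d, a5, star_zero]

variable (K) in
/-- `Q` -/
def Qm : Subgroup (T5 K) where
  carrier := {g | g.y = 0 ∧ g.d = 0}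
  one_mem' := ⟨rfl, rfl⟩
  mul_mem' := by
    rintro g g' ⟨a4, a5⟩ ⟨b4, b5⟩
    refine ⟨?_, ?_⟩
    · rw [mul_y, a4, b4, add_zero]
    · rw [mul_d, a5, b5, b4, mul_zero, add_zero, add_zero]
  inv_mem' := by
    rintro g ⟨a4, a5⟩
    refine ⟨?_, ?_⟩
    · rw [inv_y, a4]
    · rw [inv_d, a5, star_zero]

variable (K) in
/-- `R = C(W)` -/
def Rm : Subgroup (T5 K) where
  carrier := {g | g.w1 = 0}
  one_mem' := rfl
  mul_mem' := by
    intro g g' a b
    show (g * g').w1 = 0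
    rw [mul_w1, show g.w1 = 0 from a, show g'.w1 = 0 from b, add_zero]
  inv_mem' := by
    intro g a
    exact a

variable (K) in
/-- `W` -/
def Wm : Subgroup (T5 K) where
  carrier := {g | g.w1 = 0 ∧ g.w2 = 0 ∧ g.y = 0}
  one_mem' := ⟨rfl, rfl, rfl⟩
  mul_mem' := by
    rintro g g' ⟨a1, a2, a4⟩ ⟨b1, b2, b4⟩
    refine ⟨?_, ?_, ?_⟩
    · rw [mul_w1, a1, b1, add_zero]
    · rw [mul_w2, a2, b2, b1, mul_zero, add_zero, add_zero]
    · rw [mul_y, a4, b4, add_zero]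
  inv_mem' := by
    rintro g ⟨a1, a2, a4⟩
    refine ⟨?_, ?_, ?_⟩
    · rw [inv_w1, a1]
    · rw [inv_w2, a1, a2, mul_zero, add_zero]
    · rw [inv_y, a4]

theorem mem_Zm {g : T5 K} : g ∈ Zm K ↔ g.w1 = 0 ∧ g.w2 = 0 ∧ g.w3 = 0 ∧ g.y = 0 ∧ g.d = 0 := Iff.rfl
theorem mem_Qm {g : T5 K} : g ∈ Qm K ↔ g.y = 0 ∧ g.d = 0 := Iff.rfl
theorem mem_Rm {g : T5 K} : g ∈ Rm K ↔ g.w1 = 0 := Iff.rfl
theorem mem_Wm {g : T5 K} : g ∈ Wm K ↔ g.w1 = 0 ∧ g.w2 = 0 ∧ g.y = 0 := Iff.rfl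

/-! ### Squares and commuting elements -/

/-- squares -/
theorem sq_eq_one_iff {g : T5 K} : g * g = 1 ↔ g.y = 0 ∧ g.d * g.w1 = 0 ∧
    g.w1 * star g.w3 + g.w2 * star g.w2 + g.w3 * star g.w1 = 0 := by
  constructor
  · intro h
    have e1 := congrArg T5.d h
    have e2 := congrArg T5.w3 h
    have e3 := congrArg T5.c h
    rw [mul_d, one_d, CharTwo.add_self_eq_zero, zero_add, mul_comm] at e1
    have hy : g.y = 0 := norm_eq_zero e1
    rw [mul_w3, one_w3, hy, star_zero, zero_mul, add_zero, ← add_assoc, CharTwo.add_self_eq_zero, zero_add] at e2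
    rw [mul_c, one_c, hy, star_zero, zero_mul, zero_mul, add_zero, add_zero, CharTwo.add_self_eq_zero, zero_add, e2,
      add_zero] at e3
    exact ⟨hy, e2, e3⟩
  · rintro ⟨hy, e2, e3⟩
    ext
    · rw [mul_w1, CharTwo.add_self_eq_zero]; rfl
    · rw [mul_w2, hy, zero_mul, add_zero, CharTwo.add_self_eq_zero]; rfl
    · rw [mul_w3, hy, star_zero, zero_mul, add_zero, ← add_assoc, CharTwo.add_self_eq_zero, zero_add, e2]; rfl
    · rw [mul_c, hy, star_zero, zero_mul, zero_mul, add_zero, add_zero, CharTwo.add_self_eq_zero, zero_add, e2,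
        add_zero, e3]; rfl
    · rw [mul_y, CharTwo.add_self_eq_zero]; rfl
    · rw [mul_d, hy, mul_zero, CharTwo.add_self_eq_zero, add_zero]; rfl

/-- commuting elements -/
theorem comm_iff {g g' : T5 K} : g * g' = g' * g ↔ g.y * g'.w1 = g'.y * g.w1 ∧
    star g.y * g'.w2 + g.d * g'.w1 = star g'.y * g.w2 + g'.d * g.w1 ∧ star g.y * g'.y = star g'.y * g.y ∧
    her g.w1 g.w2 g.w3 g'.w1 (g'.w2 + g.y * g'.w1) (g'.w3 + star g.y * g'.w2 + g.d * g'.w1) =
      her g'.w1 g'.w2 g'.w3 g.w1 (g.w2 + g'.y * g.w1) (g.w3 + star g'.y * g.w2 + g'.d * g.w1) := by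
  constructor
  · intro h
    have e1 := congrArg T5.w2 h
    have e2 := congrArg T5.w3 h
    have e3 := congrArg T5.d h
    have e4 := congrArg T5.c h
    rw [mul_w2, mul_w2] at e1
    rw [mul_w3, mul_w3] at e2
    rw [mul_d, mul_d] at e3
    rw [mul_c, mul_c] at e4
    refine ⟨?_, ?_, ?_, ?_⟩
    · linear_combination e1
    · linear_combination e2
    · linear_combination e3
    · unfold her
      linear_combination e4
  · rintro ⟨h1, h2, h3, h4⟩
    unfold her at h4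
    ext
    · rw [mul_w1, mul_w1]; ring
    · rw [mul_w2, mul_w2]; linear_combination h1
    · rw [mul_w3, mul_w3]; linear_combination h2
    · rw [mul_c, mul_c]; linear_combination h4
    · rw [mul_y, mul_y]; ring
    · rw [mul_d, mul_d]; linear_combination h3

/-! ### (T1) -/

/-- Involutions outside `Q` are in `W`. -/
theorem mem_Wm_of_sq {g : T5 K} (h : g * g = 1) (hd : g.d ≠ 0) : g ∈ Wm K := by
  obtain ⟨h1, h2, h3⟩ := sq_eq_one_iff.1 h
  have h4 : g.w1 = 0 := (mul_eq_zero.1 h2).resolve_left hd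
  rw [h4, zero_mul, star_zero, mul_zero, zero_add, add_zero] at h3
  exact ⟨h4, norm_eq_zero h3, h1⟩

theorem mem_Wm_of_sq' {g : T5 K} (h : g * g = 1) (hw : g.w1 = 0) : g ∈ Wm K := by
  obtain ⟨h1, h2, h3⟩ := sq_eq_one_iff.1 h
  rw [hw, zero_mul, star_zero, mul_zero, zero_add, add_zero] at h3
  exact ⟨hw, norm_eq_zero h3, h1⟩

end Cfsg.Agent.StdSpFour.UFiveModel.T5
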