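import Cfsg.Agent.StdSpFour.UFiveEnv
import Cfsg.Agent.StdSpFour.ModelMap

/-!
# S1778, type Sp₄(q), target U₅(q): the subgroups of `G`, the groups `Ka`, `Kb`
-/

set_option autoImplicit false
set_option linter.unusedSectionVars false
set_option linter.unusedSimpArgs false
set_option linter.unusedVariables false

namespace Cfsg.Agent.StdSpFour.UFive

open Cfsg.Agent.StdSpFour.UFiveModel Cfsg.Agent.StdSpFour.UFiveModel.T5 Cfsg.Agent.StdSpFour.StarField Subgroup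
open Cfsg.Agent.StdSpFour.UFour (cg cg_mul cg_one cg_inv cg_comp cg_inv_cg cg_cg_inv cg_inj cg_eq_self comm_of_cg mem_norm)
open Cfsg.Agent.StdSpFour.RootEight (cjS mem_cjS cjS_mul cjS_mono)

section model

variable (K : Type*) [Field K] [StarRing K] [CharP K 2]

/-- `X^_a` -/
def X0m : Subgroup (T5 K) where
  carrier := {g | g.w2 = 0 ∧ g.w3 = 0 ∧ g.c = 0 ∧ g.y = 0 ∧ g.d = 0}
  one_mem' := ⟨rfl, rfl, rfl, rfl, rfl⟩
  mul_mem' := by
    rintro g g' ⟨a1, a2, a3, a4, a5⟩ ⟨b1, b2, b3, b4, b5⟩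
    refine ⟨?_, ?_, ?_, ?_, ?_⟩ <;>
      simp [mul_w1, mul_w2, mul_w3, mul_c, mul_y, mul_d, a1, a2, a3, a4, a5, b1, b2, b3, b4, b5]
  inv_mem' := by
    rintro g ⟨a1, a2, a3, a4, a5⟩
    refine ⟨?_, ?_, ?_, ?_, ?_⟩ <;>
      simp [inv_w1, inv_w2, inv_w3, inv_c, inv_y, inv_d, a1, a2, a3, a4, a5]

/-- `X^_{2a+b}` -/
def X1m : Subgroup (T5 K) where
  carrier := {g | g.w1 = 0 ∧ g.w3 = 0 ∧ g.y = 0 ∧ g.d = 0}
  one_mem' := ⟨rfl, rfl, rfl, rfl⟩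
  mul_mem' := by
    rintro g g' ⟨a1, a2, a3, a4⟩ ⟨b1, b2, b3, b4⟩
    refine ⟨?_, ?_, ?_, ?_⟩ <;>
      simp [mul_w1, mul_w2, mul_w3, mul_c, mul_y, mul_d, a1, a2, a3, a4, b1, b2, b3, b4]
  inv_mem' := by
    rintro g ⟨a1, a2, a3, a4⟩
    refine ⟨?_, ?_, ?_, ?_⟩ <;>
      simp [inv_w1, inv_w2, inv_w3, inv_c, inv_y, inv_d, a1, a2, a3, a4]

/-- `X^_{a+b}` -/
def X2m : Subgroup (T5 K) where
  carrier := {g | g.w1 = 0 ∧ g.w2 = 0 ∧ g.c = 0 ∧ g.y = 0 ∧ g.d = 0}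
  one_mem' := ⟨rfl, rfl, rfl, rfl, rfl⟩
  mul_mem' := by
    rintro g g' ⟨a1, a2, a3, a4, a5⟩ ⟨b1, b2, b3, b4, b5⟩
    refine ⟨?_, ?_, ?_, ?_, ?_⟩ <;>
      simp [mul_w1, mul_w2, mul_w3, mul_c, mul_y, mul_d, a1, a2, a3, a4, a5, b1, b2, b3, b4, b5]
  inv_mem' := by
    rintro g ⟨a1, a2, a3, a4, a5⟩
    refine ⟨?_, ?_, ?_, ?_, ?_⟩ <;>
      simp [inv_w1, inv_w2, inv_w3, inv_c, inv_y, inv_d, a1, a2, a3, a4, a5]

/-- `X^_b` -/
def X3m : Subgroup (T5 K) where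
  carrier := {g | g.w1 = 0 ∧ g.w2 = 0 ∧ g.w3 = 0 ∧ g.c = 0}
  one_mem' := ⟨rfl, rfl, rfl, rfl⟩
  mul_mem' := by
    rintro g g' ⟨a1, a2, a3, a4⟩ ⟨b1, b2, b3, b4⟩
    refine ⟨?_, ?_, ?_, ?_⟩ <;>
      simp [mul_w1, mul_w2, mul_w3, mul_c, mul_y, mul_d, a1, a2, a3, a4, b1, b2, b3, b4]
  inv_mem' := by
    rintro g ⟨a1, a2, a3, a4⟩
    refine ⟨?_, ?_, ?_, ?_⟩ <;>
      simp [inv_w1, inv_w2, inv_w3, inv_c, inv_y, inv_d, a1, a2, a3, a4]

/-- `X_b` -/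
def Xbm : Subgroup (T5 K) where
  carrier := {g | g.w1 = 0 ∧ g.w2 = 0 ∧ g.w3 = 0 ∧ g.c = 0 ∧ g.y = 0}
  one_mem' := ⟨rfl, rfl, rfl, rfl, rfl⟩
  mul_mem' := by
    rintro g g' ⟨a1, a2, a3, a4, a5⟩ ⟨b1, b2, b3, b4, b5⟩
    refine ⟨?_, ?_, ?_, ?_, ?_⟩ <;>
      simp [mul_w1, mul_w2, mul_w3, mul_c, mul_y, mul_d, a1, a2, a3, a4, a5, b1, b2, b3, b4, b5]
  inv_mem' := by
    rintro g ⟨a1, a2, a3, a4, a5⟩
    refine ⟨?_, ?_, ?_, ?_, ?_⟩ <;>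
      simp [inv_w1, inv_w2, inv_w3, inv_c, inv_y, inv_d, a1, a2, a3, a4, a5]

/-- `X_a` -/
def Xam : Subgroup (T5 K) where
  carrier := {g | star g.w1 = g.w1 ∧ g.w2 = 0 ∧ g.w3 = 0 ∧ g.c = 0 ∧ g.y = 0 ∧ g.d = 0}
  one_mem' := ⟨star_zero K, rfl, rfl, rfl, rfl, rfl⟩
  mul_mem' := by
    rintro g g' ⟨a0, a1, a2, a3, a4, a5⟩ ⟨b0, b1, b2, b3, b4, b5⟩
    refine ⟨?_, ?_, ?_, ?_, ?_, ?_⟩ <;>
      simp [mul_w1, mul_w2, mul_w3, mul_c, mul_y, mul_d, a0, a1, a2, a3, a4, a5, b0, b1, b2, b3, b4, b5]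
  inv_mem' := by
    rintro g ⟨a0, a1, a2, a3, a4, a5⟩
    refine ⟨?_, ?_, ?_, ?_, ?_, ?_⟩ <;>
      simp [inv_w1, inv_w2, inv_w3, inv_c, inv_y, inv_d, a0, a1, a2, a3, a4, a5]

/-- `X_{a+b}` -/
def Xabm : Subgroup (T5 K) where
  carrier := {g | star g.w3 = g.w3 ∧ g.w1 = 0 ∧ g.w2 = 0 ∧ g.c = 0 ∧ g.y = 0 ∧ g.d = 0}
  one_mem' := ⟨star_zero K, rfl, rfl, rfl, rfl, rfl⟩
  mul_mem' := by
    rintro g g' ⟨a0, a1, a2, a3, a4, a5⟩ ⟨b0, b1, b2, b3, b4, b5⟩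
    refine ⟨?_, ?_, ?_, ?_, ?_, ?_⟩ <;>
      simp [mul_w1, mul_w2, mul_w3, mul_c, mul_y, mul_d, a0, a1, a2, a3, a4, a5, b0, b1, b2, b3, b4, b5]
  inv_mem' := by
    rintro g ⟨a0, a1, a2, a3, a4, a5⟩
    refine ⟨?_, ?_, ?_, ?_, ?_, ?_⟩ <;>
      simp [inv_w1, inv_w2, inv_w3, inv_c, inv_y, inv_d, a0, a1, a2, a3, a4, a5]

variable {K}

/-- the element `(0, m, 0; c; 0; 0)` -/
def ccE (m c : K) (h : c + star c = m * star m) : T5 K := ⟨0, m, 0, c, 0, 0, by simpa using h, by simp⟩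

/-- the element `(0, 0, 0; 0; y; d)` -/
def ddE (y d : K) (h : d + star d = y * star y) : T5 K := ⟨0, 0, 0, 0, y, d, by simp, h⟩

theorem c2_ok (g : T5 K) : (g.c + g.w1 * star g.w3) + star (g.c + g.w1 * star g.w3) = g.w2 * star g.w2 := by
  have h := g.hc
  simp only [star_add, star_mul', star_star]
  linear_combination h + (g.w1 * star g.w3 + g.w3 * star g.w1) * two0 (K := K)

theorem decomp (g : T5 K) : g = e1 g.w1 * ccE g.w2 (g.c + g.w1 * star g.w3) (c2_ok g) * em g.w3 *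
    ddE g.y g.d g.hd := by
  ext
  · simp [mul_w1, T5.e1, ccE, T5.em, ddE]
  · simp [mul_w1, mul_w2, mul_y, T5.e1, ccE, T5.em, ddE]
  · simp [mul_w1, mul_w2, mul_w3, mul_y, mul_d, T5.e1, ccE, T5.em, ddE]
  · simp only [mul_w1, mul_w2, mul_w3, mul_y, mul_d, mul_c, T5.e1, ccE, T5.em, ddE]
    simp only [star_zero, mul_zero, zero_mul, add_zero, zero_add]
    linear_combination (-(g.w1 * star g.w3)) * two0 (K := K)
  · simp [mul_y, T5.e1, ccE, T5.em, ddE]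
  · simp [mul_y, mul_d, T5.e1, ccE, T5.em, ddE]

/-- the action of `T` on `W` -/
def actW (u : K) (w : T5 K) (hw : w ∈ Wm K) : T5 K where
  w1 := 0
  w2 := 0
  w3 := w.w3 + w.d * u
  c := w.c + (u * star w.w3 + w.w3 * star u) + w.d * (u * star u)
  y := 0
  d := w.d
  hc := by
    have h := w.hc
    have hd := w.hd
    obtain ⟨a1, a2, a3⟩ := hw
    rw [a1, a2] at h
    rw [a3] at hd
    simp only [star_add, star_mul', star_star, star_zero, mul_zero, zero_mul, add_zero, zero_add] at h hd ⊢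
    linear_combination h + u * star u * hd + (u * star w.w3 + w.w3 * star u) * two0 (K := K)
  hd := by
    have hd := w.hd
    obtain ⟨a1, a2, a3⟩ := hw
    rw [a3] at hd
    exact hd

theorem actW_mem (u : K) (w : T5 K) (hw : w ∈ Wm K) : actW u w hw ∈ Wm K := ⟨rfl, rfl, rfl⟩

theorem conj_W (x : T5 K) {w : T5 K} (hw : w ∈ Wm K) : x * w * x⁻¹ = actW x.w1 w hw := by
  rw [mul_inv_eq_iff_eq_mul]
  have hwd := (w.hd)
  obtain ⟨a1, a2, a3⟩ := hw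
  rw [a3] at hwd
  ext
  · simp only [mul_w1, actW, a1]; ring
  · simp only [mul_w1, mul_w2, mul_y, actW, a1, a2]; ring
  · simp only [mul_w1, mul_w2, mul_w3, mul_y, mul_d, actW, a1, a2, star_zero]
    linear_combination (-(w.d * x.w1)) * two0 (K := K)
  · simp only [mul_w1, mul_w2, mul_w3, mul_y, mul_d, mul_c, actW, a1, a2, star_add, star_mul', star_star, star_zero,
      mul_zero, zero_mul, add_zero, zero_add]
    linear_combination (-(w.w3 * star x.w1) - w.d * x.w1 * star x.w1) * two0 (K := K)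
  · simp only [mul_y, actW, a3]; ring
  · simp only [mul_d, mul_y, actW, a3, star_zero, mul_zero, zero_mul, add_zero]; ring

end model

namespace Env

variable {K : Type*} [Field K] [StarRing K] [CharP K 2] {G : Type*} [Group G] (V : Env K G)

/-- `T` -/
def T : Subgroup G := V.f.range
/-- `W` -/
def W : Subgroup G := (Wm K).map V.f
/-- `Q` -/
def Q : Subgroup G := (Qm K).map V.f
/-- `Z` -/
def Z : Subgroup G := (Zm K).map V.f
/-- `R` -/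
def R : Subgroup G := (Rm K).map V.f
/-- the rank one elements -/
def S : Set G := V.f '' Sm K
/-- `X^_a` -/
def X0 : Subgroup G := (X0m K).map V.f
/-- `X^_{2a+b}` -/
def X1 : Subgroup G := (X1m K).map V.f
/-- `X^_{a+b}` -/
def X2 : Subgroup G := (X2m K).map V.f
/-- `X^_b` -/
def X3 : Subgroup G := (X3m K).map V.f
/-- `X_b` -/
def Xb : Subgroup G := (Xbm K).map V.f
/-- `X_a` -/
def Xa : Subgroup G := (Xam K).map V.f
/-- `X_{a+b}` -/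
def Xab : Subgroup G := (Xabm K).map V.f
/-- `X^_{-a}` -/
def X4 : Subgroup G := cjS V.na V.X0
/-- `X^_{-b}` -/
def X7 : Subgroup G := cjS V.nb V.X3
/-- `⟨X^_a, X^_{-a}⟩` -/
def Ka : Subgroup G := V.X0 ⊔ V.X4
/-- `⟨X^_b, X^_{-b}⟩` -/
def Kb : Subgroup G := V.X3 ⊔ V.X7
/-- `L_b` -/
def Lb : Subgroup G := V.Xb ⊔ cjS V.nb V.Xb
/-- `P = C_A(Z)^∞` -/
def P : Subgroup G := V.Xa ⊔ V.Xab ⊔ V.Z ⊔ V.Lb

theorem f_T (x : T5 K) : V.f x ∈ V.T := ⟨x, rfl⟩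

theorem f_mem {A : Subgroup (T5 K)} {x : T5 K} : V.f x ∈ A.map V.f ↔ x ∈ A := ModelMap.mem_map_inj V.inj

theorem f_W {x : T5 K} : V.f x ∈ V.W ↔ x ∈ Wm K := V.f_mem
theorem f_Q {x : T5 K} : V.f x ∈ V.Q ↔ x ∈ Qm K := V.f_mem
theorem f_Z {x : T5 K} : V.f x ∈ V.Z ↔ x ∈ Zm K := V.f_mem
theorem f_R {x : T5 K} : V.f x ∈ V.R ↔ x ∈ Rm K := V.f_mem
theorem f_X0 {x : T5 K} : V.f x ∈ V.X0 ↔ x ∈ X0m K := V.f_mem
theorem f_X1 {x : T5 K} : V.f x ∈ V.X1 ↔ x ∈ X1m K := V.f_mem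
theorem f_X2 {x : T5 K} : V.f x ∈ V.X2 ↔ x ∈ X2m K := V.f_mem
theorem f_X3 {x : T5 K} : V.f x ∈ V.X3 ↔ x ∈ X3m K := V.f_mem
theorem f_Xb {x : T5 K} : V.f x ∈ V.Xb ↔ x ∈ Xbm K := V.f_mem
theorem f_Xa {x : T5 K} : V.f x ∈ V.Xa ↔ x ∈ Xam K := V.f_mem
theorem f_Xab {x : T5 K} : V.f x ∈ V.Xab ↔ x ∈ Xabm K := V.f_mem
theorem f_S {x : T5 K} : V.f x ∈ V.S ↔ x ∈ Sm K := ModelMap.mem_image_inj V.inj

theorem map_le_T (A : Subgroup (T5 K)) : A.map V.f ≤ V.T := by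
  rintro _ ⟨x, -, rfl⟩
  exact V.f_T x

theorem W_le : V.W ≤ V.T := V.map_le_T _
theorem Q_le : V.Q ≤ V.T := V.map_le_T _
theorem Z_le : V.Z ≤ V.T := V.map_le_T _
theorem R_le : V.R ≤ V.T := V.map_le_T _
theorem X0_le : V.X0 ≤ V.T := V.map_le_T _
theorem X1_le : V.X1 ≤ V.T := V.map_le_T _
theorem X2_le : V.X2 ≤ V.T := V.map_le_T _
theorem X3_le : V.X3 ≤ V.T := V.map_le_T _
theorem Xb_le : V.Xb ≤ V.T := V.map_le_T _
theorem Z_le_W : V.Z ≤ V.W := Subgroup.map_mono Zm_le_Wm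
theorem Z_le_Q : V.Z ≤ V.Q := Subgroup.map_mono Zm_le_Qm
theorem Xb_le_X3 : V.Xb ≤ V.X3 := Subgroup.map_mono fun _ h => ⟨h.1, h.2.1, h.2.2.1, h.2.2.2.1⟩

theorem cg_f (x y : T5 K) : cg (V.f x) (V.f y) = V.f (x * y * x⁻¹) := by
  rw [cg, map_mul, map_mul, map_inv]

theorem a_w (x : T5 K) {w : T5 K} (hw : w ∈ Wm K) : cg (V.f x) (V.f w) = V.f (actW x.w1 w hw) := by
  rw [cg_f, conj_W x hw]

theorem na_inv : V.na⁻¹ = V.na := inv_eq_of_mul_eq_one_left V.na_na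
theorem nb_inv : V.nb⁻¹ = V.nb := inv_eq_of_mul_eq_one_left V.nb_nb
theorem t_inv : V.t⁻¹ = V.t := inv_eq_of_mul_eq_one_left V.tt
theorem cg_na_na (x : G) : cg V.na (cg V.na x) = x := by rw [← cg_comp, V.na_na]; simp [cg]
theorem cg_nb_nb (x : G) : cg V.nb (cg V.nb x) = x := by rw [← cg_comp, V.nb_nb]; simp [cg]

theorem cg_cg (g x y : G) : cg (cg g x) y = cg g (cg x (cg g⁻¹ y)) := by simp only [cg]; group

theorem swR_W {w : T5 K} (hw : w ∈ Wm K) : swR w hw.1 ∈ Wm K := ⟨rfl, hw.2.2, hw.2.1⟩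

theorem na_w {w : T5 K} (hw : w ∈ Wm K) : cg V.na (V.f w) = V.f (swR w hw.1) := V.na_r w hw.1

theorem T_two [Finite K] (hs : ∃ x : K, star x ≠ x) (hq : ∃ k, Nat.card (Fx K) = 2 ^ k) : IsPGroup 2 V.T := by
  obtain ⟨k, hk⟩ := hq
  apply IsPGroup.of_card (n := k * 10)
  rw [T, ModelMap.card_range V.inj, card_T hs, hk, ← pow_mul]

theorem T_normal_W (x : G) (hx : x ∈ V.T) (w : G) (hw : w ∈ V.W) : cg x w ∈ V.W := by
  obtain ⟨x, rfl⟩ := hx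
  obtain ⟨w, hw, rfl⟩ := hw
  rw [V.a_w x hw]
  exact V.f_W.2 (actW_mem _ _ _)

/-! ### `Ka` -/

theorem e1_X0 (x : K) : V.f (e1 x) ∈ V.X0 := V.f_X0.2 ⟨rfl, rfl, rfl, rfl, rfl⟩
theorem em_X2 (x : K) : V.f (em x) ∈ V.X2 := V.f_X2.2 ⟨rfl, rfl, rfl, rfl, rfl⟩

theorem na_mem : V.na ∈ V.Ka := by
  have h1 := V.e1_X0 1
  rw [V.na_eq]
  exact mul_mem (mul_mem (mem_sup_left h1) (mem_sup_right ⟨_, h1, rfl⟩)) (mem_sup_left h1)

theorem oned_Xb : V.f oned ∈ V.Xb := V.f_Xb.2 ⟨rfl, rfl, rfl, rfl, rfl⟩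

theorem nb_mem_Lb : V.nb ∈ V.Lb := by
  have h1 := V.oned_Xb
  rw [V.nb_eq]
  exact mul_mem (mul_mem (mem_sup_left h1) (mem_sup_right ⟨_, h1, rfl⟩)) (mem_sup_left h1)

theorem Lb_le_Kb : V.Lb ≤ V.Kb := sup_le_sup V.Xb_le_X3 (cjS_mono V.Xb_le_X3)

theorem nb_mem : V.nb ∈ V.Kb := V.Lb_le_Kb V.nb_mem_Lb

/-- a subgroup containing `X 0` and `na` contains `Ka` -/
theorem Ka_le_of {H : Subgroup G} (h0 : V.X0 ≤ H) (hn : V.na ∈ H) : V.Ka ≤ H := by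
  refine sup_le h0 ?_
  rintro _ ⟨x, hx, rfl⟩
  exact mul_mem (mul_mem hn (h0 hx)) (inv_mem hn)

theorem Kb_le_of {H : Subgroup G} (h0 : V.X3 ≤ H) (hn : V.nb ∈ H) : V.Kb ≤ H := by
  refine sup_le h0 ?_
  rintro _ ⟨x, hx, rfl⟩
  exact mul_mem (mul_mem hn (h0 hx)) (inv_mem hn)

theorem Lb_le_of {H : Subgroup G} (h0 : V.Xb ≤ H) (hn : V.nb ∈ H) : V.Lb ≤ H := by
  refine sup_le h0 ?_
  rintro _ ⟨x, hx, rfl⟩
  exact mul_mem (mul_mem hn (h0 hx)) (inv_mem hn)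

/-- `k` preserves `W` and the determinant -/
def Dt (k : G) : Prop := ∀ w ∈ Wm K, ∃ w' ∈ Wm K, cg k (V.f w) = V.f w' ∧
  w'.c * w'.d + w'.w3 * star w'.w3 = w.c * w.d + w.w3 * star w.w3

/-- the stabiliser of the determinant -/
def dStab : Subgroup G where
  carrier := {k | V.Dt k ∧ V.Dt k⁻¹}
  mul_mem' := by
    have key : ∀ k k', V.Dt k → V.Dt k' → V.Dt (k * k') := by
      intro k k' h h' w hw
      obtain ⟨w1, hw1, e1, d1⟩ := h' w hw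
      obtain ⟨w2, hw2, e2, d2⟩ := h w1 hw1
      exact ⟨w2, hw2, by rw [cg_comp, e1, e2], d2.trans d1⟩
    rintro k k' ⟨h1, h2⟩ ⟨h3, h4⟩
    exact ⟨key _ _ h1 h3, by rw [mul_inv_rev]; exact key _ _ h4 h2⟩
  one_mem' := by
    have : V.Dt 1 := fun w hw => ⟨w, hw, by simp [cg], rfl⟩
    exact ⟨this, by rw [inv_one]; exact this⟩
  inv_mem' := by
    rintro k ⟨h1, h2⟩
    exact ⟨h2, by rwa [inv_inv]⟩

theorem Dt_T (x : T5 K) : V.Dt (V.f x) := by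
  intro w hw
  refine ⟨actW x.w1 w hw, actW_mem _ _ _, V.a_w x hw, ?_⟩
  have hd := w.hd
  rw [hw.2.2] at hd
  have hd' : star w.d = w.d := by
    rw [zero_mul] at hd
    exact (CharTwo.add_eq_zero.1 hd).symm
  simp only [actW, star_add, star_mul', hd']
  linear_combination (w.d * x.w1 * star w.w3 + w.d * w.w3 * star x.w1 + w.d ^ 2 * x.w1 * star x.w1) * two0 (K := K)

theorem Dt_na : V.Dt V.na := by
  intro w hw
  refine ⟨_, swR_W hw, V.na_w hw, ?_⟩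
  have hd := w.hd
  rw [hw.2.2] at hd
  have hd' : star w.d = w.d := by
    rw [zero_mul] at hd
    exact (CharTwo.add_eq_zero.1 hd).symm
  have hc := w.hc
  rw [hw.1, hw.2.1] at hc
  have hc' : star w.c = w.c := by
    simp only [star_zero, zero_mul, mul_zero, add_zero] at hc
    exact (CharTwo.add_eq_zero.1 hc).symm
  simp only [swR, hw.2.1, star_zero, zero_mul, add_zero, star_star, hd', hc']
  ring

theorem Ka_le_dStab : V.Ka ≤ V.dStab := by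
  apply V.Ka_le_of
  · rintro _ ⟨x, hx, rfl⟩
    exact ⟨V.Dt_T x, by rw [← map_inv]; exact V.Dt_T _⟩
  · exact ⟨V.Dt_na, by rw [V.na_inv]; exact V.Dt_na⟩

theorem Ka_W' {k : G} (hk : k ∈ V.Ka) {w : G} (hw : w ∈ V.W) : cg k w ∈ V.W := by
  obtain ⟨w, hw, rfl⟩ := hw
  obtain ⟨w', hw', e, -⟩ := (V.Ka_le_dStab hk).1 w hw
  rw [e]
  exact V.f_W.2 hw'

/-- `h 1 γ` centralises `Ka` -/
theorem h_Ka {γ : K} (hγ : γ ∈ Fx K) (h0 : γ ≠ 0) {k : G} (hk : k ∈ V.Ka) : V.h 1 γ * k = k * V.h 1 γ := by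
  have h1F : (1 : K) ∈ Fx K := star_one K
  have : V.Ka ≤ centralizer ({V.h 1 γ} : Set G) := by
    apply V.Ka_le_of
    · rintro _ ⟨x, ⟨a1, a2, a3, a4, a5⟩, rfl⟩
      rw [mem_centralizer_singleton_iff]
      have h1 := V.h_f 1 γ h1F hγ one_ne_zero h0 x
      have h2 : dia 1 γ h1F hγ x = x := by
        ext <;> simp [dia, a1, a2, a3, a4, a5]
      rw [h2] at h1
      exact (comm_of_cg h1).symm
    · rw [mem_centralizer_singleton_iff]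
      obtain ⟨k, hk, this⟩ := V.na_h 1 γ h1F hγ one_ne_zero h0
      rw [inv_one, one_mul] at this
      have h1 : V.h 1 γ * (k * k) = V.h 1 γ := by
        calc V.h 1 γ * (k * k) = V.h 1 γ * (V.na * V.na) * (k * k) := by rw [V.na_na, mul_one]
          _ = (V.h 1 γ * V.na * (V.na * k)) * k := by group
          _ = (V.h 1 γ * V.na * (k * V.na)) * k := by rw [V.Cn_na k hk]
          _ = (V.h 1 γ * V.na * k) * V.na * k := by group
          _ = (V.na * V.h 1 γ) * V.na * k := by rw [← this]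
          _ = V.na * (V.h 1 γ * V.na * k) := by group
          _ = V.na * (V.na * V.h 1 γ) := by rw [← this]
          _ = (V.na * V.na) * V.h 1 γ := by group
          _ = V.h 1 γ := by rw [V.na_na, one_mul]
      have h2 : k = 1 := V.Cn_odd k hk (mul_eq_left.1 h1)
      rw [h2, mul_one] at this
      exact this
  exact (mem_centralizer_singleton_iff.1 (this hk)).symm

theorem Ka_TI' [Finite K] {k : G} (hk : k ∈ V.Ka) {z : G} (hz : z ∈ V.Z) (hz1 : z ≠ 1) (h : cg k z ∈ V.Z) {z' : G}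
    (hz' : z' ∈ V.Z) : cg k z' ∈ V.Z := by
  have h1F : (1 : K) ∈ Fx K := star_one K
  obtain ⟨x, hx, rfl⟩ := hz
  obtain ⟨x', hx', rfl⟩ := hz'
  obtain ⟨hc, e⟩ := eq_ec hx
  obtain ⟨hc', e'⟩ := eq_ec hx'
  by_cases h0' : x'.c = 0
  · have : x' = 1 := Zm_c hx' (one_mem _) h0'
    rw [this, map_one, cg_one]
    exact one_mem _
  · have h0 : x.c ≠ 0 := by
      intro h0
      apply hz1
      have : x = 1 := Zm_c hx (one_mem _) h0
      rw [this, map_one]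
    obtain ⟨γ, hγ, hγγ⟩ := exists_sqrt (mul_mem_Fx hc' (inv_mem_Fx hc))
    have hγ0 : γ ≠ 0 := by
      rintro rfl
      rw [zero_mul, eq_comm] at hγγ
      exact mul_ne_zero h0' (inv_ne_zero h0) hγγ
    have h1 := V.h_f 1 γ h1F hγ one_ne_zero hγ0 x
    have h2 : dia 1 γ h1F hγ x = x' := by
      apply Zm_c _ hx'
      · show (1 : K) ^ 2 * γ ^ 2 * x.c = x'.c
        rw [one_pow, one_mul, pow_two, hγγ, mul_assoc, inv_mul_cancel₀ h0, mul_one]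
      · obtain ⟨a1, a2, a3, a4, a5⟩ := hx
        exact ⟨by simp [dia, a1], by simp [dia, a2], by simp [dia, a3], by simp [dia, a4], by simp [dia, a5]⟩
    rw [h2] at h1
    rw [← h1, ← cg_comp, ← V.h_Ka hγ hγ0 hk, cg_comp]
    obtain ⟨x2, hx2, e2⟩ := h
    rw [← e2, V.h_f 1 γ h1F hγ one_ne_zero hγ0]
    obtain ⟨a1, a2, a3, a4, a5⟩ := hx2
    exact V.f_Z.2 ⟨by simp [dia, a1], by simp [dia, a2], by simp [dia, a3], by simp [dia, a4], by simp [dia, a5]⟩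

theorem S_iff' (x : G) : x ∈ V.S ↔ ∃ k ∈ V.Ka, ∃ z ∈ V.Z, z ≠ 1 ∧ x = cg k z := by
  constructor
  · rintro ⟨w, ⟨hw, h1, h2⟩, rfl⟩
    have hdF : star w.d = w.d := by
      have hd := w.hd
      rw [hw.2.2, zero_mul] at hd
      exact (CharTwo.add_eq_zero.1 hd).symm
    by_cases hd : w.d = 0
    · refine ⟨1, one_mem _, V.f w, V.f_Z.2 ?_, ?_, by simp [cg]⟩
      · exact Sm_Qm ⟨hw, h1, h2⟩ ⟨hw.2.2, hd⟩
      · intro h
        exact h2 (V.inj (h.trans (map_one V.f).symm))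
    · have hz := ec_mem w.d hdF
      refine ⟨V.f (e1 (w.w3 / w.d)) * V.na, mul_mem (mem_sup_left (V.e1_X0 _)) V.na_mem, V.f (ec w.d hdF),
        V.f_Z.2 hz, ?_, ?_⟩
      · intro h
        exact hd (congrArg T5.c (V.inj (h.trans (map_one V.f).symm)))
      · rw [cg_comp, V.na_w (Zm_le_Wm hz), V.a_w _ (swR_W (Zm_le_Wm hz))]
        congr 1
        apply Wm_ext hw (actW_mem _ _ _)
        · show w.w3 = (star (0 : K) + star (0 : K) * 0) + star w.d * (w.w3 / w.d)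
          rw [hdF]
          field_simp
          simp
        · show w.c = star (0 : K) + ((w.w3 / w.d) * star (star (0 : K) + star (0 : K) * 0) +
            (star (0 : K) + star (0 : K) * 0) * star (w.w3 / w.d)) + star w.d * ((w.w3 / w.d) * star (w.w3 / w.d))
          rw [hdF, star_div₀, hdF]
          simp only [star_zero, zero_mul, mul_zero, add_zero, zero_add]
          field_simp
          linear_combination h1
        · exact hdF.symm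
  · rintro ⟨k, hk, z, ⟨w, hw, rfl⟩, hz1, rfl⟩
    obtain ⟨w', hw', e, e'⟩ := (V.Ka_le_dStab hk).1 w (Zm_le_Wm hw)
    rw [e]
    refine V.f_S.2 ⟨hw', ?_, ?_⟩
    · rw [hw.2.2.1, hw.2.2.2.2, mul_zero, star_zero, mul_zero, add_zero] at e'
      exact CharTwo.add_eq_zero.1 e'
    · intro h
      rw [h, map_one] at e
      exact hz1 (cg_inj (g := k) (e.trans (cg_one k).symm))

theorem S_Ka {k : G} (hk : k ∈ V.Ka) {x : G} (hx : x ∈ V.S) : cg k x ∈ V.S := by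
  obtain ⟨k', hk', z, hz, hz1, rfl⟩ := (V.S_iff' x).1 hx
  exact (V.S_iff' _).2 ⟨k * k', mul_mem hk hk', z, hz, hz1, (cg_comp k k' z).symm⟩

end Env

end Cfsg.Agent.StdSpFour.UFive
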