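import Cfsg.Agent.StdSpFour.UFiveRel

/-!
# S1778, type Sp₄(q), target U₅(q): perfectness, irreducibility, the torus of `Ka`
-/

set_option autoImplicit false
set_option linter.unusedSectionVars false
set_option linter.unusedSimpArgs false
set_option linter.unusedVariables false

namespace Cfsg.Agent.StdSpFour.UFive

open Cfsg.Agent.StdSpFour.UFiveModel Cfsg.Agent.StdSpFour.UFiveModel.T5 Cfsg.Agent.StdSpFour.StarField Subgroup
open Cfsg.Agent.StdSpFour.UFour (cg cg_mul cg_one cg_inv cg_comp cg_inv_cg cg_cg_inv cg_inj cg_eq_self comm_of_cg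
  mem_norm exists_norm)
open Cfsg.Agent.StdSpFour.RootEight (cjS mem_cjS cjS_mul cjS_mono cjS_sup cjS_eq_of_comm)

section model

variable {K : Type*} [Field K] [StarRing K] [CharP K 2] [Finite K]

/-- commutators with elements of `Q` -/
theorem comm_Qm' (n : T5 K) {v : T5 K} (hv : v ∈ Qm K) : n * v * n⁻¹ * v⁻¹ ∈ Qm K ∧ (n * v * n⁻¹ * v⁻¹).w1 = 0 ∧
    (n * v * n⁻¹ * v⁻¹).w2 = n.y * v.w1 ∧ (n * v * n⁻¹ * v⁻¹).w3 = star n.y * v.w2 + n.d * v.w1 := by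
  obtain ⟨h0, h1, h2, h3⟩ := conj_Qm n hv
  have hQ : n * v * n⁻¹ * v⁻¹ ∈ Qm K := mul_mem h0 (inv_mem hv)
  have e : n * v * n⁻¹ * v⁻¹ * v = n * v * n⁻¹ := by group
  generalize n * v * n⁻¹ * v⁻¹ = u at hQ e ⊢
  obtain ⟨a4, a5⟩ := hQ
  have a1 := congrArg T5.w1 e
  have a2 := congrArg T5.w2 e
  have a3 := congrArg T5.w3 e
  rw [mul_w1, h1] at a1
  rw [mul_w2, a4, h2] at a2
  rw [mul_w3, a4, a5, h3] at a3
  simp only [star_zero, zero_mul, add_zero] at a2 a3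
  refine ⟨⟨a4, a5⟩, ?_, ?_, ?_⟩
  · linear_combination a1
  · linear_combination a2
  · linear_combination a3

theorem eq_wEl {w : T5 K} (hw : w ∈ Wm K) : ∃ hc hd, w = wEl w.w3 w.c w.d hc hd :=
  ⟨(Wm_c hw).1, (Wm_c hw).2, Wm_ext hw (wEl_mem _ _ _ _ _) rfl rfl rfl⟩

theorem wEl_congr {m c d m' c' d' : K} {hc : c ∈ Fx K} {hd : d ∈ Fx K} {hc' : c' ∈ Fx K} {hd' : d' ∈ Fx K}
    (h1 : m = m') (h2 : c = c') (h3 : d = d') : wEl m c d hc hd = wEl m' c' d' hc' hd' := by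
  subst h1 h2 h3
  rfl

theorem nF (x : K) : x * star x ∈ Fx K := by rw [mem_Fx, star_mul', star_star, mul_comm]

theorem trF (u m : K) : u * star m + m * star u ∈ Fx K := by
  rw [mem_Fx, star_add, star_mul', star_mul', star_star, star_star]; ring

theorem actF {c d : K} (hc : c ∈ Fx K) (hd : d ∈ Fx K) (m u : K) :
    c + (u * star m + m * star u) + d * (u * star u) ∈ Fx K :=
  add_mem (add_mem hc (trF u m)) (mul_mem_Fx hd (nF u))

end model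

namespace Env

variable {K : Type*} [Field K] [StarRing K] [CharP K 2] [Finite K] {G : Type*} [Group G] (V : Env K G)

theorem na_wEl (m c d : K) (hc : c ∈ Fx K) (hd : d ∈ Fx K) : cg V.na (V.f (wEl m c d hc hd)) =
    V.f (wEl (star m) d c hd hc) := by
  rw [V.na_w (wEl_mem _ _ _ _ _)]
  congr 1
  apply Wm_ext (swR_W (wEl_mem _ _ _ _ _)) (wEl_mem _ _ _ _ _)
  · simp [swR, wEl]
  · simp only [swR, wEl]; exact hd
  · simp only [swR, wEl]; exact hc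

theorem a_wEl (x : T5 K) (m c d : K) (hc : c ∈ Fx K) (hd : d ∈ Fx K) : cg (V.f x) (V.f (wEl m c d hc hd)) =
    V.f (wEl (m + d * x.w1) (c + (x.w1 * star m + m * star x.w1) + d * (x.w1 * star x.w1)) d
      (actF hc hd m x.w1) hd) := by
  rw [V.a_w x (wEl_mem _ _ _ _ _)]
  congr 1

/-- the element of the torus of `Ka` -/
def g0 (l : K) : G := V.f (e1 l) * cg V.na (V.f (e1 l⁻¹)) * V.f (e1 l) * V.na

theorem g0_mem (l : K) : V.g0 l ∈ V.Ka :=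
  mul_mem (mul_mem (mul_mem (mem_sup_left (V.e1_X0 _)) (mem_sup_right ⟨_, V.e1_X0 _, rfl⟩))
    (mem_sup_left (V.e1_X0 _))) V.na_mem

theorem g0_w {l : K} (hl : l ≠ 0) (m c d : K) (hc : c ∈ Fx K) (hd : d ∈ Fx K) :
    cg (V.g0 l) (V.f (wEl m c d hc hd)) =
    V.f (wEl (l * (star l)⁻¹ * m) (l * star l * c) ((l * star l)⁻¹ * d) (mul_mem_Fx (nF l) hc)
      (mul_mem_Fx (invF (nF l)) hd)) := by
  have hc' : star c = c := hc
  have hd' : star d = d := hd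
  have hl' : star l ≠ 0 := fun h => hl (star_eq_zero.1 h)
  rw [g0, cg_comp, cg_comp, cg_comp, V.na_wEl, V.a_wEl, cg_cg, V.na_inv, V.na_wEl, V.a_wEl, V.na_wEl, V.a_wEl]
  congr 1
  apply wEl_congr
  · simp only [e1, star_add, star_mul', star_star, star_inv₀, hc', hd']
    field_simp
    linear_combination (2 * star m * star l + 3 * c * l * star l + l * m + d) * two0 (K := K)
  · simp only [e1, star_add, star_mul', star_star, star_inv₀, hc', hd']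
    field_simp
    linear_combination (2 * d + 3 * l * m + 4 * l * star l * c + 3 * star m * star l) * two0 (K := K)
  · simp only [e1, star_add, star_mul', star_star, star_inv₀, hc', hd']
    field_simp
    linear_combination (2 * c * l * star l + l * m + star l * star m) * two0 (K := K)


/-- the element of the torus acts on `a(u)` by `u ↦ l² u` -/
theorem g0_a {l : K} (hl : l ≠ 0) {g : G}
    (hg : ∀ (m c d : K) (hc : c ∈ Fx K) (hd : d ∈ Fx K), cg g (V.f (wEl m c d hc hd)) =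
    V.f (wEl (l * (star l)⁻¹ * m) (l * star l * c) ((l * star l)⁻¹ * d) (mul_mem_Fx (nF l) hc)
      (mul_mem_Fx (invF (nF l)) hd))) (x : T5 K) (m c d : K) (hc : c ∈ Fx K) (hd : d ∈ Fx K) :
    cg (cg g (V.f x)) (cg g (V.f (wEl m c d hc hd))) =
      cg (V.f (e1 (l * l * x.w1))) (cg g (V.f (wEl m c d hc hd))) := by
  have hl' : star l ≠ 0 := fun h => hl (star_eq_zero.1 h)
  rw [cg_cg, cg_inv_cg, V.a_wEl, hg, hg, V.a_wEl]
  congr 1
  apply wEl_congr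
  · simp only [e1]
    field_simp
  · simp only [e1, star_mul', star_star, star_inv₀]
    field_simp
  · rfl

/-- the torus of `Ka`, normalising `T` -/
theorem exists_torus [Finite G] (hs : ∃ x : K, star x ≠ x) (hq : ∃ k, Nat.card (Fx K) = 2 ^ k) {E : Subgroup G}
    (hTE : V.T ≤ E) (syl : ¬ 2 ∣ V.T.relIndex E) (hna : V.na ∈ E) {l : K} (hl : l ≠ 0) :
    ∃ g ∈ E, (∀ x ∈ V.T, cg g x ∈ V.T) ∧ ∀ (m c d : K) (hc : c ∈ Fx K) (hd : d ∈ Fx K),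
      cg g (V.f (wEl m c d hc hd)) = V.f (wEl (l * (star l)⁻¹ * m) (l * star l * c) ((l * star l)⁻¹ * d)
        (mul_mem_Fx (nF l) hc) (mul_mem_Fx (invF (nF l)) hd)) := by
  have hKaE : V.Ka ≤ E := V.Ka_le_of (V.X0_le.trans hTE) hna
  have hg := V.g0_mem l
  obtain ⟨k, hk, hk1, hk2⟩ := exists_norm (V.T_two hs hq) hTE syl V.T_normal_W (hKaE hg) (by
    rintro _ ⟨x, rfl⟩
    refine ⟨V.f (e1 (l * l * x.w1)), V.f_T _, fun w hw => ?_⟩
    have h1 : cg (V.g0 l)⁻¹ w ∈ V.W := V.Ka_W' (inv_mem hg) hw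
    obtain ⟨w0, hw0, e⟩ := h1
    obtain ⟨hc, hd, e0⟩ := eq_wEl hw0
    rw [e0] at e
    have e2 : w = cg (V.g0 l) (V.f (wEl w0.w3 w0.c w0.d hc hd)) := by rw [e, cg_cg_inv]
    rw [e2]
    exact V.g0_a hl (V.g0_w hl) x _ _ _ _ _)
  refine ⟨k * V.g0 l, mul_mem hk (hKaE hg), hk2, fun m c d hc hd => ?_⟩
  rw [cg_comp, V.g0_w hl, hk1]
  exact V.f_W.2 (wEl_mem _ _ _ _ _)

theorem torus_T {l : K} (hl : l ≠ 0) {g : G} (hT : ∀ x ∈ V.T, cg g x ∈ V.T)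
    (hg : ∀ (m c d : K) (hc : c ∈ Fx K) (hd : d ∈ Fx K), cg g (V.f (wEl m c d hc hd)) =
    V.f (wEl (l * (star l)⁻¹ * m) (l * star l * c) ((l * star l)⁻¹ * d) (mul_mem_Fx (nF l) hc)
      (mul_mem_Fx (invF (nF l)) hd))) (x : T5 K) : ∃ z : T5 K, cg g (V.f x) = V.f z ∧ z.w1 = l * l * x.w1 := by
  have hl' : star l ≠ 0 := fun h => hl (star_eq_zero.1 h)
  obtain ⟨z, hz⟩ := hT _ (V.f_T x)
  refine ⟨z, hz.symm, ?_⟩
  have h1F : (1 : K) ∈ Fx K := star_one K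
  have h1 := V.g0_a hl hg x 0 0 1 (zero_mem _) h1F
  rw [← hz, hg, V.a_wEl, V.a_wEl] at h1
  have h2 := congrArg T5.w3 (V.inj h1)
  simp only [wEl, e1] at h2
  field_simp at h2
  linear_combination h2

/-! ### transitivity of the torus -/

theorem trans' [Finite G] (hs : ∃ x : K, star x ≠ x) (hq : ∃ k, Nat.card (Fx K) = 2 ^ k) {E : Subgroup G}
    (hTE : V.T ≤ E) (syl : ¬ 2 ∣ V.T.relIndex E) (hna : V.na ∈ E) {x : G} (hx : x ∈ V.T)
    (hx' : ∃ w ∈ V.W, x * w ≠ w * x) {y : G} (hy : y ∈ V.T) (hy' : ∃ w ∈ V.W, y * w ≠ w * y) :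
    ∃ h ∈ E, (∀ s ∈ V.T, h * s * h⁻¹ ∈ V.T) ∧ ∀ w ∈ V.W, (h * x * h⁻¹ * y⁻¹) * w = w * (h * x * h⁻¹ * y⁻¹) := by
  obtain ⟨x, rfl⟩ := hx
  obtain ⟨y, rfl⟩ := hy
  have hne : ∀ z : T5 K, (∃ w ∈ V.W, V.f z * w ≠ w * V.f z) → z.w1 ≠ 0 := by
    rintro z ⟨_, ⟨w, hw, rfl⟩, hne⟩ h0
    apply hne
    rw [← map_mul, ← map_mul, R_comm_W h0 hw]
  have h1 := hne x hx'
  have h2 := hne y hy'
  obtain ⟨l, hl⟩ : ∃ l : K, l * l = y.w1 / x.w1 := by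
    have hinj : Function.Injective (fun a : K => a * a) := fun a b h => sq_inj h
    exact (Finite.injective_iff_surjective.1 hinj) _
  have hl0 : l ≠ 0 := by
    rintro rfl
    rw [zero_mul, eq_comm] at hl
    exact div_ne_zero h2 h1 hl
  obtain ⟨g, hg, hgT, hgW⟩ := V.exists_torus hs hq hTE syl hna hl0
  refine ⟨g, hg, hgT, ?_⟩
  obtain ⟨z, hz, hz1⟩ := V.torus_T hl0 hgT hgW x
  rw [hl, div_mul_cancel₀ _ h1] at hz1
  have e3 : g * V.f x * g⁻¹ = V.f z := hz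
  rintro _ ⟨w, hw, rfl⟩
  rw [e3, ← map_inv, ← map_mul, ← map_mul, ← map_mul]
  congr 1
  apply R_comm_W _ hw
  rw [mul_w1, inv_w1, hz1]
  exact CharTwo.add_self_eq_zero _


/-! ### generation -/

/-- `Z` does not matter -/
theorem mem_of_Z {H : Subgroup G} (hZ : V.Z ≤ H) {a b : T5 K} (hb : V.f b ∈ H) (h1 : a.w1 = b.w1) (h2 : a.w2 = b.w2)
    (h3 : a.w3 = b.w3) (h4 : a.y = b.y) (h5 : a.d = b.d) : V.f a ∈ H := by
  have h := hZ (V.f_Z.2 (mul_inv_mem_Zm.2 ⟨h1, h2, h3, h4, h5⟩))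
  have h6 := mul_mem h hb
  rwa [← map_mul, inv_mul_cancel_right] at h6

theorem e1_inj {a b : K} (h : a = b) : (e1 a : T5 K) = e1 b := by rw [h]

theorem Q_le_of {H : Subgroup G} (h0 : V.X0 ≤ H) (h1 : V.X1 ≤ H) (h2 : V.X2 ≤ H) : V.Q ≤ H := by
  rintro _ ⟨x, hx, rfl⟩
  rw [Qm_decomp hx, map_mul, map_mul]
  exact mul_mem (mul_mem (h0 (V.e1_X0 _)) (h1 (V.f_X1.2 (ccE_mem _ _ _)))) (h2 (V.em_X2 _))

theorem Xb_le_of (h4 : 4 ≤ Nat.card (Fx K)) {H : Subgroup G}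
    (hc : ∀ g ∈ V.Lb, ∀ x ∈ V.Xb, cg g x ∈ V.Xb → g * x * g⁻¹ * x⁻¹ ∈ H) : V.Xb ≤ H := by
  obtain ⟨β, hβ, hβ0, hβ1⟩ : ∃ β ∈ Fx K, β ≠ 0 ∧ β ≠ 1 := by
    by_contra hcon
    push Not at hcon
    have h1 : (Fx K : Set K) ⊆ ({0, 1} : Set K) := by
      intro x hx
      by_cases h : x = 0
      · exact Or.inl h
      · exact Or.inr (hcon x hx h)
    have h2 := Set.ncard_le_ncard h1 (Set.toFinite _)
    have h3 := h2.trans ((Set.ncard_insert_le _ _).trans (by simp : _ ≤ 2))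
    have h5 : Nat.card (Fx K) = (Fx K : Set K).ncard := rfl
    omega
  obtain ⟨g, hg, hg'⟩ := V.h_mem_Lb hβ hβ0
  have hβ2 : β + 1 ≠ 0 := fun h => hβ1 (CharTwo.add_eq_zero.1 h)
  have hβs : star β = β := hβ
  rintro _ ⟨x, ⟨a1, a2, a3, a4, a5⟩, rfl⟩
  have e : (x.d / ((β + 1) * (β + 1))) + star (x.d / ((β + 1) * (β + 1))) = (0 : K) * star (0 : K) := by
    have h := x.hd
    rw [a5] at h
    simp only [star_div₀, star_mul', star_add, star_one, hβs]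
    field_simp
    linear_combination h
  have hds : star x.d = x.d := by
    have h := x.hd
    rw [a5, zero_mul] at h
    exact (CharTwo.add_eq_zero.1 h).symm
  set z := ddE (0 : K) (x.d / ((β + 1) * (β + 1))) e with hz
  have hzb : V.f z ∈ V.Xb := V.f_Xb.2 ⟨rfl, rfl, rfl, rfl, rfl⟩
  have h1 : cg g (V.f z) ∈ V.Xb := by
    rw [hg']
    refine V.f_Xb.2 ⟨?_, ?_, ?_, ?_, ?_⟩ <;> simp [dia, hz, ddE]
  have h2 := hc g hg (V.f z) hzb h1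
  rw [show g * V.f z * g⁻¹ = _ from hg' z, ← map_inv, ← map_mul] at h2
  convert h2 using 2
  ext
  · simp [mul_w1, inv_w1, dia, hz, ddE, a1]
  · simp [mul_w2, inv_w2, inv_w1, dia, hz, ddE, a2]
  · simp [mul_w3, inv_w3, inv_w2, inv_w1, dia, hz, ddE, a3]
  · simp [mul_c, inv_w3, inv_w2, inv_w1, inv_c, dia, hz, ddE, a4]
  · simp [mul_y, inv_y, dia, hz, ddE, a5]
  · simp only [mul_d, inv_y, inv_d, dia, hz, ddE, mul_zero, star_div₀, star_mul', star_add, star_one, hβs, hds]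
    field_simp
    linear_combination (x.d * β) * two0 (K := K)

theorem perf' (hs : ∃ x : K, star x ≠ x) (h4 : 4 ≤ Nat.card (Fx K)) :
    V.Q ⊔ V.Kb ≤ ⁅V.Q ⊔ V.Kb, V.Q ⊔ V.Kb⁆ := by
  set L := V.Q ⊔ V.Kb with hL
  have hQ : V.Q ≤ L := le_sup_left
  have hK : V.Kb ≤ L := le_sup_right
  have hnorm : ∀ g ∈ L, ∀ x ∈ ⁅L, L⁆, cg g x ∈ ⁅L, L⁆ := by
    intro g hg x hx
    have h1 : g * x * g⁻¹ * x⁻¹ ∈ ⁅L, L⁆ := commutator_mem_commutator hg (Subgroup.commutator_le_self L hx)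
    have h2 := mul_mem h1 hx
    rwa [inv_mul_cancel_right] at h2
  have hb : V.Xb ≤ ⁅L, L⁆ := V.Xb_le_of h4 fun g hg x hx _ =>
    commutator_mem_commutator (hK (V.Lb_le_Kb hg)) (hK (mem_sup_left (V.Xb_le_X3 hx)))
  have h3 : V.X3 ≤ ⁅L, L⁆ := V.X3_le_of h4 hb fun g hg x hx _ =>
    commutator_mem_commutator (hK (V.Lb_le_Kb hg)) (hK (mem_sup_left hx))
  have h7 : V.X7 ≤ ⁅L, L⁆ := by
    rintro _ ⟨x, hx, rfl⟩
    exact hnorm _ (hK V.nb_mem) _ (h3 hx)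
  have hZ : V.Z ≤ ⁅L, L⁆ := by
    rintro _ ⟨z, hz, rfl⟩
    obtain ⟨e, he, h5⟩ := Q_pair hs (e1_mem (1 : K)) (fun h => one_ne_zero h.1) hz
    rw [← h5, map_mul, map_mul, map_mul, map_inv, map_inv]
    exact commutator_mem_commutator (hQ (V.f_Q.2 (e1_mem 1))) (hQ (V.f_Q.2 he))
  have hcomm : ∀ (n : T5 K) (hn : V.f n ∈ V.Kb) (v : T5 K) (hv : v ∈ Qm K), V.f (n * v * n⁻¹ * v⁻¹) ∈ ⁅L, L⁆ := by
    intro n hn v hv
    rw [map_mul, map_mul, map_mul, map_inv, map_inv]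
    exact commutator_mem_commutator (hK hn) (hQ (V.f_Q.2 hv))
  have h2 : V.X2 ≤ ⁅L, L⁆ := by
    rintro _ ⟨x, hx, rfl⟩
    have h6 := hcomm oned (mem_sup_left (V.Xb_le_X3 V.oned_Xb)) (e1 x.w3) (e1_mem _)
    obtain ⟨⟨b4, b5⟩, b1, b2, b3⟩ := comm_Qm' (oned : T5 K) (e1_mem x.w3)
    obtain ⟨a1, a2, a3, a4, a5⟩ := hx
    apply V.mem_of_Z hZ h6
    · rw [b1, a1]
    · rw [b2, a2]; simp [oned]
    · rw [b3]; simp [oned, e1]
    · rw [b4, a4]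
    · rw [b5, a5]
  obtain ⟨w, hw⟩ := exists_tr_one hs
  have h1 : V.X1 ≤ ⁅L, L⁆ := by
    rintro _ ⟨x, hx, rfl⟩
    have hw' : w + star w = (1 : K) * star (1 : K) := by rw [hw, star_one, mul_one]
    have h6 := hcomm (ddE 1 w hw') (mem_sup_left (V.ddE_X3 _ _ _)) (e1 x.w2) (e1_mem _)
    obtain ⟨⟨b4, b5⟩, b1, b2, b3⟩ := comm_Qm' (ddE 1 w hw') (e1_mem x.w2)
    obtain ⟨a1, a2, a4, a5⟩ := hx
    have h8 := mul_mem h6 (h2 (V.em_X2 (w * x.w2)))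
    rw [← map_mul] at h8
    apply V.mem_of_Z hZ h8
    · rw [mul_w1, b1, a1]; simp [T5.em]
    · rw [mul_w2, b2, b4]; simp [T5.em, ddE, e1]
    · rw [mul_w3, b3, b4, b5, a2]; simp [T5.em, ddE, e1, CharTwo.add_self_eq_zero]
    · rw [mul_y, b4, a4]; simp [T5.em]
    · rw [mul_d, b4, b5, a5]; simp [T5.em]
  have h0 : V.X0 ≤ ⁅L, L⁆ := by
    rintro _ ⟨x, hx, rfl⟩
    have h6 := hnorm _ (hK V.nb_mem) _ (h2 (V.em_X2 x.w1))
    rw [V.nb_q _ rfl rfl] at h6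
    obtain ⟨a1, a2, a3, a4, a5⟩ := hx
    apply V.mem_of_Z hZ h6 <;> simp [swQ, T5.em, a1, a2, a3, a4, a5]
  exact sup_le (V.Q_le_of h0 h1 h2) (sup_le h3 h7)

theorem irr' (hs : ∃ x : K, star x ≠ x) {E : Subgroup G} (hTE : V.T ≤ E) (hnb : V.nb ∈ E) {R : Subgroup G}
    (hZR : V.Z ≤ R) (hRQ : R ≤ V.Q) (hR : ∃ x ∈ R, x ∉ V.Z)
    (inv : ∀ g ∈ E, (∀ z ∈ V.Z, g * z = z * g) → (∀ x ∈ V.Q, g * x * g⁻¹ ∈ V.Q) → ∀ x ∈ R, g * x * g⁻¹ ∈ R) :
    R = V.Q := by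
  have invT : ∀ g ∈ V.T, ∀ x ∈ R, cg g x ∈ R := by
    intro g hg
    refine inv g (hTE hg) (fun z hz => ?_) (fun x hx => V.T_norm_Q hg hx)
    obtain ⟨g, rfl⟩ := hg
    obtain ⟨z, hz, rfl⟩ := hz
    rw [← map_mul, ← map_mul, Zm_cent hz]
  have invb : ∀ x ∈ R, cg V.nb x ∈ R :=
    inv V.nb hnb (fun z hz => V.Kb_Z' V.nb_mem hz) (fun x hx => V.nb_Q hx)
  obtain ⟨w, hw⟩ := exists_tr_one hs
  have hcomm : ∀ (n v : T5 K), V.f v ∈ R → V.f (n * v * n⁻¹ * v⁻¹) ∈ R := by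
    intro n v hv
    have h1 := mul_mem (invT _ (V.f_T n) _ hv) (inv_mem hv)
    rwa [V.cg_f, ← map_inv, ← map_mul] at h1
  have eN : ∀ y : K, (y * star y * w) + star (y * star y * w) = y * star y := by
    intro y
    rw [star_mul', star_mul', star_star]
    linear_combination y * star y * hw
  -- `w₂ ≠ 0` suffices
  have hX2 : ∀ v : T5 K, V.f v ∈ R → v ∈ Qm K → v.w1 = 0 → v.w2 ≠ 0 → V.X2 ≤ R := by
    rintro v hv hvQ h1 h2 _ ⟨x, hx, rfl⟩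
    set n := ddE (star (x.w3 / v.w2)) (star (x.w3 / v.w2) * star (star (x.w3 / v.w2)) * w) (eN _) with hn
    have h3 := hcomm n v hv
    obtain ⟨⟨b4, b5⟩, b1, b2, b3⟩ := comm_Qm' n hvQ
    obtain ⟨a1, a2, a3, a4, a5⟩ := hx
    apply V.mem_of_Z hZR h3
    · rw [b1, a1]
    · rw [b2, a2, h1, mul_zero]
    · rw [b3, h1, mul_zero, add_zero]
      simp only [hn, ddE, star_star]
      field_simp
    · rw [b4, a4]
    · rw [b5, a5]
  -- `w₁ ≠ 0` suffices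
  have hX2' : ∀ v : T5 K, V.f v ∈ R → v ∈ Qm K → v.w1 ≠ 0 → V.X2 ≤ R := by
    intro v hv hvQ h1
    set n := ddE (1 : K) (1 * star (1 : K) * w) (eN _) with hn
    have h3 := hcomm n v hv
    obtain ⟨⟨b4, b5⟩, b1, b2, b3⟩ := comm_Qm' n hvQ
    apply hX2 _ h3 ⟨b4, b5⟩ b1
    rw [b2]
    simpa [hn, ddE] using h1
  have h2 : V.X2 ≤ R := by
    obtain ⟨x, hx, hxZ⟩ := hR
    obtain ⟨v, hv, rfl⟩ := hRQ hx
    by_cases c1 : v.w1 = 0
    · by_cases c2 : v.w2 = 0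
      · have h3 := invb _ hx
        rw [V.nb_q _ hv.1 hv.2] at h3
        refine hX2' _ h3 ⟨rfl, rfl⟩ ?_
        intro c3
        exact hxZ (V.f_Z.2 ⟨c1, c2, c3, hv.1, hv.2⟩)
      · exact hX2 v hx hv c1 c2
    · exact hX2' v hx hv c1
  have h0 : V.X0 ≤ R := by
    rintro _ ⟨x, hx, rfl⟩
    have h6 := invb _ (h2 (V.em_X2 x.w1))
    rw [V.nb_q _ rfl rfl] at h6
    obtain ⟨a1, a2, a3, a4, a5⟩ := hx
    apply V.mem_of_Z hZR h6 <;> simp [swQ, T5.em, a1, a2, a3, a4, a5]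
  have h1 : V.X1 ≤ R := by
    rintro _ ⟨x, hx, rfl⟩
    set n := ddE (1 : K) (1 * star (1 : K) * w) (eN _) with hn
    have h6 := hcomm n _ (h0 (V.e1_X0 x.w2))
    obtain ⟨⟨b4, b5⟩, b1, b2, b3⟩ := comm_Qm' n (e1_mem x.w2)
    obtain ⟨a1, a2, a4, a5⟩ := hx
    have h8 := mul_mem h6 (h2 (V.em_X2 (w * x.w2)))
    rw [← map_mul] at h8
    apply V.mem_of_Z hZR h8
    · rw [mul_w1, b1, a1]; simp [T5.em]
    · rw [mul_w2, b2, b4]; simp [T5.em, ddE, e1, hn]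
    · rw [mul_w3, b3, b4, b5, a2]; simp [T5.em, ddE, e1, hn, CharTwo.add_self_eq_zero]
    · rw [mul_y, b4, a4]; simp [T5.em]
    · rw [mul_d, b4, b5, a5]; simp [T5.em]
  exact le_antisymm hRQ (V.Q_le_of h0 h1 h2)

end Env

end Cfsg.Agent.StdSpFour.UFive
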