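import Cfsg.Agent.StdSpFour.CaseCUFive
import Cfsg.Agent.StdSpFour.UFiveClose
import Cfsg.Agent.StdSpFour.RankOne
import Cfsg.Agent.StdSpFour.EnvFacts
import Cfsg.Agent.StdSpFour.EnvSwap

/-!
# S1778, type Sp₄(q), target U₅(q): the facts on `P = C_A(Z)^∞` in `G`
-/

set_option autoImplicit false
set_option linter.unusedSectionVars false
set_option linter.unusedSimpArgs false

namespace Cfsg.Agent.StdSpFour.CaseC

open Cfsg.Agent.StdSpFour Cfsg.Agent.StdSpFour.Comm QuadraticAlgebra Cfsg.Agent.StdSpFour.UFiveModel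
open Cfsg.Agent.StdSpFour.UFiveModel.T5 Cfsg.Agent.StdSpFour.StarField Cfsg.Agent.StdSpFour.UFive Subgroup
open Cfsg.Agent.StdSpFour.UFour (cg cg_mul cg_one cg_inv cg_comp cg_inv_cg cg_cg_inv cg_inj cg_eq_self comm_of_cg)

/-! ### the model: `V₂` -/

/-- `V₂ = X_a X_{a+b} Z` in the model -/
def TV2 (K : Type*) [Field K] [StarRing K] [CharP K 2] : Subgroup (T5 K) where
  carrier := {x | star x.w1 = x.w1 ∧ star x.w3 = x.w3 ∧ x.w2 = 0 ∧ x.y = 0 ∧ x.d = 0}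
  mul_mem' := by
    rintro x y ⟨h1, h2, h3, h4, h5⟩ ⟨g1, g2, g3, g4, g5⟩
    refine ⟨?_, ?_, ?_, ?_, ?_⟩ <;>
      simp [mul_w1, mul_w2, mul_w3, mul_c, mul_y, mul_d, h1, h2, h3, h4, h5, g1, g2, g3, g4, g5]
  one_mem' := ⟨star_zero K, star_zero K, rfl, rfl, rfl⟩
  inv_mem' := by
    rintro x ⟨h1, h2, h3, h4, h5⟩
    refine ⟨?_, ?_, ?_, ?_, ?_⟩ <;>
      simp [inv_w1, inv_w2, inv_w3, inv_c, inv_y, inv_d, h1, h2, h3, h4, h5]

theorem TV2_comm {K : Type*} [Field K] [StarRing K] [CharP K 2] {x y : T5 K} (hx : x ∈ TV2 K) (hy : y ∈ TV2 K) :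
    x * y = y * x := by
  obtain ⟨h1, h2, h3, h4, h5⟩ := hx
  obtain ⟨g1, g2, g3, g4, g5⟩ := hy
  ext
  · simp only [mul_w1]; ring
  · simp only [mul_w2, h3, h4, g3, g4]; ring
  · simp only [mul_w3, h3, h4, h5, g3, g4, g5, star_zero]; ring
  · simp only [mul_c, h3, h4, h5, g3, g4, g5, star_zero, mul_zero, zero_mul, add_zero, h1, h2, g1, g2]; ring
  · simp only [mul_y]; ring
  · simp only [mul_d, h4, g4, star_zero]; ring

theorem TV2_Q {K : Type*} [Field K] [StarRing K] [CharP K 2] {x : T5 K} (hx : x ∈ TV2 K) : x ∈ Qm K :=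
  ⟨hx.2.2.2.1, hx.2.2.2.2⟩

theorem Zm_TV2 {K : Type*} [Field K] [StarRing K] [CharP K 2] {x : T5 K} (hx : x ∈ Zm K) : x ∈ TV2 K := by
  obtain ⟨h1, h2, h3, h4, h5⟩ := hx
  exact ⟨by rw [h1, star_zero], by rw [h3, star_zero], h2, h4, h5⟩

/-- conjugation of `V₂` by `X_b` -/
theorem conj_TV2 {K : Type*} [Field K] [StarRing K] [CharP K 2] {n v : T5 K} (hn : n ∈ Xbm K) (hv : v ∈ TV2 K) :
    n * v * n⁻¹ ∈ TV2 K ∧ (n * v * n⁻¹).w1 = v.w1 ∧ (n * v * n⁻¹).w3 = v.w3 + n.d * v.w1 := by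
  obtain ⟨e1, e2, e3, e4⟩ := conj_Qm n (TV2_Q hv)
  obtain ⟨h1, h2, h3, h4, h5⟩ := hn
  obtain ⟨g1, g2, g3, g4, g5⟩ := hv
  have hd : star n.d = n.d := by
    have h := n.hd
    rw [h5, star_zero, mul_zero] at h
    exact (FieldAux.eq_of_add_eq_zero h).symm
  have e5 : (n * v * n⁻¹).w3 = v.w3 + n.d * v.w1 := by rw [e4, g3, mul_zero, add_zero]
  refine ⟨⟨by rw [e2, g1], by rw [e5, star_add, star_mul', g2, hd, g1], ?_, e1.1, e1.2⟩, e2, e5⟩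
  rw [e3, g3, h5, zero_mul, zero_add]

namespace UEnv

variable {K : Type*} [Field K] [StarRing K] [CharP K 2] {G : Type*} [Group G] (V : UFive.Env K G)

/-- `V₂` -/
def V2 : Subgroup G := (TV2 K).map V.f

theorem f_V2 {x : T5 K} : V.f x ∈ V2 V ↔ x ∈ TV2 K := V.f_mem

theorem V2_comm {x y : G} (hx : x ∈ V2 V) (hy : y ∈ V2 V) : x * y = y * x := by
  obtain ⟨x, hx, rfl⟩ := hx
  obtain ⟨y, hy, rfl⟩ := hy
  rw [← map_mul, TV2_comm hx hy, map_mul]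

theorem Lb_le_P' : V.Lb ≤ V.P := le_sup_right
theorem Xa_le_P : V.Xa ≤ V.P := le_sup_left.trans (le_sup_left.trans le_sup_left)
theorem Xab_le_P : V.Xab ≤ V.P := le_sup_right.trans (le_sup_left.trans le_sup_left)
theorem Z_le_P : V.Z ≤ V.P := le_sup_right.trans le_sup_left

theorem V2_le_P : V2 V ≤ V.P := by
  rintro _ ⟨x, hx, rfl⟩
  have e : x = T5.e1 x.w1 * T5.em x.w3 * ((T5.e1 x.w1 * T5.em x.w3)⁻¹ * x) := by group
  have h1 : V.f (T5.e1 x.w1) ∈ V.P := Xa_le_P V (V.f_Xa.2 ⟨hx.1, rfl, rfl, rfl, rfl, rfl⟩)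
  have h2 : V.f (T5.em x.w3) ∈ V.P := Xab_le_P V (V.f_Xab.2 ⟨hx.2.1, rfl, rfl, rfl, rfl, rfl⟩)
  have h3 : V.f ((T5.e1 x.w1 * T5.em x.w3)⁻¹ * x) ∈ V.P := by
    apply Z_le_P V
    apply V.f_Z.2
    obtain ⟨g1, g2, g3, g4, g5⟩ := hx
    have h2 := two0 (K := K)
    refine ⟨?_, ?_, ?_, ?_, ?_⟩
    · simp only [mul_w1, inv_w1, T5.e1, T5.em]; linear_combination x.w1 * h2
    · simp only [mul_w2, inv_w2, mul_y, inv_y, mul_w1, inv_w1, T5.e1, T5.em, g3]; ring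
    · simp only [mul_w3, inv_w3, mul_y, inv_y, mul_w1, inv_w1, mul_w2, inv_w2, mul_d, inv_d, T5.e1, T5.em, g3,
        star_zero, zero_mul, mul_zero, add_zero, zero_add]
      linear_combination x.w3 * h2
    · simp only [mul_y, inv_y, T5.e1, T5.em, g4]; ring
    · simp [mul_d, inv_d, mul_y, inv_y, T5.e1, T5.em, g4, g5]
  rw [e, map_mul, map_mul]
  exact mul_mem (mul_mem h1 h2) h3

theorem V2_le_Q : V2 V ≤ V.Q := Subgroup.map_mono fun _ hx => TV2_Q hx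

theorem nb_V2 {y : T5 K} (hy : y ∈ TV2 K) : cg V.nb (V.f y) = V.f (swQ y) ∧ swQ y ∈ TV2 K := by
  obtain ⟨g1, g2, g3, g4, g5⟩ := hy
  exact ⟨V.nb_q y g4 g5, g2, g1, g3, rfl, rfl⟩

theorem Lb_V2 {k : G} (hk : k ∈ V.Lb) : k ∈ normalizer (V2 V : Set G) := by
  have h3 : V.Xb ≤ normalizer (V2 V : Set G) := by
    have key : ∀ x ∈ V.Xb, ∀ y ∈ V2 V, x * y * x⁻¹ ∈ V2 V := by
      rintro _ ⟨x, hx, rfl⟩ _ ⟨y, hy, rfl⟩
      rw [← map_inv, ← map_mul, ← map_mul]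
      exact (f_V2 V).2 (conj_TV2 hx hy).1
    intro x hx
    rw [mem_normalizer_iff]
    intro y
    refine ⟨key x hx y, fun h => ?_⟩
    have h1 := key _ (inv_mem hx) _ h
    rwa [show x⁻¹ * (x * y * x⁻¹) * x⁻¹⁻¹ = y by group] at h1
  have hn : V.nb ∈ normalizer (V2 V : Set G) := by
    have key : ∀ y ∈ V2 V, V.nb * y * V.nb⁻¹ ∈ V2 V := by
      rintro _ ⟨y, hy, rfl⟩
      obtain ⟨h1, h2⟩ := nb_V2 V hy
      rw [show V.nb * V.f y * V.nb⁻¹ = _ from h1]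
      exact (f_V2 V).2 h2
    rw [mem_normalizer_iff]
    intro y
    refine ⟨key y, fun h => ?_⟩
    have h1 := key _ h
    have h2 : V.nb * (V.nb * y * V.nb⁻¹) * V.nb⁻¹ = y := by
      have : V.nb * (V.nb * y * V.nb⁻¹) * V.nb⁻¹ = (V.nb * V.nb) * y * (V.nb * V.nb)⁻¹ := by group
      rw [this, V.nb_nb]; group
    rwa [h2] at h1
  exact V.Lb_le_of h3 hn hk

/-- `P = V₂ Lb` -/
theorem P_form {x : G} (hx : x ∈ V.P) : ∃ v ∈ V2 V, ∃ b ∈ V.Lb, x = v * b := by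
  let D : Subgroup G :=
    { carrier := {x | ∃ v ∈ V2 V, ∃ b ∈ V.Lb, x = v * b}
      one_mem' := ⟨1, one_mem _, 1, one_mem _, by rw [one_mul]⟩
      mul_mem' := by
        rintro _ _ ⟨v, hv, b, hb, rfl⟩ ⟨v', hv', b', hb', rfl⟩
        refine ⟨v * (b * v' * b⁻¹), mul_mem hv ((mem_normalizer_iff.1 (Lb_V2 V hb) v').1 hv'), b * b', mul_mem hb hb', ?_⟩
        group
      inv_mem' := by
        rintro _ ⟨v, hv, b, hb, rfl⟩
        refine ⟨b⁻¹ * v⁻¹ * b⁻¹⁻¹, (mem_normalizer_iff.1 (Lb_V2 V (inv_mem hb)) v⁻¹).1 (inv_mem hv), b⁻¹, inv_mem hb, ?_⟩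
        group }
  have h1 : V.P ≤ D := by
    refine sup_le (sup_le (sup_le ?_ ?_) ?_) ?_
    · rintro _ ⟨x, ⟨h1, h2, h3, h4, h5, h6⟩, rfl⟩
      exact ⟨_, (f_V2 V).2 ⟨h1, by rw [h3, star_zero], h2, h5, h6⟩, 1, one_mem _, by rw [mul_one]⟩
    · rintro _ ⟨x, ⟨h1, h2, h3, h4, h5, h6⟩, rfl⟩
      exact ⟨_, (f_V2 V).2 ⟨by rw [h2, star_zero], h1, h3, h5, h6⟩, 1, one_mem _, by rw [mul_one]⟩
    · rintro _ ⟨x, hx, rfl⟩
      exact ⟨_, (f_V2 V).2 (Zm_TV2 hx), 1, one_mem _, by rw [mul_one]⟩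
    · intro x hx
      exact ⟨1, one_mem _, x, hx, by rw [one_mul]⟩
  exact h1 hx

end UEnv

/-! ### in the lifted environment -/

open Cfsg Cfsg.Agent.StdEven.CoreQuot Cfsg.Agent.StdEven.Loc Cfsg.Agent.StdSpFour.Lift

section lifted

variable {F : Type*} [Field F] [CharP F 2] [Finite F] {K : Type*} [Field K] [StarRing K] [CharP K 2]
  {G : Type*} [Group G] [Finite G] {A : Subgroup G} {t : G} {T : Subgroup G}

/-- the element with `d = s` -/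
def bE (s : K) (h : star s = s) : T5 K :=
  ⟨0, 0, 0, 0, 0, s, by simp, by rw [h, star_zero, mul_zero]; exact CharTwo.add_self_eq_zero s⟩

/-- the element with `c = s` -/
def cE (s : K) (h : star s = s) : T5 K :=
  ⟨0, 0, 0, s, 0, 0, by rw [h]; simp [CharTwo.add_self_eq_zero s], by simp⟩

theorem bE_add {a b : K} (ha : star a = a) (hb : star b = b) (hab : star (a + b) = a + b) :
    bE (a + b) hab = bE a ha * bE b hb := by
  ext
  all_goals simp [mul_w1, mul_w2, mul_w3, mul_c, mul_y, mul_d, bE]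

theorem bE_mem {a : K} (ha : star a = a) : bE a ha ∈ Xbm K := ⟨rfl, rfl, rfl, rfl, rfl⟩
theorem cE_mem {a : K} (ha : star a = a) : cE a ha ∈ Zm K := ⟨rfl, rfl, rfl, rfl, rfl⟩

theorem star_d {x : T5 K} (hx : x ∈ Xbm K) : star x.d = x.d := by
  obtain ⟨h1, h2, h3, h4, h5⟩ := hx
  have h := x.hd
  rw [h5, star_zero, mul_zero] at h
  exact (FieldAux.eq_of_add_eq_zero h).symm

theorem star_c {x : T5 K} (hx : x ∈ Zm K) : star x.c = x.c := by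
  obtain ⟨h1, h2, h3, h4, h5⟩ := hx
  have h := x.hc
  rw [h1, h2, h3] at h
  simp only [star_zero, mul_zero, add_zero] at h
  exact (FieldAux.eq_of_add_eq_zero h).symm

theorem eq_bE {x : T5 K} (hx : x ∈ Xbm K) : x = bE x.d (star_d hx) := by
  obtain ⟨h1, h2, h3, h4, h5⟩ := hx
  ext
  · exact h1
  · exact h2
  · exact h3
  · exact h4
  · exact h5
  · rfl

theorem eq_cE {x : T5 K} (hx : x ∈ Zm K) : x = cE x.c (star_c hx) := by
  obtain ⟨h1, h2, h3, h4, h5⟩ := hx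
  ext
  · exact h1
  · exact h2
  · exact h3
  · rfl
  · exact h4
  · exact h5

/-- the lifted environment -/
structure LiftedF (H : Hyp A t T) (B : Base F (XQ A t)) (ι : F →+* K) (V : UFive.Env K G) : Prop where
  st : ∀ a, star (ι a) = ι a
  sur : ∀ x, star x = x → ∃ a, x = ι a
  f_NO : ∀ x, V.f x ∈ NO A t
  two : ∀ x, Lift.Two (V.f x)
  pr_xa : ∀ u, pr A t ⟨V.f (T5.e1 (ι u)), f_NO _⟩ = B.xa u
  pr_xb : ∀ u, pr A t ⟨V.f (bE (ι u) (st u)), f_NO _⟩ = B.xb u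
  pr_zs : ∀ u, pr A t ⟨V.f (T5.em (ι u)), f_NO _⟩ = B.zs u
  pr_zl : ∀ u, pr A t ⟨V.f (cE (ι u) (st u)), f_NO _⟩ = B.zl u
  V2_A : ∀ x ∈ TV2 K, V.f x ∈ A
  Xb_A : ∀ x ∈ Xbm K, V.f x ∈ A
  t_eq : V.t = t
  na_A : V.na ∈ A
  pr_na : pr A t ⟨V.na, H.A_le na_A⟩ = B.na
  nb_A : V.nb ∈ A
  pr_nb : pr A t ⟨V.nb, H.A_le nb_A⟩ = B.nb
  h_A : ∀ α γ : Fˣ, V.h (ι α) (ι γ) ∈ A
  pr_h : ∀ α γ : Fˣ, pr A t ⟨V.h (ι α) (ι γ), H.A_le (h_A α γ)⟩ = B.h α (γ ^ 2)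
  Cn_eq : V.Cn = A ⊓ core A t

namespace LiftedF

variable {H : Hyp A t T} {B : Base F (XQ A t)} {ι : F →+* K} {V : UFive.Env K G} (L : LiftedF H B ι V)
include L

theorem mem_Cn {g : G} (hg : g ∈ A) (h : pr A t ⟨g, H.A_le hg⟩ = 1) : g ∈ V.Cn := by
  rw [L.Cn_eq]
  exact ⟨hg, pr_eq_one.mp h⟩

theorem Cn_le_A : V.Cn ≤ A := by
  rw [L.Cn_eq]
  exact inf_le_left

theorem Cn_cent {k g : G} (hk : k ∈ V.Cn) (hg : g ∈ A) : k * g = g * k := by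
  rw [L.Cn_eq] at hk
  exact comm_of_centralizer (H.core_le hk.2) hg

theorem pr_Cn {k : G} (hk : k ∈ V.Cn) : pr A t ⟨k, H.A_le (L.Cn_le_A hk)⟩ = 1 := by
  rw [L.Cn_eq] at hk
  exact pr_eq_one.2 hk.2

theorem Cn_odd' {k : G} (hk : k ∈ V.Cn) : Odd (orderOf k) := by
  rw [L.Cn_eq] at hk
  exact (H.mem_core.mp hk.2).2.2

/-- products of `h` -/
theorem h_mul (α β α' β' : Fˣ) : ∃ k ∈ V.Cn, V.h (ι α) (ι β) * V.h (ι α') (ι β') =
    V.h (ι ((α * α' : Fˣ) : F)) (ι ((β * β' : Fˣ) : F)) * k := by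
  refine ⟨(V.h (ι ((α * α' : Fˣ) : F)) (ι ((β * β' : Fˣ) : F)))⁻¹ * (V.h (ι α) (ι β) * V.h (ι α') (ι β')), ?_, by group⟩
  apply L.mem_Cn (A.mul_mem (A.inv_mem (L.h_A _ _)) (A.mul_mem (L.h_A _ _) (L.h_A _ _)))
  have e1 : pr A t ((⟨V.h (ι ((α * α' : Fˣ) : F)) (ι ((β * β' : Fˣ) : F)), H.A_le (L.h_A _ _)⟩)⁻¹ *
      (⟨V.h (ι α) (ι β), H.A_le (L.h_A _ _)⟩ * ⟨V.h (ι α') (ι β'), H.A_le (L.h_A _ _)⟩)) = 1 := by
    rw [map_mul, map_mul, map_inv, L.pr_h, L.pr_h, L.pr_h, mul_pow, B.h_mul, inv_mul_cancel]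
  exact e1

theorem h_one : V.h (ι ((1 : Fˣ) : F)) (ι ((1 : Fˣ) : F)) ∈ V.Cn := by
  apply L.mem_Cn (L.h_A 1 1)
  rw [L.pr_h, one_pow]
  have h1 := B.h_mul 1 1 1 1
  rw [one_mul] at h1
  exact mul_eq_left.1 h1.symm

theorem V2_le_A : UEnv.V2 V ≤ A := by
  rintro _ ⟨x, hx, rfl⟩
  exact L.V2_A x hx

theorem Lb_le_A : V.Lb ≤ A := by
  apply V.Lb_le_of _ L.nb_A
  rintro _ ⟨x, hx, rfl⟩
  exact L.Xb_A x hx

theorem P_le_A : V.P ≤ A := by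
  intro x hx
  obtain ⟨v, hv, b, hb, rfl⟩ := UEnv.P_form V hx
  exact mul_mem (L.V2_le_A hv) (L.Lb_le_A hb)

theorem ι_ne (a : Fˣ) : ι a ≠ 0 := by
  intro h
  exact a.ne_zero (ι.injective (by rw [h, map_zero]))

theorem inv_ι (a : Fˣ) : (ι a)⁻¹ = ι ((a⁻¹ : Fˣ) : F) := by
  rw [Units.val_inv_eq_inv_val, map_inv₀]

/-- the torus element for the rank one group `Lb` -/
theorem exists_data : ∃ (h : G) (l : Fˣ), h ∈ A ∧
    RankOne.Data F (fun s => V.f (bE (ι s) (L.st s))) V.nb h (l ^ 2) ∧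
    (∀ j : ℤ, ∃ k ∈ V.Cn, h ^ j = V.h (ι ((l ^ (-j) : Fˣ) : F)) (ι ((l ^ j : Fˣ) : F)) * k) := by
  obtain ⟨μ, hμ⟩ := IsCyclic.exists_generator (α := Fˣ)
  set l := Swap.rtU μ with hl
  have hl2 : l ^ 2 = μ := Swap.sq_rtU μ
  set h1 := V.h (ι ((l⁻¹ : Fˣ) : F)) (ι l) with hh1
  -- `nb h1 nb h1 ∈ Cn`
  obtain ⟨k1, hk1, e1⟩ := V.nb_h (ι ((l⁻¹ : Fˣ) : F)) (ι l) (L.st _) (L.st _) (L.ι_ne _) (L.ι_ne _)
  have e0 : ι ((l⁻¹ : Fˣ) : F) * (ι l) ^ 2 = ι l := by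
    rw [← map_pow, ← map_mul]
    congr 1
    rw [pow_two, ← mul_assoc, ← Units.val_mul, inv_mul_cancel, Units.val_one, one_mul]
  rw [e0, L.inv_ι] at e1
  obtain ⟨k2, hk2, e2⟩ := L.h_mul l l⁻¹ l⁻¹ l
  rw [mul_inv_cancel, inv_mul_cancel] at e2
  set k := V.nb * h1 * V.nb * h1 with hk
  have hkC : k ∈ V.Cn := by
    have h3 : k = V.h (ι ((1 : Fˣ) : F)) (ι ((1 : Fˣ) : F)) * k2 * k1 := by
      have h4 : V.nb * h1 * V.nb = V.h (ι l) (ι ((l⁻¹ : Fˣ) : F)) * k1 := by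
        calc V.nb * h1 * V.nb = V.h (ι l) (ι ((l⁻¹ : Fˣ) : F)) * (V.nb * k1) * V.nb := by rw [hh1, e1]; group
          _ = V.h (ι l) (ι ((l⁻¹ : Fˣ) : F)) * k1 * (V.nb * V.nb) := by rw [← V.Cn_nb k1 hk1]; group
          _ = _ := by rw [V.nb_nb, mul_one]
      calc k = V.nb * h1 * V.nb * h1 := hk
        _ = V.h (ι l) (ι ((l⁻¹ : Fˣ) : F)) * (k1 * h1) := by rw [h4]; group
        _ = (V.h (ι l) (ι ((l⁻¹ : Fˣ) : F)) * V.h (ι ((l⁻¹ : Fˣ) : F)) (ι l)) * k1 := by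
            rw [L.Cn_cent hk1 (L.h_A _ _)]; group
        _ = _ := by rw [e2]
    rw [h3]
    exact mul_mem (mul_mem L.h_one hk2) hk1
  obtain ⟨j0, hj0⟩ := RankOne.exists_corr (n := V.nb) (h := h1) (k := k) V.nb_nb rfl (L.Cn_odd' hkC) (V.Cn_nb k hkC)
  set h := h1 * k ^ j0 with hh
  have hkj : k ^ j0 ∈ V.Cn := pow_mem hkC _
  have hhA : h ∈ A := mul_mem (L.h_A _ _) (L.Cn_le_A hkj)
  have hact : ∀ j : ℤ, ∃ k ∈ V.Cn, h ^ j = V.h (ι ((l ^ (-j) : Fˣ) : F)) (ι ((l ^ j : Fˣ) : F)) * k := by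
    intro j
    have h5 : pr A t ⟨h, H.A_le hhA⟩ = B.h l⁻¹ (l ^ 2) := by
      have h6 : pr A t (⟨h1, H.A_le (L.h_A _ _)⟩ * ⟨k ^ j0, H.A_le (L.Cn_le_A hkj)⟩) = B.h l⁻¹ (l ^ 2) := by
        rw [map_mul, L.pr_h, L.pr_Cn hkj, mul_one]
      exact h6
    let hB : Fˣ × Fˣ →* XQ A t :=
      { toFun := fun p => B.h p.1 p.2
        map_one' := by
          have h1 := B.h_mul 1 1 1 1
          rw [one_mul] at h1
          exact mul_eq_left.1 h1.symm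
        map_mul' := fun p q => B.h_mul _ _ _ _ }
    have h7 : (B.h l⁻¹ (l ^ 2)) ^ j = B.h (l ^ (-j)) ((l ^ j) ^ 2) := by
      have h8 := map_zpow hB (l⁻¹, l ^ 2) j
      have h9 : ((l⁻¹, l ^ 2) : Fˣ × Fˣ) ^ j = (l ^ (-j), (l ^ j) ^ 2) := by
        refine Prod.ext ?_ ?_
        · simp
        · show (l ^ 2) ^ j = (l ^ j) ^ 2
          rw [← zpow_natCast, ← zpow_natCast, ← zpow_mul, ← zpow_mul, mul_comm]
      rw [h9] at h8
      exact h8.symm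
    refine ⟨(V.h (ι ((l ^ (-j) : Fˣ) : F)) (ι ((l ^ j : Fˣ) : F)))⁻¹ * h ^ j, ?_, by group⟩
    apply L.mem_Cn (A.mul_mem (A.inv_mem (L.h_A _ _)) (A.zpow_mem hhA j))
    have e5 : pr A t ((⟨V.h (ι ((l ^ (-j) : Fˣ) : F)) (ι ((l ^ j : Fˣ) : F)), H.A_le (L.h_A _ _)⟩)⁻¹ *
        (⟨h, H.A_le hhA⟩) ^ j) = 1 := by
      rw [map_mul, map_zpow, map_inv, L.pr_h, h5, h7, inv_mul_cancel]
    exact e5
  refine ⟨h, l, hhA, ?_, hact⟩
  have hone : V.f (bE (ι (1 : F)) (L.st 1)) = V.f oned := by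
    congr 1
    apply T5.ext
    · rfl
    · rfl
    · rfl
    · rfl
    · rfl
    · exact map_one ι
  have x1 : V.f oned * V.f oned = 1 := by
    rw [← map_mul, ← map_one V.f]
    congr 1
    ext
    all_goals simp [mul_w1, mul_w2, mul_w3, mul_c, mul_y, mul_d, oned, one_w1, one_w2, one_w3, one_c, one_y, one_d,
      CharTwo.add_self_eq_zero]
  refine ⟨?_, ?_, V.nb_nb, ?_, ?_, hj0⟩
  · intro β
    rw [hl2]
    exact mem_zpowers_iff.1 (hμ β)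
  · intro a b
    rw [← map_mul]
    congr 1
    apply T5.ext
    all_goals simp [mul_w1, mul_w2, mul_w3, mul_c, mul_y, mul_d, bE]
  · have h3 := V.nb_eq
    have h4 : cg V.nb (V.f oned) = V.nb * V.f oned * V.nb := by
      rw [cg, inv_eq_of_mul_eq_one_left V.nb_nb]
    rw [h4] at h3
    show V.nb * V.f (bE (ι 1) (L.st 1)) * V.nb = V.f (bE (ι 1) (L.st 1)) * V.nb * V.f (bE (ι 1) (L.st 1))
    rw [hone]
    conv_rhs => rw [h3]
    calc V.nb * V.f oned * V.nb = 1 * (V.nb * V.f oned * V.nb) * 1 := by group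
      _ = _ := by rw [← x1]; group
  · intro a
    show h * V.f (bE (ι a) (L.st a)) = V.f (bE (ι (((l ^ 2 : Fˣ) : F) * a)) (L.st _)) * h
    have h3 := V.h_f (ι ((l⁻¹ : Fˣ) : F)) (ι l) (L.st _) (L.st _) (L.ι_ne _) (L.ι_ne _) (bE (ι a) (L.st a))
    have h4 : dia (ι ((l⁻¹ : Fˣ) : F)) (ι l) (L.st _) (L.st _) (bE (ι a) (L.st a)) =
        bE (ι (((l ^ 2 : Fˣ) : F) * a)) (L.st _) := by
      apply T5.ext
      · exact mul_zero _
      · exact mul_zero _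
      · exact mul_zero _
      · exact mul_zero _
      · exact mul_zero _
      · show (ι l) ^ 2 * ι a = ι (((l ^ 2 : Fˣ) : F) * a)
        rw [map_mul, Units.val_pow_eq_pow_val, map_pow]
    rw [h4] at h3
    calc h * V.f (bE (ι a) (L.st a)) = h1 * (k ^ j0 * V.f (bE (ι a) (L.st a))) := by rw [hh]; group
      _ = (h1 * V.f (bE (ι a) (L.st a)) * h1⁻¹) * h1 * k ^ j0 := by rw [V.Cn_f _ hkj]; group
      _ = V.f (bE (ι (((l ^ 2 : Fˣ) : F) * a)) (L.st _)) * h1 * k ^ j0 := by rw [← h3]; rfl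
      _ = _ := by rw [hh]; group

/-- **`C_P(V₂) ≤ V₂`** -/
theorem cent_V2 {x : G} (hx : x ∈ V.P) (hc : ∀ y ∈ UEnv.V2 V, x * y = y * x) : x ∈ UEnv.V2 V := by
  obtain ⟨h, l, hhA, D, hact⟩ := L.exists_data
  obtain ⟨v, hv, b, hb, rfl⟩ := UEnv.P_form V hx
  -- `b` centralises `V₂`
  have hbc : ∀ y ∈ UEnv.V2 V, b * y = y * b := by
    intro y hy
    have h1 := hc y hy
    have h2 := UEnv.V2_comm V hv hy
    calc b * y = v⁻¹ * (v * b * y) := by group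
      _ = v⁻¹ * (y * v) * b := by rw [h1]; group
      _ = v⁻¹ * (v * y) * b := by rw [h2]
      _ = y * b := by group
  have hbB : b ∈ D.Br := by
    have h1 : V.Lb ≤ D.Br := by
      apply V.Lb_le_of _ D.n_mem
      rintro _ ⟨y, hy, rfl⟩
      obtain ⟨s, hs⟩ := L.sur _ (star_d hy)
      have e : y = bE (ι s) (L.st s) := by
        rw [eq_bE hy]
        apply T5.ext
        · rfl
        · rfl
        · rfl
        · rfl
        · rfl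
        · exact hs
      rw [e]
      exact D.x_mem s
    exact h1 hb
  -- the action of `h ^ j`
  have act : ∀ (j : ℤ) (y : T5 K), y ∈ TV2 K → ∃ y' ∈ TV2 K, cg (h ^ j) (V.f y) = V.f y' ∧
      y'.w1 = ι ((l ^ (-j) : Fˣ) : F) * y.w1 ∧ y'.w3 = ι ((l ^ j : Fˣ) : F) * y.w3 := by
    intro j y hy
    obtain ⟨k, hk, e⟩ := hact j
    have h1 := V.h_f (ι ((l ^ (-j) : Fˣ) : F)) (ι ((l ^ j : Fˣ) : F)) (L.st _) (L.st _) (L.ι_ne _) (L.ι_ne _) y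
    obtain ⟨g1, g2, g3, g4, g5⟩ := hy
    refine ⟨_, ?_, by rw [e, cg_comp, cg_eq_self (V.Cn_f k hk _), h1], rfl, ?_⟩
    · refine ⟨?_, ?_, ?_, ?_, ?_⟩
      · show star (ι _ * y.w1) = ι _ * y.w1
        rw [star_mul', L.st, g1]
      · show star (ι _ * (ι _) ^ 2 * y.w3) = ι _ * (ι _) ^ 2 * y.w3
        rw [star_mul', star_mul', star_pow, L.st, L.st, g2]
      · show ι _ * ι _ * y.w2 = 0
        rw [g3, mul_zero]
      · show ι _ * y.y = 0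
        rw [g4, mul_zero]
      · show (ι _) ^ 2 * y.d = 0
        rw [g5, mul_zero]
    · show ι ((l ^ (-j) : Fˣ) : F) * (ι ((l ^ j : Fˣ) : F)) ^ 2 * y.w3 = _
      congr 1
      rw [← map_pow, ← map_mul]
      congr 1
      rw [← Units.val_pow_eq_pow_val, ← Units.val_mul, pow_two, ← mul_assoc, ← zpow_add, neg_add_cancel, zpow_zero,
        one_mul]
  have xact : ∀ (a : F) (y : T5 K), y ∈ TV2 K → ∃ y' ∈ TV2 K, cg (V.f (bE (ι a) (L.st a))) (V.f y) = V.f y' ∧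
      y'.w1 = y.w1 ∧ y'.w3 = y.w3 + ι a * y.w1 := by
    intro a y hy
    obtain ⟨h1, h2, h3⟩ := conj_TV2 (bE_mem (L.st a)) hy
    exact ⟨_, h1, V.cg_f _ _, h2, h3⟩
  rcases D.mem_Br.1 hbB with ⟨a, j, e⟩ | ⟨a, j, a', e⟩
  · -- `b = x(a) h ^ j`
    have m1 : T5.e1 (1 : K) ∈ TV2 K := ⟨star_one K, star_zero K, rfl, rfl, rfl⟩
    have h1 := cg_eq_self (hbc _ ((UEnv.f_V2 V).2 m1))
    obtain ⟨y1, hy1, e1, f1, f1'⟩ := act j _ m1
    obtain ⟨y2, hy2, e2, f2, f2'⟩ := xact a _ hy1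
    rw [e, cg_comp, e1, e2] at h1
    have h2 := V.inj h1
    have h3 : y2.w1 = 1 := by rw [h2]; rfl
    have h4 : y2.w3 = 0 := by rw [h2]; rfl
    have g1 : y1.w1 = ι ((l ^ (-j) : Fˣ) : F) := by rw [f1]; exact mul_one _
    have g3 : y1.w3 = 0 := by rw [f1']; exact mul_zero _
    rw [f2'] at h4
    rw [f2] at h3
    rw [h3, g3, zero_add, mul_one] at h4
    rw [g1, ← map_one ι] at h3
    -- `l ^ j = 1`
    have h5 : l ^ (-j) = 1 := Units.ext (ι.injective h3)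
    have h6 : l ^ j = 1 := by rw [← inv_eq_one, ← zpow_neg, h5]
    have ha : a = 0 := ι.injective (by rw [h4, map_zero])
    have h7 : h ^ j ∈ V.Cn := by
      obtain ⟨k, hk, e2⟩ := hact j
      rw [h5, h6] at e2
      rw [e2]
      exact mul_mem L.h_one hk
    have h8 : h ^ j = 1 := by
      apply V.Cn_odd _ h7
      have h9 := D.invj j
      rw [← V.Cn_nb _ h7, mul_assoc, V.nb_nb, mul_one, zpow_neg] at h9
      nth_rewrite 1 [h9]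
      exact inv_mul_cancel _
    rw [e, h8, ha, D.zero, mul_one, mul_one]
    exact hv
  · exfalso
    have m1 : T5.em (1 : K) ∈ TV2 K := ⟨star_zero K, star_one K, rfl, rfl, rfl⟩
    have h1 := cg_eq_self (hbc _ ((UEnv.f_V2 V).2 m1))
    obtain ⟨y1, hy1, e1, f1, f1'⟩ := xact a' _ m1
    obtain ⟨e2, hy2⟩ := UEnv.nb_V2 V hy1
    obtain ⟨y3, hy3, e3, f3, f3'⟩ := act j _ hy2
    obtain ⟨y4, hy4, e4, f4, f4'⟩ := xact a _ hy3
    rw [e, cg_comp, cg_comp, cg_comp, e1, e2, e3, e4] at h1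
    have h2 := V.inj h1
    have h3 : y4.w1 = 0 := by rw [h2]; rfl
    have g1 : y1.w1 = 0 := by rw [f1]; rfl
    have g3 : y1.w3 = 1 := by rw [f1']; show (1 : K) + ι a' * 0 = 1; ring
    rw [f4, f3] at h3
    have g4 : (swQ y1).w1 = 1 := g3
    rw [g4, mul_one] at h3
    exact L.ι_ne _ h3

/-- **P_self** -/
theorem P_self {x : G} (hx : x ∈ V.P) (hc : ∀ y ∈ V.P, y ∈ V.Q → x * y = y * x) : x ∈ V.Q :=
  UEnv.V2_le_Q V (L.cent_V2 hx fun y hy => hc y (UEnv.V2_le_P V hy) (UEnv.V2_le_Q V hy))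

theorem P_inf_Cn {k : G} (hk : k ∈ V.P) (hk' : k ∈ V.Cn) : k = 1 := by
  obtain ⟨x, -, rfl⟩ := L.cent_V2 hk fun y hy => by
    obtain ⟨y, -, rfl⟩ := hy
    exact V.Cn_f k hk' y
  obtain ⟨n, hn⟩ := L.two x
  rw [← orderOf_eq_one_iff]
  exact Nat.eq_one_of_dvd_coprimes (Nat.Coprime.pow_left n (Nat.coprime_two_left.mpr (L.Cn_odd' hk')))
    (orderOf_dvd_of_pow_eq_one hn) dvd_rfl

theorem P_le_NO : V.P ≤ NO A t := L.P_le_A.trans H.A_le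

/-- `P` covers `C_{A_X}(z)` -/
theorem P_onto {y : XQ A t} (hy : y ∈ Env.P1 (Swap.swap B)) : ∃ (p : G) (hp : p ∈ V.P), pr A t ⟨p, L.P_le_NO hp⟩ = y := by
  have h1 : Env.P1 (Swap.swap B) ≤ im A t V.P := by
    rw [Env.P1, closure_le]
    rintro _ (rfl | ⟨u, rfl⟩ | ⟨s, m, r, rfl⟩)
    · show B.nb ∈ im A t V.P
      rw [← L.pr_nb]
      exact pr_mem_im (UEnv.Lb_le_P' V V.nb_mem_Lb)
    · show B.xb u ∈ im A t V.P
      rw [← L.pr_xb]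
      exact pr_mem_im (UEnv.Lb_le_P' V (mem_sup_left (V.f_Xb.2 (bE_mem _))))
    · show B.xa (Swap.rt s) * B.zl m * B.zs (Swap.rt r) ∈ im A t V.P
      rw [← L.pr_xa, ← L.pr_zl, ← L.pr_zs]
      refine mul_mem (mul_mem (pr_mem_im (UEnv.Xa_le_P V (V.f_Xa.2 ⟨L.st _, rfl, rfl, rfl, rfl, rfl⟩)))
        (pr_mem_im (UEnv.Z_le_P V (V.f_Z.2 (cE_mem _))))) (pr_mem_im (UEnv.Xab_le_P V (V.f_Xab.2 ⟨L.st _, rfl, rfl,
          rfl, rfl, rfl⟩)))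
  obtain ⟨n, hn, e⟩ := mem_im.mp (h1 hy)
  exact ⟨n, hn, e⟩

/-- **P_norm** -/
theorem P_norm (E : StdSpFour.Env B (im A t A)) {g : G} (hg : t * g = g * t) {z : G} (hz : z ∈ V.Z) (hz1 : z ≠ 1)
    (hgz : g * z = z * g) {x : G} (hx : x ∈ V.P) : g * x * g⁻¹ ∈ V.P := by
  have hgA : g ∈ normalizer (A : Set G) := H.mem_normalizer hg.symm
  obtain ⟨z, hzm, rfl⟩ := hz
  obtain ⟨r, hr'⟩ := L.sur _ (star_c hzm)
  have hze : z = cE (ι r) (L.st r) := by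
    rw [eq_cE hzm]
    apply T5.ext
    · rfl
    · rfl
    · rfl
    · exact hr'
    · rfl
    · rfl
  have hr : r ≠ 0 := by
    rintro rfl
    apply hz1
    rw [hze, ← map_one V.f]
    congr 1
    apply T5.ext
    · rfl
    · rfl
    · rfl
    · exact map_zero ι
    · rfl
    · rfl
  have hzP : ∀ x ∈ V.P, x * V.f z = V.f z * x := by
    intro x hx
    obtain ⟨v, hv, b, hb, rfl⟩ := UEnv.P_form V hx
    have h1 := V.Kb_Z' (V.Lb_le_Kb hb) (V.f_Z.2 hzm)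
    have h2 := UEnv.V2_comm V hv ((UEnv.f_V2 V).2 (Zm_TV2 hzm))
    calc v * b * V.f z = v * (b * V.f z) := by group
      _ = (v * V.f z) * b := by rw [h1]; group
      _ = _ := by rw [h2]; group
  -- 2-elements
  have key : ∀ x ∈ V.P, Lift.Two x → g * x * g⁻¹ ∈ V.P := by
    intro x hx hx2
    have hxA : g * x * g⁻¹ ∈ A := (mem_normalizer_iff.1 hgA x).1 (L.P_le_A hx)
    have hcz : Commute (g * x * g⁻¹) (V.f z) := by
      have h1 : Commute (g * x * g⁻¹) (g * V.f z * g⁻¹) := Env.comm_conj (hzP x hx)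
      rwa [hgz, mul_inv_cancel_right] at h1
    have h2 : Commute (pr A t ⟨g * x * g⁻¹, H.A_le hxA⟩) (B.zl r) := by
      rw [← L.pr_zl]
      have h3 : (⟨g * x * g⁻¹, H.A_le hxA⟩ : ↥(NO A t)) * ⟨V.f (cE (ι r) (L.st r)), L.f_NO _⟩ =
          ⟨V.f (cE (ι r) (L.st r)), L.f_NO _⟩ * ⟨g * x * g⁻¹, H.A_le hxA⟩ := by
        apply Subtype.ext
        rw [← hze]
        exact hcz.eq
      show _ * _ = _ * _
      rw [← map_mul, h3, map_mul]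
    have h3 : pr A t ⟨g * x * g⁻¹, H.A_le hxA⟩ ∈ Env.P1 (Swap.swap B) :=
      EnvFacts.cent_zs (B := Swap.swap B) (EnvSwap.env_swap E) (pr_mem_im hxA) hr h2
    obtain ⟨p, hp, e⟩ := L.P_onto h3
    set k := p⁻¹ * (g * x * g⁻¹) with hk
    have hkA : k ∈ A := mul_mem (inv_mem (L.P_le_A hp)) hxA
    have hkC : k ∈ V.Cn := by
      apply L.mem_Cn hkA
      have h4 : pr A t ((⟨p, L.P_le_NO hp⟩)⁻¹ * ⟨g * x * g⁻¹, H.A_le hxA⟩) = 1 := by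
        rw [map_mul, map_inv, e, inv_mul_cancel]
      exact h4
    obtain ⟨n, hn⟩ := hx2.conj g
    have h4 : g * x * g⁻¹ = p * k := by rw [hk]; group
    have h5 : Commute p k := (L.Cn_cent hkC (L.P_le_A hp)).symm
    rw [h4, h5.mul_pow] at hn
    have h6 : k ^ 2 ^ n = 1 := by
      apply L.P_inf_Cn _ (pow_mem hkC _)
      rw [eq_inv_of_mul_eq_one_right hn]
      exact inv_mem (pow_mem hp _)
    have h7 : k = 1 := by
      rw [← orderOf_eq_one_iff]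
      exact Nat.eq_one_of_dvd_coprimes (Nat.Coprime.pow_left n (Nat.coprime_two_left.mpr (L.Cn_odd' hkC)))
        (orderOf_dvd_of_pow_eq_one h6) dvd_rfl
    rw [h4, h7, mul_one]
    exact hp
  have h1 : V.P ≤ V.P.comap (MulAut.conj g).toMonoidHom := by
    refine sup_le (sup_le (sup_le ?_ ?_) ?_) (sup_le ?_ ?_)
    · rintro _ ⟨x, hx, rfl⟩
      exact key _ (UEnv.Xa_le_P V (V.f_Xa.2 hx)) (L.two x)
    · rintro _ ⟨x, hx, rfl⟩
      exact key _ (UEnv.Xab_le_P V (V.f_Xab.2 hx)) (L.two x)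
    · rintro _ ⟨x, hx, rfl⟩
      exact key _ (UEnv.Z_le_P V (V.f_Z.2 hx)) (L.two x)
    · rintro _ ⟨x, hx, rfl⟩
      exact key _ (UEnv.Lb_le_P' V (mem_sup_left (V.f_Xb.2 hx))) (L.two x)
    · intro x hx
      refine key x (UEnv.Lb_le_P' V (mem_sup_right hx)) ?_
      obtain ⟨y, hy, rfl⟩ := hx
      obtain ⟨u, hu, rfl⟩ := hy
      exact (L.two u).conj V.nb
  exact h1 hx

/-- **the position of the lifted environment in `E`** -/
theorem inE (EX : StdSpFour.Env B (im A t A)) {E : Subgroup G} (hA : A ≤ E) (htE : ∀ x ∈ E, t * x * t⁻¹ ∈ E)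
    (hf : ∀ x, V.f x ∈ E) (syl : ¬ 2 ∣ V.T.relIndex E) : UFive.InE V E where
  E_t := by rw [L.t_eq]; exact htE
  f_mem := hf
  na_mem := hA L.na_A
  nb_mem := hA L.nb_A
  syl := syl
  P_norm := by
    rw [L.t_eq]
    exact fun g _ hg z hz hz1 hgz x hx => L.P_norm EX hg hz hz1 hgz hx
  P_self := fun x hx hc => L.P_self hx hc

end LiftedF

end lifted

end Cfsg.Agent.StdSpFour.CaseC
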