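import Cfsg.Agent.StdSpFour.UFiveGroup
import Cfsg.Agent.StdSpFour.RootMu
import Cfsg.Agent.StdSpFour.CloseDefs

/-!
# S1778, type Sp₄(q), target U₅(q): `Kb`, the torus, generation
-/

set_option autoImplicit false
set_option linter.unusedSectionVars false
set_option linter.unusedSimpArgs false
set_option linter.unusedVariables false

namespace Cfsg.Agent.StdSpFour.UFive

open Cfsg.Agent.StdSpFour.UFiveModel Cfsg.Agent.StdSpFour.UFiveModel.T5 Cfsg.Agent.StdSpFour.StarField Subgroup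
open Cfsg.Agent.StdSpFour.UFour (cg cg_mul cg_one cg_inv cg_comp cg_inv_cg cg_cg_inv cg_inj cg_eq_self comm_of_cg mem_norm)
open Cfsg.Agent.StdSpFour.RootEight (cjS mem_cjS cjS_mul cjS_mono cjS_sup cjS_eq_of_comm)

section model

variable {K : Type*} [Field K] [StarRing K] [CharP K 2]

/-- conjugation of `Q` by elements of `T` -/
theorem conj_Qm (n : T5 K) {v : T5 K} (hv : v ∈ Qm K) : n * v * n⁻¹ ∈ Qm K ∧ (n * v * n⁻¹).w1 = v.w1 ∧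
    (n * v * n⁻¹).w2 = v.w2 + n.y * v.w1 ∧ (n * v * n⁻¹).w3 = v.w3 + star n.y * v.w2 + n.d * v.w1 := by
  obtain ⟨v1, v2⟩ := hv
  have hQ : n * v * n⁻¹ ∈ Qm K := by
    rw [mul_inv_mem_Qm, mul_y, mul_d, v1, v2]
    exact ⟨add_zero _, by rw [mul_zero, add_zero, add_zero]⟩
  have e : n * v * n⁻¹ * n = n * v := by group
  generalize n * v * n⁻¹ = u at hQ e ⊢
  obtain ⟨h1, h2⟩ := hQ
  have a1 := congrArg T5.w1 e
  have a2 := congrArg T5.w2 e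
  have a3 := congrArg T5.w3 e
  simp only [mul_w1] at a1
  rw [mul_w2, mul_w2, h1] at a2
  rw [mul_w3, mul_w3, h1, h2] at a3
  simp only [star_zero, zero_mul, add_zero] at a2 a3
  refine ⟨⟨h1, h2⟩, ?_, ?_, ?_⟩
  · linear_combination a1
  · linear_combination a2
  · linear_combination a3

theorem invF {x : K} (h : x ∈ Fx K) : x⁻¹ ∈ Fx K := by
  rw [mem_Fx, star_inv₀, show star x = x from h]

theorem swQ_Q (x : T5 K) : swQ x ∈ Qm K := ⟨rfl, rfl⟩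

theorem swQ_Z {z : T5 K} (hz : z ∈ Zm K) : swQ z = z := by
  obtain ⟨a1, a2, a3, a4, a5⟩ := hz
  ext <;> simp [swQ, a1, a2, a3, a4, a5]

theorem ddE_mem (y d : K) (h : d + star d = y * star y) : ddE y d h ∈ X3m K := ⟨rfl, rfl, rfl, rfl⟩

theorem eq_ddE {x : T5 K} (hx : x ∈ X3m K) : x = ddE x.y x.d x.hd := by
  obtain ⟨a1, a2, a3, a4⟩ := hx
  ext <;> simp [ddE, a1, a2, a3, a4]

theorem ccE_mem (m c : K) (h : c + star c = m * star m) : ccE m c h ∈ X1m K := ⟨rfl, rfl, rfl, rfl⟩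

theorem ccE_Q (m c : K) (h : c + star c = m * star m) : ccE m c h ∈ Qm K := ⟨rfl, rfl⟩

theorem eq_ccE {x : T5 K} (hx : x ∈ X1m K) : ∃ h, x = ccE x.w2 x.c h := by
  have h := x.hc
  obtain ⟨a1, a2, a3, a4⟩ := hx
  rw [a1, a2, star_zero, zero_mul, zero_add, add_zero] at h
  refine ⟨h, ?_⟩
  ext <;> simp [ccE, a1, a2, a3, a4]

theorem eq_e1 {x : T5 K} (hx : x ∈ X0m K) : x = T5.e1 x.w1 := by
  obtain ⟨a1, a2, a3, a4, a5⟩ := hx
  ext <;> simp [T5.e1, a1, a2, a3, a4, a5]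

theorem eq_em {x : T5 K} (hx : x ∈ X2m K) : x = T5.em x.w3 := by
  obtain ⟨a1, a2, a3, a4, a5⟩ := hx
  ext <;> simp [T5.em, a1, a2, a3, a4, a5]

theorem Qm_decomp {g : T5 K} (h : g ∈ Qm K) : g = e1 g.w1 * ccE g.w2 (g.c + g.w1 * star g.w3) (c2_ok g) *
    T5.em g.w3 := by
  obtain ⟨h1, h2⟩ := h
  have e := decomp g
  have e2 : ddE g.y g.d g.hd = 1 := by
    ext <;> simp [ddE, h1, h2, one_w1, one_w2, one_w3, one_c, one_y, one_d]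
  rw [e2, mul_one] at e
  exact e

end model

namespace Env

variable {K : Type*} [Field K] [StarRing K] [CharP K 2] {G : Type*} [Group G] (V : Env K G)

/-! ### `Kb` -/

theorem Kb_Z' {k : G} (hk : k ∈ V.Kb) {z : G} (hz : z ∈ V.Z) : k * z = z * k := by
  have : V.Kb ≤ centralizer (V.Z : Set G) := by
    apply V.Kb_le_of
    · rintro _ ⟨x, hx, rfl⟩
      rw [mem_centralizer_iff]
      rintro _ ⟨z, hz, rfl⟩
      rw [← map_mul, ← map_mul, Zm_cent hz]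
    · rw [mem_centralizer_iff]
      rintro _ ⟨z, hz, rfl⟩
      have := V.nb_q z hz.2.2.2.1 hz.2.2.2.2
      rw [swQ_Z hz] at this
      exact (comm_of_cg this).symm
  exact (mem_centralizer_iff.1 (this hk) z hz).symm

theorem T_norm_Q {x : G} (hx : x ∈ V.T) {y : G} (hy : y ∈ V.Q) : cg x y ∈ V.Q := by
  obtain ⟨x, rfl⟩ := hx
  obtain ⟨y, hy, rfl⟩ := hy
  rw [V.cg_f]
  exact V.f_Q.2 (conj_Qm x hy).1

theorem nb_Q {y : G} (hy : y ∈ V.Q) : cg V.nb y ∈ V.Q := by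
  obtain ⟨y, hy, rfl⟩ := hy
  rw [V.nb_q y hy.1 hy.2]
  exact V.f_Q.2 (swQ_Q y)

theorem Kb_norm : V.Kb ≤ normalizer (V.Q : Set G) := by
  apply V.Kb_le_of
  · intro x hx
    exact mem_norm (fun y hy => V.T_norm_Q (V.X3_le hx) hy) (fun y hy => V.T_norm_Q (V.X3_le (inv_mem hx)) hy)
  · refine mem_norm (fun y hy => V.nb_Q hy) (fun y hy => ?_)
    rw [V.nb_inv]
    exact V.nb_Q hy

theorem Kb_Q' {k : G} (hk : k ∈ V.Kb) {x : G} (hx : x ∈ V.Q) : cg k x ∈ V.Q :=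
  (mem_normalizer_iff.1 (V.Kb_norm hk) x).1 hx

theorem ddE_X3 (y d : K) (h : d + star d = y * star y) : V.f (ddE y d h) ∈ V.X3 := V.f_X3.2 (ddE_mem y d h)

theorem inv_Q' {v : G} (hv : v ∈ V.Q) (hv1 : v * v = 1) : ∃ k ∈ V.Kb, cg k v ∈ V.W := by
  obtain ⟨v, hv, rfl⟩ := hv
  have h1 : v * v = 1 := V.inj (by rw [map_mul, hv1, map_one])
  have h3 : v.w1 * star v.w3 + v.w2 * star v.w2 + v.w3 * star v.w1 = 0 := by
    have h2 := congrArg T5.c h1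
    rw [mul_c, hv.1, hv.2, one_c] at h2
    simp only [star_zero, zero_mul, add_zero] at h2
    linear_combination h2 - v.c * two0 (K := K)
  by_cases hw : v.w1 = 0
  · have h4 : v.w2 = 0 := by
      rw [hw, star_zero, zero_mul, mul_zero, zero_add, add_zero] at h3
      rcases mul_eq_zero.1 h3 with h | h
      · exact h
      · exact star_eq_zero.1 h
    exact ⟨1, one_mem _, by simp only [cg, one_mul, inv_one, mul_one]; exact V.f_W.2 ⟨hw, h4, hv.1⟩⟩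
  · have hw' : star v.w1 ≠ 0 := fun h => hw (star_eq_zero.1 h)
    set y := v.w2 / v.w1 with hy
    set d := (v.w3 + star y * v.w2) / v.w1 with hd
    have hyd : d + star d = y * star y := by
      rw [hd, hy]
      simp only [star_div₀, star_add, star_mul', star_star]
      field_simp
      linear_combination h3 - (v.w1 * star v.w3 + v.w3 * star v.w1) * two0 (K := K) + (v.w1 * star v.w3 + v.w3 * star v.w1) * two0 (K := K)
    obtain ⟨a0, a1, a2, a3⟩ := conj_Qm (ddE y d hyd) hv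
    refine ⟨V.nb * V.f (ddE y d hyd), mul_mem V.nb_mem (mem_sup_left (V.ddE_X3 _ _ _)), ?_⟩
    rw [cg_comp, V.cg_f, V.nb_q _ a0.1 a0.2]
    refine V.f_W.2 ⟨?_, ?_, rfl⟩
    · show (ddE y d hyd * v * (ddE y d hyd)⁻¹).w3 = 0
      rw [a3]
      show v.w3 + star y * v.w2 + d * v.w1 = 0
      rw [hd, div_mul_cancel₀ _ hw]
      exact CharTwo.add_self_eq_zero _
    · show (ddE y d hyd * v * (ddE y d hyd)⁻¹).w2 = 0
      rw [a2]
      show v.w2 + y * v.w1 = 0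
      rw [hy, div_mul_cancel₀ _ hw]
      exact CharTwo.add_self_eq_zero _

/-! ### the torus and the root groups -/

theorem h_f_inv (α γ : K) (hα : α ∈ Fx K) (hγ : γ ∈ Fx K) (ha : α ≠ 0) (hg : γ ≠ 0) (x : T5 K) :
    cg (V.h α γ)⁻¹ (V.f x) = V.f (dia α⁻¹ γ⁻¹ (invF hα) (invF hγ) x) := by
  have h1 : cg (V.h α γ) (V.f (dia α⁻¹ γ⁻¹ (invF hα) (invF hγ) x)) = V.f x := by
    rw [V.h_f α γ hα hγ ha hg]
    congr 1
    ext <;> simp only [dia] <;> field_simp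
  rw [← h1, cg_inv_cg]

theorem h_nb (α γ : K) (hα : α ∈ Fx K) (hγ : γ ∈ Fx K) (ha : α ≠ 0) (hg : γ ≠ 0) :
    ∃ k ∈ V.Cn, V.h α γ * V.nb = V.nb * V.h (α * γ ^ 2) γ⁻¹ * k := by
  have h2 : α * γ ^ 2 ∈ Fx K := mul_mem_Fx hα (by rw [sq]; exact mul_mem_Fx hγ hγ)
  obtain ⟨k, hk, h1⟩ := V.nb_h (α * γ ^ 2) γ⁻¹ h2 (invF hγ) (mul_ne_zero ha (pow_ne_zero 2 hg)) (inv_ne_zero hg)
  rw [inv_inv, inv_pow, mul_inv_cancel_right₀ (pow_ne_zero 2 hg)] at h1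
  exact ⟨k⁻¹, inv_mem hk, by rw [h1]; group⟩

theorem h_na (α γ : K) (hα : α ∈ Fx K) (hγ : γ ∈ Fx K) (ha : α ≠ 0) (hg : γ ≠ 0) :
    ∃ k ∈ V.Cn, V.h α γ * V.na = V.na * V.h α⁻¹ (α * γ) * k := by
  obtain ⟨k, hk, h1⟩ := V.na_h α⁻¹ (α * γ) (invF hα) (mul_mem_Fx hα hγ) (inv_ne_zero ha) (mul_ne_zero ha hg)
  rw [inv_inv, inv_mul_cancel_left₀ ha] at h1
  exact ⟨k⁻¹, inv_mem hk, by rw [h1]; group⟩

/-- `Cn` centralises the subgroups of `T` -/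
theorem Cn_T {k : G} (hk : k ∈ V.Cn) {A : Subgroup G} (hA : A ≤ V.T) : cjS k A = A := by
  apply cjS_eq_of_comm
  rw [mem_centralizer_iff]
  intro x hx
  obtain ⟨x, rfl⟩ := hA hx
  exact (V.Cn_f k hk x).symm

/-- a subgroup of the model invariant under the torus -/
theorem h_map {α γ : K} (hα : α ∈ Fx K) (hγ : γ ∈ Fx K) (ha : α ≠ 0) (hg : γ ≠ 0) {A : Subgroup (T5 K)}
    (hA : ∀ (α γ : K) (hα : α ∈ Fx K) (hγ : γ ∈ Fx K), ∀ x ∈ A, dia α γ hα hγ x ∈ A) :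
    cjS (V.h α γ) (A.map V.f) = A.map V.f := by
  apply le_antisymm
  · rintro _ ⟨_, ⟨x, hx, rfl⟩, rfl⟩
    show cg _ _ ∈ _
    rw [V.h_f α γ hα hγ ha hg]
    exact ⟨_, hA _ _ _ _ _ hx, rfl⟩
  · rintro _ ⟨x, hx, rfl⟩
    refine ⟨_, ?_, cg_cg_inv (V.h α γ) _⟩
    rw [V.h_f_inv α γ hα hγ ha hg]
    exact ⟨_, hA _ _ _ _ _ hx, rfl⟩

theorem h_X0 {α γ : K} (hα : α ∈ Fx K) (hγ : γ ∈ Fx K) (ha : α ≠ 0) (hg : γ ≠ 0) : cjS (V.h α γ) V.X0 = V.X0 :=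
  V.h_map hα hγ ha hg fun _ _ _ _ x hx => by
    obtain ⟨a1, a2, a3, a4, a5⟩ := hx
    exact ⟨by simp [dia, a1], by simp [dia, a2], by simp [dia, a3], by simp [dia, a4], by simp [dia, a5]⟩

theorem h_X1 {α γ : K} (hα : α ∈ Fx K) (hγ : γ ∈ Fx K) (ha : α ≠ 0) (hg : γ ≠ 0) : cjS (V.h α γ) V.X1 = V.X1 :=
  V.h_map hα hγ ha hg fun _ _ _ _ x hx => by
    obtain ⟨a1, a2, a3, a4⟩ := hx
    exact ⟨by simp [dia, a1], by simp [dia, a2], by simp [dia, a3], by simp [dia, a4]⟩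

theorem h_X2 {α γ : K} (hα : α ∈ Fx K) (hγ : γ ∈ Fx K) (ha : α ≠ 0) (hg : γ ≠ 0) : cjS (V.h α γ) V.X2 = V.X2 :=
  V.h_map hα hγ ha hg fun _ _ _ _ x hx => by
    obtain ⟨a1, a2, a3, a4, a5⟩ := hx
    exact ⟨by simp [dia, a1], by simp [dia, a2], by simp [dia, a3], by simp [dia, a4], by simp [dia, a5]⟩

theorem h_X3 {α γ : K} (hα : α ∈ Fx K) (hγ : γ ∈ Fx K) (ha : α ≠ 0) (hg : γ ≠ 0) : cjS (V.h α γ) V.X3 = V.X3 :=
  V.h_map hα hγ ha hg fun _ _ _ _ x hx => by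
    obtain ⟨a1, a2, a3, a4⟩ := hx
    exact ⟨by simp [dia, a1], by simp [dia, a2], by simp [dia, a3], by simp [dia, a4]⟩

theorem h_Xb {α γ : K} (hα : α ∈ Fx K) (hγ : γ ∈ Fx K) (ha : α ≠ 0) (hg : γ ≠ 0) : cjS (V.h α γ) V.Xb = V.Xb :=
  V.h_map hα hγ ha hg fun _ _ _ _ x hx => by
    obtain ⟨a1, a2, a3, a4, a5⟩ := hx
    exact ⟨by simp [dia, a1], by simp [dia, a2], by simp [dia, a3], by simp [dia, a4], by simp [dia, a5]⟩

theorem h_X4 {α γ : K} (hα : α ∈ Fx K) (hγ : γ ∈ Fx K) (ha : α ≠ 0) (hg : γ ≠ 0) : cjS (V.h α γ) V.X4 = V.X4 := by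
  obtain ⟨k, hk, h1⟩ := V.h_na α γ hα hγ ha hg
  rw [X4, ← cjS_mul, h1, cjS_mul, cjS_mul, V.Cn_T hk V.X0_le, V.h_X0 (invF hα) (mul_mem_Fx hα hγ)
    (inv_ne_zero ha) (mul_ne_zero ha hg)]

theorem h_nb_S {α γ : K} (hα : α ∈ Fx K) (hγ : γ ∈ Fx K) (ha : α ≠ 0) (hg : γ ≠ 0) {A : Subgroup G} (hA : A ≤ V.T)
    (h : ∀ {α γ : K} (hα : α ∈ Fx K) (hγ : γ ∈ Fx K) (ha : α ≠ 0) (hg : γ ≠ 0), cjS (V.h α γ) A = A) :
    cjS (V.h α γ) (cjS V.nb A) = cjS V.nb A := by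
  obtain ⟨k, hk, h1⟩ := V.h_nb α γ hα hγ ha hg
  have h2 : α * γ ^ 2 ∈ Fx K := mul_mem_Fx hα (by rw [sq]; exact mul_mem_Fx hγ hγ)
  rw [← cjS_mul, h1, cjS_mul, cjS_mul, V.Cn_T hk hA, h h2 (invF hγ) (mul_ne_zero ha (pow_ne_zero 2 hg))
    (inv_ne_zero hg)]

theorem h_X7 {α γ : K} (hα : α ∈ Fx K) (hγ : γ ∈ Fx K) (ha : α ≠ 0) (hg : γ ≠ 0) : cjS (V.h α γ) V.X7 = V.X7 :=
  V.h_nb_S hα hγ ha hg V.X3_le V.h_X3

/-- the torus of `Lb` -/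
theorem h_mem_Lb [Finite K] {β : K} (hβ : β ∈ Fx K) (h0 : β ≠ 0) : ∃ g ∈ V.Lb, ∀ x : T5 K,
    cg g (V.f x) = V.f (dia β⁻¹ β (invF hβ) hβ x) := by
  have h1F : (1 : K) ∈ Fx K := star_one K
  obtain ⟨γ, hγ, hγγ⟩ := exists_sqrt hβ
  have hγ0 : γ ≠ 0 := by
    rintro rfl
    rw [zero_mul] at hγγ
    exact h0 hγγ.symm
  have hγ2 : γ ^ 2 ∈ Fx K := by rw [sq]; exact mul_mem_Fx hγ hγ
  have h1 : cjS (V.h 1 γ) V.Lb = V.Lb := by
    rw [Lb, cjS_sup, V.h_Xb h1F hγ one_ne_zero hγ0, V.h_nb_S h1F hγ one_ne_zero hγ0 V.Xb_le V.h_Xb]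
  have h2 : cg (V.h 1 γ) V.nb ∈ V.Lb := by
    rw [← h1]
    exact ⟨V.nb, V.nb_mem_Lb, rfl⟩
  obtain ⟨k, hk, h3⟩ := V.h_nb 1 γ h1F hγ one_ne_zero hγ0
  rw [one_mul] at h3
  have h4 := inv_mem (mul_mem (inv_mem V.nb_mem_Lb) h2)
  have h5 : (V.nb⁻¹ * cg (V.h 1 γ) V.nb)⁻¹ = V.h 1 γ * k⁻¹ * (V.h (γ ^ 2) γ⁻¹)⁻¹ := by
    rw [cg, h3]; group
  rw [h5] at h4
  refine ⟨_, h4, fun x => ?_⟩
  have h6 : ∀ y, cg k⁻¹ (V.f y) = V.f y := fun y => cg_eq_self (V.Cn_f _ (inv_mem hk) y)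
  rw [cg_comp, cg_comp, V.h_f_inv _ _ hγ2 (invF hγ) (pow_ne_zero 2 hγ0) (inv_ne_zero hγ0), h6,
    V.h_f 1 γ h1F hγ one_ne_zero hγ0]
  congr 1
  ext <;> simp only [dia, ← hγγ] <;> field_simp

/-- a subgroup containing `X_b` and the commutators of `X_3` with the torus contains `X_3` -/
theorem X3_le_of [Finite K] (h4 : 4 ≤ Nat.card (Fx K)) {H : Subgroup G} (hb : V.Xb ≤ H)
    (hc : ∀ g ∈ V.Lb, ∀ x ∈ V.X3, cg g x ∈ V.X3 → g * x * g⁻¹ * x⁻¹ ∈ H) : V.X3 ≤ H := by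
  obtain ⟨β, hβ, hβ0, hβ1⟩ : ∃ β ∈ Fx K, β ≠ 0 ∧ β ≠ 1 := by
    by_contra hcon
    push Not at hcon
    have h1 : (Fx K : Set K) ⊆ ({0, 1} : Set K) := by
      intro x hx
      by_cases h : x = 0
      · exact Or.inl h
      · exact Or.inr (hcon x hx h)
    have h2 := Set.ncard_le_ncard h1 (Set.toFinite _)
    have h3 := h2.trans ((Set.ncard_insert_le _ _).trans (by simp : _ ≤ 2))
    have h5 : Nat.card (Fx K) = (Fx K : Set K).ncard := rfl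
    omega
  obtain ⟨g, hg, hg'⟩ := V.h_mem_Lb hβ hβ0
  have hβ2 : β + 1 ≠ 0 := fun h => hβ1 (CharTwo.add_eq_zero.1 h)
  have hβs : star β = β := hβ
  rintro _ ⟨x, hx, rfl⟩
  -- an element of `X_3` with `y`-coordinate `x.y / (β + 1)`
  have e : (x.d / ((β + 1) * (β + 1))) + star (x.d / ((β + 1) * (β + 1))) = (x.y / (β + 1)) * star (x.y / (β + 1)) := by
    have h := x.hd
    simp only [star_div₀, star_mul', star_add, star_one, hβs]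
    field_simp
    linear_combination h
  set z := ddE (x.y / (β + 1)) (x.d / ((β + 1) * (β + 1))) e with hz
  have h1 : cg g (V.f z) ∈ V.X3 := by
    rw [hg']
    refine V.f_X3.2 ⟨?_, ?_, ?_, ?_⟩ <;> simp [dia, hz, ddE]
  have h2 := hc g hg (V.f z) (V.ddE_X3 _ _ _) h1
  rw [show g * V.f z * g⁻¹ = _ from hg' z, ← map_inv, ← map_mul] at h2
  have h3 : V.f (x * (dia β⁻¹ β (invF hβ) hβ z * z⁻¹)⁻¹) ∈ H := by
    apply hb
    apply V.f_Xb.2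
    obtain ⟨a1, a2, a3, a4⟩ := hx
    have b : x * (dia β⁻¹ β (invF hβ) hβ z * z⁻¹)⁻¹ ∈ X3m K := by
      refine mul_mem ⟨a1, a2, a3, a4⟩ (inv_mem (mul_mem ?_ (inv_mem (ddE_mem _ _ _))))
      refine ⟨?_, ?_, ?_, ?_⟩ <;> simp [dia, hz, ddE]
    obtain ⟨b1, b2, b3, b4⟩ := b
    refine ⟨b1, b2, b3, b4, ?_⟩
    rw [mul_y, inv_y, mul_y, inv_y]
    simp only [dia, hz, ddE]
    field_simp
    linear_combination x.y * two0 (K := K)
  have h5 := mul_mem h3 h2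
  rw [← map_mul, inv_mul_cancel_right] at h5
  exact h5

theorem Kb_gen' [Finite K] (h4 : 4 ≤ Nat.card (Fx K)) {C : Subgroup G} (h1 : ∀ z ∈ V.Z, V.na * z * V.na⁻¹ ∈ C)
    (h2 : ∀ k ∈ V.Kb, ∀ x ∈ C, k * x * k⁻¹ ∈ C) : V.Kb ≤ C := by
  have h3 : V.Xb ≤ C := by
    rintro _ ⟨x, ⟨a1, a2, a3, a4, a5⟩, rfl⟩
    have hd : x.d ∈ Fx K := by
      have h := x.hd
      rw [a5, zero_mul] at h
      exact (CharTwo.add_eq_zero.1 h).symm
    have h5 := h1 _ (V.f_Z.2 (ec_mem x.d hd))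
    rw [show V.na * V.f (ec x.d hd) * V.na⁻¹ = _ from V.na_w (Zm_le_Wm (ec_mem x.d hd))] at h5
    convert h5 using 2
    have hd' : star x.d = x.d := hd
    ext <;> simp [swR, ec, a1, a2, a3, a4, a5, hd']
  have h5 : V.Lb ≤ C := by
    refine sup_le h3 ?_
    rintro _ ⟨x, hx, rfl⟩
    exact h2 _ V.nb_mem _ (h3 hx)
  have h6 : V.X3 ≤ C := by
    apply V.X3_le_of h4 h3
    intro g hg x hx _
    have h7 := h2 x (mem_sup_left hx) _ (h5 (inv_mem hg))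
    have h8 := mul_mem (h5 hg) h7
    have e : g * (x * g⁻¹ * x⁻¹) = g * x * g⁻¹ * x⁻¹ := by group
    rwa [e] at h8
  refine sup_le h6 ?_
  rintro _ ⟨x, hx, rfl⟩
  exact h2 _ V.nb_mem _ (h6 hx)

end Env

end Cfsg.Agent.StdSpFour.UFive
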