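import Cfsg.Agent.StdSpFour.UFiveClose
import Cfsg.Agent.StdSpFour.RootRestrict

/-!
# S1778, type Sp₄(q), target U₅(q): the root groups of `E`, the Weyl elements of `X 0`
-/

set_option autoImplicit false
set_option linter.unusedSectionVars false
set_option linter.unusedSimpArgs false
set_option linter.unusedVariables false

namespace Cfsg.Agent.StdSpFour.UFive

open Cfsg.Agent.StdSpFour.UFiveModel Cfsg.Agent.StdSpFour.UFiveModel.T5 Cfsg.Agent.StdSpFour.StarField Subgroup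
open Cfsg.Agent.StdSpFour.ModelFacts Cfsg.Agent.SplitTwo Cfsg.Agent.StdSpFour.RootEight
open Cfsg.Agent.StdSpFour.UFour (cg cg_mul cg_one cg_inv cg_comp cg_inv_cg cg_cg_inv cg_inj cg_eq_self comm_of_cg
  mem_norm exists_norm)

variable {K : Type*} [Field K] [StarRing K] [CharP K 2] [Finite K] {G : Type*} [Group G]

namespace Env

variable (V : Env K G)

/-- the eight root groups -/
def X : ZMod (2 * 4) → Subgroup G := fun i =>
  if i = 0 then V.X0 else if i = 1 then V.X1 else if i = 2 then V.X2 else if i = 3 then V.X3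
  else if i = 4 then V.X4 else if i = 5 then cjS V.na V.X7 else if i = 6 then cjS V.nb V.X4 else V.X7

theorem X_0 : V.X 0 = V.X0 := rfl
theorem X_1 : V.X 1 = V.X1 := rfl
theorem X_2 : V.X 2 = V.X2 := rfl
theorem X_3 : V.X 3 = V.X3 := rfl
theorem X_4 : V.X 4 = V.X4 := rfl
theorem X_5 : V.X 5 = cjS V.na V.X7 := rfl
theorem X_6 : V.X 6 = cjS V.nb V.X4 := rfl
theorem X_7 : V.X 7 = V.X7 := rfl

/-- an involution exchanging two subgroups -/
theorem cjS_eq_of {g : G} (hg : g * g = 1) {A B : Subgroup G} (h1 : ∀ x ∈ A, cg g x ∈ B) (h2 : ∀ x ∈ B, cg g x ∈ A) :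
    cjS g A = B := by
  apply le_antisymm
  · rintro _ ⟨x, hx, rfl⟩
    exact h1 x hx
  · intro x hx
    refine ⟨cg g x, h2 x hx, ?_⟩
    show cg g (cg g x) = x
    rw [← cg_comp, hg]
    simp [cg]

theorem cjS_cjS_of {g : G} (hg : g * g = 1) (A : Subgroup G) : cjS g (cjS g A) = A := by
  rw [← cjS_mul, hg, cjS_one]

theorem na_X1 : cjS V.na V.X1 = V.X3 := by
  apply cjS_eq_of V.na_na
  · rintro _ ⟨x, ⟨a1, a2, a3, a4⟩, rfl⟩
    rw [V.na_r x a1]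
    exact V.f_X3.2 ⟨rfl, a3, by simp [swR, a2, a3], by simp [swR, a4]⟩
  · rintro _ ⟨x, ⟨a1, a2, a3, a4⟩, rfl⟩
    rw [V.na_r x a1]
    exact V.f_X1.2 ⟨rfl, by simp [swR, a2, a3], a2, by simp [swR, a4]⟩

theorem na_X3 : cjS V.na V.X3 = V.X1 := by rw [← V.na_X1, cjS_cjS_of V.na_na]

theorem na_X2 : cjS V.na V.X2 = V.X2 := by
  have : ∀ x ∈ V.X2, cg V.na x ∈ V.X2 := by
    rintro _ ⟨x, ⟨a1, a2, a3, a4, a5⟩, rfl⟩
    rw [V.na_r x a1]
    exact V.f_X2.2 ⟨rfl, a4, by simp [swR, a5], a2, by simp [swR, a3]⟩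
  exact cjS_eq_of V.na_na this this

theorem na_R : cjS V.na V.R = V.R := by
  have : ∀ x ∈ V.R, cg V.na x ∈ V.R := by
    rintro _ ⟨x, a1, rfl⟩
    rw [V.na_r x a1]
    exact V.f_R.2 rfl
  exact cjS_eq_of V.na_na this this

theorem na_W : cjS V.na V.W = V.W := by
  have : ∀ x ∈ V.W, cg V.na x ∈ V.W := by
    rintro _ ⟨x, hx, rfl⟩
    rw [V.na_w hx]
    exact V.f_W.2 (swR_W hx)
  exact cjS_eq_of V.na_na this this

theorem nb_X1 : cjS V.nb V.X1 = V.X1 := by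
  have : ∀ x ∈ V.X1, cg V.nb x ∈ V.X1 := by
    rintro _ ⟨x, ⟨a1, a2, a3, a4⟩, rfl⟩
    rw [V.nb_q x a3 a4]
    exact V.f_X1.2 ⟨a2, a1, rfl, rfl⟩
  exact cjS_eq_of V.nb_nb this this

theorem nb_X0 : cjS V.nb V.X0 = V.X2 := by
  apply cjS_eq_of V.nb_nb
  · rintro _ ⟨x, ⟨a1, a2, a3, a4, a5⟩, rfl⟩
    rw [V.nb_q x a4 a5]
    exact V.f_X2.2 ⟨a2, a1, a3, rfl, rfl⟩
  · rintro _ ⟨x, ⟨a1, a2, a3, a4, a5⟩, rfl⟩
    rw [V.nb_q x a4 a5]
    exact V.f_X0.2 ⟨a2, a1, a3, rfl, rfl⟩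

theorem nb_X2 : cjS V.nb V.X2 = V.X0 := by rw [← V.nb_X0, cjS_cjS_of V.nb_nb]

section braid

theorem na_X' (i : ZMod (2 * 4)) (hbr : V.na * V.nb * V.na * V.nb = V.nb * V.na * V.nb * V.na) :
    cjS V.na (V.X i) = V.X (4 - i) := by
  have key : ∀ j : ZMod (2 * 4), j = 0 ∨ j = 1 ∨ j = 2 ∨ j = 3 ∨ j = 4 ∨ j = 5 ∨ j = 6 ∨ j = 7 := by decide
  rcases key i with rfl | rfl | rfl | rfl | rfl | rfl | rfl | rfl
  · rfl
  · exact V.na_X1
  · exact V.na_X2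
  · exact V.na_X3
  · exact cjS_cjS_of V.na_na _
  · exact cjS_cjS_of V.na_na _
  · show cjS V.na (cjS V.nb (cjS V.na V.X0)) = cjS V.nb (cjS V.na V.X0)
    have h1 : cjS (V.na * V.nb * V.na * V.nb) V.X2 = cjS (V.nb * V.na * V.nb * V.na) V.X2 := by rw [hbr]
    rw [cjS_mul, cjS_mul, cjS_mul, V.nb_X2, cjS_mul, cjS_mul, cjS_mul, V.na_X2, V.nb_X2] at h1
    exact h1
  · rfl

theorem nb_X' (i : ZMod (2 * 4)) (hbr : V.na * V.nb * V.na * V.nb = V.nb * V.na * V.nb * V.na) :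
    cjS V.nb (V.X i) = V.X (2 - i) := by
  have key : ∀ j : ZMod (2 * 4), j = 0 ∨ j = 1 ∨ j = 2 ∨ j = 3 ∨ j = 4 ∨ j = 5 ∨ j = 6 ∨ j = 7 := by decide
  rcases key i with rfl | rfl | rfl | rfl | rfl | rfl | rfl | rfl
  · exact V.nb_X0
  · exact V.nb_X1
  · exact V.nb_X2
  · rfl
  · rfl
  · show cjS V.nb (cjS V.na (cjS V.nb V.X3)) = cjS V.na (cjS V.nb V.X3)
    have h1 : cjS (V.na * V.nb * V.na * V.nb) V.X1 = cjS (V.nb * V.na * V.nb * V.na) V.X1 := by rw [hbr]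
    rw [cjS_mul, cjS_mul, cjS_mul, V.nb_X1, V.na_X1, cjS_mul, cjS_mul, cjS_mul, V.na_X1] at h1
    exact h1.symm
  · exact cjS_cjS_of V.nb_nb _
  · exact cjS_cjS_of V.nb_nb _

end braid

/-! ### the Weyl elements of `X 0` -/

/-- `{h 1 γ}` -/
def D : Subgroup G := closure {x | ∃ γ ∈ Fx K, γ ≠ 0 ∧ x = V.h 1 γ}

theorem Ka_D : V.Ka ≤ centralizer (V.D : Set G) := by
  intro x hx
  rw [D, centralizer_closure, mem_centralizer_iff]
  rintro _ ⟨γ, hγ, h0, rfl⟩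
  exact V.h_Ka hγ h0 hx

theorem exists_beta (h4 : 4 ≤ Nat.card (Fx K)) : ∃ β ∈ Fx K, β ≠ 0 ∧ β ≠ 1 := by
  by_contra hcon
  push Not at hcon
  have h1 : (Fx K : Set K) ⊆ ({0, 1} : Set K) := by
    intro x hx
    by_cases h : x = 0
    · exact Or.inl h
    · exact Or.inr (hcon x hx h)
  have h2 := Set.ncard_le_ncard h1 (Set.toFinite _)
  have h3 := h2.trans ((Set.ncard_insert_le _ _).trans (by simp : _ ≤ 2))
  have h5 : Nat.card (Fx K) = (Fx K : Set K).ncard := rfl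
  omega

theorem T_D (h4 : 4 ≤ Nat.card (Fx K)) : V.T ⊓ centralizer (V.D : Set G) ≤ V.X0 := by
  rintro _ ⟨⟨x, rfl⟩, hx⟩
  have h1F : (1 : K) ∈ Fx K := star_one K
  obtain ⟨β, hβ, hβ0, hβ1⟩ := exists_beta h4
  have h1 := mem_centralizer_iff.1 hx (V.h 1 β) (subset_closure ⟨β, hβ, hβ0, rfl⟩)
  have h2 := cg_eq_self h1
  rw [V.h_f 1 β h1F hβ one_ne_zero hβ0] at h2
  have h3 := V.inj h2
  have key : ∀ y : K, β * y = y → y = 0 := by
    intro y hy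
    have : (β - 1) * y = 0 := by linear_combination hy
    exact (mul_eq_zero.1 this).resolve_left (sub_ne_zero.2 hβ1)
  have key2 : ∀ y : K, β ^ 2 * y = y → y = 0 := by
    intro y hy
    apply key
    have h4 : (β + 1) * ((β + 1) * y) = 0 := by linear_combination hy + (β * y + y) * two0 (K := K)
    have h5 : β + 1 ≠ 0 := fun h => hβ1 (CharTwo.add_eq_zero.1 h)
    have h6 := (mul_eq_zero.1 h4).resolve_left h5
    linear_combination h6 - y * two0 (K := K)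
  have e1 := congrArg T5.w2 h3
  have e2 := congrArg T5.w3 h3
  have e3 := congrArg T5.c h3
  have e4 := congrArg T5.y h3
  have e5 := congrArg T5.d h3
  simp only [dia, one_mul, one_pow] at e1 e2 e3 e4 e5
  exact V.f_X0.2 ⟨key _ e1, key2 _ e2, key2 _ e3, key _ e4, key2 _ e5⟩

theorem T_norm_R {x : G} (hx : x ∈ V.T) {y : G} (hy : y ∈ V.R) : cg x y ∈ V.R := by
  obtain ⟨x, rfl⟩ := hx
  obtain ⟨y, hy, rfl⟩ := hy
  rw [V.cg_f]
  apply V.f_R.2
  rw [mul_inv_mem_Rm, mul_w1, show y.w1 = 0 from hy, add_zero]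

theorem T_le_norm {A : Subgroup G} (h : ∀ x ∈ V.T, ∀ y ∈ A, cg x y ∈ A) : V.T ≤ normalizer (A : Set G) :=
  fun x hx => mem_norm (fun y hy => h x hx y hy) (fun y hy => h x⁻¹ (inv_mem hx) y hy)

theorem X0_norm_R : V.X0 ≤ normalizer (V.R : Set G) :=
  V.X0_le.trans (V.T_le_norm fun _ hx _ hy => V.T_norm_R hx hy)

theorem T_norm_W : V.T ≤ normalizer (V.W : Set G) := V.T_le_norm fun x hx y hy => V.T_normal_W x hx y hy

theorem cent_X0 (hs : ∃ x : K, star x ≠ x) : V.R ⊓ centralizer (V.X0 : Set G) = V.X1 := by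
  apply le_antisymm
  · rintro _ ⟨⟨r, hr, rfl⟩, hx⟩
    have hr : r.w1 = 0 := hr
    have key : ∀ m : K, e1 m * r = r * e1 m := by
      intro m
      apply V.inj
      rw [map_mul, map_mul]
      exact mem_centralizer_iff.1 hx _ (V.e1_X0 m)
    have k1 := congrArg T5.w2 (key 1)
    have k2 := congrArg T5.w3 (key 1)
    simp only [mul_w2, mul_w3, e1, hr, mul_zero, zero_mul, add_zero, zero_add, mul_one, star_zero] at k1 k2
    have hy : r.y = 0 := by linear_combination -k1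
    have hd : r.d = 0 := by linear_combination -k2
    have hw : r.w3 = 0 := by
      apply no_sym hs
      intro m
      have k3 := congrArg T5.c (key m)
      rw [mul_c, mul_c] at k3
      simp only [e1, hr, hy, hd, mul_zero, zero_mul, add_zero, zero_add, star_zero] at k3
      linear_combination -k3
    exact V.f_X1.2 ⟨hr, hw, hy, hd⟩
  · rintro _ ⟨x, ⟨a1, a2, a3, a4⟩, rfl⟩
    refine ⟨V.f_R.2 a1, mem_centralizer_iff.2 ?_⟩
    rintro _ ⟨y, ⟨b1, b2, b3, b4, b5⟩, rfl⟩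
    rw [← map_mul, ← map_mul]
    congr 1
    ext
    · simp only [mul_w1, a1, b1]; ring
    · simp only [mul_w2, a1, a3, b1, b4]; ring
    · simp only [mul_w3, a1, a2, a3, a4, b1, b2, b4, b5, star_zero]; ring
    · simp only [mul_c, a1, a2, a3, a4, b1, b2, b3, b4, b5, star_zero, mul_zero, zero_mul, add_zero, zero_add]
    · simp only [mul_y]; ring
    · simp only [mul_d, a3, b4, star_zero]; ring

theorem mem_X12 {x : T5 K} : V.f x ∈ V.X1 ⊔ V.X2 ↔ x.w1 = 0 ∧ x.y = 0 ∧ x.d = 0 := by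
  constructor
  · intro hx
    have h1 : V.X1 ⊔ V.X2 ≤ (Rm K ⊓ Qm K).map V.f := by
      refine sup_le (Subgroup.map_mono ?_) (Subgroup.map_mono ?_)
      · exact fun y hy => ⟨hy.1, hy.2.2.1, hy.2.2.2⟩
      · exact fun y hy => ⟨hy.1, hy.2.2.2.1, hy.2.2.2.2⟩
    obtain ⟨h2, h3, h4⟩ := V.f_mem.1 (h1 hx)
    exact ⟨h2, h3, h4⟩
  · rintro ⟨h1, h2, h3⟩
    rw [Qm_decomp ⟨h2, h3⟩, map_mul, map_mul]
    have e : (e1 x.w1 : T5 K) = 1 := by rw [h1]; rfl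
    rw [e, map_one, one_mul]
    exact mul_mem (mem_sup_left (V.f_X1.2 (ccE_mem _ _ _))) (mem_sup_right (V.em_X2 _))

theorem X12_le : V.X1 ⊔ V.X2 ≤ V.T := sup_le V.X1_le V.X2_le

theorem com_X0 : V.X1 ⊔ ⁅V.X0, V.R⁆ = V.X1 ⊔ V.X2 := by
  apply le_antisymm
  · refine sup_le le_sup_left ?_
    rw [commutator_le]
    rintro _ ⟨x, hx, rfl⟩ _ ⟨r, hr, rfl⟩
    show V.f x * V.f r * (V.f x)⁻¹ * (V.f r)⁻¹ ∈ _
    rw [← map_mul, ← map_inv, ← map_mul, ← map_inv, ← map_mul]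
    apply V.mem_X12.2
    have hr : r.w1 = 0 := hr
    obtain ⟨a1, a2, a3, a4, a5⟩ := hx
    have e : x * r * x⁻¹ * r⁻¹ = (x * r) * (r * x)⁻¹ := by group
    have h1 : (x * r) * (r * x)⁻¹ ∈ Qm K := by
      rw [mul_inv_mem_Qm]
      simp only [mul_y, mul_d, a4, a5]
      simp
    have h2 : (x * r) * (r * x)⁻¹ ∈ Rm K := by
      rw [mul_inv_mem_Rm]
      simp only [mul_w1]
      ring
    rw [e]
    exact ⟨h2, h1.1, h1.2⟩
  · refine sup_le le_sup_left ?_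
    rintro _ ⟨x, hx, rfl⟩
    have h1 : V.f (e1 x.w3) * V.f oned * (V.f (e1 x.w3))⁻¹ * (V.f oned)⁻¹ ∈ ⁅V.X0, V.R⁆ :=
      commutator_mem_commutator (V.e1_X0 _) (V.f_R.2 rfl)
    rw [← map_mul, ← map_inv, ← map_mul, ← map_inv, ← map_mul] at h1
    have h2 : V.f (oned * e1 x.w3 * oned⁻¹ * (e1 x.w3)⁻¹) ∈ ⁅V.X0, V.R⁆ := by
      have h3 := inv_mem h1
      rw [← map_inv] at h3
      convert h3 using 2
      group
    obtain ⟨⟨b4, b5⟩, b1, b2, b3⟩ := comm_Qm' (oned : T5 K) (e1_mem x.w3)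
    obtain ⟨a1, a2, a3, a4, a5⟩ := hx
    have hZ : V.Z ≤ V.X1 ⊔ ⁅V.X0, V.R⁆ :=
      le_trans (Subgroup.map_mono fun _ h => ⟨h.1, h.2.2.1, h.2.2.2.1, h.2.2.2.2⟩ : V.Z ≤ V.X1) le_sup_left
    apply V.mem_of_Z hZ (mem_sup_right h2)
    · rw [b1, a1]
    · rw [b2, a2]; simp [oned]
    · rw [b3]; simp [oned, e1]
    · rw [b4, a4]
    · rw [b5, a5]

theorem inf_X : (V.X1 ⊔ V.X2) ⊓ (V.X3 ⊔ V.X2) = V.X2 := by
  apply le_antisymm
  · rintro x ⟨h1, h2⟩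
    obtain ⟨x, rfl⟩ := V.X12_le h1
    obtain ⟨a1, a2, a3⟩ := V.mem_X12.1 h1
    have h3 : V.na * V.f x * V.na⁻¹ ∈ cjS V.na (V.X3 ⊔ V.X2) := mem_cjS.2 h2
    rw [cjS_sup, V.na_X3, V.na_X2] at h3
    rw [show V.na * V.f x * V.na⁻¹ = _ from V.na_r x a1, V.mem_X12] at h3
    obtain ⟨-, h4, h5⟩ := h3
    exact V.f_X2.2 ⟨a1, h4, by simpa [swR] using h5, a2, a3⟩
  · exact le_inf le_sup_right le_sup_right

/-- `Ka` permutes the points: an element of `Ka` fixes `Z` or maps it as `x na`, `x ∈ X 0` -/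
theorem Ka_points [Finite G] {k : G} (hk : k ∈ V.Ka) :
    cjS k V.Z = V.Z ∨ ∃ x ∈ V.X0, cjS k V.Z = cjS (x * V.na) V.Z := by
  have h1F : (1 : K) ∈ Fx K := star_one K
  have hz1 : V.f (ec 1 h1F) ≠ 1 := fun h =>
    one_ne_zero (congrArg T5.c (V.inj (h.trans (map_one V.f).symm)))
  have hz : V.f (ec 1 h1F) ∈ V.Z := V.f_Z.2 (ec_mem _ _)
  -- an element of `Ka` mapping `z` into `Z` fixes `Z`
  have fix : ∀ k ∈ V.Ka, ∀ z ∈ V.Z, z ≠ 1 → cg k z ∈ V.Z → cjS k V.Z = V.Z := by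
    intro k hk z hz hz1 h
    have h1 : cjS k V.Z ≤ V.Z := by
      rintro _ ⟨z', hz', rfl⟩
      exact V.Ka_TI' hk hz hz1 h hz'
    exact Subgroup.eq_of_le_of_card_ge h1 (by rw [Subgroup.card_map_of_injective (MulAut.conj k).injective])
  have h1 : cg k (V.f (ec 1 h1F)) ∈ V.S := (V.S_iff' _).2 ⟨k, hk, _, hz, hz1, rfl⟩
  obtain ⟨w, ⟨hw, h2, h3⟩, h4⟩ := h1
  have hdM : w.d ∈ Fx K := (Wm_c hw).2
  have hdF : star w.d = w.d := hdM
  by_cases hd : w.d = 0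
  · left
    refine fix k hk _ hz hz1 ?_
    rw [← h4]
    exact V.f_Z.2 (Sm_Qm ⟨hw, h2, h3⟩ ⟨hw.2.2, hd⟩)
  · right
    refine ⟨V.f (e1 (w.w3 / w.d)), V.e1_X0 _, ?_⟩
    set x := V.f (e1 (w.w3 / w.d)) with hx
    have hxK : x * V.na ∈ V.Ka := mul_mem (mem_sup_left (V.e1_X0 _)) V.na_mem
    have h7 : cg (x * V.na) (V.f (wEl 0 w.d 0 hdM (zero_mem _))) = cg k (V.f (ec 1 h1F)) := by
      rw [← h4, cg_comp, V.na_wEl, hx, V.a_wEl]
      congr 1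
      apply Wm_ext (wEl_mem _ _ _ _ _) hw
      · show star (0 : K) + w.d * (w.w3 / w.d) = w.w3
        rw [star_zero]
        field_simp
        ring
      · show (0 : K) + (w.w3 / w.d * star (star (0 : K)) + star (0 : K) * star (w.w3 / w.d)) +
          w.d * (w.w3 / w.d * star (w.w3 / w.d)) = w.c
        rw [star_div₀, hdF]
        simp only [star_zero, mul_zero, zero_mul, zero_add]
        field_simp
        linear_combination -h2
      · rfl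
    have h8 : cg ((x * V.na)⁻¹ * k) (V.f (ec 1 h1F)) = V.f (wEl 0 w.d 0 hdM (zero_mem _)) := by
      rw [cg_comp, ← h7, cg_inv_cg]
    have h9 := fix _ (mul_mem (inv_mem hxK) hk) _ hz hz1 (by
      rw [h8]; exact V.f_Z.2 ⟨rfl, rfl, rfl, rfl, rfl⟩)
    have h10 : k = (x * V.na) * ((x * V.na)⁻¹ * k) := by group
    rw [h10, cjS_mul, h9]

theorem Ka_cjS_W {k : G} (hk : k ∈ V.Ka) : cjS k V.W = V.W := by
  have : V.Ka ≤ normalizer (V.W : Set G) := V.Ka_le_of (V.X0_le.trans V.T_norm_W) (mem_normalizer_of_cjS V.na_W)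
  exact cjS_eq_of_normalizer (this hk)

theorem Z_eq (hs : ∃ x : K, star x ≠ x) : V.T ⊓ centralizer (V.T : Set G) = V.Z := by
  apply le_antisymm
  · rintro _ ⟨⟨x, rfl⟩, hx⟩
    apply V.f_Z.2
    apply Q_cent hs
    intro y hy
    apply V.inj
    rw [map_mul, map_mul]
    exact (mem_centralizer_iff.1 hx _ (V.f_T y)).symm
  · intro z hz
    exact mem_inf.2 ⟨V.Z_le hz, mem_centralizer_iff.2 fun x hx => (V.Z_cent' hz hx).symm⟩

theorem cjS_Z_of_T (hs : ∃ x : K, star x ≠ x) {g h : G} (e : cjS g V.T = cjS h V.T) : cjS g V.Z = cjS h V.Z := by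
  rw [← V.Z_eq hs, cjS_inf, cjS_inf, cjS_centralizer, cjS_centralizer, e]

theorem na_Z_eq : cjS V.na V.Z = V.Xb := by
  apply cjS_eq_of V.na_na
  · rintro _ ⟨x, hx, rfl⟩
    obtain ⟨hc, -⟩ := eq_ec hx
    obtain ⟨a1, a2, a3, a4, a5⟩ := hx
    rw [V.na_r x a1]
    exact V.f_Xb.2 ⟨rfl, a4, by simp [swR, a2, a3], by simp [swR, a5], a2⟩
  · rintro _ ⟨x, ⟨a1, a2, a3, a4, a5⟩, rfl⟩
    rw [V.na_r x a1]
    exact V.f_Z.2 ⟨rfl, a5, by simp [swR, a2, a3], a2, by simp [swR, a4]⟩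

theorem reg' (hs : ∃ x : K, star x ≠ x) : ∀ x ∈ V.X0, cjS (x * V.na) V.T = cjS V.na V.T → x = 1 := by
  intro x hx h
  have h1 := V.cjS_Z_of_T hs h
  have h1F : (1 : K) ∈ Fx K := star_one K
  rw [cjS_mul, V.na_Z_eq] at h1
  obtain ⟨x, hx, rfl⟩ := hx
  have h2 : cg (V.f x) (V.f (wEl 0 0 1 (zero_mem _) h1F)) ∈ V.Xb := by
    rw [← h1]
    exact ⟨_, V.f_Xb.2 ⟨rfl, rfl, rfl, rfl, rfl⟩, rfl⟩
  rw [V.a_wEl] at h2
  obtain ⟨-, -, h3, h4, h5⟩ := V.f_Xb.1 h2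
  simp only [wEl, one_mul, zero_add] at h3
  rw [eq_e1 hx, h3]
  exact map_one V.f

theorem tr' [Finite G] {E : Subgroup G} (hE : V.Ka ≤ E)
    (nW : ∀ g ∈ E, cjS g V.W = V.W → cjS g V.Z = V.Z → cjS g V.T = V.T) :
    ∀ k ∈ closure ((V.X0 : Set G) ∪ {V.na}), cjS k V.T = V.T ∨ ∃ x ∈ V.X0, cjS k V.T = cjS (x * V.na) V.T := by
  intro k hk
  have hkK : k ∈ V.Ka := by
    have : closure ((V.X0 : Set G) ∪ {V.na}) ≤ V.Ka := by
      rw [closure_le]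
      rintro x (hx | hx)
      · exact mem_sup_left hx
      · rw [Set.mem_singleton_iff.1 hx]
        exact V.na_mem
    exact this hk
  rcases V.Ka_points hkK with h | ⟨x, hx, h⟩
  · exact Or.inl (nW k (hE hkK) (V.Ka_cjS_W hkK) h)
  · right
    refine ⟨x, hx, ?_⟩
    have hxK : x * V.na ∈ V.Ka := mul_mem (mem_sup_left hx) V.na_mem
    have h1 : (x * V.na)⁻¹ * k ∈ V.Ka := mul_mem (inv_mem hxK) hkK
    have h2 : cjS ((x * V.na)⁻¹ * k) V.Z = V.Z := by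
      rw [cjS_mul, h, ← cjS_mul, inv_mul_cancel, cjS_one]
    have h3 := nW _ (hE h1) (V.Ka_cjS_W h1) h2
    have h10 : k = (x * V.na) * ((x * V.na)⁻¹ * k) := by group
    rw [h10, cjS_mul, h3]

theorem mu0' [Finite G] (hs : ∃ x : K, star x ≠ x) (h4 : 4 ≤ Nat.card (Fx K)) {E : Subgroup G} (hE : V.Ka ≤ E)
    (nW : ∀ g ∈ E, cjS g V.W = V.W → cjS g V.Z = V.Z → cjS g V.T = V.T)
    (hbr : V.na * V.nb * V.na * V.nb = V.nb * V.na * V.nb * V.na) :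
    ∀ u ∈ V.X 0, u ≠ 1 → ∃ v ∈ V.X 4, ∃ v' ∈ V.X 4, ∀ j, cjS (v * u * v') (V.X j) = V.X (4 - j) := by
  set w := V.nb * V.na * V.nb with hw
  have w_X : ∀ i, cjS w (V.X i) = V.X (-i) := by
    intro i
    rw [hw, cjS_mul, cjS_mul, V.nb_X' _ hbr, V.na_X' _ hbr, V.nb_X' _ hbr]
    congr 1
    ring
  have w0 : cjS w V.X0 = V.X0 := w_X 0
  have wn : w * V.na = V.na * w := by
    rw [hw]
    have := hbr
    calc V.nb * V.na * V.nb * V.na = V.na * V.nb * V.na * V.nb := this.symm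
      _ = _ := by group
  have w1 : cjS w V.X1 = V.X 7 := w_X 1
  have w2 : cjS w V.X2 = V.X 6 := w_X 2
  have w3 : cjS w V.X3 = V.X 5 := w_X 3
  have hwinv : w * w = 1 := by
    rw [hw]
    calc V.nb * V.na * V.nb * (V.nb * V.na * V.nb) = V.nb * V.na * (V.nb * V.nb) * V.na * V.nb := by group
      _ = V.nb * (V.na * V.na) * V.nb := by rw [V.nb_nb]; group
      _ = 1 := by rw [V.na_na, mul_one, V.nb_nb]
  have hX0D : V.X0 ≤ centralizer (V.D : Set G) := (le_sup_left : V.X0 ≤ V.Ka).trans V.Ka_D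
  refine mu_of (X := V.X) (n := V.na) (D := V.D) (T := V.T) (R := V.R) (R' := cjS w V.R)
    (fun i => V.na_X' i hbr) hX0D (V.Ka_D V.na_mem) (V.T_D h4) V.X0_le (by rw [V.na_na, cjS_one]) (V.tr' hE nW)
    (V.reg' hs) V.na_R ?_ V.X0_norm_R ?_ (V.cent_X0 hs) ?_ V.com_X0 ?_ V.inf_X ?_
  · rw [← cjS_mul, ← wn, cjS_mul, V.na_R]
  · intro x hx
    have h1 : w * x * w⁻¹ ∈ V.X0 := by
      rw [← w0]; exact ⟨x, hx, rfl⟩
    apply mem_normalizer_of_cjS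
    have h2 := cjS_eq_of_normalizer (V.X0_norm_R h1)
    have h3 : x * w = w * (w * x * w⁻¹) := by
      have : w⁻¹ = w := inv_eq_of_mul_eq_one_left hwinv
      rw [this]
      calc x * w = (w * w) * x * w := by rw [hwinv, one_mul]
        _ = _ := by group
    rw [← cjS_mul, h3, cjS_mul, h2]
  · have := congrArg (cjS w) (V.cent_X0 hs)
    rw [cjS_inf, cjS_centralizer, w0, w1] at this
    exact this
  · have := congrArg (cjS w) V.com_X0
    rw [cjS_sup, cjS_sup, cjS_comm, w0, w1, w2] at this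
    exact this
  · have := congrArg (cjS w) V.inf_X
    rw [cjS_inf, cjS_sup, cjS_sup, w1, w2, w3] at this
    exact this

end Env

end Cfsg.Agent.StdSpFour.UFive
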