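import Cfsg.Agent.StdSpFour.UFiveRoot

/-!
# S1778, type Sp₄(q), target U₅(q): the Weyl elements of `X 3`
-/

set_option autoImplicit false
set_option linter.unusedSectionVars false
set_option linter.unusedSimpArgs false
set_option linter.unusedVariables false

namespace Cfsg.Agent.StdSpFour.UFive

open Cfsg.Agent.StdSpFour.UFiveModel Cfsg.Agent.StdSpFour.UFiveModel.T5 Cfsg.Agent.StdSpFour.StarField Subgroup
open Cfsg.Agent.StdSpFour.ModelFacts Cfsg.Agent.SplitTwo Cfsg.Agent.StdSpFour.RootEight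
open Cfsg.Agent.StdSpFour.UFour (cg cg_mul cg_one cg_inv cg_comp cg_inv_cg cg_cg_inv cg_inj cg_eq_self comm_of_cg
  mem_norm exists_norm)

/-- one side of the root system -/
theorem fix_side {G : Type*} [Group G] {h : G} {X3 X7 Q Z A0 A1 A2 B0 B2 : Subgroup G}
    (h3 : cjS h X3 = X3) (h7 : cjS h X7 = X7) (hQ : cjS h Q = Q) (hZ : cjS h Z = Z)
    (cent : Q ⊓ centralizer (X3 : Set G) = A2 ⊔ Z) (cent' : Q ⊓ centralizer (X7 : Set G) = A0 ⊔ Z)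
    (com : ⁅X3, Q⁆ ⊔ (A2 ⊔ Z) = A1 ⊔ A2) (com' : ⁅X7, Q⁆ ⊔ (A0 ⊔ Z) = A1 ⊔ A0)
    (inf : (A1 ⊔ A2) ⊓ (A1 ⊔ A0) = A1) (hB2 : cjS h B2 = B2) (hB0 : cjS h B0 = B0)
    (i2 : (A2 ⊔ Z) ⊓ B2 = A2) (i0 : (A0 ⊔ Z) ⊓ B0 = A0) :
    cjS h A0 = A0 ∧ cjS h A1 = A1 ∧ cjS h A2 = A2 := by
  have c2 : cjS h (A2 ⊔ Z) = A2 ⊔ Z := by rw [← cent, cjS_inf, hQ, cjS_centralizer, h3]
  have c0 : cjS h (A0 ⊔ Z) = A0 ⊔ Z := by rw [← cent', cjS_inf, hQ, cjS_centralizer, h7]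
  have d2 : cjS h (A1 ⊔ A2) = A1 ⊔ A2 := by rw [← com, cjS_sup, cjS_comm, h3, hQ, c2]
  have d0 : cjS h (A1 ⊔ A0) = A1 ⊔ A0 := by rw [← com', cjS_sup, cjS_comm, h7, hQ, c0]
  refine ⟨?_, ?_, ?_⟩
  · conv_lhs => rw [← i0]
    rw [cjS_inf, c0, hB0, i0]
  · conv_lhs => rw [← inf]
    rw [cjS_inf, d2, d0, inf]
  · conv_lhs => rw [← i2]
    rw [cjS_inf, c2, hB2, i2]

section model

variable {K : Type*} [Field K] [StarRing K] [CharP K 2]

/-- the form -/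
def hh (v : T5 K) : K := v.w1 * star v.w3 + v.w2 * star v.w2 + v.w3 * star v.w1

theorem hh_conj (n : T5 K) {v : T5 K} (hv : v ∈ Qm K) : hh (n * v * n⁻¹) = hh v := by
  obtain ⟨-, h1, h2, h3⟩ := conj_Qm n hv
  have hd := n.hd
  rw [hh, h1, h2, h3, hh]
  simp only [star_add, star_mul', star_star]
  linear_combination v.w1 * star v.w1 * hd + (v.w1 * n.y * star v.w2 + v.w2 * star n.y * star v.w1 +
    v.w1 * star v.w1 * n.y * star n.y) * two0 (K := K)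

end model

variable {K : Type*} [Field K] [StarRing K] [CharP K 2] [Finite K] {G : Type*} [Group G]

namespace Env

variable (V : Env K G)

/-! ### the action of `Kb` on `Q/Z` -/

/-- `k` acts `K`-linearly on `Q/Z` and preserves the form -/
def Lin (k : G) : Prop := ∀ v ∈ Qm K, ∃ v' ∈ Qm K, cg k (V.f v) = V.f v' ∧ hh v' = hh v ∧
  ∀ l : K, ∀ u ∈ Qm K, u.w1 = l * v.w1 → u.w2 = l * v.w2 → u.w3 = l * v.w3 →
    ∃ u' ∈ Qm K, cg k (V.f u) = V.f u' ∧ u'.w1 = l * v'.w1 ∧ u'.w2 = l * v'.w2 ∧ u'.w3 = l * v'.w3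

/-- the linear elements -/
def linStab : Subgroup G where
  carrier := {k | V.Lin k ∧ V.Lin k⁻¹}
  mul_mem' := by
    have key : ∀ k k', V.Lin k → V.Lin k' → V.Lin (k * k') := by
      intro k k' h h' v hv
      obtain ⟨v1, hv1, e1, q1, l1⟩ := h' v hv
      obtain ⟨v2, hv2, e2, q2, l2⟩ := h v1 hv1
      refine ⟨v2, hv2, by rw [cg_comp, e1, e2], q2.trans q1, fun l u hu h1 h2 h3 => ?_⟩
      obtain ⟨u1, hu1, f1, g1, g2, g3⟩ := l1 l u hu h1 h2 h3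
      obtain ⟨u2, hu2, f2, i1, i2, i3⟩ := l2 l u1 hu1 g1 g2 g3
      exact ⟨u2, hu2, by rw [cg_comp, f1, f2], i1, i2, i3⟩
    rintro k k' ⟨h1, h2⟩ ⟨h3, h4⟩
    exact ⟨key _ _ h1 h3, by rw [mul_inv_rev]; exact key _ _ h4 h2⟩
  one_mem' := by
    have : V.Lin 1 := fun v hv => ⟨v, hv, by simp [cg], rfl, fun l u hu h1 h2 h3 => ⟨u, hu, by simp [cg], h1, h2, h3⟩⟩
    exact ⟨this, by rw [inv_one]; exact this⟩
  inv_mem' := by
    rintro k ⟨h1, h2⟩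
    exact ⟨h2, by rwa [inv_inv]⟩

theorem Lin_T (x : T5 K) : V.Lin (V.f x) := by
  intro v hv
  obtain ⟨h0, h1, h2, h3⟩ := conj_Qm x hv
  refine ⟨_, h0, V.cg_f x v, hh_conj x hv, fun l u hu e1 e2 e3 => ?_⟩
  obtain ⟨g0, g1, g2, g3⟩ := conj_Qm x hu
  refine ⟨_, g0, V.cg_f x u, ?_, ?_, ?_⟩
  · rw [g1, h1, e1]
  · rw [g2, h2, e2, e1]; ring
  · rw [g3, h3, e1, e2, e3]; ring

theorem Lin_nb : V.Lin V.nb := by
  intro v hv
  refine ⟨swQ v, swQ_Q v, V.nb_q v hv.1 hv.2, ?_, fun l u hu e1 e2 e3 => ?_⟩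
  · simp only [hh, swQ]; ring
  · exact ⟨swQ u, swQ_Q u, V.nb_q u hu.1 hu.2, e3, e2, e1⟩

theorem Kb_Lin : V.Kb ≤ V.linStab := by
  apply V.Kb_le_of
  · rintro _ ⟨x, hx, rfl⟩
    exact ⟨V.Lin_T x, by rw [← map_inv]; exact V.Lin_T _⟩
  · exact ⟨V.Lin_nb, by rw [V.nb_inv]; exact V.Lin_nb⟩

theorem mem_WQ {x : T5 K} : V.f x ∈ V.W ⊓ V.Q ↔ x.w1 = 0 ∧ x.w2 = 0 ∧ x.y = 0 ∧ x.d = 0 := by
  constructor
  · rintro ⟨h1, h2⟩
    obtain ⟨a1, a2, a3⟩ := V.f_W.1 h1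
    obtain ⟨b1, b2⟩ := V.f_Q.1 h2
    exact ⟨a1, a2, a3, b2⟩
  · rintro ⟨a1, a2, a3, a4⟩
    exact ⟨V.f_W.2 ⟨a1, a2, a3⟩, V.f_Q.2 ⟨a3, a4⟩⟩

/-- `Kb` permutes the isotropic lines -/
theorem Kb_points [Finite G] {k : G} (hk : k ∈ V.Kb) :
    cjS k (V.W ⊓ V.Q) = V.W ⊓ V.Q ∨ ∃ x ∈ V.X3, cjS k (V.W ⊓ V.Q) = cjS (x * V.nb) (V.W ⊓ V.Q) := by
  have fix : ∀ k ∈ V.Kb, ∀ v : T5 K, cg k (V.f (T5.em 1)) = V.f v → v.w1 = 0 → v.w2 = 0 →
      cjS k (V.W ⊓ V.Q) = V.W ⊓ V.Q := by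
    intro k hk v hv h1 h2
    have h3 : cjS k (V.W ⊓ V.Q) ≤ V.W ⊓ V.Q := by
      rintro _ ⟨x, hx, rfl⟩
      obtain ⟨x, rfl⟩ := V.W_le hx.1
      obtain ⟨a1, a2, a3, a4⟩ := V.mem_WQ.1 hx
      obtain ⟨v', hv', e1, -, l1⟩ := (V.Kb_Lin hk).1 _ (em_mem' (1 : K))
      have hvv : v' = v := V.inj (e1.symm.trans hv)
      subst hvv
      obtain ⟨u', hu', e2, b1, b2, b3⟩ := l1 x.w3 x ⟨a3, a4⟩ (by rw [a1]; simp [T5.em]) (by rw [a2]; simp [T5.em])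
        (by simp [T5.em])
      show cg k (V.f x) ∈ _
      rw [e2, V.mem_WQ]
      exact ⟨by rw [b1, h1, mul_zero], by rw [b2, h2, mul_zero], hu'.1, hu'.2⟩
    exact Subgroup.eq_of_le_of_card_ge h3 (by rw [Subgroup.card_map_of_injective (MulAut.conj k).injective])
  obtain ⟨v, hv, e1, q1, -⟩ := (V.Kb_Lin hk).1 _ (em_mem' (1 : K))
  have hq : v.w1 * star v.w3 + v.w2 * star v.w2 + v.w3 * star v.w1 = 0 := by
    have : hh v = 0 := by rw [q1]; simp [hh, T5.em]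
    exact this
  by_cases h1 : v.w1 = 0
  · left
    apply fix k hk v e1 h1
    rw [h1, star_zero, zero_mul, mul_zero, zero_add, add_zero] at hq
    exact norm_eq_zero hq
  · right
    have h1' : star v.w1 ≠ 0 := fun h => h1 (star_eq_zero.1 h)
    have hyd : (v.w3 / v.w1) + star (v.w3 / v.w1) = (v.w2 / v.w1) * star (v.w2 / v.w1) := by
      simp only [star_div₀]
      field_simp
      linear_combination hq - v.w2 * star v.w2 * two0 (K := K)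
    set n := ddE (v.w2 / v.w1) (v.w3 / v.w1) hyd with hn
    refine ⟨V.f n, V.ddE_X3 _ _ _, ?_⟩
    have hnK : V.f n * V.nb ∈ V.Kb := mul_mem (mem_sup_left (V.ddE_X3 _ _ _)) V.nb_mem
    have h2 : (V.f n * V.nb)⁻¹ * k ∈ V.Kb := mul_mem (inv_mem hnK) hk
    have h3 : cg ((V.f n * V.nb)⁻¹ * k) (V.f (T5.em 1)) = V.f (swQ (n⁻¹ * v * (n⁻¹)⁻¹)) := by
      obtain ⟨c0, -⟩ := conj_Qm n⁻¹ hv
      rw [cg_comp, e1, mul_inv_rev, V.nb_inv, cg_comp, ← map_inv, V.cg_f, V.nb_q _ c0.1 c0.2]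
    obtain ⟨c0, c1, c2, c3⟩ := conj_Qm n⁻¹ hv
    have h4 := fix _ h2 _ h3 (by
      show (n⁻¹ * v * (n⁻¹)⁻¹).w3 = 0
      rw [c3, inv_y, inv_d]
      have hd := hyd
      simp only [hn, ddE]
      have e : v.w3 / v.w1 * v.w1 = v.w3 := div_mul_cancel₀ _ h1
      have e' : v.w2 / v.w1 * v.w1 = v.w2 := div_mul_cancel₀ _ h1
      linear_combination v.w1 * hd - e - (star (v.w2 / v.w1)) * e' + (star (v.w2 / v.w1) * v.w2 * v.w1 * v.w1⁻¹) * two0 (K := K)) (by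
      show (n⁻¹ * v * (n⁻¹)⁻¹).w2 = 0
      rw [c2, inv_y]
      simp only [hn, ddE]
      have e' : v.w2 / v.w1 * v.w1 = v.w2 := div_mul_cancel₀ _ h1
      linear_combination e' + v.w2 * two0 (K := K))
    have h10 : k = (V.f n * V.nb) * ((V.f n * V.nb)⁻¹ * k) := by group
    rw [h10, cjS_mul, h4]

theorem nb_Q_eq : cjS V.nb V.Q = V.Q := cjS_eq_of V.nb_nb (fun _ h => V.nb_Q h) (fun _ h => V.nb_Q h)

theorem Kb_cjS_Q {k : G} (hk : k ∈ V.Kb) : cjS k V.Q = V.Q := cjS_eq_of_normalizer (V.Kb_norm hk)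

theorem Kb_cjS_Z {k : G} (hk : k ∈ V.Kb) : cjS k V.Z = V.Z :=
  cjS_eq_of_comm (mem_centralizer_iff.2 fun z hz => (V.Kb_Z' hk hz).symm)

theorem tr_b [Finite G] {E : Subgroup G} (hE : V.Kb ≤ E)
    (nQ : ∀ g ∈ E, cjS g V.Q = V.Q → cjS g (V.W ⊓ V.Q) = V.W ⊓ V.Q → cjS g V.T = V.T) :
    ∀ k ∈ closure ((V.X3 : Set G) ∪ {V.nb}), cjS k V.T = V.T ∨ ∃ x ∈ V.X3, cjS k V.T = cjS (x * V.nb) V.T := by
  intro k hk
  have hkK : k ∈ V.Kb := by
    have : closure ((V.X3 : Set G) ∪ {V.nb}) ≤ V.Kb := by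
      rw [closure_le]
      rintro x (hx | hx)
      · exact mem_sup_left hx
      · rw [Set.mem_singleton_iff.1 hx]
        exact V.nb_mem
    exact this hk
  rcases V.Kb_points hkK with h | ⟨x, hx, h⟩
  · exact Or.inl (nQ k (hE hkK) (V.Kb_cjS_Q hkK) h)
  · right
    refine ⟨x, hx, ?_⟩
    have hxK : x * V.nb ∈ V.Kb := mul_mem (mem_sup_left hx) V.nb_mem
    have h1 : (x * V.nb)⁻¹ * k ∈ V.Kb := mul_mem (inv_mem hxK) hkK
    have h2 : cjS ((x * V.nb)⁻¹ * k) (V.W ⊓ V.Q) = V.W ⊓ V.Q := by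
      rw [cjS_mul, h, ← cjS_mul, inv_mul_cancel, cjS_one]
    have h3 := nQ _ (hE h1) (V.Kb_cjS_Q h1) h2
    have h10 : k = (x * V.nb) * ((x * V.nb)⁻¹ * k) := by group
    rw [h10, cjS_mul, h3]

theorem reg_b (hs : ∃ x : K, star x ≠ x) (h4 : 4 ≤ Nat.card (Fx K)) :
    ∀ x ∈ V.X3, cjS (x * V.nb) V.T = cjS V.nb V.T → x = 1 := by
  intro x hx h
  have hF : TFacts (Nat.card (Fx K)) (Zm K) (Qm K) (Wm K) (Sm K) := tFacts hs h4
  obtain ⟨x, hx, rfl⟩ := hx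
  set g := V.nb * (V.f x * V.nb) with hg
  have h1 : cjS g V.T = V.T := by rw [hg, cjS_mul, h, cjS_cjS_of V.nb_nb]
  have h2 : cjS g V.W = V.W := by
    apply ModelMap.W_uniq V.inj hF
    · rw [← Env.T, ← h1]
      exact cjS_mono V.W_le
    · rintro _ ⟨w, hw, rfl⟩
      have := ModelMap.W_sq hF w hw
      show g * w * g⁻¹ * (g * w * g⁻¹) = 1
      calc g * w * g⁻¹ * (g * w * g⁻¹) = g * (w * w) * g⁻¹ := by group
        _ = 1 := by rw [this, mul_one, mul_inv_cancel]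
    · rw [Subgroup.card_map_of_injective (MulAut.conj g).injective]
      exact ModelMap.W_card V.inj hF
  have h3 : cg g (V.f (T5.em 1)) ∈ V.W := by
    rw [← h2]
    exact ⟨_, V.f_W.2 (em_mem _), rfl⟩
  have e1 : swQ (T5.em (1 : K)) = e1 1 := by ext <;> simp [swQ, T5.em, T5.e1]
  obtain ⟨c0, c1, c2, c3⟩ := conj_Qm x (e1_mem (1 : K))
  rw [hg, cg_comp, cg_comp, V.nb_q _ rfl rfl, e1, V.cg_f, V.nb_q _ c0.1 c0.2] at h3
  obtain ⟨d1, d2, -⟩ := V.f_W.1 h3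
  have hd : x.d = 0 := by
    have : (x * T5.e1 1 * x⁻¹).w3 = 0 := d1
    rw [c3] at this
    simpa [T5.e1] using this
  have hy : x.y = 0 := by
    have : (x * T5.e1 1 * x⁻¹).w2 = 0 := d2
    rw [c2] at this
    simpa [T5.e1] using this
  have : x = 1 := by
    obtain ⟨a1, a2, a3, a4⟩ := hx
    ext
    · exact a1
    · exact a2
    · exact a3
    · exact a4
    · exact hy
    · exact hd
  rw [this, map_one]

/-! ### the torus centralising `Kb` -/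

/-- `h α 1` centralises `Kb` -/
theorem h_Kb {α : K} (hα : α ∈ Fx K) (h0 : α ≠ 0) {k : G} (hk : k ∈ V.Kb) : V.h α 1 * k = k * V.h α 1 := by
  have h1F : (1 : K) ∈ Fx K := star_one K
  have : V.Kb ≤ centralizer ({V.h α 1} : Set G) := by
    apply V.Kb_le_of
    · rintro _ ⟨x, ⟨a1, a2, a3, a4⟩, rfl⟩
      rw [mem_centralizer_singleton_iff]
      have h1 := V.h_f α 1 hα h1F h0 one_ne_zero x
      have h2 : dia α 1 hα h1F x = x := by
        ext <;> simp [dia, a1, a2, a3, a4]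
      rw [h2] at h1
      exact (comm_of_cg h1).symm
    · rw [mem_centralizer_singleton_iff]
      obtain ⟨k, hk, this⟩ := V.nb_h α 1 hα h1F h0 one_ne_zero
      rw [inv_one, one_pow, mul_one] at this
      have h1 : V.h α 1 * (k * k) = V.h α 1 := by
        calc V.h α 1 * (k * k) = V.h α 1 * (V.nb * V.nb) * (k * k) := by rw [V.nb_nb, mul_one]
          _ = (V.h α 1 * V.nb * (V.nb * k)) * k := by group
          _ = (V.h α 1 * V.nb * (k * V.nb)) * k := by rw [V.Cn_nb k hk]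
          _ = (V.h α 1 * V.nb * k) * V.nb * k := by group
          _ = (V.nb * V.h α 1) * V.nb * k := by rw [← this]
          _ = V.nb * (V.h α 1 * V.nb * k) := by group
          _ = V.nb * (V.nb * V.h α 1) := by rw [← this]
          _ = (V.nb * V.nb) * V.h α 1 := by group
          _ = V.h α 1 := by rw [V.nb_nb, one_mul]
      have h2 : k = 1 := V.Cn_odd k hk (mul_eq_left.1 h1)
      rw [h2, mul_one] at this
      exact this
  exact (mem_centralizer_singleton_iff.1 (this hk)).symm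

/-- `{h α 1}` -/
def D' : Subgroup G := closure {x | ∃ α ∈ Fx K, α ≠ 0 ∧ x = V.h α 1}

theorem Kb_D' : V.Kb ≤ centralizer (V.D' : Set G) := by
  intro x hx
  rw [D', centralizer_closure, mem_centralizer_iff]
  rintro _ ⟨γ, hγ, h0, rfl⟩
  exact V.h_Kb hγ h0 hx

theorem T_D' (h4 : 4 ≤ Nat.card (Fx K)) : V.T ⊓ centralizer (V.D' : Set G) ≤ V.X3 := by
  rintro _ ⟨⟨x, rfl⟩, hx⟩
  have h1F : (1 : K) ∈ Fx K := star_one K
  obtain ⟨β, hβ, hβ0, hβ1⟩ := exists_beta h4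
  have h1 := mem_centralizer_iff.1 hx (V.h β 1) (subset_closure ⟨β, hβ, hβ0, rfl⟩)
  have h2 := cg_eq_self h1
  rw [V.h_f β 1 hβ h1F hβ0 one_ne_zero] at h2
  have h3 := V.inj h2
  have key : ∀ y : K, β * y = y → y = 0 := by
    intro y hy
    have : (β - 1) * y = 0 := by linear_combination hy
    exact (mul_eq_zero.1 this).resolve_left (sub_ne_zero.2 hβ1)
  have key2 : ∀ y : K, β ^ 2 * y = y → y = 0 := by
    intro y hy
    apply key
    have h4 : (β + 1) * ((β + 1) * y) = 0 := by linear_combination hy + (β * y + y) * two0 (K := K)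
    have h5 : β + 1 ≠ 0 := fun h => hβ1 (CharTwo.add_eq_zero.1 h)
    have h6 := (mul_eq_zero.1 h4).resolve_left h5
    linear_combination h6 - y * two0 (K := K)
  have e1 := congrArg T5.w1 h3
  have e2 := congrArg T5.w2 h3
  have e3 := congrArg T5.w3 h3
  have e4 := congrArg T5.c h3
  simp only [dia, mul_one, one_pow] at e1 e2 e3 e4
  exact V.f_X3.2 ⟨key _ e1, key _ e2, key _ e3, key2 _ e4⟩

/-! ### the facts of one side -/

theorem X2Z : V.X2 ⊔ V.Z = V.W ⊓ V.Q := by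
  apply le_antisymm
  · refine sup_le ?_ (le_inf V.Z_le_W V.Z_le_Q)
    rintro _ ⟨x, ⟨a1, a2, a3, a4, a5⟩, rfl⟩
    exact V.mem_WQ.2 ⟨a1, a2, a4, a5⟩
  · intro x hx
    obtain ⟨x, rfl⟩ := V.W_le hx.1
    obtain ⟨a1, a2, a3, a4⟩ := V.mem_WQ.1 hx
    exact V.mem_of_Z le_sup_right (mem_sup_left (V.em_X2 x.w3)) a1 a2 rfl a3 a4

theorem cent3 (hs : ∃ x : K, star x ≠ x) : V.Q ⊓ centralizer (V.X3 : Set G) = V.X2 ⊔ V.Z := by
  obtain ⟨w, hw⟩ := exists_tr_one hs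
  have hw' : w + star w = (1 : K) * star (1 : K) := by rw [hw, star_one, mul_one]
  rw [V.X2Z]
  apply le_antisymm
  · rintro _ ⟨⟨x, hx, rfl⟩, hc⟩
    have h1 : V.f (ddE 1 w hw' * x * (ddE 1 w hw')⁻¹) = V.f x := by
      rw [← V.cg_f]
      exact cg_eq_self (mem_centralizer_iff.1 hc _ (V.ddE_X3 _ _ _))
    have h2 := V.inj h1
    obtain ⟨c0, c1, c2, c3⟩ := conj_Qm (ddE 1 w hw') hx
    rw [h2] at c2 c3
    have hw1 : x.w1 = 0 := by
      simp only [ddE, one_mul] at c2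
      linear_combination -c2
    have hw2 : x.w2 = 0 := by
      simp only [ddE, star_one, one_mul, hw1, mul_zero, add_zero] at c3
      linear_combination -c3
    exact V.mem_WQ.2 ⟨hw1, hw2, hx.1, hx.2⟩
  · intro x hx
    obtain ⟨x, rfl⟩ := V.W_le hx.1
    obtain ⟨a1, a2, a3, a4⟩ := V.mem_WQ.1 hx
    refine ⟨hx.2, mem_centralizer_iff.2 ?_⟩
    rintro _ ⟨y, ⟨b1, b2, b3, b4⟩, rfl⟩
    rw [← map_mul, ← map_mul]
    congr 1
    ext
    · simp only [mul_w1]; ring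
    · simp only [mul_w2, a1, a3, b1, b2]; ring
    · simp only [mul_w3, a1, a2, a3, a4, b1, b2, b3, star_zero]; ring
    · simp only [mul_c, a1, a2, a3, a4, b1, b2, b3, b4, star_zero, mul_zero, zero_mul, add_zero, zero_add]
    · simp only [mul_y]; ring
    · simp only [mul_d, a3, star_zero]; ring

theorem com3 (hs : ∃ x : K, star x ≠ x) : ⁅V.X3, V.Q⁆ ⊔ (V.X2 ⊔ V.Z) = V.X1 ⊔ V.X2 := by
  have hZ1 : V.Z ≤ V.X1 := Subgroup.map_mono fun _ h => ⟨h.1, h.2.2.1, h.2.2.2.1, h.2.2.2.2⟩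
  apply le_antisymm
  · refine sup_le ?_ (sup_le le_sup_right (hZ1.trans le_sup_left))
    rw [commutator_le]
    rintro _ ⟨x, hx, rfl⟩ _ ⟨r, hr, rfl⟩
    show V.f x * V.f r * (V.f x)⁻¹ * (V.f r)⁻¹ ∈ _
    rw [← map_mul, ← map_inv, ← map_mul, ← map_inv, ← map_mul]
    obtain ⟨⟨b4, b5⟩, b1, b2, b3⟩ := comm_Qm' x hr
    exact V.mem_X12.2 ⟨b1, b4, b5⟩
  · obtain ⟨w, hw⟩ := exists_tr_one hs
    refine sup_le ?_ (le_sup_left.trans le_sup_right)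
    rintro _ ⟨x, hx, rfl⟩
    have hw' : w + star w = (1 : K) * star (1 : K) := by rw [hw, star_one, mul_one]
    have h6 : V.f (ddE 1 w hw' * e1 x.w2 * (ddE 1 w hw')⁻¹ * (e1 x.w2)⁻¹) ∈ ⁅V.X3, V.Q⁆ := by
      rw [map_mul, map_mul, map_mul, map_inv, map_inv]
      exact commutator_mem_commutator (V.ddE_X3 _ _ _) (V.f_Q.2 (e1_mem _))
    obtain ⟨⟨b4, b5⟩, b1, b2, b3⟩ := comm_Qm' (ddE 1 w hw') (e1_mem x.w2)
    obtain ⟨a1, a2, a4, a5⟩ := hx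
    have h8 := mul_mem (mem_sup_left h6 : _ ∈ ⁅V.X3, V.Q⁆ ⊔ (V.X2 ⊔ V.Z))
      (mem_sup_right (mem_sup_left (V.em_X2 (w * x.w2))))
    rw [← map_mul] at h8
    apply V.mem_of_Z (le_sup_right.trans le_sup_right) h8
    · rw [mul_w1, b1, a1]; simp [T5.em]
    · rw [mul_w2, b2, b4]; simp [T5.em, ddE, T5.e1]
    · rw [mul_w3, b3, b4, b5, a2]; simp [T5.em, ddE, T5.e1, CharTwo.add_self_eq_zero]
    · rw [mul_y, b4, a4]; simp [T5.em]
    · rw [mul_d, b4, b5, a5]; simp [T5.em]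

theorem X10_eq : cjS V.nb (V.X1 ⊔ V.X2) = V.X1 ⊔ V.X0 := by rw [cjS_sup, V.nb_X1, V.nb_X2]

theorem inf1 : (V.X1 ⊔ V.X2) ⊓ (V.X1 ⊔ V.X0) = V.X1 := by
  apply le_antisymm
  · rintro x ⟨h1, h2⟩
    obtain ⟨x, rfl⟩ := V.X12_le h1
    obtain ⟨a1, a2, a3⟩ := V.mem_X12.1 h1
    have h3 : V.nb * V.f x * V.nb⁻¹ ∈ cjS V.nb (V.X1 ⊔ V.X0) := mem_cjS.2 h2
    rw [cjS_sup, V.nb_X1, V.nb_X0] at h3
    rw [show V.nb * V.f x * V.nb⁻¹ = _ from V.nb_q x a2 a3, V.mem_X12] at h3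
    exact V.f_X1.2 ⟨a1, h3.1, a2, a3⟩
  · exact le_inf le_sup_left le_sup_left

theorem i2' : (V.X2 ⊔ V.Z) ⊓ cjS V.na V.Q = V.X2 := by
  apply le_antisymm
  · rintro x ⟨h1, h2⟩
    rw [V.X2Z] at h1
    obtain ⟨x, rfl⟩ := V.W_le h1.1
    obtain ⟨a1, a2, a3, a4⟩ := V.mem_WQ.1 h1
    have h3 : V.na * V.f x * V.na⁻¹ ∈ cjS V.na (cjS V.na V.Q) := mem_cjS.2 h2
    rw [cjS_cjS_of V.na_na, show V.na * V.f x * V.na⁻¹ = _ from V.na_r x a1] at h3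
    obtain ⟨-, h4⟩ := V.f_Q.1 h3
    exact V.f_X2.2 ⟨a1, a2, by simpa [swR] using h4, a3, a4⟩
  · refine le_inf le_sup_left ?_
    rw [← V.na_X2]
    exact cjS_mono (Subgroup.map_mono fun _ h => ⟨h.2.2.2.1, h.2.2.2.2⟩)

theorem Xb_eq (hs : ∃ x : K, star x ≠ x) : V.X3 ⊓ centralizer (V.X3 : Set G) = V.Xb := by
  obtain ⟨w, hw⟩ := exists_tr_one hs
  apply le_antisymm
  · rintro _ ⟨⟨x, hx, rfl⟩, hc⟩
    obtain ⟨a1, a2, a3, a4⟩ := hx
    refine V.f_Xb.2 ⟨a1, a2, a3, a4, ?_⟩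
    apply no_sym hs
    intro m
    have e : (m * star m * w) + star (m * star m * w) = m * star m := by
      rw [star_mul', star_mul', star_star]
      linear_combination m * star m * hw
    have h1 := mem_centralizer_iff.1 hc _ (V.ddE_X3 m (m * star m * w) e)
    rw [← map_mul, ← map_mul] at h1
    have h2 := congrArg T5.d (V.inj h1)
    rw [mul_d, mul_d] at h2
    simp only [ddE] at h2
    linear_combination h2
  · rintro _ ⟨x, ⟨a1, a2, a3, a4, a5⟩, rfl⟩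
    refine ⟨V.f_X3.2 ⟨a1, a2, a3, a4⟩, mem_centralizer_iff.2 ?_⟩
    rintro _ ⟨y, ⟨b1, b2, b3, b4⟩, rfl⟩
    rw [← map_mul, ← map_mul]
    congr 1
    ext
    · simp only [mul_w1]; ring
    · simp only [mul_w2, a1, b1]; simp [a2, b2]
    · simp only [mul_w3, a1, a2, a3, b1, b2, b3]; simp
    · simp only [mul_c, a1, a2, a3, a4, b1, b2, b3, b4]; simp
    · simp only [mul_y]; ring
    · simp only [mul_d, a5, star_zero]; ring

/-! ### the Weyl elements -/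

theorem mu3' [Finite G] (hs : ∃ x : K, star x ≠ x) (h4 : 4 ≤ Nat.card (Fx K)) {E : Subgroup G} (hE : V.Kb ≤ E)
    (hna : V.na ∈ E)
    (nZ : ∀ g ∈ E, cjS g V.Z = V.Z → cjS g V.Q = V.Q)
    (nQ : ∀ g ∈ E, cjS g V.Q = V.Q → cjS g (V.W ⊓ V.Q) = V.W ⊓ V.Q → cjS g V.T = V.T)
    (hbr : V.na * V.nb * V.na * V.nb = V.nb * V.na * V.nb * V.na) :
    ∀ u ∈ V.X 3, u ≠ 1 → ∃ v ∈ V.X 7, ∃ v' ∈ V.X 7, ∀ j, cjS (v * u * v') (V.X j) = V.X (2 - j) := by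
  intro u hu hu1
  have hnb : V.nb ∈ E := hE V.nb_mem
  set w := V.na * V.nb * V.na with hw
  have hwE : w ∈ E := mul_mem (mul_mem hna hnb) hna
  have w_X : ∀ i, cjS w (V.X i) = V.X (6 - i) := by
    intro i
    rw [hw, cjS_mul, cjS_mul, V.na_X' _ hbr, V.nb_X' _ hbr, V.na_X' _ hbr]
    congr 1
    ring
  have wn : w * V.nb = V.nb * w := by
    rw [hw]
    calc V.na * V.nb * V.na * V.nb = V.nb * V.na * V.nb * V.na := hbr
      _ = _ := by group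
  have w3 : cjS w V.X3 = V.X3 := w_X 3
  have w7 : cjS w V.X7 = V.X7 := w_X 7
  have w2 : cjS w V.X2 = V.X 4 := w_X 2
  have w1 : cjS w V.X1 = V.X 5 := w_X 1
  have w0 : cjS w V.X0 = V.X 6 := w_X 0
  have wK : cjS w V.Kb = V.Kb := by rw [Kb, cjS_sup, w3, w7]
  have hbr' := hbr
  rw [hw] at hbr'
  clear_value w
  obtain ⟨v, hv, v', hv', hT, hT'⟩ := exists_swap (X0 := V.X3) (T := V.T) (n := V.nb) V.X3_le
    (by rw [V.nb_nb, cjS_one]) (V.tr_b hE nQ) (V.reg_b hs h4) hu hu1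
  have hvK : v ∈ V.Kb := mem_sup_right hv
  have hvK' : v' ∈ V.Kb := mem_sup_right hv'
  set h := v * u * v' * V.nb⁻¹ with hh'
  have hhK : h ∈ V.Kb := mul_mem (mul_mem (mul_mem hvK (mem_sup_left hu)) hvK') (inv_mem V.nb_mem)
  have hhE : h ∈ E := hE hhK
  clear_value h
  have hhD : cjS h (centralizer (V.D' : Set G)) = centralizer (V.D' : Set G) := cjS_eq_of_mem (V.Kb_D' hhK)
  have hnD : cjS V.nb (centralizer (V.D' : Set G)) = centralizer (V.D' : Set G) :=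
    cjS_eq_of_mem (V.Kb_D' V.nb_mem)
  have e3 : V.X3 = V.T ⊓ centralizer (V.D' : Set G) :=
    le_antisymm (le_inf V.X3_le ((le_sup_left : V.X3 ≤ V.Kb).trans V.Kb_D')) (V.T_D' h4)
  have e7 : V.X7 = cjS V.nb V.T ⊓ centralizer (V.D' : Set G) := by
    rw [X7, e3, cjS_inf, hnD]
  have f3 : cjS h V.X3 = V.X3 := by rw [e3, cjS_inf, hT, hhD]
  have f7 : cjS h V.X7 = V.X7 := by rw [e7, cjS_inf, hT', hhD]
  -- the centre of `X_3`
  have fb : cjS h V.Xb = V.Xb := by rw [← V.Xb_eq hs, cjS_inf, cjS_centralizer, f3]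
  have eb' : cjS V.nb V.Xb = V.X7 ⊓ centralizer (V.X7 : Set G) := by
    rw [← V.Xb_eq hs, cjS_inf, cjS_centralizer]
    rfl
  have fb' : cjS h (cjS V.nb V.Xb) = cjS V.nb V.Xb := by rw [eb', cjS_inf, cjS_centralizer, f7]
  have wb : cjS w V.Xb = V.Xb := by rw [← V.Xb_eq hs, cjS_inf, cjS_centralizer, w3]
  have wb' : cjS w (cjS V.nb V.Xb) = cjS V.nb V.Xb := by rw [← cjS_mul, wn, cjS_mul, wb]
  have nrm : ∀ a ∈ E, cjS h (cjS a V.Z) = cjS a V.Z → cjS h (cjS a V.Q) = cjS a V.Q := by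
    intro a ha h1
    have h2 : cjS (a⁻¹ * h * a) V.Z = V.Z := by
      rw [cjS_mul, cjS_mul, h1, ← cjS_mul, inv_mul_cancel, cjS_one]
    have h3 := nZ _ (mul_mem (mul_mem (inv_mem ha) hhE) ha) h2
    have h5 : h * a = a * (a⁻¹ * h * a) := by group
    rw [← cjS_mul, h5, cjS_mul, h3]
  have nZ1 : cjS V.na V.Z = V.Xb := V.na_Z_eq
  -- first side
  obtain ⟨f0, f1, f2⟩ := fix_side (h := h) (X3 := V.X3) (X7 := V.X7) (Q := V.Q) (Z := V.Z) (A0 := V.X0) (A1 := V.X1)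
    (A2 := V.X2) (B0 := cjS V.nb (cjS V.na V.Q)) (B2 := cjS V.na V.Q) f3 f7 (V.Kb_cjS_Q hhK) (V.Kb_cjS_Z hhK)
    (V.cent3 hs) (by
      have := congrArg (cjS V.nb) (V.cent3 hs)
      rwa [cjS_inf, cjS_centralizer, cjS_sup, V.nb_Q_eq, V.nb_X2, V.Kb_cjS_Z V.nb_mem] at this)
    (V.com3 hs) (by
      have := congrArg (cjS V.nb) (V.com3 hs)
      rwa [cjS_sup, cjS_comm, cjS_sup, cjS_sup, V.nb_Q_eq, V.nb_X2, V.nb_X1, V.Kb_cjS_Z V.nb_mem] at this)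
    V.inf1 (nrm _ hna (by rw [nZ1]; exact fb))
    (by
      rw [← cjS_mul V.nb V.na]
      exact nrm _ (mul_mem hnb hna) (by rw [cjS_mul, nZ1]; exact fb'))
    V.i2' (by
      have := congrArg (cjS V.nb) V.i2'
      rwa [cjS_inf, cjS_sup, V.nb_X2, V.Kb_cjS_Z V.nb_mem] at this)
  -- second side
  have hwh : w⁻¹ * h * w ∈ V.Kb := by
    rw [← wK] at hhK
    obtain ⟨k, hk, e⟩ := hhK
    have e' : w * k * w⁻¹ = h := e
    rw [← e']
    have : w⁻¹ * (w * k * w⁻¹) * w = k := by group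
    rw [this]
    exact hk
  have hw' : ∀ A : Subgroup G, cjS (w⁻¹ * h * w) A = A → cjS h (cjS w A) = cjS w A := by
    intro A hA
    have h5 : h * w = w * (w⁻¹ * h * w) := by group
    rw [← cjS_mul, h5, cjS_mul, hA]
  have n7 : cjS V.nb V.X3 = V.X7 := rfl
  have c7 : V.Q ⊓ centralizer (V.X7 : Set G) = V.X0 ⊔ V.Z := by
    have := congrArg (cjS V.nb) (V.cent3 hs)
    rwa [cjS_inf, cjS_centralizer, cjS_sup, V.nb_Q_eq, V.nb_X2, V.Kb_cjS_Z V.nb_mem] at this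
  have m7 : ⁅V.X7, V.Q⁆ ⊔ (V.X0 ⊔ V.Z) = V.X1 ⊔ V.X0 := by
    have := congrArg (cjS V.nb) (V.com3 hs)
    rwa [cjS_sup, cjS_comm, cjS_sup, cjS_sup, V.nb_Q_eq, V.nb_X2, V.nb_X1, V.Kb_cjS_Z V.nb_mem] at this
  have j0 : (V.X0 ⊔ V.Z) ⊓ cjS V.nb (cjS V.na V.Q) = V.X0 := by
    have := congrArg (cjS V.nb) V.i2'
    rwa [cjS_inf, cjS_sup, V.nb_X2, V.Kb_cjS_Z V.nb_mem] at this
  obtain ⟨f6, f5, f4⟩ := fix_side (h := h) (X3 := V.X3) (X7 := V.X7) (Q := cjS w V.Q) (Z := cjS w V.Z) (A0 := V.X 6)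
    (A1 := V.X 5) (A2 := V.X 4) (B0 := cjS w (cjS V.nb (cjS V.na V.Q))) (B2 := cjS w (cjS V.na V.Q)) f3 f7
    (hw' _ (V.Kb_cjS_Q hwh)) (hw' _ (V.Kb_cjS_Z hwh))
    (by
      have := congrArg (cjS w) (V.cent3 hs)
      rwa [cjS_inf, cjS_centralizer, cjS_sup, w2, w3] at this)
    (by
      have := congrArg (cjS w) c7
      rwa [cjS_inf, cjS_centralizer, cjS_sup, w0, w7] at this)
    (by
      have := congrArg (cjS w) (V.com3 hs)
      rwa [cjS_sup, cjS_comm, cjS_sup, cjS_sup, w1, w2, w3] at this)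
    (by
      have := congrArg (cjS w) m7
      rwa [cjS_sup, cjS_comm, cjS_sup, cjS_sup, w1, w0, w7] at this)
    (by
      have := congrArg (cjS w) V.inf1
      rwa [cjS_inf, cjS_sup, cjS_sup, w0, w1, w2] at this)
    (by
      rw [← cjS_mul w V.na]
      exact nrm _ (mul_mem hwE hna) (by rw [cjS_mul, nZ1, wb]; exact fb))
    (by
      have e : cjS w (cjS V.nb (cjS V.na V.Q)) = cjS (w * (V.nb * V.na)) V.Q := by rw [cjS_mul, cjS_mul]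
      rw [e]
      exact nrm _ (mul_mem hwE (mul_mem hnb hna)) (by rw [cjS_mul, cjS_mul, nZ1, wb']; exact fb'))
    (by
      have := congrArg (cjS w) V.i2'
      rwa [cjS_inf, cjS_sup, w2] at this)
    (by
      have := congrArg (cjS w) j0
      rwa [cjS_inf, cjS_sup, w0] at this)
  have fall : ∀ j, cjS h (V.X j) = V.X j := by
    intro j
    have key : ∀ j : ZMod (2 * 4), j = 0 ∨ j = 1 ∨ j = 2 ∨ j = 3 ∨ j = 4 ∨ j = 5 ∨ j = 6 ∨ j = 7 := by decide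
    rcases key j with rfl | rfl | rfl | rfl | rfl | rfl | rfl | rfl
    · exact f0
    · exact f1
    · exact f2
    · exact f3
    · exact f4
    · exact f5
    · exact f6
    · exact f7
  refine ⟨v, hv, v', hv', fun j => ?_⟩
  have e : v * u * v' = h * V.nb := by rw [hh']; group
  rw [e, cjS_mul, V.nb_X' _ hbr', fall]

end Env

end Cfsg.Agent.StdSpFour.UFive
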