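import Cfsg.Agent.StdSpFour.UFiveV
import Cfsg.Agent.StdSpFour.StarNorm

/-!
# The group `T5 K`: the rank one elements of `W`, and the package `TFacts`
-/

set_option autoImplicit false
set_option linter.unusedSectionVars false
set_option linter.unusedSimpArgs false
set_option linter.unusedVariables false

namespace Cfsg.Agent.StdSpFour.UFiveModel.T5

open Cfsg.Agent.StdSpFour.StarField

variable {K : Type*} [Field K] [StarRing K] [CharP K 2]

variable (K) in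
/-- the rank one elements of `W` -/
def Sm : Set (T5 K) := {g | g ∈ Wm K ∧ g.c * g.d = g.w3 * star g.w3 ∧ g ≠ 1}

theorem Sm_Wm {g : T5 K} (h : g ∈ Sm K) : g ∈ Wm K := h.1

theorem Sm_Qm {g : T5 K} (h : g ∈ Sm K) (h' : g ∈ Qm K) : g ∈ Zm K := by
  obtain ⟨h1, h2, h3⟩ := h
  rw [h'.2, mul_zero] at h2
  exact ⟨h1.1, h1.2.1, norm_eq_zero h2.symm, h1.2.2, h'.2⟩

/-- products in `W` -/
theorem mul_W {g x : T5 K} (hg : g ∈ Wm K) (hx : x ∈ Wm K) : (g * x).w3 = g.w3 + x.w3 ∧ (g * x).c = g.c + x.c ∧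
    (g * x).d = g.d + x.d := by
  obtain ⟨a1, a2, a3⟩ := hg
  obtain ⟨b1, b2, b3⟩ := hx
  rw [mul_w3, mul_c, mul_d, a1, a2, a3, b1, b2, b3]
  simp

theorem Wm_ext {g x : T5 K} (hg : g ∈ Wm K) (hx : x ∈ Wm K) (h3 : g.w3 = x.w3) (hc : g.c = x.c) (hd : g.d = x.d) :
    g = x := by
  obtain ⟨a1, a2, a3⟩ := hg
  obtain ⟨b1, b2, b3⟩ := hx
  ext
  · rw [a1, b1]
  · rw [a2, b2]
  · exact h3
  · exact hc
  · rw [a3, b3]
  · exact hd

section card

variable [Finite K]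

/-- the points -/
def ptEl (p : Option K) (f : K) (hf : f ∈ Fx K) : T5 K :=
  match p with
  | none => wEl 0 0 f (Fx K).zero_mem hf
  | some y => wEl (f * y) f (f * (y * star y)) hf (mul_mem_Fx hf (nrm_mem y))

theorem ptEl_mem (p : Option K) (f : K) (hf : f ∈ Fx K) : ptEl p f hf ∈ Wm K := by
  cases p
  · exact ⟨rfl, rfl, rfl⟩
  · exact ⟨rfl, rfl, rfl⟩

theorem ptEl_Sm (p : Option K) {f : K} (hf : f ∈ Fx K) (hf0 : f ≠ 0) : ptEl p f hf ∈ Sm K := by
  refine ⟨ptEl_mem p f hf, ?_, ?_⟩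
  · cases p with
    | none => show (0 : K) * f = 0 * star 0; simp
    | some y =>
      show f * (f * (y * star y)) = (f * y) * star (f * y)
      rw [star_mul', show star f = f from hf]
      ring
  · intro h
    cases p with
    | none => exact hf0 (congrArg T5.d h)
    | some y => exact hf0 (congrArg T5.c h)

theorem ptEl_inj {p p' : Option K} {f f' : K} {hf : f ∈ Fx K} {hf' : f' ∈ Fx K} (hf0 : f ≠ 0) (hf0' : f' ≠ 0)
    (h : ptEl p f hf = ptEl p' f' hf') : p = p' ∧ f = f' := by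
  cases p with
  | none =>
    cases p' with
    | none => exact ⟨rfl, congrArg T5.d h⟩
    | some y => exact absurd (congrArg T5.c h).symm hf0'
  | some x =>
    cases p' with
    | none => exact absurd (congrArg T5.c h) hf0
    | some y =>
      have h1 : f = f' := congrArg T5.c h
      subst h1
      have h2 : f * x = f * y := congrArg T5.w3 h
      exact ⟨by rw [mul_left_cancel₀ hf0 h2], rfl⟩

theorem exists_ptEl {g : T5 K} (h : g ∈ Sm K) : ∃ (p : Option K) (f : K) (hf : f ∈ Fx K), f ≠ 0 ∧ g = ptEl p f hf := by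
  obtain ⟨hW, h1, h2⟩ := h
  obtain ⟨hc, hd⟩ := Wm_c hW
  by_cases h0 : g.c = 0
  · rw [h0, zero_mul] at h1
    have h3 : g.w3 = 0 := norm_eq_zero h1.symm
    refine ⟨none, g.d, hd, ?_, ?_⟩
    · intro h4
      exact h2 (Wm_ext hW (one_mem _) h3 h0 h4)
    · exact Wm_ext hW (ptEl_mem _ _ _) h3 h0 rfl
  · have hcs : star g.c = g.c := hc
    refine ⟨some (g.w3 * g.c⁻¹), g.c, hc, h0, Wm_ext hW (ptEl_mem _ _ _) ?_ rfl ?_⟩
    · show g.w3 = g.c * (g.w3 * g.c⁻¹)
      field_simp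
    · show g.d = g.c * ((g.w3 * g.c⁻¹) * star (g.w3 * g.c⁻¹))
      rw [star_mul', star_inv₀, hcs]
      field_simp
      linear_combination h1

/-- `S` and points -/
theorem card_sub (P : T5 K → Prop) : Nat.card {g // g ∈ Sm K ∧ P g} =
    Nat.card {p : Option K × {f : Fx K // f ≠ 0} // P (ptEl p.1 p.2.1.1 p.2.1.2)} := by
  refine (Nat.card_congr (Equiv.ofBijective
    (fun p : {p : Option K × {f : Fx K // f ≠ 0} // P (ptEl p.1 p.2.1.1 p.2.1.2)} =>
      (⟨ptEl p.1.1 p.1.2.1.1 p.1.2.1.2, ptEl_Sm _ _ (fun h => p.1.2.2 (Subtype.ext h)), p.2⟩ :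
        {g // g ∈ Sm K ∧ P g})) ⟨?_, ?_⟩)).symm
  · rintro ⟨⟨p, f, hf⟩, hp⟩ ⟨⟨p', f', hf'⟩, hp'⟩ h
    have h1 := congrArg Subtype.val h
    obtain ⟨h2, h3⟩ := ptEl_inj (fun h => hf (Subtype.ext h)) (fun h => hf' (Subtype.ext h)) h1
    subst h2
    have h4 : f = f' := Subtype.ext h3
    subst h4
    rfl
  · rintro ⟨g, hg, hP⟩
    obtain ⟨p, f, hf, hf0, rfl⟩ := exists_ptEl hg
    exact ⟨⟨(p, ⟨⟨f, hf⟩, fun h => hf0 (congrArg Subtype.val h)⟩), hP⟩, rfl⟩

theorem card_Sm (hs : ∃ x : K, star x ≠ x) :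
    Nat.card (Sm K) = (Nat.card (Fx K) ^ 2 + 1) * (Nat.card (Fx K) - 1) := by
  have h1 : Nat.card (Sm K) = Nat.card {g // g ∈ Sm K ∧ True} :=
    Nat.card_congr (Equiv.subtypeEquivRight fun g => by simp)
  rw [h1, card_sub]
  have h2 : Nat.card {p : Option K × {f : Fx K // f ≠ 0} // True} = Nat.card (Option K × {f : Fx K // f ≠ 0}) :=
    Nat.card_congr (Equiv.subtypeUnivEquiv fun _ => trivial)
  rw [h2, Nat.card_prod, Finite.card_option, card_ne, card_eq hs]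

theorem ptEl_w3 (p : Option K) {f : K} (hf : f ∈ Fx K) : (ptEl p f hf).w3 = match p with
    | none => 0
    | some y => f * y := by
  cases p <;> rfl

/-- `N(m w)` for `m` a point times `f`: `N(w) + f B` -/
theorem det_mul {w : T5 K} (hw : w ∈ Wm K) (p : Option K) {f : K} (hf : f ∈ Fx K) :
    (ptEl p f hf * w).c * (ptEl p f hf * w).d + (ptEl p f hf * w).w3 * star (ptEl p f hf * w).w3 =
      (w.c * w.d + w.w3 * star w.w3) + f * pt w.w3 w.c w.d p := by
  obtain ⟨h1, h2, h3⟩ := mul_W (ptEl_mem p f hf) hw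
  rw [h1, h2, h3]
  have hf' : star f = f := hf
  cases p with
  | none =>
    show (0 + w.c) * (f + w.d) + (0 + w.w3) * star (0 + w.w3) = _
    unfold pt
    rw [zero_add, zero_add]
    ring
  | some y =>
    show (f + w.c) * (f * (y * star y) + w.d) + (f * y + w.w3) * star (f * y + w.w3) = _
    unfold pt
    rw [star_add, star_mul', hf']
    linear_combination (f * f * (y * star y)) * two0 (K := K)

theorem S_count (hs : ∃ x : K, star x ≠ x) (h2 : 2 ≤ Nat.card (Fx K)) {w : T5 K} (hw : w ∈ Wm K)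
    (hw1 : w ≠ 1) (hwS : w ∉ Sm K) :
    Nat.card {m : T5 K // m ∈ Sm K ∧ m * w ∈ Sm K} = Nat.card (Fx K) * (Nat.card (Fx K) - 1) := by
  have hn : w.c * w.d ≠ w.w3 * star w.w3 := fun h => hwS ⟨hw, h, hw1⟩
  obtain ⟨hc, hd⟩ := Wm_c hw
  have hδF : w.c * w.d + w.w3 * star w.w3 ∈ Fx K := add_mem (mul_mem_Fx hc hd) (nrm_mem _)
  have hδ0 : w.c * w.d + w.w3 * star w.w3 ≠ 0 := fun h => hn (CharTwo.add_eq_zero.1 h)
  rw [card_sub, ← card_not_perp hs h2 hc hd hn]
  have hiff : ∀ (p : Option K) (f : K) (hf : f ∈ Fx K), f ≠ 0 → ((ptEl p f hf * w ∈ Sm K) ↔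
      f * pt w.w3 w.c w.d p = w.c * w.d + w.w3 * star w.w3) := by
    intro p f hf hf0
    have h5 := det_mul hw p hf
    constructor
    · rintro ⟨-, h6, -⟩
      rw [h6, CharTwo.add_self_eq_zero] at h5
      rw [eq_comm]
      exact CharTwo.add_eq_zero.1 h5.symm
    · intro h6
      refine ⟨mul_mem (ptEl_mem p f hf) hw, ?_, ?_⟩
      · rw [h6, CharTwo.add_self_eq_zero] at h5
        exact CharTwo.add_eq_zero.1 h5
      · intro h7
        apply hwS
        have h8 : w = ptEl p f hf := by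
          have h9 := Wm_sq (ptEl_mem p f hf)
          calc w = (ptEl p f hf * ptEl p f hf) * w := by rw [h9, one_mul]
            _ = ptEl p f hf * (ptEl p f hf * w) := by group
            _ = _ := by rw [h7, mul_one]
        rw [h8]
        exact ptEl_Sm p hf hf0
  refine Nat.card_congr (Equiv.ofBijective
    (fun p : {p : Option K × {f : Fx K // f ≠ 0} // ptEl p.1 p.2.1.1 p.2.1.2 * w ∈ Sm K} =>
      (⟨p.1.1, ?_⟩ : {p : Option K // pt w.w3 w.c w.d p ≠ 0})) ⟨?_, ?_⟩)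
  · intro h
    have h3 := (hiff p.1.1 p.1.2.1.1 p.1.2.1.2 (fun h => p.1.2.2 (Subtype.ext h))).1 p.2
    rw [h, mul_zero] at h3
    exact hδ0 h3.symm
  · rintro ⟨⟨p, f, hf⟩, hp⟩ ⟨⟨p', f', hf'⟩, hp'⟩ h
    have h1 : p = p' := congrArg Subtype.val h
    subst h1
    have h3 := (hiff p f.1 f.2 (fun h => hf (Subtype.ext h))).1 hp
    have h3' := (hiff p f'.1 f'.2 (fun h => hf' (Subtype.ext h))).1 hp'
    have h4 : pt w.w3 w.c w.d p ≠ 0 := by
      intro h
      rw [h, mul_zero] at h3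
      exact hδ0 h3.symm
    have h5 : f = f' := Subtype.ext (mul_right_cancel₀ h4 (h3.trans h3'.symm))
    subst h5
    rfl
  · rintro ⟨p, hp⟩
    have hF : (w.c * w.d + w.w3 * star w.w3) * (pt w.w3 w.c w.d p)⁻¹ ∈ Fx K :=
      mul_mem_Fx hδF (inv_mem_Fx (pt_mem hc hd p))
    have hF0 : (w.c * w.d + w.w3 * star w.w3) * (pt w.w3 w.c w.d p)⁻¹ ≠ 0 := mul_ne_zero hδ0 (inv_ne_zero hp)
    refine ⟨⟨(p, ⟨⟨_, hF⟩, fun h => hF0 (congrArg Subtype.val h)⟩), ?_⟩, rfl⟩
    apply (hiff p _ hF hF0).2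
    rw [mul_assoc, inv_mul_cancel₀ hp, mul_one]

end card

/-! ### (T4) -/

theorem four_one [Finite K] {y : T5 K} (hy : y ∉ Qm K) (hyy : y * y ∈ Zm K) :
    (∃ z ∈ Zm K, y * z ∈ Sm K) ∨
      (y * y ≠ 1 ∧ ∀ x : T5 K, y * x * y⁻¹ * x⁻¹ ∈ Wm K ∧ y * x * y⁻¹ * x⁻¹ ∈ Qm K) := by
  have h1 : y.y = 0 := y_of_sq hyy.2.2.2.2
  have hd : y.d ≠ 0 := fun h => hy ⟨h1, h⟩
  have h2 : y.w1 = 0 := by
    have h3 := hyy.2.2.1
    rw [mul_w3, h1, star_zero, zero_mul, add_zero, ← add_assoc, CharTwo.add_self_eq_zero, zero_add] at h3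
    exact (mul_eq_zero.1 h3).resolve_left hd
  by_cases h3 : y.w2 = 0
  · left
    have hW : y ∈ Wm K := ⟨h2, h3, h1⟩
    obtain ⟨hc, hd'⟩ := Wm_c hW
    have hf : y.w3 * star y.w3 * y.d⁻¹ + y.c ∈ Fx K := add_mem (mul_mem_Fx (nrm_mem _) (inv_mem_Fx' hd')) hc
    refine ⟨ec _ hf, ec_mem _ _, ?_⟩
    obtain ⟨e1, e2, e3⟩ := mul_W hW (Zm_le_Wm (ec_mem _ hf))
    refine ⟨mul_mem hW (Zm_le_Wm (ec_mem _ _)), ?_, ?_⟩
    · rw [e1, e2, e3]
      show (y.c + (y.w3 * star y.w3 * y.d⁻¹ + y.c)) * (y.d + 0) = (y.w3 + 0) * star (y.w3 + 0)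
      rw [add_zero, add_zero]
      have h4 : y.c + (y.w3 * star y.w3 * y.d⁻¹ + y.c) = y.w3 * star y.w3 * y.d⁻¹ := by
        linear_combination y.c * two0 (K := K)
      rw [h4, mul_assoc, inv_mul_cancel₀ hd, mul_one]
    · intro h
      have := congrArg T5.d h
      rw [e3] at this
      apply hd
      have h5 : y.d + 0 = 0 := this
      rwa [add_zero] at h5
  · right
    refine ⟨?_, ?_⟩
    · intro h
      exact h3 (mem_Wm_of_sq' h h2).2.1
    · intro x
      rw [comm_eq]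
      refine ⟨?_, ?_⟩
      · rw [mul_inv_mem_Wm]
        simp only [mul_w1, mul_w2, mul_y, h1, h2, star_zero, mul_zero, zero_mul, add_zero, zero_add]
        exact ⟨trivial, add_comm _ _, trivial⟩
      · rw [mul_inv_mem_Qm]
        simp only [mul_d, mul_y, h1, h2, star_zero, mul_zero, zero_mul, add_zero, zero_add]
        exact ⟨trivial, add_comm _ _⟩
where
  inv_mem_Fx' {f : K} (hf : f ∈ Fx K) : f⁻¹ ∈ Fx K := by
    rw [mem_Fx, star_inv₀, show star f = f from hf]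

theorem four_two [Finite K] (hs : ∃ x : K, star x ≠ x) {v : T5 K} (hv : v ∈ Qm K) (hvv : v * v ≠ 1) :
    Nat.card {x : T5 K // v * x * v⁻¹ * x⁻¹ ∈ Zm K} * Nat.card (Fx K) ^ 2 ≤ Nat.card (T5 K) := by
  have := finite_T5 hs
  obtain ⟨h1, h2⟩ := hv
  have key : ∀ x : T5 K, v * x * v⁻¹ * x⁻¹ ∈ Zm K → x.y * v.w1 = 0 ∧ star x.y * v.w2 + x.d * v.w1 = 0 := by
    intro x hx
    rw [comm_eq, mul_inv_mem_Zm] at hx
    obtain ⟨-, h3, h4, -, -⟩ := hx
    rw [mul_w2, mul_w2, h1] at h3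
    rw [mul_w3, mul_w3, h1, h2, star_zero] at h4
    exact ⟨by linear_combination -h3, by linear_combination -h4⟩
  have hle : Nat.card {x : T5 K // v * x * v⁻¹ * x⁻¹ ∈ Zm K} ≤ Nat.card (Fx K) ^ 8 := by
    by_cases hw : v.w1 = 0
    · have hw2 : v.w2 ≠ 0 := by
        intro h3
        apply hvv
        rw [sq_eq_one_iff, h1, h2, hw, h3]
        simp
      rw [← card_y hs]
      refine Nat.card_le_card_of_injective
        (fun x : {x : T5 K // v * x * v⁻¹ * x⁻¹ ∈ Zm K} => (⟨x.1, ?_⟩ : {g : T5 K // g.y = 0})) ?_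
      · have h3 := (key x.1 x.2).2
        rw [hw, mul_zero, add_zero] at h3
        exact star_eq_zero.1 ((mul_eq_zero.1 h3).resolve_right hw2)
      · intro a b hab
        exact Subtype.ext (congrArg (fun z => z.1) hab)
    · rw [← card_y hs]
      refine Nat.card_le_card_of_injective
        (fun x : {x : T5 K // v * x * v⁻¹ * x⁻¹ ∈ Zm K} => (⟨x.1, ?_⟩ : {g : T5 K // g.y = 0})) ?_
      · exact (mul_eq_zero.1 (key x.1 x.2).1).resolve_right hw
      · intro a b hab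
        exact Subtype.ext (congrArg (fun z => z.1) hab)
  rw [card_T hs, show Nat.card (Fx K) ^ 10 = Nat.card (Fx K) ^ 8 * Nat.card (Fx K) ^ 2 by ring]
  exact Nat.mul_le_mul_right _ hle

open Cfsg.Agent.StdSpFour.ModelFacts in
/-- **the facts on `T`** -/
theorem tFacts [Finite K] (hs : ∃ x : K, star x ≠ x) (h4 : 4 ≤ Nat.card (Fx K)) :
    TFacts (Nat.card (Fx K)) (Zm K) (Qm K) (Wm K) (Sm K) where
  Z_le_W := Zm_le_Wm
  Z_le_Q := Zm_le_Qm
  Z_card := card_Zm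
  Z_sq := fun _ h => Zm_sq h
  Z_cent := fun _ h => Zm_cent h
  W_sq := fun _ h => Wm_sq h
  W_card := card_Wm hs
  W_uniq := W_uniq hs h4
  Q_sq := fun _ h => Qm_sq h
  Q_uniq := fun U _ h => Q_uniq hs h4 U h
  Q_cent := fun _ h => Q_cent hs h
  Q_cent_mod := fun _ h => Q_cent_mod h hs
  Q_pair := fun _ h h' _ hz => Q_pair hs h h' hz
  WQ_card := card_WQ hs
  inv_T := fun _ h => inv_T h
  S_W := fun _ h => Sm_Wm h
  S_Q := fun _ h h' => Sm_Qm h h'
  S_card := card_Sm hs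
  S_count := fun _ h h' h'' => S_count hs (by omega) h h' h''
  four := Or.inr ⟨fun _ h h' => four_one h h', fun _ h h' => four_two hs h h'⟩
  R_sq := fun x _ h => R_sq x h
  R_card := R_card hs
  T_WQ := fun x _ h h' => T_WQ x h h'
  T_W := fun x _ h => T_W x h
  hyp_one := fun B hB hc w hw h => hyp_one hs h4 B (by rwa [centralizer_Wm] at hB) hc hw h
  hyp_two := fun B hB hc w hw h => hyp_two hs h4 B (by rwa [centralizer_Wm] at hB) hc hw h
  TQ_onto := fun x hx hxx w hw hw' => by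
    have hy := y_of_sq hxx.2
    exact TQ_onto hy (fun h => hx ⟨hy, h⟩) hw hw'
  TQ_W := fun x _ hxx y hy => TQ_W (y_of_sq hxx.2) hy
  chain_one := fun x _ _ w hw _ => chain_one x hw
  chain_two := fun x _ hy h => chain_two hs x hy h

end Cfsg.Agent.StdSpFour.UFiveModel.T5
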