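import Cfsg.Agent.StdSpFour.UFiveCard
import Cfsg.Agent.StdSpFour.ModelFacts

/-!
# The group `T5 K`: facts (T1) - (T8), first part
-/

set_option autoImplicit false
set_option linter.unusedSectionVars false
set_option linter.unusedSimpArgs false

namespace Cfsg.Agent.StdSpFour.UFiveModel.T5

open Cfsg.Agent.StdSpFour.StarField

variable {K : Type*} [Field K] [StarRing K] [CharP K 2]

/-! ### Cosets -/

theorem mul_inv_mem_Zm {a b : T5 K} : a * b⁻¹ ∈ Zm K ↔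
    a.w1 = b.w1 ∧ a.w2 = b.w2 ∧ a.w3 = b.w3 ∧ a.y = b.y ∧ a.d = b.d := by
  obtain ⟨z, rfl⟩ : ∃ z, a = z * b := ⟨a * b⁻¹, by group⟩
  rw [mul_inv_cancel_right, mem_Zm, mul_w1, mul_w2, mul_w3, mul_y, mul_d]
  constructor
  · rintro ⟨h1, h2, h3, h4, h5⟩
    rw [h1, h2, h3, h4, h5]
    simp
  · rintro ⟨h1, h2, h3, h4, h5⟩
    have e1 : z.w1 = 0 := by linear_combination h1
    have e4 : z.y = 0 := by linear_combination h4
    rw [e4, star_zero] at h3 h5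
    rw [e4] at h2
    have e2 : z.w2 = 0 := by linear_combination h2
    have e5 : z.d = 0 := by linear_combination h5
    rw [e5] at h3
    have e3 : z.w3 = 0 := by linear_combination h3
    exact ⟨e1, e2, e3, e4, e5⟩

theorem mul_inv_mem_Wm {a b : T5 K} : a * b⁻¹ ∈ Wm K ↔ a.w1 = b.w1 ∧ a.w2 = b.w2 ∧ a.y = b.y := by
  obtain ⟨z, rfl⟩ : ∃ z, a = z * b := ⟨a * b⁻¹, by group⟩
  rw [mul_inv_cancel_right, mem_Wm, mul_w1, mul_w2, mul_y]
  constructor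
  · rintro ⟨h1, h2, h4⟩
    rw [h1, h2, h4]
    simp
  · rintro ⟨h1, h2, h4⟩
    have e4 : z.y = 0 := by linear_combination h4
    rw [e4] at h2
    exact ⟨by linear_combination h1, by linear_combination h2, e4⟩

theorem mul_inv_mem_Qm {a b : T5 K} : a * b⁻¹ ∈ Qm K ↔ a.y = b.y ∧ a.d = b.d := by
  obtain ⟨z, rfl⟩ : ∃ z, a = z * b := ⟨a * b⁻¹, by group⟩
  rw [mul_inv_cancel_right, mem_Qm, mul_y, mul_d]
  constructor
  · rintro ⟨h1, h2⟩
    rw [h1, h2]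
    simp
  · rintro ⟨h1, h2⟩
    have e4 : z.y = 0 := by linear_combination h1
    rw [e4, star_zero] at h2
    exact ⟨e4, by linear_combination h2⟩

theorem mul_inv_mem_Rm {a b : T5 K} : a * b⁻¹ ∈ Rm K ↔ a.w1 = b.w1 := by
  obtain ⟨z, rfl⟩ : ∃ z, a = z * b := ⟨a * b⁻¹, by group⟩
  rw [mul_inv_cancel_right, mem_Rm, mul_w1]
  constructor
  · intro h1
    rw [h1, zero_add]
  · intro h1
    linear_combination h1

theorem comm_eq {M : Type*} [Group M] (x y : M) : x * y * x⁻¹ * y⁻¹ = (x * y) * (y * x)⁻¹ := by group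

/-! ### The centraliser of `W` -/

theorem comm_W {g x : T5 K} (hx : x ∈ Wm K) : g * x = x * g ↔
    x.d * g.w1 = 0 ∧ g.w1 * star x.w3 = x.w3 * star g.w1 := by
  obtain ⟨a1, a2, a4⟩ := hx
  rw [comm_iff, a1, a2, a4, star_zero]
  unfold her
  rw [star_zero]
  constructor
  · rintro ⟨-, h2, -, h4⟩
    constructor
    · linear_combination -h2
    · have h2' : x.d * g.w1 = 0 := by linear_combination -h2
      rw [star_add, star_add] at h4
      simp only [mul_zero, zero_mul, star_zero, add_zero, zero_add] at h4 ⊢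
      exact h4
  · rintro ⟨h2, h4⟩
    refine ⟨by ring, by linear_combination -h2, by ring, ?_⟩
    simp only [mul_zero, zero_mul, star_zero, add_zero, zero_add]
    exact h4

theorem R_comm_W {g x : T5 K} (hg : g.w1 = 0) (hx : x ∈ Wm K) : g * x = x * g := by
  rw [comm_W hx, hg]
  simp

/-- the element `(0,0,0; 0; 0; 1)` -/
def oned : T5 K := ⟨0, 0, 0, 0, 0, 1, by simp, by rw [star_one, star_zero, mul_zero, CharTwo.add_self_eq_zero]⟩

theorem oned_mem : (oned : T5 K) ∈ Wm K := ⟨rfl, rfl, rfl⟩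

theorem centralizer_Wm : Subgroup.centralizer (Wm K : Set (T5 K)) = Rm K := by
  ext g
  rw [Subgroup.mem_centralizer_iff, mem_Rm]
  constructor
  · intro h
    have h1 := (comm_W oned_mem).1 (h oned oned_mem).symm
    have h2 : (1 : K) * g.w1 = 0 := h1.1
    rwa [one_mul] at h2
  · intro h x hx
    exact (R_comm_W h hx).symm

/-! ### Easy facts -/

theorem Zm_le_Wm : Zm K ≤ Wm K := fun _ h => ⟨h.1, h.2.1, h.2.2.2.1⟩
theorem Zm_le_Qm : Zm K ≤ Qm K := fun _ h => ⟨h.2.2.2.1, h.2.2.2.2⟩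

theorem Wm_sq {w : T5 K} (h : w ∈ Wm K) : w * w = 1 := by
  obtain ⟨h1, h2, h3⟩ := h
  rw [sq_eq_one_iff, h1, h2]
  simp [h3]

theorem Zm_sq {z : T5 K} (h : z ∈ Zm K) : z * z = 1 := Wm_sq (Zm_le_Wm h)

theorem Zm_cent {z : T5 K} (h : z ∈ Zm K) (x : T5 K) : z * x = x * z := by
  obtain ⟨h1, h2, h3, h4, h5⟩ := h
  rw [comm_iff, h1, h2, h3, h4, h5]
  unfold her
  simp

theorem Qm_sq {x : T5 K} (h : x ∈ Qm K) : x * x ∈ Zm K := by
  obtain ⟨h1, h2⟩ := h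
  rw [mem_Zm, mul_w1, mul_w2, mul_w3, mul_y, mul_d, h1, h2]
  simp [CharTwo.add_self_eq_zero]

theorem sq_w1 (x : T5 K) : (x * x).w1 = 0 := by
  rw [mul_w1, CharTwo.add_self_eq_zero]

theorem R_sq (x : T5 K) {w : T5 K} (hw : w ∈ Wm K) : (x * x) * w = w * (x * x) := R_comm_W (sq_w1 x) hw

theorem inv_T {x : T5 K} (h : x * x = 1) : x ∈ Wm K ∨ x ∈ Qm K := by
  by_cases hd : x.d = 0
  · right
    exact ⟨(sq_eq_one_iff.1 h).1, hd⟩
  · left
    exact mem_Wm_of_sq h hd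

theorem T_WQ (x : T5 K) {w : T5 K} (h : w ∈ Wm K) (h' : w ∈ Qm K) : x * w * x⁻¹ * w⁻¹ ∈ Zm K := by
  rw [comm_eq, mul_inv_mem_Zm]
  obtain ⟨h1, h2, h3⟩ := h
  obtain ⟨-, h5⟩ := h'
  simp only [mul_w1, mul_w2, mul_w3, mul_y, mul_d, h1, h2, h3, h5, star_zero, mul_zero, zero_mul, add_zero, zero_add]
  exact ⟨trivial, trivial, add_comm _ _, trivial, trivial⟩

theorem T_W (x : T5 K) {w : T5 K} (h : w ∈ Wm K) : x * w * x⁻¹ * w⁻¹ ∈ Qm K := by
  rw [comm_eq, mul_inv_mem_Qm]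
  obtain ⟨h1, h2, h3⟩ := h
  simp only [mul_y, mul_d, h3, star_zero, mul_zero, zero_mul, add_zero, zero_add]
  exact ⟨trivial, add_comm _ _⟩

theorem TQ_W {x y : T5 K} (hx : x.y = 0) (hy : y ∈ Qm K) : x * y * x⁻¹ * y⁻¹ ∈ Wm K := by
  rw [comm_eq, mul_inv_mem_Wm]
  obtain ⟨h1, h2⟩ := hy
  simp only [mul_w1, mul_w2, mul_y, h1, h2, hx, star_zero, mul_zero, zero_mul, add_zero, zero_add]
  exact ⟨add_comm _ _, add_comm _ _, trivial⟩

theorem y_of_sq {x : T5 K} (h : (x * x).d = 0) : x.y = 0 := by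
  rw [mul_d, CharTwo.add_self_eq_zero, zero_add, mul_comm] at h
  exact norm_eq_zero h

theorem chain_one (x : T5 K) {y w : T5 K} (hw : w ∈ Wm K) :
    (x * y * x⁻¹ * y⁻¹) * w = w * (x * y * x⁻¹ * y⁻¹) := by
  apply R_comm_W _ hw
  have : x * y * x⁻¹ * y⁻¹ ∈ Rm K := by
    rw [comm_eq, mul_inv_mem_Rm, mul_w1, mul_w1, add_comm]
  exact this

/-- the element `(0,0,m; 0; 0; 0)` -/
def em (m : K) : T5 K := ⟨0, 0, m, 0, 0, 0, by simp, by simp⟩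

theorem em_mem (m : K) : em m ∈ Wm K := ⟨rfl, rfl, rfl⟩
theorem em_mem' (m : K) : em m ∈ Qm K := ⟨rfl, rfl⟩

theorem w1_eq_zero (hs : ∃ x : K, star x ≠ x) {g : T5 K} (h : ∀ m : K, g * em m = em m * g) : g.w1 = 0 := by
  by_contra hne
  obtain ⟨x, hx⟩ := exists_tr_ne hs hne (show (1 : K) ∈ Fx K from star_one K)
  have h1 := ((comm_W (em_mem x)).1 (h x)).2
  have h2 : g.w1 * star x = x * star g.w1 := h1
  rw [h2, CharTwo.add_self_eq_zero] at hx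
  exact zero_ne_one hx

theorem chain_two (hs : ∃ x : K, star x ≠ x) (x : T5 K) {y : T5 K} (hy : y ∈ Qm K)
    (h : ∀ w ∈ Wm K, w ∈ Qm K → y * w = w * y) : x * y * x⁻¹ * y⁻¹ ∈ Wm K := by
  have h1 : y.w1 = 0 := w1_eq_zero hs fun m => h _ (em_mem m) (em_mem' m)
  rw [comm_eq, mul_inv_mem_Wm]
  obtain ⟨h2, h3⟩ := hy
  simp only [mul_w1, mul_w2, mul_y, h1, h2, star_zero, mul_zero, zero_mul, add_zero, zero_add]
  exact ⟨trivial, add_comm _ _, trivial⟩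

/-- the element `(m,0,0; 0; 0; 0)` -/
def e1 (m : K) : T5 K := ⟨m, 0, 0, 0, 0, 0, by simp, by simp⟩

theorem e1_mem (m : K) : e1 m ∈ Qm K := ⟨rfl, rfl⟩

theorem TQ_onto {x : T5 K} (hx : x.y = 0) (hd : x.d ≠ 0) {w : T5 K} (hw : w ∈ Wm K) (hw' : w ∈ Qm K) :
    ∃ y ∈ Qm K, ∃ z ∈ Zm K, w = x * y * x⁻¹ * y⁻¹ * z := by
  refine ⟨e1 (w.w3 / x.d), e1_mem _, (x * e1 (w.w3 / x.d) * x⁻¹ * (e1 (w.w3 / x.d))⁻¹)⁻¹ * w, ?_, by group⟩
  set y := e1 (w.w3 / x.d) with hy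
  have h1 : (x * y * x⁻¹ * y⁻¹)⁻¹ * w = ((y * x) * (x * y)⁻¹ * w * ((x * y) * (y * x)⁻¹)) * ((y * x) * (x * y)⁻¹) := by
    group
  -- use cosets: `w * ((x y)(y x)⁻¹)⁻¹ ∈ Z`
  have h2 : w * ((x * y) * (y * x)⁻¹)⁻¹ ∈ Zm K := by
    have h3 : w * ((x * y) * (y * x)⁻¹)⁻¹ = (w * (y * x)) * (x * y)⁻¹ := by group
    rw [h3, mul_inv_mem_Zm]
    obtain ⟨a1, a2, a3⟩ := hw
    have a4 := hw'.2
    have b1 : y.w1 = w.w3 / x.d := rfl
    have b2 : y.w2 = 0 := rfl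
    have b3 : y.w3 = 0 := rfl
    have b4 : y.y = 0 := rfl
    have b5 : y.d = 0 := rfl
    simp only [mul_w1, mul_w2, mul_w3, mul_y, mul_d, a1, a2, a3, a4, b1, b2, b3, b4, b5, hx, star_zero, mul_zero,
      zero_mul, add_zero, zero_add]
    refine ⟨add_comm _ _, trivial, ?_, trivial, trivial⟩
    have h4 : x.d * (w.w3 / x.d) = w.w3 := by field_simp
    rw [h4]
    ring
  have h5 : (x * y * x⁻¹ * y⁻¹)⁻¹ * w = ((x * y) * (y * x)⁻¹)⁻¹ * (w * ((x * y) * (y * x)⁻¹)⁻¹) *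
      ((x * y) * (y * x)⁻¹) := by group
  rw [h5, ← Zm_cent h2, mul_assoc, inv_mul_cancel, mul_one]
  exact h2

end Cfsg.Agent.StdSpFour.UFiveModel.T5
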