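import Cfsg.Agent.StdSpFour.UFiveT

/-!
# The group `T5 K`: facts (T1) - (T8), second part
-/

set_option autoImplicit false
set_option linter.unusedSectionVars false
set_option linter.unusedSimpArgs false

namespace Cfsg.Agent.StdSpFour.UFiveModel.T5

open Cfsg.Agent.StdSpFour.StarField

variable {K : Type*} [Field K] [StarRing K] [CharP K 2]

/-! ### Centralisers of `Q` -/

/-- an element `(0,m,0; m m* w; 0; 0)` -/
def e2 (w : K) (hw : w + star w = 1) (m : K) : T5 K := mkT w hw 0 m 0 0 0 0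

theorem e2_w1 (w : K) (hw : w + star w = 1) (m : K) : (e2 w hw m).w1 = 0 := rfl
theorem e2_w2 (w : K) (hw : w + star w = 1) (m : K) : (e2 w hw m).w2 = m := rfl
theorem e2_w3 (w : K) (hw : w + star w = 1) (m : K) : (e2 w hw m).w3 = 0 := rfl
theorem e2_y (w : K) (hw : w + star w = 1) (m : K) : (e2 w hw m).y = 0 := rfl
theorem e2_d (w : K) (hw : w + star w = 1) (m : K) : (e2 w hw m).d = 0 := by
  show (0 : K) * star 0 * w + 0 = 0
  simp

theorem e2_mem (w : K) (hw : w + star w = 1) (m : K) : e2 w hw m ∈ Qm K := ⟨e2_y w hw m, e2_d w hw m⟩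

theorem no_sym (hs : ∃ x : K, star x ≠ x) {a : K} (h : ∀ m : K, a * star m = m * star a) : a = 0 := by
  by_contra hne
  obtain ⟨x, hx⟩ := exists_tr_ne hs hne (show (1 : K) ∈ Fx K from star_one K)
  rw [h x, CharTwo.add_self_eq_zero] at hx
  exact zero_ne_one hx

theorem Q_cent_mod {x : T5 K} (h : ∀ y ∈ Qm K, x * y * x⁻¹ * y⁻¹ ∈ Zm K)
    (hs : ∃ x : K, star x ≠ x) : x ∈ Qm K := by
  obtain ⟨w, hw⟩ := exists_tr_one hs
  have h1 := h (e2 w hw 1) (e2_mem _ _ _)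
  rw [comm_eq, mul_inv_mem_Zm] at h1
  obtain ⟨-, h2, h3, -, -⟩ := h1
  rw [mul_w3, mul_w3, e2_w1, e2_w2, e2_w3, e2_y, e2_d, star_zero] at h3
  have hy : star x.y = 0 := by linear_combination h3
  have hy' : x.y = 0 := star_eq_zero.1 hy
  have h4 := h (e1 1) (e1_mem _)
  rw [comm_eq, mul_inv_mem_Zm] at h4
  obtain ⟨-, -, h5, -, -⟩ := h4
  rw [mul_w3, mul_w3, hy'] at h5
  have b1 : (e1 (1 : K)).w1 = 1 := rfl
  have b2 : (e1 (1 : K)).w2 = 0 := rfl
  have b3 : (e1 (1 : K)).w3 = 0 := rfl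
  have b4 : (e1 (1 : K)).y = 0 := rfl
  have b5 : (e1 (1 : K)).d = 0 := rfl
  rw [b1, b2, b3, b4, b5, star_zero] at h5
  exact ⟨hy', by linear_combination h5⟩

theorem Q_cent (hs : ∃ x : K, star x ≠ x) {x : T5 K} (h : ∀ y ∈ Qm K, x * y = y * x) : x ∈ Zm K := by
  have hQ : x ∈ Qm K := by
    apply Q_cent_mod _ hs
    intro y hy
    rw [comm_eq, h y hy, mul_inv_cancel]
    exact one_mem _
  obtain ⟨h1, h2⟩ := hQ
  obtain ⟨w, hw⟩ := exists_tr_one hs
  have hw1 : x.w1 = 0 := w1_eq_zero hs fun m => h _ (em_mem' m)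
  have hw2 : x.w2 = 0 := by
    apply no_sym hs
    intro m
    have h3 := (comm_iff.1 (h (e2 w hw m) (e2_mem _ _ _))).2.2.2
    unfold her at h3
    rw [e2_w1, e2_w2, e2_w3, e2_y, h1, hw1] at h3
    simp only [star_zero, mul_zero, zero_mul, add_zero, zero_add] at h3
    exact h3
  have hw3 : x.w3 = 0 := by
    apply no_sym hs
    intro m
    have h3 := (comm_iff.1 (h (e1 m) (e1_mem _))).2.2.2
    have b1 : (e1 m).w1 = m := rfl
    have b2 : (e1 m).w2 = 0 := rfl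
    have b3 : (e1 m).w3 = 0 := rfl
    have b4 : (e1 m).y = 0 := rfl
    have b5 : (e1 m).d = 0 := rfl
    unfold her at h3
    rw [b1, b2, b3, b4, b5, h1, hw1, hw2] at h3
    simp only [star_zero, mul_zero, zero_mul, add_zero, zero_add] at h3
    exact h3
  exact ⟨hw1, hw2, hw3, h1, h2⟩

/-- an element of `Z` -/
def ec (f : K) (hf : f ∈ Fx K) : T5 K := ⟨0, 0, 0, f, 0, 0, by rw [show star f = f from hf]; simp [CharTwo.add_self_eq_zero], by simp⟩

theorem ec_mem (f : K) (hf : f ∈ Fx K) : ec f hf ∈ Zm K := ⟨rfl, rfl, rfl, rfl, rfl⟩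

theorem eq_ec {z : T5 K} (h : z ∈ Zm K) : ∃ hf : z.c ∈ Fx K, z = ec z.c hf := by
  obtain ⟨h1, h2, h3, h4, h5⟩ := h
  have h6 : z.c ∈ Fx K := by
    have := z.hc
    rw [h1, h2, h3] at this
    simp only [star_zero, mul_zero, zero_mul, add_zero, zero_add] at this
    rw [CharTwo.add_eq_zero] at this
    exact this.symm
  refine ⟨h6, ?_⟩
  ext
  · exact h1
  · exact h2
  · exact h3
  · rfl
  · exact h4
  · exact h5

theorem Zm_c {z z' : T5 K} (h : z ∈ Zm K) (h' : z' ∈ Zm K) (hc : z.c = z'.c) : z = z' := by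
  obtain ⟨h1, h2, h3, h4, h5⟩ := h
  obtain ⟨g1, g2, g3, g4, g5⟩ := h'
  ext
  · rw [h1, g1]
  · rw [h2, g2]
  · rw [h3, g3]
  · exact hc
  · rw [h4, g4]
  · rw [h5, g5]

/-- the commutator in `Q` -/
theorem comm_Q {x y : T5 K} (hx : x ∈ Qm K) (hy : y ∈ Qm K) : x * y * x⁻¹ * y⁻¹ ∈ Zm K ∧
    (x * y * x⁻¹ * y⁻¹).c = her x.w1 x.w2 x.w3 y.w1 y.w2 y.w3 + her y.w1 y.w2 y.w3 x.w1 x.w2 x.w3 := by
  obtain ⟨h1, h2⟩ := hx
  obtain ⟨h3, h4⟩ := hy
  have hz : x * y * x⁻¹ * y⁻¹ ∈ Zm K := by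
    rw [comm_eq, mul_inv_mem_Zm]
    simp only [mul_w1, mul_w2, mul_w3, mul_y, mul_d, h1, h2, h3, h4, star_zero, mul_zero, zero_mul, add_zero, zero_add]
    exact ⟨add_comm _ _, add_comm _ _, add_comm _ _, trivial, trivial⟩
  refine ⟨hz, ?_⟩
  set z := x * y * x⁻¹ * y⁻¹ with hzdef
  have h5 : x * y = z * (y * x) := by rw [hzdef]; group
  have h6 := congrArg T5.c h5
  obtain ⟨a1, a2, a3, a4, a5⟩ := hz
  rw [mul_c, mul_c z, mul_c y x] at h6
  simp only [a1, a2, a3, a4, a5, h1, h2, h3, h4, star_zero, mul_zero, zero_mul, add_zero, zero_add] at h6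
  unfold her
  linear_combination -h6 - (y.w1 * star x.w3 + y.w2 * star x.w2 + y.w3 * star x.w1) * two0 (K := K)

theorem Q_pair (hs : ∃ x : K, star x ≠ x) {d : T5 K} (hd : d ∈ Qm K) (hdz : d ∉ Zm K) {z : T5 K} (hz : z ∈ Zm K) :
    ∃ e ∈ Qm K, d * e * d⁻¹ * e⁻¹ = z := by
  obtain ⟨w, hw⟩ := exists_tr_one hs
  obtain ⟨hf, hz'⟩ := eq_ec hz
  -- it is enough to find the hermitian product
  suffices h : ∃ e ∈ Qm K, her d.w1 d.w2 d.w3 e.w1 e.w2 e.w3 + her e.w1 e.w2 e.w3 d.w1 d.w2 d.w3 = z.c by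
    obtain ⟨e, he, h⟩ := h
    refine ⟨e, he, ?_⟩
    obtain ⟨h1, h2⟩ := comm_Q hd he
    exact Zm_c h1 hz (h2.trans h)
  by_cases h1 : d.w1 = 0
  · by_cases h2 : d.w2 = 0
    · have h3 : d.w3 ≠ 0 := fun h3 => hdz ⟨h1, h2, h3, hd.1, hd.2⟩
      obtain ⟨x, hx⟩ := exists_tr_ne hs h3 hf
      refine ⟨e1 x, e1_mem _, ?_⟩
      show her d.w1 d.w2 d.w3 x 0 0 + her x 0 0 d.w1 d.w2 d.w3 = z.c
      rw [h1, h2]
      unfold her
      simp only [star_zero, mul_zero, zero_mul, add_zero, zero_add]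
      exact hx
    · obtain ⟨x, hx⟩ := exists_tr_ne hs h2 hf
      refine ⟨e2 w hw x, e2_mem _ _ _, ?_⟩
      rw [e2_w1, e2_w2, e2_w3, h1]
      unfold her
      simp only [star_zero, mul_zero, zero_mul, add_zero, zero_add]
      exact hx
  · obtain ⟨x, hx⟩ := exists_tr_ne hs h1 hf
    refine ⟨em x, em_mem' _, ?_⟩
    show her d.w1 d.w2 d.w3 0 0 x + her 0 0 x d.w1 d.w2 d.w3 = z.c
    unfold her
    simp only [star_zero, mul_zero, zero_mul, add_zero, zero_add]
    exact hx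

/-! ### Orders -/

section card

variable [Finite K]

theorem Fx_pos : 0 < Nat.card (Fx K) := Nat.card_pos

theorem card_Zm : Nat.card (Zm K) = Nat.card (Fx K) := by
  refine Nat.card_congr
    { toFun := fun z => ⟨z.1.c, (eq_ec z.2).1⟩
      invFun := fun f => ⟨ec f.1 f.2, ec_mem _ _⟩
      left_inv := fun z => Subtype.ext (eq_ec z.2).2.symm
      right_inv := fun f => rfl }

theorem Wm_c {g : T5 K} (h : g ∈ Wm K) : g.c ∈ Fx K ∧ g.d ∈ Fx K := by
  obtain ⟨h1, h2, h3⟩ := h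
  constructor
  · have := g.hc
    rw [h1, h2] at this
    simp only [star_zero, mul_zero, zero_mul, add_zero, zero_add] at this
    rw [CharTwo.add_eq_zero] at this
    exact this.symm
  · have := g.hd
    rw [h3] at this
    simp only [star_zero, mul_zero, zero_mul, add_zero, zero_add] at this
    rw [CharTwo.add_eq_zero] at this
    exact this.symm

/-- elements of `W` -/
def wEl (m c d : K) (hc : c ∈ Fx K) (hd : d ∈ Fx K) : T5 K := ⟨0, 0, m, c, 0, d,
  by rw [show star c = c from hc]; simp [CharTwo.add_self_eq_zero],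
  by rw [show star d = d from hd]; simp [CharTwo.add_self_eq_zero]⟩

theorem wEl_mem (m c d : K) (hc : c ∈ Fx K) (hd : d ∈ Fx K) : wEl m c d hc hd ∈ Wm K := ⟨rfl, rfl, rfl⟩

/-- coordinates of `W` -/
def equivW : Wm K ≃ K × (Fx K × Fx K) where
  toFun g := (g.1.w3, (⟨_, (Wm_c g.2).1⟩, ⟨_, (Wm_c g.2).2⟩))
  invFun p := ⟨wEl p.1 p.2.1 p.2.2 p.2.1.2 p.2.2.2, wEl_mem _ _ _ _ _⟩
  left_inv g := by
    apply Subtype.ext
    ext
    · exact g.2.1.symm
    · exact g.2.2.1.symm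
    · rfl
    · rfl
    · exact g.2.2.2.symm
    · rfl
  right_inv p := rfl

theorem card_Wm (hs : ∃ x : K, star x ≠ x) : Nat.card (Wm K) = Nat.card (Fx K) ^ 4 := by
  rw [Nat.card_congr equivW, Nat.card_prod, Nat.card_prod, card_eq hs]
  ring

/-- coordinates of `W ∩ Q` -/
def equivWQ : ↥(Wm K ⊓ Qm K) ≃ K × Fx K where
  toFun g := (g.1.w3, ⟨_, (Wm_c g.2.1).1⟩)
  invFun p := ⟨wEl p.1 p.2 0 p.2.2 (Fx K).zero_mem, wEl_mem _ _ _ _ _, rfl, rfl⟩
  left_inv g := by
    apply Subtype.ext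
    ext
    · exact g.2.1.1.symm
    · exact g.2.1.2.1.symm
    · rfl
    · rfl
    · exact g.2.1.2.2.symm
    · exact g.2.2.2.symm
  right_inv p := rfl

theorem card_WQ (hs : ∃ x : K, star x ≠ x) : Nat.card ↥(Wm K ⊓ Qm K) = Nat.card (Fx K) ^ 3 := by
  rw [Nat.card_congr equivWQ, Nat.card_prod, card_eq hs]
  ring

/-- number of points of a coordinate subset -/
theorem card_coord {w : K} (hw : w + star w = 1) {A : Type*} (P : T5 K → Prop)
    (i : A → (K × K × K × K) × (Fx K × Fx K)) (hi : Function.Injective i)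
    (hP : ∀ g, P g ↔ ∃ a, i a = equivT w hw g) : Nat.card {g // P g} = Nat.card A := by
  refine Nat.card_congr (Equiv.ofBijective (fun a : A => (⟨(equivT w hw).symm (i a), (hP _).2
    ⟨a, by rw [Equiv.apply_symm_apply]⟩⟩ : {g // P g})) ⟨?_, ?_⟩).symm
  · intro a b hab
    have := congrArg Subtype.val hab
    exact hi ((equivT w hw).symm.injective this)
  · rintro ⟨g, hg⟩
    obtain ⟨a, ha⟩ := (hP g).1 hg
    refine ⟨a, Subtype.ext ?_⟩
    show (equivT w hw).symm (i a) = g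
    rw [ha, Equiv.symm_apply_apply]

theorem card_Rm (hs : ∃ x : K, star x ≠ x) : Nat.card (Rm K) = Nat.card (Fx K) ^ 8 := by
  obtain ⟨w, hw⟩ := exists_tr_one hs
  have h := card_coord hw (fun g => g ∈ Rm K) (A := (K × K × K) × (Fx K × Fx K))
    (fun a => ((0, a.1.1, a.1.2.1, a.1.2.2), a.2))
    (by
      rintro ⟨⟨a1, a2, a3⟩, a4⟩ ⟨⟨b1, b2, b3⟩, b4⟩ h
      simp only [Prod.mk.injEq] at h ⊢
      tauto)
    (by
      intro g
      constructor
      · intro h
        exact ⟨(((equivT w hw g).1.2.1, (equivT w hw g).1.2.2.1, (equivT w hw g).1.2.2.2), (equivT w hw g).2),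
          Prod.ext (Prod.ext (show (0 : K) = g.w1 from (mem_Rm.1 h).symm) rfl) rfl⟩
      · rintro ⟨a, ha⟩
        have := congrArg (fun p => p.1.1) ha
        exact this.symm)
  show Nat.card {g // g ∈ Rm K} = _
  rw [h, Nat.card_prod, Nat.card_prod, Nat.card_prod, Nat.card_prod, card_eq hs]
  ring

theorem R_card (hs : ∃ x : K, star x ≠ x) :
    Nat.card (T5 K) = Nat.card (Fx K) ^ 2 * Nat.card ↥(Subgroup.centralizer (Wm K : Set (T5 K))) := by
  rw [centralizer_Wm, card_Rm hs, card_T hs]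
  ring

theorem card_Qm (hs : ∃ x : K, star x ≠ x) : Nat.card (Qm K) = Nat.card (Fx K) ^ 7 := by
  obtain ⟨w, hw⟩ := exists_tr_one hs
  have h := card_coord hw (fun g => g ∈ Qm K) (A := (K × K × K) × Fx K)
    (fun a => ((a.1.1, a.1.2.1, a.1.2.2, 0), (a.2, 0)))
    (by
      rintro ⟨⟨a1, a2, a3⟩, a4⟩ ⟨⟨b1, b2, b3⟩, b4⟩ h
      simp only [Prod.mk.injEq] at h ⊢
      tauto)
    (by
      intro g
      constructor
      · intro h
        refine ⟨(((equivT w hw g).1.1, (equivT w hw g).1.2.1, (equivT w hw g).1.2.2.1), (equivT w hw g).2.1), ?_⟩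
        refine Prod.ext (Prod.ext rfl (Prod.ext rfl (Prod.ext rfl ?_))) (Prod.ext rfl (Subtype.ext ?_))
        · exact h.1.symm
        · show (0 : K) = g.d - g.y * star g.y * w
          rw [h.1, h.2]; ring
      · rintro ⟨a, ha⟩
        have h1 : (0 : K) = g.y := congrArg (fun p => p.1.2.2.2) ha
        have h2 : (0 : K) = g.d - g.y * star g.y * w := congrArg (fun p => (p.2.2 : K)) ha
        refine ⟨h1.symm, ?_⟩
        rw [← h1] at h2
        linear_combination -h2)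
  show Nat.card {g // g ∈ Qm K} = _
  rw [h, Nat.card_prod, Nat.card_prod, Nat.card_prod, card_eq hs]
  ring

/-- the elements with `y = 0` -/
theorem card_y (hs : ∃ x : K, star x ≠ x) : Nat.card {g : T5 K // g.y = 0} = Nat.card (Fx K) ^ 8 := by
  obtain ⟨w, hw⟩ := exists_tr_one hs
  have h := card_coord hw (fun g => g.y = 0) (A := (K × K × K) × (Fx K × Fx K))
    (fun a => ((a.1.1, a.1.2.1, a.1.2.2, 0), a.2))
    (by
      rintro ⟨⟨a1, a2, a3⟩, a4⟩ ⟨⟨b1, b2, b3⟩, b4⟩ h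
      simp only [Prod.mk.injEq] at h ⊢
      tauto)
    (by
      intro g
      constructor
      · intro h
        refine ⟨(((equivT w hw g).1.1, (equivT w hw g).1.2.1, (equivT w hw g).1.2.2.1), (equivT w hw g).2), ?_⟩
        exact Prod.ext (Prod.ext rfl (Prod.ext rfl (Prod.ext rfl h.symm))) rfl
      · rintro ⟨a, ha⟩
        have h1 : (0 : K) = g.y := congrArg (fun p => p.1.2.2.2) ha
        exact h1.symm)
  rw [h, Nat.card_prod, Nat.card_prod, Nat.card_prod, Nat.card_prod, card_eq hs]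
  ring

/-- the elements with `w1 = y = 0` -/
theorem card_wy (hs : ∃ x : K, star x ≠ x) : Nat.card {g : T5 K // g.w1 = 0 ∧ g.y = 0} = Nat.card (Fx K) ^ 6 := by
  obtain ⟨w, hw⟩ := exists_tr_one hs
  have h := card_coord hw (fun g => g.w1 = 0 ∧ g.y = 0) (A := (K × K) × (Fx K × Fx K))
    (fun a => ((0, a.1.1, a.1.2, 0), a.2))
    (by
      rintro ⟨⟨a1, a2⟩, a4⟩ ⟨⟨b1, b2⟩, b4⟩ h
      simp only [Prod.mk.injEq] at h ⊢
      tauto)
    (by
      intro g
      constructor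
      · intro h
        refine ⟨(((equivT w hw g).1.2.1, (equivT w hw g).1.2.2.1), (equivT w hw g).2), ?_⟩
        exact Prod.ext (Prod.ext h.1.symm (Prod.ext rfl (Prod.ext rfl h.2.symm))) rfl
      · rintro ⟨a, ha⟩
        have h1 : (0 : K) = g.y := congrArg (fun p => p.1.2.2.2) ha
        have h2 : (0 : K) = g.w1 := congrArg (fun p => p.1.1) ha
        exact ⟨h2.symm, h1.symm⟩)
  rw [h, Nat.card_prod, Nat.card_prod, Nat.card_prod, card_eq hs]
  ring

end card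

end Cfsg.Agent.StdSpFour.UFiveModel.T5
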