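import Cfsg.Agent.StdSpFour.UFiveU

/-!
# The group `T5 K`: uniqueness of `W` and `Q`
-/

set_option autoImplicit false
set_option linter.unusedSectionVars false
set_option linter.unusedSimpArgs false
set_option linter.unusedVariables false

namespace Cfsg.Agent.StdSpFour.UFiveModel.T5

open Cfsg.Agent.StdSpFour.StarField

variable {K : Type*} [Field K] [StarRing K] [CharP K 2] [Finite K]

/-- a subgroup inside a set of at most `n` elements -/
theorem card_le_of_subset {M : Type*} [Group M] (U : Subgroup M) (P : M → Prop) [Finite M] (h : ∀ x ∈ U, P x) :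
    Nat.card U ≤ Nat.card {x // P x} :=
  Nat.card_le_card_of_injective (fun x : U => (⟨x.1, h _ x.2⟩ : {x // P x}))
    (fun a b hab => Subtype.ext (congrArg (fun z => z.1) hab))

theorem eq_of_le_card {M : Type*} [Group M] [Finite M] {U V : Subgroup M} (h : U ≤ V) (hc : Nat.card U = Nat.card V) :
    U = V := Subgroup.eq_of_le_of_card_ge h hc.ge

/-- `Q/Z` is the only elementary abelian subgroup of `T/Z` of its order -/
theorem Q_uniq (hs : ∃ x : K, star x ≠ x) (h4 : 4 ≤ Nat.card (Fx K)) (U : Subgroup (T5 K))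
    (h : ∀ x ∈ U, x * x ∈ Zm K) (hc : Nat.card U = Nat.card (Qm K)) : U = Qm K := by
  have := finite_T5 hs
  have hy : ∀ x ∈ U, x.y = 0 := fun x hx => y_of_sq (h x hx).2.2.2.2
  have hdw : ∀ x ∈ U, x.d * x.w1 = 0 := by
    intro x hx
    have h1 := (h x hx).2.2.1
    rw [mul_w3, hy x hx, star_zero, zero_mul, add_zero, ← add_assoc, CharTwo.add_self_eq_zero, zero_add] at h1
    exact h1
  have hcomm : ∀ x ∈ U, ∀ y ∈ U, x.d * y.w1 = y.d * x.w1 := by
    intro x hx y hy'
    have h1 := hdw _ (mul_mem hx hy')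
    rw [mul_d, mul_w1, hy x hx, star_zero, zero_mul, add_zero] at h1
    have h2 := hdw x hx
    have h3 := hdw y hy'
    have h4 : x.d * y.w1 + y.d * x.w1 = 0 := by linear_combination h1 - h2 - h3
    exact CharTwo.add_eq_zero.1 h4
  by_cases hd : ∀ x ∈ U, x.d = 0
  · exact eq_of_le_card (fun x hx => ⟨hy x hx, hd x hx⟩) hc
  · exfalso
    push Not at hd
    obtain ⟨g, hg, hgd⟩ := hd
    have hgw : g.w1 = 0 := (mul_eq_zero.1 (hdw g hg)).resolve_left hgd
    have h1 : ∀ x ∈ U, x.w1 = 0 ∧ x.y = 0 := by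
      intro x hx
      have h2 := hcomm g hg x hx
      rw [hgw, mul_zero] at h2
      exact ⟨(mul_eq_zero.1 h2).resolve_left hgd, hy x hx⟩
    have h2 := card_le_of_subset U _ h1
    rw [hc, card_wy hs, card_Qm hs] at h2
    have h3 : Nat.card (Fx K) ^ 7 = Nat.card (Fx K) ^ 6 * Nat.card (Fx K) := by ring
    have h5 : 0 < Nat.card (Fx K) ^ 6 := by positivity
    rw [h3] at h2
    nlinarith

/-- fixed elements times `m` -/
theorem card_line {m : K} (hm : m ≠ 0) : Nat.card {x : K // ∃ f ∈ Fx K, x = f * m} = Nat.card (Fx K) := by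
  refine Nat.card_congr (Equiv.ofBijective (fun f : Fx K => (⟨f.1 * m, f.1, f.2, rfl⟩ :
    {x : K // ∃ f ∈ Fx K, x = f * m})) ⟨?_, ?_⟩).symm
  · intro a b hab
    have h1 : a.1 * m = b.1 * m := congrArg Subtype.val hab
    exact Subtype.ext (mul_right_cancel₀ hm h1)
  · rintro ⟨x, f, hf, rfl⟩
    exact ⟨⟨f, hf⟩, rfl⟩

/-- the map `w1` -/
def w1Hom : T5 K →* Multiplicative K where
  toFun g := Multiplicative.ofAdd g.w1
  map_one' := rfl
  map_mul' _ _ := rfl

theorem card_ker_mul_range {M N : Type*} [Group M] [Group N] (U : Subgroup M) (f : M →* N) [Finite M] :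
    Nat.card U = Nat.card {x // x ∈ U ∧ f x = 1} * Nat.card (U.map f) := by
  have h1 := Subgroup.card_mul_index (f.domRestrict U).ker
  rw [Subgroup.index_ker] at h1
  rw [← h1]
  congr 1
  · refine Nat.card_congr
      { toFun := fun x => ⟨x.1.1, x.1.2, x.2⟩
        invFun := fun x => ⟨⟨x.1, x.2.1⟩, x.2.2⟩
        left_inv := fun x => rfl
        right_inv := fun x => rfl }
  · have : (f.domRestrict U).range = U.map f := by
      ext x
      simp [MonoidHom.mem_range, Subgroup.mem_map]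
    rw [this]

/-- elementary abelian subgroups of `T` not inside `W` have order at most `q³` -/
theorem card_le_of_not_le (hs : ∃ x : K, star x ≠ x) (U : Subgroup (T5 K)) (h : ∀ x ∈ U, x * x = 1)
    (hU : ¬ U ≤ Wm K) : Nat.card U ≤ Nat.card (Fx K) ^ 3 := by
  have := finite_T5 hs
  have hcomm : ∀ x ∈ U, ∀ y ∈ U, x * y = y * x := by
    intro x hx y hy
    have h1 := h _ (mul_mem hx hy)
    have h2 := h x hx
    have h3 := h y hy
    calc x * y = (x * y)⁻¹ := (inv_eq_of_mul_eq_one_left h1).symm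
      _ = y * x := by rw [mul_inv_rev, inv_eq_of_mul_eq_one_left h2, inv_eq_of_mul_eq_one_left h3]
  have hy : ∀ x ∈ U, x.y = 0 := fun x hx => (sq_eq_one_iff.1 (h x hx)).1
  have hd : ∀ x ∈ U, x.d = 0 := by
    by_contra hne
    push Not at hne
    obtain ⟨g, hg, hgd⟩ := hne
    have hgw := (mem_Wm_of_sq (h g hg) hgd).1
    apply hU
    intro x hx
    apply mem_Wm_of_sq' (h x hx)
    have h1 := (comm_iff.1 (hcomm g hg x hx)).2.1
    rw [hy g hg, hy x hx, hgw, star_zero, zero_mul, zero_mul, mul_zero, zero_add, zero_add] at h1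
    exact (mul_eq_zero.1 h1).resolve_left hgd
  obtain ⟨g, hg, hgW⟩ := SetLike.not_le_iff_exists.1 hU
  have hgw : g.w1 ≠ 0 := fun h1 => hgW (mem_Wm_of_sq' (h g hg) h1)
  -- elements of the kernel
  have hker : ∀ x ∈ U, x.w1 = 0 → x ∈ Wm K := fun x hx hx' => mem_Wm_of_sq' (h x hx) hx'
  have hline : ∀ x ∈ U, x.w1 = 0 → ∀ y ∈ U, y.w1 * star x.w3 = x.w3 * star y.w1 := by
    intro x hx hx' y hy'
    exact ((comm_W (hker x hx hx')).1 (hcomm y hy' x hx)).2
  have hcard := card_ker_mul_range U w1Hom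
  have hqpos : 0 < Nat.card (Fx K) := Fx_pos
  by_cases hm : ∃ x ∈ U, x.w1 = 0 ∧ x.w3 ≠ 0
  · obtain ⟨x, hx, hx1, hx3⟩ := hm
    -- the image of `w1` is a line
    have h1 : Nat.card (U.map w1Hom) ≤ Nat.card (Fx K) := by
      rw [← card_line hx3]
      refine Nat.card_le_card_of_injective
        (fun v : U.map w1Hom => (⟨Multiplicative.toAdd v.1, ?_⟩ : {z : K // ∃ f ∈ Fx K, z = f * x.w3})) ?_
      · obtain ⟨v, y, hy', rfl⟩ := v
        have h2 := hline x hx hx1 y hy'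
        show ∃ f ∈ Fx K, y.w1 = f * x.w3
        rw [← tr_mul_eq_zero hx3, ← h2, CharTwo.add_self_eq_zero]
      · intro a b hab
        exact Subtype.ext (congrArg (fun z => z.1) hab)
    -- the kernel
    have h2 : Nat.card {x // x ∈ U ∧ w1Hom x = 1} ≤ Nat.card (Fx K) ^ 2 := by
      rw [pow_two, ← card_line (K := K) hgw, show Nat.card {z : K // ∃ f ∈ Fx K, z = f * g.w1} *
        Nat.card {z : K // ∃ f ∈ Fx K, z = f * g.w1} = Nat.card {z : K // ∃ f ∈ Fx K, z = f * g.w1} * Nat.card (Fx K) by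
        rw [card_line hgw], ← Nat.card_prod]
      refine Nat.card_le_card_of_injective
        (fun v : {x // x ∈ U ∧ w1Hom x = 1} => ((⟨v.1.w3, ?_⟩ : {z : K // ∃ f ∈ Fx K, z = f * g.w1}),
          (⟨v.1.c, ?_⟩ : Fx K))) ?_
      · have h3 := hline v.1 v.2.1 v.2.2 g hg
        rw [← tr_mul_eq_zero hgw, h3, CharTwo.add_self_eq_zero]
      · exact (Wm_c (hker v.1 v.2.1 v.2.2)).1
      · intro a b hab
        have e1 : a.1.w3 = b.1.w3 := congrArg (fun z => z.1.1) hab
        have e2 : a.1.c = b.1.c := congrArg (fun z => (z.2 : K)) hab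
        apply Subtype.ext
        obtain ⟨a1, a2, a3⟩ := hker a.1 a.2.1 a.2.2
        obtain ⟨b1, b2, b3⟩ := hker b.1 b.2.1 b.2.2
        ext
        · rw [a1, b1]
        · rw [a2, b2]
        · exact e1
        · exact e2
        · rw [a3, b3]
        · rw [hd _ a.2.1, hd _ b.2.1]
    rw [hcard, show Nat.card (Fx K) ^ 3 = Nat.card (Fx K) ^ 2 * Nat.card (Fx K) by ring]
    exact Nat.mul_le_mul h2 h1
  · push Not at hm
    have h1 : Nat.card (U.map w1Hom) ≤ Nat.card (Fx K) ^ 2 := by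
      rw [← card_eq hs]
      exact Nat.card_le_card_of_injective (fun v : U.map w1Hom => (Multiplicative.toAdd v.1 : K))
        (fun a b hab => Subtype.ext hab)
    have h2 : Nat.card {x // x ∈ U ∧ w1Hom x = 1} ≤ Nat.card (Fx K) := by
      refine Nat.card_le_card_of_injective
        (fun v : {x // x ∈ U ∧ w1Hom x = 1} => (⟨v.1.c, ?_⟩ : Fx K)) ?_
      · exact (Wm_c (hker v.1 v.2.1 v.2.2)).1
      · intro a b hab
        have e2 : a.1.c = b.1.c := congrArg (fun z : Fx K => (z : K)) hab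
        apply Subtype.ext
        obtain ⟨a1, a2, a3⟩ := hker a.1 a.2.1 a.2.2
        obtain ⟨b1, b2, b3⟩ := hker b.1 b.2.1 b.2.2
        ext
        · rw [a1, b1]
        · rw [a2, b2]
        · rw [hm a.1 a.2.1 a.2.2, hm b.1 b.2.1 b.2.2]
        · exact e2
        · rw [a3, b3]
        · rw [hd _ a.2.1, hd _ b.2.1]
    rw [hcard, show Nat.card (Fx K) ^ 3 = Nat.card (Fx K) * Nat.card (Fx K) ^ 2 by ring]
    exact Nat.mul_le_mul h2 h1

theorem W_uniq (hs : ∃ x : K, star x ≠ x) (h4 : 4 ≤ Nat.card (Fx K)) (U : Subgroup (T5 K)) (h : ∀ x ∈ U, x * x = 1)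
    (hc : Nat.card U = Nat.card (Fx K) ^ 4) : U = Wm K := by
  have := finite_T5 hs
  by_cases hU : U ≤ Wm K
  · exact eq_of_le_card hU (hc.trans (card_Wm hs).symm)
  · exfalso
    have h1 := card_le_of_not_le hs U h hU
    rw [hc, show Nat.card (Fx K) ^ 4 = Nat.card (Fx K) ^ 3 * Nat.card (Fx K) by ring] at h1
    have h5 : 0 < Nat.card (Fx K) ^ 3 := by positivity
    nlinarith

/-! ### Hyperplanes -/

/-- A subgroup of index 2 containing `R` contains elements with `w1` outside any line. -/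
theorem hyp_exists (hs : ∃ x : K, star x ≠ x) (h4 : 4 ≤ Nat.card (Fx K)) (B : Subgroup (T5 K))
    (hR : Rm K ≤ B) (hB : 2 * Nat.card B = Nat.card (T5 K)) {m : K} (hm : m ≠ 0) :
    ∃ x ∈ B, ¬ ∃ f ∈ Fx K, x.w1 = f * m := by
  have := finite_T5 hs
  by_contra hne
  push Not at hne
  have hcard := card_ker_mul_range B w1Hom
  have h1 : Nat.card (B.map w1Hom) ≤ Nat.card (Fx K) := by
    rw [← card_line hm]
    refine Nat.card_le_card_of_injective
      (fun v : B.map w1Hom => (⟨Multiplicative.toAdd v.1, ?_⟩ : {z : K // ∃ f ∈ Fx K, z = f * m})) ?_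
    · obtain ⟨v, y, hy', rfl⟩ := v
      exact hne y hy'
    · intro a b hab
      exact Subtype.ext (congrArg (fun z => z.1) hab)
  have h2 : Nat.card {x // x ∈ B ∧ w1Hom x = 1} ≤ Nat.card (Fx K) ^ 8 := by
    rw [← card_Rm hs]
    exact Nat.card_le_card_of_injective (fun v : {x // x ∈ B ∧ w1Hom x = 1} => (⟨v.1, v.2.2⟩ : Rm K))
      (fun a b hab => Subtype.ext (congrArg (fun z => z.1) hab))
  rw [card_T hs] at hB
  have h3 := Nat.mul_le_mul h2 h1
  rw [← hcard] at h3
  have h5 : Nat.card (Fx K) ^ 10 = Nat.card (Fx K) ^ 8 * Nat.card (Fx K) * Nat.card (Fx K) := by ring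
  have h6 : 0 < Nat.card (Fx K) ^ 8 * Nat.card (Fx K) := by
    have := Fx_pos (K := K)
    positivity
  rw [h5] at hB
  nlinarith

theorem hyp_two (hs : ∃ x : K, star x ≠ x) (h4 : 4 ≤ Nat.card (Fx K)) (B : Subgroup (T5 K))
    (hR : Rm K ≤ B) (hB : 2 * Nat.card B = Nat.card (T5 K)) {w : T5 K} (hw : w ∈ Wm K)
    (h : ∀ x ∈ B, x * w * x⁻¹ * w⁻¹ ∈ Zm K) : w ∈ Qm K := by
  obtain ⟨x, hx, hx'⟩ := hyp_exists hs h4 B hR hB one_ne_zero
  have hx1 : x.w1 ≠ 0 := by
    intro h0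
    exact hx' ⟨0, (Fx K).zero_mem, by rw [h0, zero_mul]⟩
  have h1 := h x hx
  rw [comm_eq, mul_inv_mem_Zm] at h1
  obtain ⟨-, -, h2, -, -⟩ := h1
  obtain ⟨a1, a2, a3⟩ := hw
  rw [mul_w3, mul_w3, a1, a2, a3, star_zero, mul_zero, mul_zero, zero_mul] at h2
  refine ⟨a3, ?_⟩
  have h3 : w.d * x.w1 = 0 := by linear_combination -h2
  exact (mul_eq_zero.1 h3).resolve_right hx1

theorem hyp_one (hs : ∃ x : K, star x ≠ x) (h4 : 4 ≤ Nat.card (Fx K)) (B : Subgroup (T5 K))
    (hR : Rm K ≤ B) (hB : 2 * Nat.card B = Nat.card (T5 K)) {w : T5 K} (hw : w ∈ Wm K)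
    (h : ∀ x ∈ B, x * w = w * x) : w ∈ Zm K := by
  have hQ : w ∈ Qm K := by
    apply hyp_two hs h4 B hR hB hw
    intro x hx
    rw [comm_eq, h x hx, mul_inv_cancel]
    exact one_mem _
  by_cases hm : w.w3 = 0
  · exact ⟨hw.1, hw.2.1, hm, hw.2.2, hQ.2⟩
  · exfalso
    obtain ⟨x, hx, hx'⟩ := hyp_exists hs h4 B hR hB hm
    have h1 := ((comm_W hw).1 (h x hx)).2
    apply hx'
    rw [← tr_mul_eq_zero hm, ← h1, CharTwo.add_self_eq_zero]

end Cfsg.Agent.StdSpFour.UFiveModel.T5
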