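import Cfsg.Agent.StdSpFour.UFourFacts
import Cfsg.Agent.StdSpFour.RootEight

/-!
# S1778, type Sp₄(q), target U₄(q): the data inside the group

`Env c G`: the 2-group `T = f (TB c)`, the reflections `na`, `nb`, the torus `h`, the involution `t`.
`torus_act`: the element `g0` of `Ka` acting on `W` as a torus element of `SL₂(q²)`.
-/

set_option autoImplicit false

namespace Cfsg.Agent.StdSpFour.UFour

open Cfsg.Agent.StdSpFour.CaseBModel Subgroup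

/-- `g x g⁻¹` -/
def cg {G : Type*} [Group G] (g x : G) : G := g * x * g⁻¹

section cg

variable {G : Type*} [Group G]

theorem cg_mul (g x y : G) : cg g (x * y) = cg g x * cg g y := by simp only [cg]; group
theorem cg_one (g : G) : cg g 1 = 1 := by simp only [cg]; group
theorem cg_inv (g x : G) : cg g x⁻¹ = (cg g x)⁻¹ := by simp only [cg]; group
theorem cg_comp (g h x : G) : cg (g * h) x = cg g (cg h x) := by simp only [cg]; group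
theorem cg_inv_cg (g x : G) : cg g⁻¹ (cg g x) = x := by simp only [cg]; group
theorem cg_cg_inv (g x : G) : cg g (cg g⁻¹ x) = x := by simp only [cg]; group
theorem cg_inj {g x y : G} (h : cg g x = cg g y) : x = y := by rw [← cg_inv_cg g x, h, cg_inv_cg]
theorem cg_eq_self {g x : G} (h : g * x = x * g) : cg g x = x := by rw [cg, h, mul_inv_cancel_right]
theorem comm_of_cg {g x : G} (h : cg g x = x) : g * x = x * g := by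
  nth_rewrite 2 [← h]; rw [cg, inv_mul_cancel_right]

end cg

/-- the data inside `G` -/
structure Env {F : Type*} [Field F] [CharP F 2] (c : F) (G : Type*) [Group G] where
  f : TB c →* G
  inj : Function.Injective f
  t : G
  na : G
  nb : G
  h : Fˣ → Fˣ → G
  tt : t * t = 1
  t_f : ∀ x, cg t (f x) = f (tau x)
  t_na : Commute t na
  t_nb : Commute t nb
  t_h : ∀ α β, Commute t (h α β)
  na_na : na * na = 1
  nb_nb : nb * nb = 1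
  na_w : ∀ s m n r, cg na (f ⟨0, 0, s, m, n, r⟩) = f ⟨0, 0, r, m + n, n, s⟩
  nb_q : ∀ u v m n r, cg nb (f ⟨u, v, 0, m, n, r⟩) = f ⟨m, n, 0, u, v, r + (m * v + n * u)⟩
  /-- `na = x x' x` -/
  na_eq : na = f ⟨1, 0, 0, 0, 0, 0⟩ * cg na (f ⟨1, 0, 0, 0, 0, 0⟩) * f ⟨1, 0, 0, 0, 0, 0⟩
  nb_eq : nb = f ⟨0, 0, 1, 0, 0, 0⟩ * cg nb (f ⟨0, 0, 1, 0, 0, 0⟩) * f ⟨0, 0, 1, 0, 0, 0⟩
  h_f : ∀ (α β : Fˣ) u v s m n r, cg (h α β) (f ⟨u, v, s, m, n, r⟩) =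
    f ⟨α * u, α * v, β * s, α * β * m, α * β * n, α ^ 2 * β * r⟩
  /-- (the centre of `A`): a group of odd order centralising everything -/
  Cn : Subgroup G
  Cn_odd : ∀ k ∈ Cn, k * k = 1 → k = 1
  Cn_f : ∀ k ∈ Cn, ∀ x, k * f x = f x * k
  Cn_na : ∀ k ∈ Cn, k * na = na * k
  Cn_nb : ∀ k ∈ Cn, k * nb = nb * k
  na_h : ∀ (α β : Fˣ), ∃ k ∈ Cn, na * h α β = h α⁻¹ (α ^ 2 * β) * na * k
  nb_h : ∀ (α β : Fˣ), ∃ k ∈ Cn, nb * h α β = h (α * β) β⁻¹ * nb * k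

namespace Env

variable {F G : Type*} [Field F] [CharP F 2] {c : F} [Group G] (V : Env c G)

/-! ### conjugation -/

theorem cg_f (x y : TB c) : cg (V.f x) (V.f y) = V.f (x * y * x⁻¹) := by
  rw [cg, map_mul, map_mul, map_inv]

theorem a_w (x : TB c) (s m n r : F) : cg (V.f x) (V.f ⟨0, 0, s, m, n, r⟩) =
    V.f ⟨0, 0, s, m + x.u * s, n + x.v * s, r + (x.u * n + x.v * m) + N c x.u x.v * s⟩ := by
  rw [cg_f, conj_w]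

theorem na_inv : V.na⁻¹ = V.na := inv_eq_of_mul_eq_one_left V.na_na

theorem nb_inv : V.nb⁻¹ = V.nb := inv_eq_of_mul_eq_one_left V.nb_nb

theorem t_inv : V.t⁻¹ = V.t := inv_eq_of_mul_eq_one_left V.tt

theorem cg_na_na (x : G) : cg V.na (cg V.na x) = x := by rw [← cg_comp, V.na_na]; simp [cg]

theorem cg_nb_nb (x : G) : cg V.nb (cg V.nb x) = x := by rw [← cg_comp, V.nb_nb]; simp [cg]

theorem h_f' (α β : Fˣ) (x : TB c) : cg (V.h α β) (V.f x) =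
    V.f ⟨α * x.u, α * x.v, β * x.s, α * β * x.m, α * β * x.n, α ^ 2 * β * x.r⟩ := V.h_f α β _ _ _ _ _ _

theorem h_f_inv (α β : Fˣ) (x : TB c) : cg (V.h α β)⁻¹ (V.f x) =
    V.f ⟨(α⁻¹ : Fˣ) * x.u, (α⁻¹ : Fˣ) * x.v, (β⁻¹ : Fˣ) * x.s, (α⁻¹ : Fˣ) * (β⁻¹ : Fˣ) * x.m,
      (α⁻¹ : Fˣ) * (β⁻¹ : Fˣ) * x.n, (α⁻¹ : Fˣ) ^ 2 * (β⁻¹ : Fˣ) * x.r⟩ := by
  have h1 : cg (V.h α β) (V.f ⟨(α⁻¹ : Fˣ) * x.u, (α⁻¹ : Fˣ) * x.v, (β⁻¹ : Fˣ) * x.s, (α⁻¹ : Fˣ) * (β⁻¹ : Fˣ) * x.m,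
      (α⁻¹ : Fˣ) * (β⁻¹ : Fˣ) * x.n, (α⁻¹ : Fˣ) ^ 2 * (β⁻¹ : Fˣ) * x.r⟩) = V.f x := by
    rw [V.h_f]
    congr 1
    have ha : (α : F) ≠ 0 := α.ne_zero
    have hb : (β : F) ≠ 0 := β.ne_zero
    ext <;> simp only [Units.val_inv_eq_inv_val] <;> field_simp
  rw [← h1, cg_inv_cg]

/-- the element of the torus of `Ka` -/
def g0 (u v i : F) : G := V.f ⟨u, v, 0, 0, 0, 0⟩ * cg V.na (V.f ⟨(u + v) * i, v * i, 0, 0, 0, 0⟩) *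
  V.f ⟨u, v, 0, 0, 0, 0⟩ * V.na

theorem cg_cg (g x y : G) : cg (cg g x) y = cg g (cg x (cg g⁻¹ y)) := by simp only [cg]; group

theorem g0_w {u v i : F} (hi : i * N c u v = 1) (s m n r : F) : cg (V.g0 u v i) (V.f ⟨0, 0, s, m, n, r⟩) =
    V.f ⟨0, 0, i * s, i * ((u ^ 2 + c * v ^ 2) * m + c * v ^ 2 * n),
      i * ((u ^ 2 + c * v ^ 2) * n + v ^ 2 * m + v ^ 2 * n), N c u v * r⟩ := by
  have h2 := two_eq (F := F)
  rw [g0, cg_comp, cg_comp, cg_comp, V.na_w, V.a_w, cg_cg, V.na_inv, V.na_w, V.a_w, V.na_w, V.a_w]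
  congr 1
  rw [N] at hi
  ext
  · rfl
  · rfl
  · simp only [N]
    linear_combination (c * i * r * v ^ 2 + i * m * v + i * n * u + i * n * v + 3 * i * r * u * v + i * r * u ^ 2 + 2 * i * r * v ^ 2 + i * s + r) * hi + (i * m * v + i * n * u + 2 * i * n * v + 2 * i * r * u * v + 2 * i * r * v ^ 2 + i ^ 2 * m * u * v ^ 2 + i ^ 2 * m * v ^ 3 + 2 * i ^ 2 * n * u * v ^ 2 + i ^ 2 * n * u ^ 2 * v + i ^ 2 * n * v ^ 3 + i ^ 2 * s * u * v + i ^ 2 * s * v ^ 2 + r) * h2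
  · simp only [N]
    linear_combination (c * i * r * u * v ^ 2 + i * m * u * v + i * n * u * v + i * n * u ^ 2 + 2 * i * r * u * v ^ 2 + 3 * i * r * u ^ 2 * v + i * r * u ^ 3 + i * s * u - m - n + 2 * r * u + 2 * r * v) * hi + (2 * i * m * u * v + i * m * v ^ 2 + 4 * i * n * u * v + 2 * i * n * u ^ 2 + i * n * v ^ 2 + 2 * i * r * u * v ^ 2 + 2 * i * r * u ^ 2 * v + i * s * u + i * s * v + i ^ 2 * m * u * v ^ 3 + i ^ 2 * m * u ^ 2 * v ^ 2 + i ^ 2 * n * u * v ^ 3 + 2 * i ^ 2 * n * u ^ 2 * v ^ 2 + i ^ 2 * n * u ^ 3 * v + i ^ 2 * s * u * v ^ 2 + i ^ 2 * s * u ^ 2 * v + n + 2 * r * u + 2 * r * v) * h2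
  · simp only [N]
    linear_combination (c * i * r * v ^ 3 + i * m * v ^ 2 + i * n * u * v + i * n * v ^ 2 + 3 * i * r * u * v ^ 2 + i * r * u ^ 2 * v + 2 * i * r * v ^ 3 + i * s * v - n + 2 * r * v) * hi + (i * m * v ^ 2 + 2 * i * n * u * v + 2 * i * n * v ^ 2 + 2 * i * r * u * v ^ 2 + 2 * i * r * v ^ 3 + i * s * v + i ^ 2 * m * u * v ^ 3 + i ^ 2 * m * v ^ 4 + 2 * i ^ 2 * n * u * v ^ 3 + i ^ 2 * n * u ^ 2 * v ^ 2 + i ^ 2 * n * v ^ 4 + i ^ 2 * s * u * v ^ 2 + i ^ 2 * s * v ^ 3 + 2 * r * v) * h2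
  · simp only [N]
    linear_combination (c * i * m * v ^ 3 + c * i * n * u * v ^ 2 + c * i * n * v ^ 3 + 4 * c * i * r * u * v ^ 3 + 2 * c * i * r * u ^ 2 * v ^ 2 + 2 * c * i * r * v ^ 4 + c * i * s * v ^ 2 + c * r * v ^ 2 + c ^ 2 * i * r * v ^ 4 + 3 * i * m * u * v ^ 2 + i * m * u ^ 2 * v + 2 * i * m * v ^ 3 + 5 * i * n * u * v ^ 2 + 4 * i * n * u ^ 2 * v + i * n * u ^ 3 + 2 * i * n * v ^ 3 + 2 * i * r * u * v ^ 3 + 5 * i * r * u ^ 2 * v ^ 2 + 4 * i * r * u ^ 3 * v + i * r * u ^ 4 + 3 * i * s * u * v + i * s * u ^ 2 + 2 * i * s * v ^ 2 + 2 * m * v + 2 * n * u + 4 * n * v + 7 * r * u * v + r * u ^ 2 + 6 * r * v ^ 2 + s) * hi + (c * r * v ^ 2 + 2 * i * m * u * v ^ 2 + 2 * i * m * v ^ 3 + 4 * i * n * u * v ^ 2 + 2 * i * n * u ^ 2 * v + 2 * i * n * v ^ 3 + 2 * i * s * u * v + 2 * i * s * v ^ 2 + 2 * m * v + 2 * n * u + 4 * n * v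 + 5 * r * u * v + r * u ^ 2 + 4 * r * v ^ 2 + s) * h2

/-- if `g` acts on `W` as `g0` then `g a(ν) g⁻¹` acts as `a(κ² ν)` -/
theorem g_a {u v i : F} (hi : i * N c u v = 1) {g : G}
    (hg : ∀ s m n r, cg g (V.f ⟨0, 0, s, m, n, r⟩) =
      V.f ⟨0, 0, i * s, i * ((u ^ 2 + c * v ^ 2) * m + c * v ^ 2 * n),
      i * ((u ^ 2 + c * v ^ 2) * n + v ^ 2 * m + v ^ 2 * n), N c u v * r⟩) (x : TB c) (s m n r : F) :
    cg (cg g (V.f x)) (cg g (V.f ⟨0, 0, s, m, n, r⟩)) =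
      cg (V.f ⟨(u ^ 2 + c * v ^ 2) * x.u + c * v ^ 2 * x.v,
        (u ^ 2 + c * v ^ 2) * x.v + v ^ 2 * x.u + v ^ 2 * x.v, 0, 0, 0, 0⟩) (cg g (V.f ⟨0, 0, s, m, n, r⟩)) := by
  have h2 := two_eq (F := F)
  rw [cg_cg, cg_inv_cg, V.a_w, hg, hg, V.a_w]
  congr 1
  rw [N] at hi
  obtain ⟨u1, v1, s', m', n', r'⟩ := x
  ext
  · rfl
  · rfl
  · rfl
  · simp only; ring
  · simp only; ring
  · simp only [N]
    linear_combination (-(c * m * v ^ 2 * v1) - c * n * u1 * v ^ 2 - 2 * c * n * v ^ 2 * v1 + c * s * u * v * v1 ^ 2 - c * s * u ^ 2 * v1 ^ 2 - 5 * c * s * u1 * v ^ 2 * v1 - c * s * u1 ^ 2 * v ^ 2 - 4 * c * s * v ^ 2 * v1 ^ 2 - c ^ 2 * s * v ^ 2 * v1 ^ 2 + m * u * v * v1 - m * u ^ 2 * v1 - 2 * m * u1 * v ^ 2 - 2 * m * v ^ 2 * v1 + n * u * u1 * v + 2 * n * u * v * v1 - n * u ^ 2 * u1 - 2 * n * u1 * v ^ 2 - 2 * n * v ^ 2 * v1 + 5 * s *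 u * u1 * v * v1 + s * u * u1 ^ 2 * v + 4 * s * u * v * v1 ^ 2 - s * u ^ 2 * u1 * v1 - s * u ^ 2 * u1 ^ 2 - 4 * s * u1 * v ^ 2 * v1 - 2 * s * u1 ^ 2 * v ^ 2 - 2 * s * v ^ 2 * v1 ^ 2) * hi + (-(c * n * v ^ 2 * v1) + c * s * u * v * v1 ^ 2 - 2 * c * s * u1 * v ^ 2 * v1 - 2 * c * s * v ^ 2 * v1 ^ 2 + i * m * u * u1 * v ^ 3 + i * m * u * v ^ 3 * v1 + i * n * u * u1 * v ^ 3 + i * n * u * v ^ 3 * v1 - i * n * u ^ 3 * v * v1 + 2 * i * s * u * u1 * v ^ 3 * v1 + i * s * u * u1 ^ 2 * v ^ 3 + i * s * u * v ^ 3 * v1 ^ 2 - i * s * u ^ 2 * u1 * v ^ 2 * v1 - i * s * u ^ 2 * v ^ 2 * v1 ^ 2 - 2 * i * s * u ^ 3 * u1 * v * v1 - 2 * i * s * u ^ 3 * v * v1 ^ 2 + m * u * v * v1 - m * u1 * v ^ 2 - m * v ^ 2 * v1 + n * u * u1 * v + n * u * v * v1 - n * u1 * v ^ 2 - n * v ^ 2 * v1 + 3 * s * u * u1 * v * v1 + s * u * u1 ^ 2 * v + 2 * s * u * v * v1 ^ 2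 - 2 * s * u1 * v ^ 2 * v1 - s * u1 ^ 2 * v ^ 2 - s * v ^ 2 * v1 ^ 2) * h2

end Env

end Cfsg.Agent.StdSpFour.UFour
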