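import Cfsg.Agent.StdSpFour.CaseBHom
import Cfsg.Agent.StdSpFour.Weyl
import Cfsg.Agent.StdSpFour.UFourEnv

/-!
# S1778, type Sp₄(q), case (B): `UFour.Env` from `Base`, `ShortLayer` (`e = 1`) and the Weyl relations

`ε = 0` follows from `(nb x_b(1))³ = 1`, `na P(n) na⁻¹ = P(n) z_s(n)` from `(na x_a(1))³ = 1`.
-/

set_option autoImplicit false
set_option linter.unusedSectionVars false

namespace Cfsg.Agent.StdSpFour.UFour

open Cfsg.Agent.StdSpFour Cfsg.Agent.StdSpFour.Comm Cfsg.Agent.StdSpFour.Prime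
open Cfsg.Agent.StdSpFour.CaseBModel Cfsg.Agent.StdSpFour.CaseBRel Cfsg.Agent.StdSpFour.CaseBHom

variable {F G : Type*} [Field F] [Group G] [CharP F 2] [Finite F] {B : Base F G}

theorem cg_three {X : Type*} [Group X] {g : X} (h : g ^ 3 = 1) (x : X) : cg g (cg g (cg g x)) = x := by
  have h1 : cg g (cg g (cg g x)) = g ^ 3 * x * (g ^ 3)⁻¹ := by
    simp only [cg, pow_succ, pow_zero, one_mul]; group
  rw [h1, h]; group

/-- `n² = x² = (n x)³ = 1` implies `n = x x' x`, `x' = n x n⁻¹` -/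
theorem cg_three_eq {X : Type*} [Group X] {n x : X} (hn : n * n = 1) (hx : x * x = 1) (h : (n * x) ^ 3 = 1) :
    n = x * cg n x * x := by
  have hni : n⁻¹ = n := inv_eq_of_mul_eq_one_left hn
  have hxi : x⁻¹ = x := inv_eq_of_mul_eq_one_left hx
  rw [cg, hni]
  have h1 : n * x * n * x * n * x = 1 := by
    rw [← h, pow_succ, pow_two]; group
  have h2 : x * (n * x * n) * x = x⁻¹⁻¹ * (n * x * n * x * n * x) * x⁻¹ * n⁻¹ := by
    rw [inv_inv]; group
  rw [h2, h1, inv_inv, mul_one, mul_inv_cancel, one_mul, hni]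

section eps

variable (S : ShortLayer B) (W : Weyl B) {ε c : F} (R : Rels B (p' S) (fun n => S.p n * B.zs (ε * n)) c)
include W R

theorem nb_nb' (x : G) : cg B.nb (cg B.nb x) = x := by rw [← cg_comp, W.nb_sq]; simp [cg]

theorem nb_Q' (v : F) : cg B.nb (p' S v) = S.p v := by
  have : p' S v = cg B.nb (S.p v) := rfl
  rw [this, nb_nb' S W R]

/-- the action of `nb` on `Q`, with `ε` -/
theorem nb_act (u v m n r : F) : cg B.nb (hom R ⟨u, v, 0, m, n, r⟩) =
    hom R ⟨0, 0, 0, u + ε * v, v, 0⟩ * hom R ⟨m + ε * n, n, 0, 0, 0, r⟩ := by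
  have e1 : S.p v * B.zs (ε * v) * B.zs (ε * v) = S.p v := by
    rw [mul_assoc, sq_of_add B.zs_add, mul_one]
  rw [hom_apply, hom_apply, hom_apply]
  simp only [cg_mul, xa_zero, xb_zero, zs_zero, zl_zero, P_zero R, Q_zero R, one_mul, mul_one]
  have h1 : cg B.nb (B.xa u) = B.zs u := by rw [cg, B.nb_xa, mul_inv_cancel_right]
  have h2 : cg B.nb (B.zs m) = B.xa m := by rw [cg, B.nb_zs, mul_inv_cancel_right]
  have h3 : cg B.nb (B.zl r) = B.zl r := by rw [cg, B.nb_zl, mul_inv_cancel_right]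
  have h4 : cg B.nb (S.p n) = p' S n := rfl
  have h5 : cg B.nb (B.zs (ε * n)) = B.xa (ε * n) := by rw [cg, B.nb_zs, mul_inv_cancel_right]
  rw [h1, h2, h3, h4, h5, nb_Q' S W R, B.zs_add, B.xa_add]
  have c1 := (S.p_zs v (ε * v)).eq
  have c2 := (R.Q_xa n (ε * n)).eq
  calc B.zs u * S.p v * (B.xa m * (p' S n * B.xa (ε * n)) * B.zl r)
      = B.zs u * (S.p v * B.zs (ε * v) * B.zs (ε * v)) * B.xa m * (p' S n * B.xa (ε * n)) * B.zl r := by
        rw [e1]; group
    _ = B.zs u * (B.zs (ε * v) * S.p v) * B.zs (ε * v) * B.xa m * (B.xa (ε * n) * p' S n) * B.zl r := by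
        rw [← c1, ← c2]; group
    _ = _ := by group

theorem eps_zero : ε = 0 := by
  have h2 := two_eq (F := F)
  -- the action of `nb xb(1)` modulo `Z`
  have key : ∀ u v m n r, ∃ r', cg (B.nb * B.xb 1) (hom R ⟨u, v, 0, m, n, r⟩) =
      hom R ⟨(m + u) + ε * (n + v), n + v, 0, u + ε * v, v, r'⟩ := by
    intro u v m n r
    have hb : B.xb 1 = hom R ⟨0, 0, 1, 0, 0, 0⟩ := (hom_xb R 1).symm
    have h3 : cg (B.xb 1) (hom R ⟨u, v, 0, m, n, r⟩) =
        hom R ⟨u, v, 0, m + u, n + v, r + N c u v⟩ := by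
      rw [hb, cg, ← map_inv, ← map_mul, ← map_mul]
      congr 1
      rw [mul_inv_eq_iff_eq_mul]
      ext
      · simp
      · simp
      · simp
      · simp only [mul_m]; linear_combination (-(u)) * h2 + (u) * h2
      · simp only [mul_n]; ring
      · simp only [mul_r, N]; ring
    rw [cg_comp, h3, nb_act S W R, ← map_mul]
    refine ⟨((⟨0, 0, 0, u + ε * v, v, 0⟩ : TB c) * ⟨m + u + ε * (n + v), n + v, 0, 0, 0, r + N c u v⟩).r, ?_⟩
    congr 1
    ext <;> simp
  obtain ⟨r1, e1⟩ := key 0 1 0 0 0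
  obtain ⟨r2, e2⟩ := key ((0 + 0) + ε * (0 + 1)) (0 + 1) (0 + ε * 1) 1 r1
  obtain ⟨r3, e3⟩ := key ((0 + ε * 1 + (0 + 0 + ε * (0 + 1))) + ε * (1 + (0 + 1))) (1 + (0 + 1))
    ((0 + 0 + ε * (0 + 1)) + ε * (0 + 1)) (0 + 1) r2
  have h3 : ∀ x, cg (B.nb * B.xb 1) (cg (B.nb * B.xb 1) (cg (B.nb * B.xb 1) x)) = x := by
    intro x
    exact cg_three W.nb_xb x
  replace h3 := h3 (hom R ⟨0, 1, 0, 0, 0, 0⟩)
  rw [e1, e2, e3] at h3
  have h5 := congrArg TB.u (hom_injective R h3)
  simp only at h5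
  linear_combination h5 - (4 * ε) * h2

end eps

/-! ### the action of `na` on `P` -/

section na

variable (hF : 4 ≤ Nat.card F) (hB : B.Self) (S : ShortLayer B) (W : Weyl B) {c : F} (R : Rels B (p' S) S.p c)
include hF hB W R

theorem na_na' (x : G) : cg B.na (cg B.na x) = x := by rw [← cg_comp, W.na_sq]; simp [cg]

/-- `na P(n) na⁻¹ = z_s(m) P(n)` -/
theorem na_p (n : F) : ∃ m, cg B.na (S.p n) = B.zs m * S.p n := by
  have h2 := two_eq (F := F)
  have psq : S.p n * S.p n = 1 := P_sq R n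
  have pinv : (S.p n)⁻¹ = S.p n := inv_eq_of_mul_eq_one_left psq
  have hna : B.na⁻¹ = B.na := inv_eq_of_mul_eq_one_left W.na_sq
  set g := cg B.na (S.p n) * (S.p n)⁻¹ with hg
  -- commutes with `t`, `xb`, `zs`, `zl`
  have c1 : ∀ x y, cg B.na x = y → Commute (S.p n) x → Commute (cg B.na (S.p n)) y := by
    rintro x y rfl h
    show cg B.na _ * cg B.na _ = cg B.na _ * cg B.na _
    rw [← cg_mul, ← cg_mul, h.eq]
  have hxb : ∀ u, Commute g (B.xb u) := fun u =>
    (c1 (B.zl u) _ (by rw [cg, B.na_zl, mul_inv_cancel_right]) (S.p_zl n u)).mul_left (S.p_xb n u).inv_left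
  have hzs : ∀ u, Commute g (B.zs u) := fun u =>
    (c1 (B.zs u) _ (by rw [cg, B.na_zs, mul_inv_cancel_right]) (S.p_zs n u)).mul_left (S.p_zs n u).inv_left
  have hzl : ∀ u, Commute g (B.zl u) := fun u =>
    (c1 (B.xb u) _ (by rw [cg, B.na_xb, mul_inv_cancel_right]) (S.p_xb n u)).mul_left (S.p_zl n u).inv_left
  have tx : B.t * cg B.na (S.p n) = cg B.na (S.p n) * B.t * B.zs n := by
    have h3 : cg B.na B.t = B.t := cg_eq_self B.t_na.symm.eq
    have h4 : cg B.na (B.zs n) = B.zs n := by rw [cg, B.na_zs, mul_inv_cancel_right]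
    have h5 := congrArg (cg B.na) (S.t_p n)
    rw [cg_mul, cg_mul, cg_mul, h3, h4] at h5
    exact h5
  have zss : B.zs n * B.zs n = 1 := sq_of_add B.zs_add n
  have tp' : B.t * (S.p n)⁻¹ = (S.p n)⁻¹ * (B.t * B.zs n) := by
    rw [pinv, S.t_p, mul_assoc]
  have ht : Commute g B.t := by
    show g * B.t = B.t * g
    symm
    calc B.t * g = (B.t * cg B.na (S.p n)) * (S.p n)⁻¹ := by rw [hg]; group
      _ = cg B.na (S.p n) * B.t * (B.zs n * (S.p n)⁻¹) := by rw [tx]; group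
      _ = cg B.na (S.p n) * (B.t * (S.p n)⁻¹) * B.zs n := by
          rw [((S.p_zs n n).inv_left).symm.eq]; group
      _ = cg B.na (S.p n) * (S.p n)⁻¹ * B.t * (B.zs n * B.zs n) := by rw [tp']; group
      _ = g * B.t := by rw [zss, mul_one, hg]
  obtain ⟨s, m, r, h⟩ := hB.cent1 g ht hxb hzs hzl
  -- weights under `h α α⁻¹`
  obtain ⟨α, hα⟩ : ∃ α : Fˣ, (α : F) ≠ 1 := by
    by_contra hcon
    push Not at hcon
    have h1 : Set.univ ⊆ ({0, 1} : Set F) := by
      intro x _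
      by_cases hx : x = 0
      · exact Or.inl hx
      · exact Or.inr (hcon (Units.mk0 x hx))
    have h2 := Set.ncard_le_ncard h1 (Set.toFinite _)
    rw [Set.ncard_univ] at h2
    have h3 := h2.trans ((Set.ncard_insert_le _ _).trans (by simp : _ ≤ 2))
    omega
  have hh : cg (B.h α α⁻¹) g = g := by
    have h3 : B.h α α⁻¹ * B.na = B.na * B.h α⁻¹ α := by
      have h4 := B.na_h α⁻¹ α
      have h5 : (α⁻¹)⁻¹ = α := inv_inv α
      have h6 : (α⁻¹) ^ 2 * α = α⁻¹ := by rw [pow_two, mul_assoc, inv_mul_cancel, mul_one]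
      rw [h5, h6] at h4
      exact h4.symm
    have h7 : ∀ β : Fˣ, cg (B.h β β⁻¹) (S.p n) = S.p n := by
      intro β
      rw [cg, S.h_p]
      have : (β : F) * (β⁻¹ : Fˣ) * n = n := by
        rw [← Units.val_mul, mul_inv_cancel, Units.val_one, one_mul]
      rw [this, mul_inv_cancel_right]
    have h8 : cg (B.h α α⁻¹) (cg B.na (S.p n)) = cg B.na (S.p n) := by
      rw [← cg_comp, h3, cg_comp]
      have := h7 α⁻¹
      rw [inv_inv] at this
      rw [this]
    rw [hg, cg_mul, cg_inv, h8, h7]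
  have hx : ∀ s m r, cg (B.h α α⁻¹) (B.xb s * B.zs m * B.zl r) = B.xb ((α⁻¹ : Fˣ) * s) * B.zs m * B.zl (α * r) := by
    intro s m r
    have e1 : cg (B.h α α⁻¹) (B.xb s) = B.xb ((α⁻¹ : Fˣ) * s) := by rw [cg, B.h_xb, mul_inv_cancel_right]
    have e2 : cg (B.h α α⁻¹) (B.zs m) = B.zs m := by
      have : (α : F) * (α⁻¹ : Fˣ) * m = m := by
        rw [← Units.val_mul, mul_inv_cancel, Units.val_one, one_mul]
      rw [cg, B.h_zs, mul_inv_cancel_right, this]
    have e3 : cg (B.h α α⁻¹) (B.zl r) = B.zl (α * r) := by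
      have : (α : F) ^ 2 * (α⁻¹ : Fˣ) * r = α * r := by
        have ha := α.ne_zero
        rw [Units.val_inv_eq_inv_val]; field_simp
      rw [cg, B.h_zl, mul_inv_cancel_right, this]
    rw [cg_mul, cg_mul, e1, e2, e3]
  have hzero : ∀ y : F, (α : F) * y = y → y = 0 := by
    intro y hy
    have : ((α : F) - 1) * y = 0 := by linear_combination hy
    exact (mul_eq_zero.1 this).resolve_left (sub_ne_zero.2 hα)
  have hfin : ∀ s m r, cg (B.h α α⁻¹) (B.xb s * B.zs m * B.zl r) = B.xb s * B.zs m * B.zl r → s = 0 ∧ r = 0 := by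
    intro s m r e
    rw [hx] at e
    have e' : hom R ⟨0, 0, (α⁻¹ : Fˣ) * s, m, 0, α * r⟩ = hom R ⟨0, 0, s, m, 0, r⟩ := by
      rw [hom_U, hom_U, xa_zero, one_mul, one_mul]
      exact e
    have e2 := hom_injective R e'
    have e3 := congrArg TB.s e2
    have e4 := congrArg TB.r e2
    simp only at e3 e4
    refine ⟨hzero s ?_, hzero r e4⟩
    have ha := α.ne_zero
    nth_rewrite 1 [← e3]
    rw [Units.val_inv_eq_inv_val]; field_simp
  have gp : cg B.na (S.p n) = g * S.p n := by rw [hg]; group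
  rcases h with h | h
  · rw [h] at hh
    obtain ⟨h3, h4⟩ := hfin s m r hh
    refine ⟨m, ?_⟩
    rw [gp, h, h3, h4, xb_zero, zl_zero, one_mul, mul_one]
  · -- `g = t z` is impossible unless `zs n = 1`
    have htt : cg (B.h α α⁻¹) B.t = B.t := cg_eq_self (B.t_h α α⁻¹).symm.eq
    rw [h, cg_mul, htt] at hh
    obtain ⟨h3, h4⟩ := hfin s m r (mul_left_cancel hh)
    rw [h3, h4, xb_zero, zl_zero, one_mul, mul_one] at h
    have h5 : cg B.na (S.p n) * cg B.na (S.p n) = 1 := by rw [← cg_mul, psq, cg_one]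
    rw [gp, h] at h5
    have h6 : B.zs n = 1 := by
      have pt : S.p n * B.t = B.t * S.p n * B.zs n := by
        rw [S.t_p]
        calc S.p n * B.t = S.p n * B.t * (B.zs n * B.zs n) := by rw [zss, mul_one]
          _ = _ := by group
      have zmm : B.zs m * B.zs m = 1 := sq_of_add B.zs_add m
      symm
      calc (1 : G) = B.t * B.zs m * S.p n * (B.t * B.zs m * S.p n) := h5.symm
        _ = B.t * B.zs m * (S.p n * B.t) * B.zs m * S.p n := by group
        _ = B.t * (B.zs m * B.t) * S.p n * (B.zs n * B.zs m) * S.p n := by rw [pt]; group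
        _ = (B.t * B.t) * B.zs m * S.p n * (B.zs m * (B.zs n * S.p n)) := by
            rw [← (B.t_zs m).eq, (comm_of_add B.zs_add n m).eq]; group
        _ = B.zs m * (S.p n * B.zs m) * S.p n * B.zs n := by
            rw [B.tt, ← (S.p_zs n n).eq]; group
        _ = (B.zs m * B.zs m) * (S.p n * S.p n) * B.zs n := by rw [(S.p_zs n m).eq]; group
        _ = B.zs n := by rw [zmm, psq, one_mul, one_mul]
    have h7 : n = 0 := zs_inj B (h6.trans (zs_zero B).symm)
    subst h7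
    refine ⟨0, ?_⟩
    rw [S.p_zero, cg_one, zs_zero, one_mul]

/-- `na P(n) na⁻¹ = z_s(n) P(n)` -/
theorem na_p' (n : F) : cg B.na (S.p n) = B.zs n * S.p n := by
  have h2 := two_eq (F := F)
  obtain ⟨d, hd⟩ := na_p hF hB S W R n
  -- the action of `na xa(1)` on `(s, m, n, r)`
  have hna : ∀ s m r, cg B.na (hom R ⟨0, 0, s, m, n, r⟩) = hom R ⟨0, 0, r, m + d, n, s⟩ := by
    intro s m r
    rw [hom_apply, hom_apply]
    simp only [cg_mul, xa_zero, Q_zero R, one_mul, hd]
    have h1 : cg B.na (B.xb s) = B.zl s := by rw [cg, B.na_xb, mul_inv_cancel_right]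
    have h3 : cg B.na (B.zs m) = B.zs m := by rw [cg, B.na_zs, mul_inv_cancel_right]
    have h4 : cg B.na (B.zl r) = B.xb r := by rw [cg, B.na_zl, mul_inv_cancel_right]
    rw [h1, h3, h4, B.zs_add]
    have c1 := (B.xb_zs r m).eq
    have c2 := (B.xb_zs r d).eq
    have c3 := (S.p_xb n r).eq
    have c4 := (B.xb_zl r s).eq
    have c5 := (B.zs_zl m s).eq
    have c6 := (B.zs_zl d s).eq
    have c7 := (S.p_zl n s).eq
    calc B.zl s * B.zs m * (B.zs d * S.p n) * B.xb r
        = B.zl s * B.zs m * B.zs d * (S.p n * B.xb r) := by group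
      _ = B.zl s * B.zs m * (B.zs d * B.xb r) * S.p n := by rw [c3]; group
      _ = B.zl s * (B.zs m * B.xb r) * B.zs d * S.p n := by rw [← c2]; group
      _ = (B.zl s * B.xb r) * B.zs m * B.zs d * S.p n := by rw [← c1]; group
      _ = B.xb r * (B.zl s * B.zs m) * B.zs d * S.p n := by rw [← c4]; group
      _ = B.xb r * B.zs m * (B.zl s * B.zs d) * S.p n := by rw [← c5]; group
      _ = B.xb r * B.zs m * B.zs d * (B.zl s * S.p n) := by rw [← c6]; group
      _ = _ := by rw [← c7]; group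
  have ha : ∀ s m r, cg (B.xa 1) (hom R ⟨0, 0, s, m, n, r⟩) = hom R ⟨0, 0, s, m + s, n, r + n + s⟩ := by
    intro s m r
    have h1 : B.xa 1 = hom R ⟨1, 0, 0, 0, 0, 0⟩ := (hom_xa R 1).symm
    rw [h1, cg, ← map_inv, ← map_mul, ← map_mul, conj_w]
    congr 1
    ext
    · rfl
    · rfl
    · rfl
    · simp
    · simp
    · simp only [N]; ring
  have h3 : ∀ s m r, cg (B.na * B.xa 1) (hom R ⟨0, 0, s, m, n, r⟩) = hom R ⟨0, 0, r + n + s, m + s + d, n, s⟩ := by
    intro s m r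
    rw [cg_comp, ha, hna]
  have h4 := cg_three W.na_xa (hom R ⟨0, 0, 0, 0, n, 0⟩)
  rw [h3, h3, h3] at h4
  have h5 := congrArg TB.m (hom_injective R h4)
  simp only at h5
  have h6 : d = n := by linear_combination h5 - (d + 2 * n) * h2
  rw [hd, h6]

end na

/-- **the environment in `X`**, for given relations -/
theorem env_of (hF : 4 ≤ Nat.card F) (hB : B.Self) (S : ShortLayer B) (W : Weyl B) {c : F}
    (R : Rels B (p' S) S.p c) : ∃ (V : Env c G), V.f = hom R ∧ V.t = B.t ∧ V.na = B.na ∧ V.nb = B.nb ∧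
      V.h = B.h := by
  have R0 : Rels B (p' S) (fun n => S.p n * B.zs (0 * n)) c := by
    have e : (fun n => S.p n * B.zs (0 * n)) = S.p := by
      funext n
      rw [zero_mul, zs_zero, mul_one]
    rwa [e]
  have hxa : ∀ u, hom R ⟨u, 0, 0, 0, 0, 0⟩ = B.xa u := hom_xa R
  have hxb : ∀ u, hom R ⟨0, 0, u, 0, 0, 0⟩ = B.xb u := hom_xb R
  refine ⟨⟨hom R, hom_injective R, B.t, B.na, B.nb, B.h, B.tt, ?_, B.t_na, B.t_nb, B.t_h, W.na_sq, W.nb_sq, ?_, ?_,
    ?_, ?_, ?_, ⊥, ?_, ?_, ?_, ?_, ?_, ?_⟩, rfl, rfl, rfl, rfl, rfl⟩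
  · intro x
    rw [cg, t_hom R, mul_inv_cancel_right]
  · intro s m n r
    rw [hom_apply, hom_apply]
    simp only [cg_mul, xa_zero, Q_zero R, one_mul, na_p' hF hB S W R]
    have h1 : cg B.na (B.xb s) = B.zl s := by rw [cg, B.na_xb, mul_inv_cancel_right]
    have h3 : cg B.na (B.zs m) = B.zs m := by rw [cg, B.na_zs, mul_inv_cancel_right]
    have h4 : cg B.na (B.zl r) = B.xb r := by rw [cg, B.na_zl, mul_inv_cancel_right]
    rw [h1, h3, h4, B.zs_add]
    have c1 := (B.xb_zs r m).eq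
    have c2 := (B.xb_zs r n).eq
    have c3 := (S.p_xb n r).eq
    have c4 := (B.xb_zl r s).eq
    have c5 := (B.zs_zl m s).eq
    have c6 := (B.zs_zl n s).eq
    have c7 := (S.p_zl n s).eq
    calc B.zl s * B.zs m * (B.zs n * S.p n) * B.xb r
        = B.zl s * B.zs m * B.zs n * (S.p n * B.xb r) := by group
      _ = B.zl s * B.zs m * (B.zs n * B.xb r) * S.p n := by rw [c3]; group
      _ = B.zl s * (B.zs m * B.xb r) * B.zs n * S.p n := by rw [← c2]; group
      _ = (B.zl s * B.xb r) * B.zs m * B.zs n * S.p n := by rw [← c1]; group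
      _ = B.xb r * (B.zl s * B.zs m) * B.zs n * S.p n := by rw [← c4]; group
      _ = B.xb r * B.zs m * (B.zl s * B.zs n) * S.p n := by rw [← c5]; group
      _ = B.xb r * B.zs m * B.zs n * (B.zl s * S.p n) := by rw [← c6]; group
      _ = _ := by rw [← c7]; group
  · intro u v m n r
    have h := nb_act S W R0 u v m n r
    have hom_eq : hom R0 = hom R := by
      ext x
      rw [hom_apply, hom_apply, zero_mul, zs_zero, mul_one]
    rw [hom_eq, ← map_mul] at h
    rw [h]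
    congr 1
    ext
    · simp
    · simp
    · simp
    · simp
    · simp
    · simp only [mul_r]; ring
  · -- `na = x x' x`
    rw [hxa]
    have h1 := cg_three_eq W.na_sq (sq_of_add B.xa_add 1) W.na_xa
    exact h1
  · rw [hxb]
    exact cg_three_eq W.nb_sq (sq_of_add B.xb_add 1) W.nb_xb
  · intro α β u v s m n r
    rw [hom_apply, hom_apply]
    simp only [cg_mul]
    have e1 : cg (B.h α β) (B.xa u) = B.xa (α * u) := by rw [cg, B.h_xa, mul_inv_cancel_right]
    have e2 : cg (B.h α β) (p' S v) = p' S (α * v) := by rw [cg, h_p', mul_inv_cancel_right]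
    have e3 : cg (B.h α β) (B.xb s) = B.xb (β * s) := by rw [cg, B.h_xb, mul_inv_cancel_right]
    have e4 : cg (B.h α β) (B.zs m) = B.zs (α * β * m) := by rw [cg, B.h_zs, mul_inv_cancel_right]
    have e5 : cg (B.h α β) (S.p n) = S.p (α * β * n) := by rw [cg, S.h_p, mul_inv_cancel_right]
    have e6 : cg (B.h α β) (B.zl r) = B.zl (α ^ 2 * β * r) := by rw [cg, B.h_zl, mul_inv_cancel_right]
    rw [e1, e2, e3, e4, e5, e6]
  · intro k hk _
    exact Subgroup.mem_bot.1 hk
  · intro k hk x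
    rw [Subgroup.mem_bot.1 hk, one_mul, mul_one]
  · intro k hk
    rw [Subgroup.mem_bot.1 hk, one_mul, mul_one]
  · intro k hk
    rw [Subgroup.mem_bot.1 hk, one_mul, mul_one]
  · intro α β
    exact ⟨1, one_mem _, by rw [B.na_h, mul_one]⟩
  · intro α β
    exact ⟨1, one_mem _, by rw [B.nb_h, mul_one]⟩

/-- **the environment in `X`** -/
theorem exists_env (hF : 4 ≤ Nat.card F) (hB : B.Self) (S : ShortLayer B) (he : S.e = 1) (W : Weyl B) :
    ∃ (c : F) (R : Rels B (p' S) S.p c) (V : Env c G), V.f = hom R ∧ V.t = B.t ∧ V.na = B.na ∧ V.nb = B.nb ∧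
      V.h = B.h := by
  obtain ⟨ε, c, R0⟩ := exists_rels hF hB S he
  have hε := eps_zero S W R0
  subst hε
  have R : Rels B (p' S) S.p c := by
    have e : (fun n => S.p n * B.zs (0 * n)) = S.p := by
      funext n
      rw [zero_mul, zs_zero, mul_one]
    rwa [e] at R0
  exact ⟨c, R, env_of hF hB S W R⟩

end Cfsg.Agent.StdSpFour.UFour
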