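import Cfsg.Agent.StdSpFour.UFourMain

/-!
# S1778, type Sp₄(q), target U₄(q): `RelFacts E t`
-/

set_option autoImplicit false
set_option linter.unusedSectionVars false

namespace Cfsg.Agent.StdSpFour.UFour

open Cfsg.Agent.StdSpFour.CaseBModel Subgroup Cfsg.Agent.StdSpFour.RootEight Cfsg.Agent.StdSpFour.CloseDefs

variable {F : Type*} [Field F] [CharP F 2] {c : F} {G : Type*} [Group G]

namespace Env

variable (V : Env c G)

theorem W_cent : V.T ⊓ centralizer (V.W : Set G) = V.W := by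
  apply le_antisymm
  · rintro _ ⟨⟨x, rfl⟩, hx⟩
    have h1 := mem_centralizer_iff.1 hx (V.f ⟨0, 0, 1, 0, 0, 0⟩) (V.f_W.2 ⟨rfl, rfl⟩)
    have h2 : cg (V.f x) (V.f ⟨0, 0, 1, 0, 0, 0⟩) = V.f ⟨0, 0, 1, 0, 0, 0⟩ := cg_eq_self h1.symm
    rw [V.a_w] at h2
    have h3 := V.inj h2
    have h4 := congrArg TB.m h3
    have h5 := congrArg TB.n h3
    simp only [mul_one, zero_add] at h4 h5
    exact V.f_W.2 ⟨h4, h5⟩
  · exact le_inf V.W_le fun x hx => mem_centralizer_iff.2 fun y hy => V.W_comm' hy hx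

theorem R_card' [Finite F] :
    Nat.card V.T = Nat.card F ^ 2 * Nat.card ↥(V.T ⊓ Subgroup.centralizer (V.W : Set G)) := by
  rw [V.W_cent, V.card_T, V.card_W]
  ring

theorem comm_w' (x : TB c) (s m n r : F) :
    V.f x * V.f ⟨0, 0, s, m, n, r⟩ * (V.f x)⁻¹ * (V.f ⟨0, 0, s, m, n, r⟩)⁻¹ =
      V.f ⟨0, 0, 0, x.u * s, x.v * s, (x.u * n + x.v * m) + N c x.u x.v * s⟩ := by
  have h := congrArg V.f (comm_w x s m n r)
  simp only [map_mul, map_inv] at h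
  exact h

/-- hyperplanes of `T` in the model -/
theorem hyp_card [Finite F] {B : Subgroup G} (hB : B ≤ V.T) (h : 2 * Nat.card B = Nat.card V.T) :
    2 * Nat.card (B.comap V.f) = Nat.card F ^ 6 := by
  rw [V.card_pull hB, h, V.card_T]

theorem hyp_one' [Finite F] (h4 : 4 ≤ Nat.card F) {B : Subgroup G} (hB : B ≤ V.T)
    (h : 2 * Nat.card B = Nat.card V.T) {w : G} (hw : w ∈ V.W) (hc : ∀ x ∈ B, x * w = w * x) : w ∈ V.Z := by
  obtain ⟨s, m, n, r, rfl⟩ := V.mem_W hw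
  have key : ∀ x ∈ B.comap V.f, (⟨0, 0, 0, x.u * s, x.v * s, (x.u * n + x.v * m) + N c x.u x.v * s⟩ : TB c) = 1 := by
    intro x hx
    apply V.inj
    rw [← V.comm_w', hc _ hx, map_one]
    group
  have hs : s = 0 := hyp_u h4 (V.hyp_card hB h) fun x hx => congrArg TB.m (key x hx)
  subst hs
  obtain ⟨h1, h2⟩ := card_hyp h4 (V.hyp_card hB h) (m := m) (n := n) fun x hx => by
    have := congrArg TB.r (key x hx)
    simp only [mul_zero, add_zero, one_r] at this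
    exact this
  exact V.f_Z.2 ⟨rfl, rfl, rfl, h1, h2⟩

theorem hyp_two' [Finite F] (h4 : 4 ≤ Nat.card F) {B : Subgroup G} (hB : B ≤ V.T)
    (h : 2 * Nat.card B = Nat.card V.T) {w : G} (hw : w ∈ V.W) (hc : ∀ x ∈ B, x * w * x⁻¹ * w⁻¹ ∈ V.Z) :
    w ∈ V.Q := by
  obtain ⟨s, m, n, r, rfl⟩ := V.mem_W hw
  have key : ∀ x ∈ B.comap V.f, x.u * s = 0 := by
    intro x hx
    have h1 := hc _ hx
    rw [V.comm_w'] at h1
    exact (V.f_Z.1 h1).2.2.2.1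
  have hs : s = 0 := hyp_u h4 (V.hyp_card hB h) key
  exact V.f_Q.2 hs

theorem na_T' (hc : Irr c) {x : G} (hx : x ∈ V.T) (h : V.na * x * V.na⁻¹ ∈ V.T) : x ∈ V.W := by
  obtain ⟨x, rfl⟩ := hx
  obtain ⟨y, hy⟩ := h
  -- `z = z_l(1)` is centralised by `f y`
  have h1 : cg (V.f y) (V.f ⟨0, 0, 0, 0, 0, 1⟩) = V.f ⟨0, 0, 0, 0, 0, 1⟩ := by
    rw [V.a_w]
    congr 1
    ext <;> simp
  have h2 : cg (V.f y) (V.f ⟨0, 0, 0, 0, 0, 1⟩) =
      cg V.na (cg (V.f x) (cg V.na (V.f ⟨0, 0, 0, 0, 0, 1⟩))) := by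
    rw [hy]
    have : V.na * V.f x * V.na⁻¹ = cg V.na (V.f x) := rfl
    rw [this, cg_cg, V.na_inv]
  rw [h1, V.na_w, V.a_w, V.na_w] at h2
  have h3 := congrArg TB.s (V.inj h2)
  simp only [zero_add, mul_zero, add_zero, mul_one] at h3
  exact V.f_W.2 (N_eq_zero hc h3.symm)

end Env

variable {V : Env c G} {E : Subgroup G}

/-- **The T-facts for `U₄(q)`** -/
noncomputable def relFacts [Finite G] [Finite F] (hc : Irr c) {n : ℕ} (hn : Nat.card F = 2 ^ n)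
    (h4 : 4 ≤ Nat.card F) (H : InE V E) : RelFacts E V.t where
  n := n
  q := Nat.card F
  hq := hn
  h4 := h4
  T := V.T
  Z := V.Z
  Q := V.Q
  W := V.W
  S := V.S
  Ka := V.Ka
  Kb := V.Kb
  P := V.P
  V := V.Xab
  na := V.na
  nb := V.nb
  tt := V.tt
  E_t := H.E_t
  T_le := by rintro _ ⟨x, rfl⟩; exact H.f_mem x
  Ka_le := V.Ka_le_of (by rintro _ ⟨x, -, rfl⟩; exact H.f_mem x) H.na_mem
  Kb_le := V.Kb_le_of (by rintro _ ⟨x, -, rfl⟩; exact H.f_mem x) H.nb_mem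
  P_le := V.P_le_QKb.trans (sup_le (by rintro _ ⟨x, -, rfl⟩; exact H.f_mem x)
    (V.Kb_le_of (by rintro _ ⟨x, -, rfl⟩; exact H.f_mem x) H.nb_mem))
  T_two := V.T_two ⟨n, hn⟩
  T_syl := H.syl
  Z_le_W := V.Z_le_W
  Z_le_Q := V.Z_le_Q
  W_le := V.W_le
  Q_le := V.Q_le
  na_mem := V.na_mem
  nb_mem := V.nb_mem
  Z_card := V.card_Z
  Z_sq := fun z hz => V.Z_sq' hz
  Z_cent := fun z hz x hx => V.Z_cent' hz hx
  W_sq := fun w hw => V.W_sq' hw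
  W_card := V.card_W
  W_uniq := by
    intro U hU hsq hcard
    rw [← V.pull hU, Env.W]
    congr 1
    apply eq_TW h4
    · intro x hx
      apply V.inj
      rw [map_mul, hsq _ hx, map_one]
    · rw [V.card_pull hU, hcard]
  Q_sq := by
    rintro _ ⟨x, hx, rfl⟩
    rw [← map_mul]
    exact V.f_Z.2 (TQ_sq hx)
  Q_uniq := by
    intro U hU _ hsq hcard
    rw [← V.pull hU, Env.Q]
    congr 1
    apply eq_TQ
    · intro x hx
      have := hsq _ hx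
      rw [← map_mul] at this
      exact V.f_Z.1 this
    · rw [V.card_pull hU, hcard, V.card_Q]
  Q_cent := by
    rintro _ ⟨x, rfl⟩ hx
    apply V.f_Z.2
    apply Q_cent'
    intro y hy
    apply V.inj
    rw [map_mul, map_mul]
    exact hx _ (V.f_Q.2 hy)
  Q_cent_mod := by
    rintro _ ⟨x, rfl⟩ hx
    apply V.f_Q.2
    apply Q_cent_mod'
    intro y hy
    have := hx _ (V.f_Q.2 hy)
    rw [← map_inv, ← map_inv, ← map_mul, ← map_mul, ← map_mul] at this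
    exact V.f_Z.1 this
  Q_pair := fun d hd h z hz => V.Q_pair'' hd h hz
  WQ_card := V.card_WQ
  inv_T := by
    rintro _ ⟨x, rfl⟩ hx
    rcases inv_T' (V.inj (by rw [map_mul, hx, map_one]) : x * x = 1) with h | h
    · exact Or.inl ⟨x, h, rfl⟩
    · exact Or.inr ⟨x, h, rfl⟩
  inv_Q := fun v hv h => V.inv_Q' hv h
  S_iff := fun x => V.S_iff' hc x
  S_Q := by
    rintro _ ⟨x, hx, rfl⟩ h
    exact V.f_Z.2 (S0_Q hc hx (V.f_Q.1 h))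
  S_card := V.card_S hc
  S_count := fun w hw h1 hS => V.S_count' hc hw h1 hS
  Ka_W := fun k hk w hw => V.Ka_W' hk hw
  Ka_TI := fun k hk z hz hz1 h z' hz' => V.Ka_TI' hk hz hz1 h hz'
  four := by
    left
    rintro _ ⟨y, rfl⟩ hy hyy
    rw [← map_mul] at hyy
    obtain ⟨z, hz, h⟩ := four' (fun h => hy (V.f_Q.2 h)) (V.f_Z.1 hyy)
    exact ⟨V.f z, V.f_Z.2 hz, by rw [← map_mul]; exact V.f_S.2 h⟩
  R_sq := by
    rintro _ ⟨x, rfl⟩ w hw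
    rw [← map_mul]
    exact V.W_comm' ⟨_, sq_mem_TW x, rfl⟩ hw
  R_card := V.R_card'
  T_WQ := by
    rintro _ ⟨x, rfl⟩ w hw hwQ
    obtain ⟨s, m, n, r, rfl⟩ := V.mem_W hw
    have hs : s = 0 := V.f_Q.1 hwQ
    subst hs
    rw [V.comm_w']
    exact V.f_Z.2 ⟨rfl, rfl, rfl, mul_zero _, mul_zero _⟩
  T_W := by
    rintro _ ⟨x, rfl⟩ w hw
    obtain ⟨s, m, n, r, rfl⟩ := V.mem_W hw
    rw [V.comm_w']
    exact V.f_Q.2 rfl
  hyp_one := fun B _ hB h w hw hx => V.hyp_one' h4 hB h hw hx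
  hyp_two := fun B _ hB h w hw hx => V.hyp_two' h4 hB h hw hx
  Xb_cent := by
    rintro _ ⟨x, rfl⟩ hx w hw
    have h1 := hx (V.f ⟨0, 0, 0, 0, 0, 1⟩) (V.f_Z.2 ⟨rfl, rfl, rfl, rfl, rfl⟩)
    rw [show V.na * V.f ⟨0, 0, 0, 0, 0, 1⟩ * V.na⁻¹ = _ from V.na_w 0 0 0 1] at h1
    have h2 := cg_eq_self h1
    rw [V.a_w] at h2
    have h3 := V.inj h2
    have h4 := congrArg TB.m h3
    have h5 := congrArg TB.n h3
    simp only [mul_one, zero_add] at h4 h5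
    exact V.W_comm' (V.f_W.2 ⟨h4, h5⟩) hw
  trans := fun x hx hx' y hy hy' => V.trans' hc ⟨n, hn⟩ (by rintro _ ⟨x, rfl⟩; exact H.f_mem x) H.syl H.na_mem
    hx hx' hy hy'
  Kb_Z := fun k hk z hz => V.Kb_Z' hk hz
  Kb_Q := fun k hk x hx => V.Kb_Q' hk hx
  nb_WQ := by
    intro x hx hxQ h
    obtain ⟨s, m, n, r, rfl⟩ := V.mem_W hx
    have hs : s = 0 := V.f_Q.1 hxQ
    subst hs
    rw [show V.nb * V.f ⟨0, 0, 0, m, n, r⟩ * V.nb⁻¹ = _ from V.nb_q 0 0 m n r] at h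
    obtain ⟨h1, h2⟩ := V.f_W.1 h
    exact V.f_Z.2 ⟨rfl, rfl, rfl, h1, h2⟩
  TQ_onto := by
    rintro _ ⟨x, rfl⟩ hx _ w hw hwQ
    obtain ⟨w, hw, rfl⟩ := hw
    obtain ⟨y, hy, z, hz, h⟩ := TQ_onto' (fun h => hx (V.f_Q.2 h)) hw (V.f_Q.1 hwQ)
    refine ⟨V.f y, V.f_Q.2 hy, V.f z, V.f_Z.2 hz, ?_⟩
    rw [h]
    simp only [map_mul, map_inv]
  TQ_W := fun x hx _ _ y hy => V.comm_W' hx (V.Q_le hy)
  chain_one := fun x hx y hy w hw _ => V.W_comm' (V.comm_W' hx (V.Q_le hy)) hw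
  chain_two := fun x hx y hy _ => V.comm_W' hx (V.Q_le hy)
  perf := ⟨V.Q ⊔ V.Kb, sup_le (by rintro _ ⟨x, -, rfl⟩; exact H.f_mem x)
    (V.Kb_le_of (by rintro _ ⟨x, -, rfl⟩; exact H.f_mem x) H.nb_mem), le_sup_left, V.perf' h4,
    fun x hx z hz => (mem_centralizer_iff.1 (V.QKb_Z hx) z hz).symm⟩
  irr := fun R hZR hRQ hR inv => V.irr' hc ⟨n, hn⟩ (by rintro _ ⟨x, rfl⟩; exact H.f_mem x) H.syl H.na_mem
    H.nb_mem hZR hRQ hR inv
  t_Z := fun z hz => V.t_Z' hz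
  t_Q := by
    rintro _ ⟨x, hx, rfl⟩
    rw [show V.t * V.f x * V.t⁻¹ = _ from V.t_f x]
    apply V.f_Q.2
    rw [tau_apply]
    exact hx
  P_t := fun x hx => (mem_centralizer_singleton_iff.1 (V.P_t' hx)).symm
  P_Z := fun x hx z hz => (mem_centralizer_iff.1 (V.QKb_Z (V.P_le_QKb hx)) z hz).symm
  P_Q := fun x hx y hy => (mem_normalizer_iff.1 (V.QKb_Q (V.P_le_QKb hx)) y).1 hy
  P_norm := H.P_norm
  P_self := H.P_self
  V_P := V.Xab_le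
  V_W := V.Xab_le_W
  V_Q := V.Xab_le_Q
  V_ne := ⟨V.f ⟨0, 0, 0, 1, 0, 0⟩, V.f_Xab 1, fun h => one_ne_zero (V.f_Z.1 h).2.2.2.1⟩
  V_t := by
    intro x hx
    obtain ⟨m, rfl⟩ := V.mem_Xab hx
    refine ⟨V.f ⟨0, 0, 0, 0, m, 0⟩, V.f_W.2 ⟨rfl, rfl⟩, V.f_Q.2 rfl, ?_⟩
    rw [show V.t * V.f ⟨0, 0, 0, 0, m, 0⟩ * V.t⁻¹ = _ from V.t_f _, tau_apply, ← map_mul]
    congr 1
    ext <;> simp
  Xb_P := by
    intro z hz
    obtain ⟨r, rfl⟩ := V.mem_Z hz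
    rw [show V.na * V.f ⟨0, 0, 0, 0, 0, r⟩ * V.na⁻¹ = _ from V.na_w 0 0 0 r]
    apply V.Kb_le_P
    apply mem_sup_left
    exact V.f_X3.2 ⟨rfl, rfl, add_zero _, rfl, rfl⟩
  Kb_gen := by
    intro C h1 h2
    have h3 : V.X3 ≤ C := by
      intro x hx
      obtain ⟨s, rfl⟩ := V.mem_X3 hx
      have h4 := h1 (V.f ⟨0, 0, 0, 0, 0, s⟩) (V.f_Z.2 ⟨rfl, rfl, rfl, rfl, rfl⟩)
      rw [show V.na * V.f ⟨0, 0, 0, 0, 0, s⟩ * V.na⁻¹ = _ from V.na_w 0 0 0 s] at h4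
      simpa using h4
    refine sup_le h3 ?_
    rintro _ ⟨x, hx, rfl⟩
    exact h2 _ V.nb_mem _ (h3 hx)
  T_gen := by
    rintro _ ⟨x, rfl⟩
    have e : x = ⟨x.u, x.v, 0, x.m, x.n, x.r⟩ * ⟨0, 0, x.s, 0, 0, 0⟩ := by
      ext <;> simp
    rw [e, map_mul]
    exact mul_mem (mem_sup_left (V.f_Q.2 rfl)) (mem_sup_right (mem_sup_left (V.f_X3.2 ⟨rfl, rfl, rfl, rfl, rfl⟩)))
  Ka_le' := sup_le_sup V.X0_le (Subgroup.map_mono V.X0_le)
  Kb_le' := sup_le_sup V.X3_le (Subgroup.map_mono V.X3_le)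

end Cfsg.Agent.StdSpFour.UFour
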