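import Cfsg.Agent.StdSpFour.UFourModel
import Mathlib.Data.Fintype.BigOperators
import Mathlib.SetTheory.Cardinal.NatCard
import Mathlib.Algebra.BigOperators.Group.Finset.Basic
import Mathlib.FieldTheory.Perfect

/-!
# S1778, type Sp₄(q), target U₄(q): counting points of the norm form
-/

set_option autoImplicit false
set_option linter.unusedSectionVars false

namespace Cfsg.Agent.StdSpFour.UFour

open Cfsg.Agent.StdSpFour.CaseBModel Subgroup

theorem card_fiber {X Y : Type*} [Fintype Y] [Finite X] (g : X → Y) :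
    Nat.card X = ∑ y, Nat.card {x : X // g x = y} := by
  rw [← Nat.card_sigma, Nat.card_congr (Equiv.sigmaFiberEquiv g)]

variable {F : Type*} [Field F] [CharP F 2] {c : F} [Finite F]

/-- square root -/
noncomputable def rr (x : F) : F := (frobeniusEquiv F 2).symm x

theorem sq_rr (x : F) : (rr x) ^ 2 = x := by
  rw [rr, ← frobeniusEquiv_def F 2, RingEquiv.apply_symm_apply]

theorem eq_rr {x y : F} (h : y ^ 2 = x) : y = rr x := by
  rw [← h, rr]
  rw [← frobeniusEquiv_def F 2, RingEquiv.symm_apply_apply]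

theorem rr_ne {x : F} (h : x ≠ 0) : rr x ≠ 0 := by
  intro h1
  apply h
  rw [← sq_rr x, h1, zero_pow two_ne_zero]

/-- the solutions of `N(u,v) = e` -/
noncomputable def para (c e : F) : Option F → F × F
  | none => (rr e, 0)
  | some x => (x * rr (e / (x ^ 2 + x + c)), rr (e / (x ^ 2 + x + c)))

theorem N_para (hc : Irr c) (e : F) (o : Option F) : N c (para c e o).1 (para c e o).2 = e := by
  cases o with
  | none =>
    simp only [para, N]
    linear_combination sq_rr e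
  | some x =>
    have h1 := sq_rr (e / (x ^ 2 + x + c))
    have h2 : e / (x ^ 2 + x + c) * (x ^ 2 + x + c) = e := div_mul_cancel₀ _ (hc x)
    simp only [para, N]
    linear_combination (x ^ 2 + x + c) * h1 + h2

/-- a nonzero value is taken `q + 1` times -/
theorem card_N (hc : Irr c) {e : F} (he : e ≠ 0) : Nat.card {p : F × F // N c p.1 p.2 = e} = Nat.card F + 1 := by
  have h0 : ∀ x : F, rr (e / (x ^ 2 + x + c)) ≠ 0 := fun x => rr_ne (div_ne_zero he (hc x))
  have hb : Function.Bijective (fun o : Option F => (⟨para c e o, N_para hc e o⟩ : {p : F × F // N c p.1 p.2 = e})) := by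
    constructor
    · intro o o' h
      have h1 : para c e o = para c e o' := congrArg Subtype.val h
      cases o with
      | none =>
        cases o' with
        | none => rfl
        | some x =>
          exfalso
          have h2 := congrArg Prod.snd h1
          simp only [para] at h2
          exact h0 x h2.symm
      | some x =>
        cases o' with
        | none =>
          exfalso
          have h2 := congrArg Prod.snd h1
          simp only [para] at h2
          exact h0 x h2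
        | some y =>
          have h2 := congrArg Prod.snd h1
          have h3 := congrArg Prod.fst h1
          simp only [para] at h2 h3
          rw [← h2] at h3
          rw [mul_right_cancel₀ (h0 x) h3]
    · rintro ⟨⟨u, v⟩, h⟩
      have h' : u ^ 2 + u * v + c * v ^ 2 = e := h
      by_cases hv : v = 0
      · refine ⟨none, ?_⟩
        apply Subtype.ext
        subst hv
        have h1 : u ^ 2 = e := by linear_combination h'
        show (rr e, (0 : F)) = (u, 0)
        rw [← eq_rr h1]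
      · refine ⟨some (u / v), ?_⟩
        apply Subtype.ext
        have h1 : v ^ 2 = e / ((u / v) ^ 2 + u / v + c) := by
          rw [eq_div_iff (hc _), ← h']
          field_simp
        have h2 := eq_rr h1
        show (u / v * rr (e / ((u / v) ^ 2 + u / v + c)), rr (e / ((u / v) ^ 2 + u / v + c))) = (u, v)
        rw [← h2, div_mul_cancel₀ _ hv]
  rw [← Nat.card_congr (Equiv.ofBijective _ hb)]
  simp

/-- `N` is onto -/
theorem exists_N (hc : Irr c) (e : F) : ∃ u v, N c u v = e := ⟨_, _, N_para hc e none⟩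

omit [CharP F 2] [Finite F] in
theorem card_N_zero (hc : Irr c) : Nat.card {p : F × F // N c p.1 p.2 = 0} = 1 := by
  rw [Nat.card_eq_one_iff_unique]
  refine ⟨⟨?_⟩, ⟨⟨(0, 0), N_zero⟩⟩⟩
  rintro ⟨⟨u, v⟩, h⟩ ⟨⟨u', v'⟩, h'⟩
  obtain ⟨h1, h2⟩ := N_eq_zero hc h
  obtain ⟨h3, h4⟩ := N_eq_zero hc h'
  simp only at h1 h2 h3 h4
  subst h1 h2 h3 h4
  rfl

/-- the number of `(x,(μ,ν))` with `N(μ,ν) = d x (x + 1)` -/
theorem sum_card (hc : Irr c) {d : F} (hd : d ≠ 0) {s0 : F} (hs : s0 ≠ 0) [Fintype F] :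
    ∑ s : F, Nat.card {p : F × F // N c p.1 p.2 = d * (s / s0) * (s / s0 + 1)} + Nat.card F =
      Nat.card F * Nat.card F := by
  classical
  have h1 : ∀ s : F, Nat.card {p : F × F // N c p.1 p.2 = d * (s / s0) * (s / s0 + 1)} +
      ((if s = 0 then Nat.card F else 0) + (if s = s0 then Nat.card F else 0)) = Nat.card F + 1 := by
    intro s
    by_cases h : s = 0
    · have h' : s ≠ s0 := by rw [h]; exact hs.symm
      rw [if_pos h, if_neg h', h, zero_div, mul_zero, zero_mul, card_N_zero hc]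
      ring
    · by_cases h' : s = s0
      · have e : d * (s / s0) * (s / s0 + 1) = 0 := by
          rw [h', div_self hs, add_self, mul_zero]
        rw [if_neg h, if_pos h', e, card_N_zero hc]
        ring
      · have e : d * (s / s0) * (s / s0 + 1) ≠ 0 := by
          refine mul_ne_zero (mul_ne_zero hd (div_ne_zero h hs)) ?_
          intro h3
          apply h'
          have h4 : s / s0 = 1 := eq_of_add h3
          rwa [div_eq_one_iff_eq hs] at h4
        rw [if_neg h, if_neg h', card_N hc e]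
  have h2 := Finset.sum_congr (rfl : (Finset.univ : Finset F) = Finset.univ) (fun s _ => h1 s)
  rw [Finset.sum_add_distrib, Finset.sum_add_distrib, Finset.sum_ite_eq' Finset.univ 0,
    Finset.sum_ite_eq' Finset.univ s0, if_pos (Finset.mem_univ _), if_pos (Finset.mem_univ _), Finset.sum_const,
    Finset.card_univ, smul_eq_mul, ← Nat.card_eq_fintype_card] at h2
  have h3 : Nat.card F * (Nat.card F + 1) = Nat.card F * Nat.card F + Nat.card F := by ring
  omega

/-- the rank one elements of `W` -/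
def S0 (c : F) : Set (TB c) := {w | w.u = 0 ∧ w.v = 0 ∧ w.s * w.r = N c w.m w.n ∧ w ≠ 1}

open Classical in
theorem card_S0_fiber (hc : Irr c) (s : F) :
    Nat.card {w : TB c // (w.u = 0 ∧ w.v = 0 ∧ w.s * w.r = N c w.m w.n) ∧ w.s = s} =
      if s = 0 then Nat.card F else Nat.card F * Nat.card F := by
  classical
  by_cases h : s = 0
  · rw [if_pos h]
    refine Nat.card_congr ⟨fun w => w.1.r, fun r => ⟨⟨0, 0, 0, 0, 0, r⟩, ⟨rfl, rfl, ?_⟩, h.symm⟩, ?_, ?_⟩
    · rw [N_zero]; exact zero_mul _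
    · rintro ⟨⟨u, v, s', m, n, r⟩, ⟨h1, h2, h3⟩, h4⟩
      simp only at h1 h2 h3 h4
      subst h1 h2 h4 h
      obtain ⟨h5, h6⟩ := N_eq_zero hc (by rw [← h3, zero_mul] : N c m n = 0)
      subst h5 h6
      rfl
    · intro r; rfl
  · rw [if_neg h, ← Nat.card_prod]
    refine Nat.card_congr ⟨fun w => (w.1.m, w.1.n),
      fun p => ⟨⟨0, 0, s, p.1, p.2, N c p.1 p.2 / s⟩, ⟨rfl, rfl, ?_⟩, rfl⟩, ?_, ?_⟩
    · simp only; rw [mul_div_cancel₀ _ h]
    · rintro ⟨⟨u, v, s', m, n, r⟩, ⟨h1, h2, h3⟩, h4⟩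
      simp only at h1 h2 h3 h4
      subst h1 h2 h4
      apply Subtype.ext
      have : N c m n / s' = r := by rw [← h3, mul_div_cancel_left₀ _ h]
      simp only [this]
    · intro p; rfl

theorem card_S0 (hc : Irr c) : Nat.card (S0 c) = (Nat.card F ^ 2 + 1) * (Nat.card F - 1) := by
  classical
  have : Fintype F := Fintype.ofFinite F
  have hq : 1 ≤ Nat.card F := Nat.card_pos
  -- with the neutral element
  have h1 : Nat.card {w : TB c // w.u = 0 ∧ w.v = 0 ∧ w.s * w.r = N c w.m w.n} = Nat.card (S0 c) + 1 := by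
    have e1 : {w : TB c | w.u = 0 ∧ w.v = 0 ∧ w.s * w.r = N c w.m w.n} = insert 1 (S0 c) := by
      ext w
      simp only [Set.mem_ofPred_eq, Set.mem_insert_iff, S0]
      constructor
      · intro h
        by_cases hw : w = 1
        · exact Or.inl hw
        · exact Or.inr ⟨h.1, h.2.1, h.2.2, hw⟩
      · rintro (rfl | h)
        · refine ⟨rfl, rfl, ?_⟩
          simp only [one_s, one_m, one_n, N_zero, zero_mul]
        · exact ⟨h.1, h.2.1, h.2.2.1⟩
    have e2 : (1 : TB c) ∉ S0 c := fun h => h.2.2.2 rfl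
    have e3 := Set.ncard_insert_of_notMem e2 (Set.toFinite _)
    rw [← e1] at e3
    exact e3
  have h2 := card_fiber (X := {w : TB c // w.u = 0 ∧ w.v = 0 ∧ w.s * w.r = N c w.m w.n}) (fun w => w.1.s)
  have h3 : ∀ s : F, Nat.card {x : {w : TB c // w.u = 0 ∧ w.v = 0 ∧ w.s * w.r = N c w.m w.n} // x.1.s = s} =
      if s = 0 then Nat.card F else Nat.card F * Nat.card F := by
    intro s
    rw [← card_S0_fiber hc s]
    exact Nat.card_congr (Equiv.subtypeSubtypeEquivSubtypeInter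
      (fun w : TB c => w.u = 0 ∧ w.v = 0 ∧ w.s * w.r = N c w.m w.n) (fun w => w.s = s))
  rw [Finset.sum_congr rfl (fun s _ => h3 s)] at h2
  have h4 : ∀ s : F, (if s = 0 then Nat.card F else Nat.card F * Nat.card F) +
      (if s = 0 then Nat.card F * Nat.card F else 0) =
      Nat.card F * Nat.card F + (if s = 0 then Nat.card F else 0) := by
    intro s
    by_cases h : s = 0
    · rw [if_pos h, if_pos h, if_pos h, add_comm]
    · rw [if_neg h, if_neg h, if_neg h]
  have h5 := Finset.sum_congr (rfl : (Finset.univ : Finset F) = Finset.univ) (fun s _ => h4 s)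
  rw [Finset.sum_add_distrib, Finset.sum_add_distrib, Finset.sum_ite_eq' Finset.univ 0,
    Finset.sum_ite_eq' Finset.univ 0, if_pos (Finset.mem_univ _), if_pos (Finset.mem_univ _), Finset.sum_const,
    Finset.card_univ, smul_eq_mul, ← Nat.card_eq_fintype_card, ← h2, h1] at h5
  obtain ⟨k, hk⟩ : ∃ k, Nat.card F = k + 1 := ⟨Nat.card F - 1, by omega⟩
  rw [hk] at h5 ⊢
  have : k + 1 - 1 = k := rfl
  rw [this]
  have e1 : ((k + 1) ^ 2 + 1) * k + 1 + (k + 1) * (k + 1) = (k + 1) * ((k + 1) * (k + 1)) + (k + 1) := by ring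
  omega

theorem card_S0_pairs_fiber {s0 m0 n0 r0 : F} (hs : s0 ≠ 0) (s : F) :
    Nat.card {w : TB c // ((w.u = 0 ∧ w.v = 0 ∧ w.s * w.r = N c w.m w.n) ∧
      (w.s + s0) * (w.r + r0) = N c (w.m + m0) (w.n + n0)) ∧ w.s = s} =
      Nat.card {p : F × F // N c p.1 p.2 = (s0 * r0 + N c m0 n0) * (s / s0) * (s / s0 + 1)} := by
  have h2 := two_eq (F := F)
  refine Nat.card_congr ⟨fun w => ⟨(w.1.m + s / s0 * m0, w.1.n + s / s0 * n0), ?_⟩,
      fun p => ⟨⟨0, 0, s, p.1.1 + s / s0 * m0, p.1.2 + s / s0 * n0,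
        (N c (p.1.1 + s / s0 * m0) (p.1.2 + s / s0 * n0) +
          N c (p.1.1 + s / s0 * m0 + m0) (p.1.2 + s / s0 * n0 + n0) + s * r0 + s0 * r0) / s0⟩,
          ⟨⟨rfl, rfl, ?_⟩, ?_⟩, rfl⟩, ?_, ?_⟩
  · obtain ⟨⟨u, v, s', m, n, r⟩, ⟨⟨h1, h3, h4⟩, h5⟩, h6⟩ := w
    simp only at h1 h3 h4 h5 h6 ⊢
    subst h6
    obtain ⟨x, rfl⟩ : ∃ x, s' = s0 * x := ⟨s' / s0, by field_simp⟩
    have e1 : s0 * x / s0 = x := by field_simp
    rw [e1]
    simp only [N] at h4 h5 ⊢
    linear_combination (x - 1) * h4 + (-x) * h5 + (x * s0 * r - x * m0 * n0 - x * m0 ^ 2 - x * n0 ^ 2 * c) * h2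
  · obtain ⟨⟨p1, p2⟩, hp⟩ := p
    simp only at hp ⊢
    obtain ⟨x, rfl⟩ : ∃ x, s = s0 * x := ⟨s / s0, by field_simp⟩
    have e1 : s0 * x / s0 = x := by field_simp
    rw [e1] at hp ⊢
    rw [show s0 * x * ((N c (p1 + x * m0) (p2 + x * n0) + N c (p1 + x * m0 + m0) (p2 + x * n0 + n0) + s0 * x * r0 +
      s0 * r0) / s0) = x * (N c (p1 + x * m0) (p2 + x * n0) + N c (p1 + x * m0 + m0) (p2 + x * n0 + n0) + s0 * x * r0 +
      s0 * r0) by field_simp]
    simp only [N] at hp ⊢
    linear_combination (-1) * hp + (2 * c * n0 * p2 * x ^ 2 + c * n0 ^ 2 * x ^ 3 + c * p2 ^ 2 * x + m0 * n0 * x ^ 3 +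
      2 * m0 * p1 * x ^ 2 + m0 * p2 * x ^ 2 + m0 ^ 2 * x ^ 3 + n0 * p1 * x ^ 2 + p1 * p2 * x + p1 ^ 2 * x) * h2
  · obtain ⟨⟨p1, p2⟩, hp⟩ := p
    simp only at hp ⊢
    obtain ⟨x, rfl⟩ : ∃ x, s = s0 * x := ⟨s / s0, by field_simp⟩
    have e1 : s0 * x / s0 = x := by field_simp
    rw [e1] at hp ⊢
    rw [show (s0 * x + s0) * ((N c (p1 + x * m0) (p2 + x * n0) + N c (p1 + x * m0 + m0) (p2 + x * n0 + n0) +
      s0 * x * r0 + s0 * r0) / s0 + r0) = (x + 1) * (N c (p1 + x * m0) (p2 + x * n0) +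
      N c (p1 + x * m0 + m0) (p2 + x * n0 + n0) + s0 * x * r0 + s0 * r0 + s0 * r0) by field_simp]
    simp only [N] at hp ⊢
    linear_combination (-1) * hp + (2 * c * n0 * p2 * x + 2 * c * n0 * p2 * x ^ 2 + c * n0 ^ 2 * x ^ 2 +
      c * n0 ^ 2 * x ^ 3 + c * p2 ^ 2 + c * p2 ^ 2 * x + m0 * n0 * x ^ 2 + m0 * n0 * x ^ 3 + 2 * m0 * p1 * x +
      2 * m0 * p1 * x ^ 2 + m0 * p2 * x + m0 * p2 * x ^ 2 + m0 ^ 2 * x ^ 2 + m0 ^ 2 * x ^ 3 + n0 * p1 * x +
      n0 * p1 * x ^ 2 + p1 * p2 + p1 * p2 * x + p1 ^ 2 + p1 ^ 2 * x + r0 * s0 + r0 * s0 * x) * h2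
  · rintro ⟨⟨u, v, s', m, n, r⟩, ⟨⟨h1, h3, h4⟩, h5⟩, h6⟩
    simp only at h1 h3 h4 h5 h6 ⊢
    subst h1 h3 h6
    obtain ⟨x, rfl⟩ : ∃ x, s' = s0 * x := ⟨s' / s0, by field_simp⟩
    have e1 : s0 * x / s0 = x := by field_simp
    apply Subtype.ext
    have e2 : ∀ a b : F, a + b + b = a := fun a b => by linear_combination b * h2
    have e3 : (N c m n + N c (m + m0) (n + n0) + s0 * x * r0 + s0 * r0) / s0 = r := by
      rw [div_eq_iff hs]
      simp only [N] at h4 h5 ⊢
      linear_combination (-1) * h4 - h5 + (r * s0 * x + r0 * s0 + r0 * s0 * x) * h2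
    simp only [e1, e2, e3]
  · rintro ⟨⟨p1, p2⟩, hp⟩
    apply Subtype.ext
    have e2 : ∀ a b : F, a + b + b = a := fun a b => by linear_combination b * h2
    simp only [e2]

/-- `#{m ∈ S | m w ∈ S} = q (q - 1)` for `w ∈ W`, `w ∉ S ∪ {1}`, if `w.s ≠ 0` -/
theorem card_S0_pairs (hc : Irr c) {w : TB c} (hu : w.u = 0) (hv : w.v = 0) (hs : w.s ≠ 0)
    (hd : w.s * w.r + N c w.m w.n ≠ 0) :
    Nat.card {m : TB c // m ∈ S0 c ∧ m * w ∈ S0 c} = Nat.card F * (Nat.card F - 1) := by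
  classical
  have : Fintype F := Fintype.ofFinite F
  have h2 := two_eq (F := F)
  obtain ⟨u, v, s0, m0, n0, r0⟩ := w
  simp only at hu hv hs hd
  subst hu hv
  have e1 : ∀ m : TB c, (m ∈ S0 c ∧ m * ⟨0, 0, s0, m0, n0, r0⟩ ∈ S0 c) ↔
      ((m.u = 0 ∧ m.v = 0 ∧ m.s * m.r = N c m.m m.n) ∧ (m.s + s0) * (m.r + r0) = N c (m.m + m0) (m.n + n0)) := by
    intro m
    constructor
    · rintro ⟨⟨h1, h3, h4, -⟩, ⟨-, -, h5, -⟩⟩
      refine ⟨⟨h1, h3, h4⟩, ?_⟩
      simpa using h5
    · rintro ⟨⟨h1, h3, h4⟩, h5⟩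
      refine ⟨⟨h1, h3, h4, ?_⟩, ?_, ?_, ?_, ?_⟩
      · rintro rfl
        apply hd
        simp only [one_s, one_r, one_m, one_n, zero_add] at h5
        rw [h5]
        exact add_self _
      · simpa using h1
      · simpa using h3
      · simpa using h5
      · intro h6
        apply hd
        have h7 : m = (⟨0, 0, s0, m0, n0, r0⟩ : TB c)⁻¹ := eq_inv_of_mul_eq_one_left h6
        rw [h7] at h4
        simp only [inv_s, inv_r, inv_m, inv_n, zero_mul, mul_zero, add_zero, ne_eq, OfNat.ofNat_ne_zero,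
          not_false_eq_true, zero_pow] at h4
        rw [h4]
        exact add_self _
  rw [Nat.card_congr (Equiv.subtypeEquivRight e1), card_fiber (fun m => m.1.s)]
  have e2 : ∀ s : F, Nat.card {x : {m : TB c // (m.u = 0 ∧ m.v = 0 ∧ m.s * m.r = N c m.m m.n) ∧
      (m.s + s0) * (m.r + r0) = N c (m.m + m0) (m.n + n0)} // x.1.s = s} =
      Nat.card {p : F × F // N c p.1 p.2 = (s0 * r0 + N c m0 n0) * (s / s0) * (s / s0 + 1)} := by
    intro s
    rw [← card_S0_pairs_fiber hs s]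
    exact Nat.card_congr (Equiv.subtypeSubtypeEquivSubtypeInter
      (fun m : TB c => (m.u = 0 ∧ m.v = 0 ∧ m.s * m.r = N c m.m m.n) ∧
        (m.s + s0) * (m.r + r0) = N c (m.m + m0) (m.n + n0)) (fun w => w.s = s))
  rw [Finset.sum_congr rfl (fun s _ => e2 s)]
  have h3 := sum_card hc hd hs
  have h4 : Nat.card F * (Nat.card F - 1) + Nat.card F = Nat.card F * Nat.card F := by
    obtain ⟨k, hk⟩ : ∃ k, Nat.card F = k + 1 := ⟨Nat.card F - 1, by have : 0 < Nat.card F := Nat.card_pos; omega⟩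
    rw [hk, show k + 1 - 1 = k from rfl]; ring
  omega

end Cfsg.Agent.StdSpFour.UFour
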