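import Cfsg.Agent.StdSpFour.UFourClose
import Cfsg.Agent.StdSpFour.RootRestrict

/-!
# S1778, type Sp₄(q), target U₄(q): the root group system of `E`
-/

set_option autoImplicit false
set_option linter.unusedSectionVars false

namespace Cfsg.Agent.StdSpFour.UFour

open Cfsg.Agent.StdSpFour.CaseBModel Subgroup Cfsg.Agent.StdSpFour.RootEight Cfsg.Agent.SplitTwo

variable {F : Type*} [Field F] [CharP F 2] {c : F} {G : Type*} [Group G]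

namespace Env

variable (V : Env c G)

/-- the eight root groups -/
def X : ZMod (2 * 4) → Subgroup G := fun i =>
  if i = 0 then V.X0 else if i = 1 then V.Z else if i = 2 then V.X2 else if i = 3 then V.X3
  else if i = 4 then V.X4 else if i = 5 then cjS V.na V.X7 else if i = 6 then cjS V.nb V.X4 else V.X7

theorem X_0 : V.X 0 = V.X0 := rfl
theorem X_1 : V.X 1 = V.Z := rfl
theorem X_2 : V.X 2 = V.X2 := rfl
theorem X_3 : V.X 3 = V.X3 := rfl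
theorem X_4 : V.X 4 = V.X4 := rfl
theorem X_5 : V.X 5 = cjS V.na V.X7 := rfl
theorem X_6 : V.X 6 = cjS V.nb V.X4 := rfl
theorem X_7 : V.X 7 = V.X7 := rfl

/-- an involution exchanging two subgroups -/
theorem cjS_eq_of {g : G} (hg : g * g = 1) {A B : Subgroup G} (h1 : ∀ x ∈ A, cg g x ∈ B) (h2 : ∀ x ∈ B, cg g x ∈ A) :
    cjS g A = B := by
  apply le_antisymm
  · rintro _ ⟨x, hx, rfl⟩
    exact h1 x hx
  · intro x hx
    refine ⟨cg g x, h2 x hx, ?_⟩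
    show cg g (cg g x) = x
    rw [← cg_comp, hg]
    simp [cg]

theorem cjS_cjS_of {g : G} (hg : g * g = 1) (A : Subgroup G) : cjS g (cjS g A) = A := by
  rw [← cjS_mul, hg, cjS_one]

theorem na_Z : cjS V.na V.Z = V.X3 := by
  apply cjS_eq_of V.na_na
  · intro x hx
    obtain ⟨r, rfl⟩ := V.mem_Z hx
    rw [V.na_w]
    exact V.f_X3.2 ⟨rfl, rfl, add_zero _, rfl, rfl⟩
  · intro x hx
    obtain ⟨r, rfl⟩ := V.mem_X3 hx
    rw [V.na_w]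
    exact V.f_Z.2 ⟨rfl, rfl, rfl, add_zero _, rfl⟩

theorem na_X3 : cjS V.na V.X3 = V.Z := by rw [← V.na_Z, cjS_cjS_of V.na_na]

theorem na_X2 : cjS V.na V.X2 = V.X2 := by
  have : ∀ x ∈ V.X2, cg V.na x ∈ V.X2 := by
    intro x hx
    obtain ⟨m, n, rfl⟩ := V.mem_X2 hx
    rw [V.na_w]
    exact V.f_X2.2 ⟨rfl, rfl, rfl, rfl⟩
  exact cjS_eq_of V.na_na this this

theorem nb_Z : cjS V.nb V.Z = V.Z := by
  have : ∀ x ∈ V.Z, cg V.nb x ∈ V.Z := by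
    intro x hx
    obtain ⟨r, rfl⟩ := V.mem_Z hx
    rw [V.nb_q]
    exact V.f_Z.2 ⟨rfl, rfl, rfl, rfl, rfl⟩
  exact cjS_eq_of V.nb_nb this this

theorem nb_X0 : cjS V.nb V.X0 = V.X2 := by
  apply cjS_eq_of V.nb_nb
  · intro x hx
    obtain ⟨u, v, rfl⟩ := V.mem_X0 hx
    rw [V.nb_q]
    exact V.f_X2.2 ⟨rfl, rfl, rfl, by simp⟩
  · intro x hx
    obtain ⟨u, v, rfl⟩ := V.mem_X2 hx
    rw [V.nb_q]
    exact V.f_X0.2 ⟨rfl, rfl, rfl, by simp⟩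

theorem nb_X2 : cjS V.nb V.X2 = V.X0 := by rw [← V.nb_X0, cjS_cjS_of V.nb_nb]

section braid

variable (hbr : V.na * V.nb * V.na * V.nb = V.nb * V.na * V.nb * V.na)

theorem na_X' (i : ZMod (2 * 4)) (hbr : V.na * V.nb * V.na * V.nb = V.nb * V.na * V.nb * V.na) :
    cjS V.na (V.X i) = V.X (4 - i) := by
  have key : ∀ j : ZMod (2 * 4), j = 0 ∨ j = 1 ∨ j = 2 ∨ j = 3 ∨ j = 4 ∨ j = 5 ∨ j = 6 ∨ j = 7 := by decide
  rcases key i with rfl | rfl | rfl | rfl | rfl | rfl | rfl | rfl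
  · rfl
  · exact V.na_Z
  · exact V.na_X2
  · exact V.na_X3
  · exact cjS_cjS_of V.na_na _
  · exact cjS_cjS_of V.na_na _
  · show cjS V.na (cjS V.nb (cjS V.na V.X0)) = cjS V.nb (cjS V.na V.X0)
    have h1 : cjS (V.na * V.nb * V.na * V.nb) V.X2 = cjS (V.nb * V.na * V.nb * V.na) V.X2 := by rw [hbr]
    rw [cjS_mul, cjS_mul, cjS_mul, V.nb_X2, cjS_mul, cjS_mul, cjS_mul, V.na_X2, V.nb_X2] at h1
    exact h1
  · rfl

theorem nb_X' (i : ZMod (2 * 4)) (hbr : V.na * V.nb * V.na * V.nb = V.nb * V.na * V.nb * V.na) :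
    cjS V.nb (V.X i) = V.X (2 - i) := by
  have key : ∀ j : ZMod (2 * 4), j = 0 ∨ j = 1 ∨ j = 2 ∨ j = 3 ∨ j = 4 ∨ j = 5 ∨ j = 6 ∨ j = 7 := by decide
  rcases key i with rfl | rfl | rfl | rfl | rfl | rfl | rfl | rfl
  · exact V.nb_X0
  · exact V.nb_Z
  · exact V.nb_X2
  · rfl
  · rfl
  · show cjS V.nb (cjS V.na (cjS V.nb V.X3)) = cjS V.na (cjS V.nb V.X3)
    have h1 : cjS (V.na * V.nb * V.na * V.nb) V.Z = cjS (V.nb * V.na * V.nb * V.na) V.Z := by rw [hbr]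
    rw [cjS_mul, cjS_mul, cjS_mul, V.nb_Z, V.na_Z, cjS_mul, cjS_mul, cjS_mul, V.na_Z] at h1
    exact h1.symm
  · exact cjS_cjS_of V.nb_nb _
  · exact cjS_cjS_of V.nb_nb _

end braid

/-! ### the torus normalises the root groups -/

theorem cjS_cjS_comm {k g : G} (hg : k * g = g * k) {A : Subgroup G} (hA : cjS k A = A) :
    cjS k (cjS g A) = cjS g A := by
  rw [← cjS_mul, hg, cjS_mul, hA]

theorem h_X (α β : Fˣ) (i : ZMod (2 * 4)) : cjS (V.h α β) (V.X i) = V.X i := by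
  have key : ∀ j : ZMod (2 * 4), j = 0 ∨ j = 1 ∨ j = 2 ∨ j = 3 ∨ j = 4 ∨ j = 5 ∨ j = 6 ∨ j = 7 := by decide
  rcases key i with rfl | rfl | rfl | rfl | rfl | rfl | rfl | rfl
  · exact (V.h_pos α β).1
  · exact (V.h_pos α β).2.1
  · exact (V.h_pos α β).2.2.1
  · exact (V.h_pos α β).2.2.2
  · exact V.h_X4 α β
  · obtain ⟨k, hk, h1⟩ := V.h_na α β
    have h2 : cjS k V.X7 = V.X7 := cjS_cjS_comm (V.Cn_nb k hk) (V.Cn_T hk V.X3_le)
    rw [V.X_5, ← cjS_mul, h1, cjS_mul, cjS_mul, h2, V.h_X7]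
  · obtain ⟨k, hk, h1⟩ := V.h_nb α β
    have h2 : cjS k V.X4 = V.X4 := cjS_cjS_comm (V.Cn_na k hk) (V.Cn_T hk V.X0_le)
    rw [V.X_6, ← cjS_mul, h1, cjS_mul, cjS_mul, h2, V.h_X4]
  · exact V.h_X7 α β

/-! ### the Weyl elements of `X 3` -/

theorem mu3' (hbr : V.na * V.nb * V.na * V.nb = V.nb * V.na * V.nb * V.na) :
    ∀ u ∈ V.X 3, u ≠ 1 → ∃ v ∈ V.X 7, ∃ v' ∈ V.X 7, ∀ j, cjS (v * u * v') (V.X j) = V.X (2 - j) := by
  intro u hu hu1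
  obtain ⟨s, rfl⟩ := V.mem_X3 hu
  have hs : s ≠ 0 := by
    rintro rfl
    exact hu1 (map_one V.f)
  set β : Fˣ := Units.mk0 s hs
  have h1 : V.f ⟨0, 0, 1, 0, 0, 0⟩ ∈ V.X3 := V.f_X3.2 ⟨rfl, rfl, rfl, rfl, rfl⟩
  have h2 : cg V.nb (V.f ⟨0, 0, 1, 0, 0, 0⟩) ∈ V.X7 := ⟨_, h1, rfl⟩
  have h3 : cg (V.h 1 β) (cg V.nb (V.f ⟨0, 0, 1, 0, 0, 0⟩)) ∈ V.X 7 := by
    rw [← V.h_X 1 β 7]
    exact ⟨_, h2, rfl⟩
  have h4 : cg (V.h 1 β) (V.f ⟨0, 0, 1, 0, 0, 0⟩) = V.f ⟨0, 0, s, 0, 0, 0⟩ := by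
    rw [V.h_f]
    congr 1
    ext <;> simp [β]
  have h5 : V.nb = cg V.nb (V.f ⟨0, 0, 1, 0, 0, 0⟩) * V.f ⟨0, 0, 1, 0, 0, 0⟩ * cg V.nb (V.f ⟨0, 0, 1, 0, 0, 0⟩) := by
    have h6 := congrArg (cg V.nb) V.nb_eq
    rw [cg_mul, cg_mul, V.cg_nb_nb] at h6
    rw [← h6]
    simp [cg]
  refine ⟨_, h3, _, h3, fun j => ?_⟩
  have h6 : cg (V.h 1 β) (cg V.nb (V.f ⟨0, 0, 1, 0, 0, 0⟩)) * V.f ⟨0, 0, s, 0, 0, 0⟩ *
      cg (V.h 1 β) (cg V.nb (V.f ⟨0, 0, 1, 0, 0, 0⟩)) = V.h 1 β * V.nb * (V.h 1 β)⁻¹ := by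
    rw [← h4, ← cg_mul, ← cg_mul, ← h5]
    rfl
  rw [h6, cjS_mul, cjS_inv_of (V.h_X 1 β j), cjS_mul, V.nb_X' _ hbr, V.h_X]

/-! ### the Weyl elements of `X 0` -/

/-- `{h 1 β}` -/
def D : Subgroup G := closure (Set.range fun β : Fˣ => V.h 1 β)

theorem X0_D : V.X0 ≤ centralizer (V.D : Set G) := by
  intro x hx
  rw [D, centralizer_closure, mem_centralizer_iff]
  rintro _ ⟨β, rfl⟩
  exact V.h_Ka β (mem_sup_left hx)

theorem na_D : V.na ∈ centralizer (V.D : Set G) := by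
  rw [D, centralizer_closure, mem_centralizer_iff]
  rintro _ ⟨β, rfl⟩
  exact V.h_Ka β V.na_mem

theorem T_D [Finite F] (h4 : 4 ≤ Nat.card F) : V.T ⊓ centralizer (V.D : Set G) ≤ V.X0 := by
  rintro _ ⟨⟨⟨u, v, s, m, n, r⟩, rfl⟩, hx⟩
  obtain ⟨β, hβ⟩ : ∃ β : Fˣ, (β : F) ≠ 1 := by
    by_contra hcon
    push Not at hcon
    have h1 : Set.univ ⊆ ({0, 1} : Set F) := by
      intro x _
      by_cases hx : x = 0
      · exact Or.inl hx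
      · exact Or.inr (hcon (Units.mk0 x hx))
    have h2 := Set.ncard_le_ncard h1 (Set.toFinite _)
    rw [Set.ncard_univ] at h2
    have h3 := h2.trans ((Set.ncard_insert_le _ _).trans (by simp : _ ≤ 2))
    omega
  have h1 := mem_centralizer_iff.1 hx (V.h 1 β) (subset_closure ⟨β, rfl⟩)
  have h2 := cg_eq_self h1
  rw [V.h_f] at h2
  have h3 := V.inj h2
  have key : ∀ y : F, (β : F) * y = y → y = 0 := by
    intro y hy
    have : ((β : F) - 1) * y = 0 := by linear_combination hy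
    exact (mul_eq_zero.1 this).resolve_left (sub_ne_zero.2 hβ)
  have e1 := congrArg TB.s h3
  have e2 := congrArg TB.m h3
  have e3 := congrArg TB.n h3
  have e4 := congrArg TB.r h3
  simp only [Units.val_one, one_mul, one_pow] at e1 e2 e3 e4
  exact V.f_X0.2 ⟨key _ e1, key _ e2, key _ e3, key _ e4⟩

theorem na_W : cjS V.na V.W = V.W := by
  have : ∀ x ∈ V.W, cg V.na x ∈ V.W := by
    intro x hx
    obtain ⟨s, m, n, r, rfl⟩ := V.mem_W hx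
    rw [V.na_w]
    exact V.f_W.2 ⟨rfl, rfl⟩
  exact cjS_eq_of V.na_na this this

theorem X0_norm_W : V.X0 ≤ normalizer (V.W : Set G) := by
  intro x hx
  exact mem_norm (fun y hy => V.T_normal_W _ (V.X0_le hx) _ hy)
    (fun y hy => V.T_normal_W _ (V.X0_le (inv_mem hx)) _ hy)

theorem cent_X0 : V.W ⊓ centralizer (V.X0 : Set G) = V.Z := by
  apply le_antisymm
  · rintro w ⟨hw, hx⟩
    obtain ⟨s, m, n, r, rfl⟩ := V.mem_W hw
    have key : ∀ u v : F, (⟨0, 0, 0, u * s, v * s, (u * n + v * m) + N c u v * s⟩ : TB c) = 1 := by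
      intro u v
      apply V.inj
      rw [← V.comm_w' ⟨u, v, 0, 0, 0, 0⟩, map_one,
        mem_centralizer_iff.1 hx (V.f ⟨u, v, 0, 0, 0, 0⟩) (V.f_X0.2 ⟨rfl, rfl, rfl, rfl⟩)]
      group
    have hs : s = 0 := by
      have := congrArg TB.m (key 1 0)
      simpa using this
    subst hs
    have hn := congrArg TB.r (key 1 0)
    have hm := congrArg TB.r (key 0 1)
    exact V.f_Z.2 ⟨rfl, rfl, rfl, by simpa using hm, by simpa using hn⟩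
  · intro z hz
    exact mem_inf.2 ⟨V.Z_le_W hz, mem_centralizer_iff.2 fun x hx => (V.Z_cent' hz (V.X0_le hx)).symm⟩

theorem mem_Z_sup_X2 {x : G} : x ∈ V.Z ⊔ V.X2 ↔ ∃ m n r, x = V.f ⟨0, 0, 0, m, n, r⟩ := by
  constructor
  · intro hx
    have h1 : V.Z ⊔ V.X2 ≤ V.W ⊓ V.Q := by
      refine sup_le (le_inf V.Z_le_W V.Z_le_Q) (le_inf ?_ ?_)
      · intro y hy
        obtain ⟨m, n, rfl⟩ := V.mem_X2 hy
        exact V.f_W.2 ⟨rfl, rfl⟩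
      · intro y hy
        obtain ⟨m, n, rfl⟩ := V.mem_X2 hy
        exact V.f_Q.2 rfl
    obtain ⟨h2, h3⟩ := h1 hx
    obtain ⟨s, m, n, r, rfl⟩ := V.mem_W h2
    have hs : s = 0 := V.f_Q.1 h3
    subst hs
    exact ⟨m, n, r, rfl⟩
  · rintro ⟨m, n, r, rfl⟩
    have e : (⟨0, 0, 0, m, n, r⟩ : TB c) = ⟨0, 0, 0, 0, 0, r⟩ * ⟨0, 0, 0, m, n, 0⟩ := by ext <;> simp
    rw [e, map_mul]
    exact mul_mem (mem_sup_left (V.f_Z.2 ⟨rfl, rfl, rfl, rfl, rfl⟩)) (mem_sup_right (V.f_X2.2 ⟨rfl, rfl, rfl, rfl⟩))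

theorem com_X0 : V.Z ⊔ ⁅V.X0, V.W⁆ = V.Z ⊔ V.X2 := by
  apply le_antisymm
  · refine sup_le le_sup_left ?_
    rw [commutator_le]
    intro x hx w hw
    obtain ⟨u, v, rfl⟩ := V.mem_X0 hx
    obtain ⟨s, m, n, r, rfl⟩ := V.mem_W hw
    exact V.mem_Z_sup_X2.2 ⟨_, _, _, V.comm_w' ⟨u, v, 0, 0, 0, 0⟩ s m n r⟩
  · refine sup_le le_sup_left ?_
    intro x hx
    obtain ⟨m, n, rfl⟩ := V.mem_X2 hx
    have h1 : V.f ⟨m, n, 0, 0, 0, 0⟩ * V.f ⟨0, 0, 1, 0, 0, 0⟩ * (V.f ⟨m, n, 0, 0, 0, 0⟩)⁻¹ *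
        (V.f ⟨0, 0, 1, 0, 0, 0⟩)⁻¹ ∈ ⁅V.X0, V.W⁆ :=
      commutator_mem_commutator (V.f_X0.2 ⟨rfl, rfl, rfl, rfl⟩) (V.f_W.2 ⟨rfl, rfl⟩)
    rw [V.comm_w'] at h1
    have h2 : V.f ⟨0, 0, 0, 0, 0, N c m n⟩ ∈ V.Z := V.f_Z.2 ⟨rfl, rfl, rfl, rfl, rfl⟩
    have h3 := mul_mem (mem_sup_right h1 : _ ∈ V.Z ⊔ ⁅V.X0, V.W⁆) (mem_sup_left h2)
    rw [← map_mul] at h3
    convert h3 using 2
    ext
    · simp
    · simp
    · simp
    · simp
    · simp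
    · simp only [mul_r]
      linear_combination (-(N c m n)) * two_eq (F := F)

theorem inf_X : (V.Z ⊔ V.X2) ⊓ (V.X3 ⊔ V.X2) = V.X2 := by
  apply le_antisymm
  · rintro x ⟨h1, h2⟩
    obtain ⟨m, n, r, rfl⟩ := V.mem_Z_sup_X2.1 h1
    have h3 : V.na * V.f ⟨0, 0, 0, m, n, r⟩ * V.na⁻¹ ∈ cjS V.na (V.X3 ⊔ V.X2) := mem_cjS.2 h2
    rw [cjS_sup, V.na_X3, V.na_X2] at h3
    obtain ⟨m', n', r', h4⟩ := V.mem_Z_sup_X2.1 h3
    rw [show V.na * V.f ⟨0, 0, 0, m, n, r⟩ * V.na⁻¹ = _ from V.na_w 0 m n r] at h4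
    have hr : r = 0 := congrArg TB.s (V.inj h4)
    subst hr
    exact V.f_X2.2 ⟨rfl, rfl, rfl, rfl⟩
  · exact le_inf le_sup_right le_sup_right

end Env

/-- the output of the closing for `U₄(q)` -/
structure Closed (V : Env c G) (E : Subgroup G) : Prop where
  top : E = V.T ⊔ V.Ka ⊔ V.Kb
  norm_W : ∀ g ∈ E, cjS g V.W = V.W → cjS g V.Z = V.Z → cjS g V.T = V.T

namespace Env

variable (V : Env c G)

/-- `Ka` permutes the points: an element of `Ka` fixes `Z` or maps it as `x na`, `x ∈ X 0` -/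
theorem Ka_points [Finite G] (hc : Irr c) {k : G} (hk : k ∈ V.Ka) :
    cjS k V.Z = V.Z ∨ ∃ x ∈ V.X0, cjS k V.Z = cjS (x * V.na) V.Z := by
  have hz1 : V.f ⟨0, 0, 0, 0, 0, 1⟩ ≠ 1 := fun h =>
    one_ne_zero (congrArg TB.r (V.inj (h.trans (map_one V.f).symm)))
  have hz : V.f ⟨0, 0, 0, 0, 0, 1⟩ ∈ V.Z := V.f_Z.2 ⟨rfl, rfl, rfl, rfl, rfl⟩
  -- an element of `Ka` mapping `z` into `Z` fixes `Z`
  have fix : ∀ k ∈ V.Ka, ∀ z ∈ V.Z, z ≠ 1 → cg k z ∈ V.Z → cjS k V.Z = V.Z := by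
    intro k hk z hz hz1 h
    have h1 : cjS k V.Z ≤ V.Z := by
      rintro _ ⟨z', hz', rfl⟩
      exact V.Ka_TI' hk hz hz1 h hz'
    exact Subgroup.eq_of_le_of_card_ge h1 (by rw [Subgroup.card_map_of_injective (MulAut.conj k).injective])
  have h1 := V.S_Ka hc hk (V.f_S.2 (TZ_S0 (V.f_Z.1 hz) (fun h => hz1 (by rw [h, map_one]))))
  obtain ⟨⟨u, v, s, m, n, r⟩, ⟨h2, h3, h4, h5⟩, h6⟩ := h1
  simp only at h2 h3 h4
  subst h2 h3
  by_cases hs : s = 0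
  · left
    subst hs
    rw [zero_mul] at h4
    obtain ⟨h6', h7⟩ := N_eq_zero hc h4.symm
    subst h6' h7
    refine fix k hk _ hz hz1 ?_
    rw [← h6]
    exact V.f_Z.2 ⟨rfl, rfl, rfl, rfl, rfl⟩
  · right
    refine ⟨V.f ⟨m / s, n / s, 0, 0, 0, 0⟩, V.f_X0.2 ⟨rfl, rfl, rfl, rfl⟩, ?_⟩
    set x := V.f ⟨m / s, n / s, 0, 0, 0, 0⟩ with hx
    have hxK : x * V.na ∈ V.Ka := mul_mem (mem_sup_left (V.f_X0.2 ⟨rfl, rfl, rfl, rfl⟩)) V.na_mem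
    have h7 : cg (x * V.na) (V.f ⟨0, 0, 0, 0, 0, s⟩) = cg k (V.f ⟨0, 0, 0, 0, 0, 1⟩) := by
      rw [← h6, cg_comp, V.na_w, hx, V.a_w]
      congr 1
      ext
      · rfl
      · rfl
      · rfl
      · simp only; field_simp; ring
      · simp only; field_simp; ring
      · simp only [N] at h4 ⊢
        field_simp
        linear_combination -h4
    have h8 : cg ((x * V.na)⁻¹ * k) (V.f ⟨0, 0, 0, 0, 0, 1⟩) = V.f ⟨0, 0, 0, 0, 0, s⟩ := by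
      rw [cg_comp, ← h7, cg_inv_cg]
    have h9 := fix _ (mul_mem (inv_mem hxK) hk) _ hz hz1 (by
      rw [h8]; exact V.f_Z.2 ⟨rfl, rfl, rfl, rfl, rfl⟩)
    have h10 : k = (x * V.na) * ((x * V.na)⁻¹ * k) := by group
    rw [h10, cjS_mul, h9]

theorem Ka_cjS_W {k : G} (hk : k ∈ V.Ka) : cjS k V.W = V.W := by
  have : V.Ka ≤ normalizer (V.W : Set G) := V.Ka_le_of V.X0_norm_W (mem_normalizer_of_cjS V.na_W)
  exact cjS_eq_of_normalizer (this hk)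

theorem Z_eq : V.T ⊓ centralizer (V.T : Set G) = V.Z := by
  apply le_antisymm
  · rintro _ ⟨⟨x, rfl⟩, hx⟩
    apply V.f_Z.2
    apply Q_cent'
    intro y hy
    apply V.inj
    rw [map_mul, map_mul]
    exact (mem_centralizer_iff.1 hx _ (V.f_T y)).symm
  · intro z hz
    exact mem_inf.2 ⟨V.Z_le hz, mem_centralizer_iff.2 fun x hx => (V.Z_cent' hz hx).symm⟩

theorem cjS_Z_of_T {g h : G} (e : cjS g V.T = cjS h V.T) : cjS g V.Z = cjS h V.Z := by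
  rw [← V.Z_eq, cjS_inf, cjS_inf, cjS_centralizer, cjS_centralizer, e]

theorem reg' : ∀ x ∈ V.X0, cjS (x * V.na) V.T = cjS V.na V.T → x = 1 := by
  intro x hx h
  have h1 := V.cjS_Z_of_T h
  rw [cjS_mul, V.na_Z] at h1
  obtain ⟨u, v, rfl⟩ := V.mem_X0 hx
  have h2 : cg (V.f ⟨u, v, 0, 0, 0, 0⟩) (V.f ⟨0, 0, 1, 0, 0, 0⟩) ∈ V.X3 := by
    rw [← h1]
    exact ⟨_, V.f_X3.2 ⟨rfl, rfl, rfl, rfl, rfl⟩, rfl⟩
  rw [V.a_w] at h2
  obtain ⟨-, -, h3, h4, h5⟩ := V.f_X3.1 h2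
  simp only [mul_one, zero_add] at h3 h4
  rw [h3, h4]
  exact map_one V.f

theorem tr' [Finite G] (hc : Irr c) {E : Subgroup G} (hE : V.Ka ≤ E)
    (nW : ∀ g ∈ E, cjS g V.W = V.W → cjS g V.Z = V.Z → cjS g V.T = V.T) :
    ∀ k ∈ closure ((V.X0 : Set G) ∪ {V.na}), cjS k V.T = V.T ∨ ∃ x ∈ V.X0, cjS k V.T = cjS (x * V.na) V.T := by
  intro k hk
  have hkK : k ∈ V.Ka := by
    have : closure ((V.X0 : Set G) ∪ {V.na}) ≤ V.Ka := by
      rw [closure_le]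
      rintro x (hx | hx)
      · exact mem_sup_left hx
      · rw [Set.mem_singleton_iff.1 hx]
        exact V.na_mem
    exact this hk
  rcases V.Ka_points hc hkK with h | ⟨x, hx, h⟩
  · exact Or.inl (nW k (hE hkK) (V.Ka_cjS_W hkK) h)
  · right
    refine ⟨x, hx, ?_⟩
    have hxK : x * V.na ∈ V.Ka := mul_mem (mem_sup_left hx) V.na_mem
    have h1 : (x * V.na)⁻¹ * k ∈ V.Ka := mul_mem (inv_mem hxK) hkK
    have h2 : cjS ((x * V.na)⁻¹ * k) V.Z = V.Z := by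
      rw [cjS_mul, h, ← cjS_mul, inv_mul_cancel, cjS_one]
    have h3 := nW _ (hE h1) (V.Ka_cjS_W h1) h2
    have h10 : k = (x * V.na) * ((x * V.na)⁻¹ * k) := by group
    rw [h10, cjS_mul, h3]

theorem mu0' [Finite G] [Finite F] (h4 : 4 ≤ Nat.card F) (hc : Irr c) {E : Subgroup G} (hE : V.Ka ≤ E)
    (nW : ∀ g ∈ E, cjS g V.W = V.W → cjS g V.Z = V.Z → cjS g V.T = V.T)
    (hbr : V.na * V.nb * V.na * V.nb = V.nb * V.na * V.nb * V.na) :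
    ∀ u ∈ V.X 0, u ≠ 1 → ∃ v ∈ V.X 4, ∃ v' ∈ V.X 4, ∀ j, cjS (v * u * v') (V.X j) = V.X (4 - j) := by
  set w := V.nb * V.na * V.nb with hw
  have w_X : ∀ i, cjS w (V.X i) = V.X (-i) := by
    intro i
    rw [hw, cjS_mul, cjS_mul, V.nb_X' _ hbr, V.na_X' _ hbr, V.nb_X' _ hbr]
    congr 1
    ring
  have w0 : cjS w V.X0 = V.X0 := w_X 0
  have wn : w * V.na = V.na * w := by
    rw [hw]
    have := hbr
    calc V.nb * V.na * V.nb * V.na = V.na * V.nb * V.na * V.nb := this.symm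
      _ = _ := by group
  have w1 : cjS w V.Z = V.X 7 := w_X 1
  have w2 : cjS w V.X2 = V.X 6 := w_X 2
  have w3 : cjS w V.X3 = V.X 5 := w_X 3
  have hwinv : w * w = 1 := by
    rw [hw]
    calc V.nb * V.na * V.nb * (V.nb * V.na * V.nb) = V.nb * V.na * (V.nb * V.nb) * V.na * V.nb := by group
      _ = V.nb * (V.na * V.na) * V.nb := by rw [V.nb_nb]; group
      _ = 1 := by rw [V.na_na, mul_one, V.nb_nb]
  refine mu_of (X := V.X) (n := V.na) (D := V.D) (T := V.T) (R := V.W) (R' := cjS w V.W)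
    (fun i => V.na_X' i hbr) V.X0_D V.na_D (V.T_D h4) V.X0_le (by rw [V.na_na, cjS_one]) (V.tr' hc hE nW)
    V.reg' V.na_W ?_ V.X0_norm_W ?_ V.cent_X0 ?_ V.com_X0 ?_ V.inf_X ?_
  · rw [← cjS_mul, ← wn, cjS_mul, V.na_W]
  · intro x hx
    have h1 : w * x * w⁻¹ ∈ V.X0 := by
      rw [← w0]; exact ⟨x, hx, rfl⟩
    apply mem_normalizer_of_cjS
    have h2 := cjS_eq_of_normalizer (V.X0_norm_W h1)
    have h3 : x * w = w * (w * x * w⁻¹) := by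
      have : w⁻¹ = w := inv_eq_of_mul_eq_one_left hwinv
      rw [this]
      calc x * w = (w * w) * x * w := by rw [hwinv, one_mul]
        _ = _ := by group
    rw [← cjS_mul, h3, cjS_mul, h2]
  · have := congrArg (cjS w) V.cent_X0
    rw [cjS_inf, cjS_centralizer, w0, w1] at this
    exact this
  · have := congrArg (cjS w) V.com_X0
    rw [cjS_sup, cjS_sup, cjS_comm, w0, w1, w2] at this
    exact this
  · have := congrArg (cjS w) V.inf_X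
    rw [cjS_inf, cjS_sup, cjS_sup, w1, w2, w3] at this
    exact this

/-- the eight root groups of `E` -/
noncomputable def eight [Finite G] [Finite F] (h4 : 4 ≤ Nat.card F) (hc : Irr c) {E : Subgroup G} (hE : V.Ka ≤ E)
    (nW : ∀ g ∈ E, cjS g V.W = V.W → cjS g V.Z = V.Z → cjS g V.T = V.T)
    (hbr : V.na * V.nb * V.na * V.nb = V.nb * V.na * V.nb * V.na) : Eight G where
  X := V.X
  na := V.na
  nb := V.nb
  na_X := fun i => V.na_X' i hbr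
  nb_X := fun i => V.nb_X' i hbr
  ne0 := by
    intro h
    have h1 : V.f ⟨1, 0, 0, 0, 0, 0⟩ ∈ V.X 0 := V.f_X0.2 ⟨rfl, rfl, rfl, rfl⟩
    rw [h, mem_bot] at h1
    exact one_ne_zero (congrArg TB.u (V.inj (h1.trans (map_one V.f).symm)))
  ne1 := by
    intro h
    have h1 : V.f ⟨0, 0, 0, 0, 0, 1⟩ ∈ V.X 1 := V.f_Z.2 ⟨rfl, rfl, rfl, rfl, rfl⟩
    rw [h, mem_bot] at h1
    exact one_ne_zero (congrArg TB.r (V.inj (h1.trans (map_one V.f).symm)))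
  c01 := by
    rw [eq_bot_iff, commutator_le]
    intro x hx z hz
    have h1 := V.Z_cent' hz (V.X0_le hx)
    show x * z * x⁻¹ * z⁻¹ ∈ _
    rw [← h1, mem_bot]
    group
  c12 := by
    rw [eq_bot_iff, commutator_le]
    intro z hz x hx
    have h1 := V.Z_cent' hz (V.X2_le hx)
    show z * x * z⁻¹ * x⁻¹ ∈ _
    rw [h1, mem_bot]
    group
  c02 := by
    rw [commutator_le]
    intro x hx y hy
    obtain ⟨u, v, rfl⟩ := V.mem_X0 hx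
    obtain ⟨m, n, rfl⟩ := V.mem_X2 hy
    have h1 := V.comm_w' ⟨u, v, 0, 0, 0, 0⟩ 0 m n 0
    show V.f ⟨u, v, 0, 0, 0, 0⟩ * V.f ⟨0, 0, 0, m, n, 0⟩ * _ * _ ∈ _
    rw [h1]
    exact V.f_Z.2 ⟨rfl, rfl, rfl, mul_zero _, mul_zero _⟩
  c13 := by
    rw [commutator_le]
    intro z hz x hx
    have h1 := V.Z_cent' hz (V.X3_le hx)
    show z * x * z⁻¹ * x⁻¹ ∈ _
    rw [h1]
    have : x * z * z⁻¹ * x⁻¹ = 1 := by group
    rw [this]
    exact one_mem _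
  c03 := by
    rw [commutator_le]
    intro x hx y hy
    obtain ⟨u, v, rfl⟩ := V.mem_X0 hx
    obtain ⟨s, rfl⟩ := V.mem_X3 hy
    exact V.mem_Z_sup_X2.2 ⟨_, _, _, V.comm_w' ⟨u, v, 0, 0, 0, 0⟩ s 0 0 0⟩
  i0 := by
    rw [eq_bot_iff]
    rintro x ⟨h1, h2⟩
    have h3 : V.X 1 ⊔ V.X 2 ⊔ V.X 3 ≤ V.W := by
      refine sup_le (sup_le V.Z_le_W ?_) ?_
      · intro y hy
        obtain ⟨m, n, rfl⟩ := V.mem_X2 hy
        exact V.f_W.2 ⟨rfl, rfl⟩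
      · intro y hy
        obtain ⟨s, rfl⟩ := V.mem_X3 hy
        exact V.f_W.2 ⟨rfl, rfl⟩
    obtain ⟨u, v, rfl⟩ := V.mem_X0 h1
    obtain ⟨h5, h6⟩ := V.f_W.1 (h3 h2)
    simp only at h5 h6
    rw [h5, h6, mem_bot]
    exact map_one V.f
  i3 := by
    rw [eq_bot_iff]
    rintro x ⟨h1, h2⟩
    have h3 : V.X 0 ⊔ V.X 1 ⊔ V.X 2 ≤ V.Q := by
      refine sup_le (sup_le ?_ V.Z_le_Q) ?_
      · intro y hy
        obtain ⟨m, n, rfl⟩ := V.mem_X0 hy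
        exact V.f_Q.2 rfl
      · intro y hy
        obtain ⟨m, n, rfl⟩ := V.mem_X2 hy
        exact V.f_Q.2 rfl
    obtain ⟨s, rfl⟩ := V.mem_X3 h1
    have h5 := V.f_Q.1 (h3 h2)
    simp only at h5
    rw [h5, mem_bot]
    exact map_one V.f
  mu0 := V.mu0' h4 hc hE nW hbr
  mu3 := V.mu3' hbr

/-- `⟨X i⟩ = T ⊔ Ka ⊔ Kb` -/
theorem iSup_X : (⨆ i, V.X i) = V.T ⊔ V.Ka ⊔ V.Kb := by
  have hT : V.T ≤ ⨆ i, V.X i := by
    rintro _ ⟨x, rfl⟩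
    have e : x = ⟨x.u, x.v, 0, 0, 0, 0⟩ * (⟨0, 0, x.s, 0, 0, 0⟩ * (⟨0, 0, 0, x.m, x.n, 0⟩ * ⟨0, 0, 0, 0, 0, x.r⟩)) := by
      ext <;> simp
    rw [e, map_mul, map_mul, map_mul]
    exact mul_mem (le_iSup V.X 0 (V.f_X0.2 ⟨rfl, rfl, rfl, rfl⟩))
      (mul_mem (le_iSup V.X 3 (V.f_X3.2 ⟨rfl, rfl, rfl, rfl, rfl⟩))
      (mul_mem (le_iSup V.X 2 (V.f_X2.2 ⟨rfl, rfl, rfl, rfl⟩)) (le_iSup V.X 1 (V.f_Z.2 ⟨rfl, rfl, rfl, rfl, rfl⟩))))
  apply le_antisymm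
  · set H := V.T ⊔ V.Ka ⊔ V.Kb
    have hTH : V.T ≤ H := le_sup_left.trans le_sup_left
    have ha : V.na ∈ H := mem_sup_left (mem_sup_right V.na_mem)
    have hb : V.nb ∈ H := mem_sup_right V.nb_mem
    have h7 : V.X7 ≤ H := (le_sup_right : V.X7 ≤ V.Kb).trans le_sup_right
    have h4 : V.X4 ≤ H := (le_sup_right : V.X4 ≤ V.Ka).trans (le_sup_right.trans le_sup_left)
    have conj : ∀ g ∈ H, ∀ A : Subgroup G, A ≤ H → cjS g A ≤ H := by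
      rintro g hg A hA _ ⟨x, hx, rfl⟩
      exact mul_mem (mul_mem hg (hA hx)) (inv_mem hg)
    refine iSup_le fun i => ?_
    have key : ∀ j : ZMod (2 * 4), j = 0 ∨ j = 1 ∨ j = 2 ∨ j = 3 ∨ j = 4 ∨ j = 5 ∨ j = 6 ∨ j = 7 := by decide
    rcases key i with rfl | rfl | rfl | rfl | rfl | rfl | rfl | rfl
    · exact V.X0_le.trans hTH
    · exact V.Z_le.trans hTH
    · exact V.X2_le.trans hTH
    · exact V.X3_le.trans hTH
    · exact h4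
    · exact conj _ ha _ h7
    · exact conj _ hb _ h4
    · exact h7
  · exact sup_le (sup_le hT (sup_le (le_iSup V.X 0) (le_iSup V.X 4))) (sup_le (le_iSup V.X 3) (le_iSup V.X 7))

end Env

/-- **The root group system of `E` (type `U₄(q)`)** -/
theorem exists_rootSys [Finite G] [Finite F] (V : Env c G) {n : ℕ} (hn : Nat.card F = 2 ^ n)
    (h4 : 4 ≤ Nat.card F) (hc : Irr c) {E : Subgroup G} (C : Closed V E)
    (hbr : V.na * V.nb * V.na * V.nb = V.nb * V.na * V.nb * V.na) : ∃ R : RootSys 4 ↥E, R.p = 2 := by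
  have hKa : V.Ka ≤ E := by rw [C.top]; exact le_sup_right.trans le_sup_left
  have hna : V.na ∈ E := hKa V.na_mem
  have hnb : V.nb ∈ E := by rw [C.top]; exact mem_sup_right V.nb_mem
  have h0 : IsPGroup 2 V.T := V.T_two ⟨n, hn⟩
  exact ⟨(V.eight h4 hc hKa C.norm_W hbr).rootSysIn (V.iSup_X.trans C.top.symm) hna hnb Nat.prime_two
    (h0.to_le V.X0_le) (h0.to_le V.Z_le), rfl⟩

end Cfsg.Agent.StdSpFour.UFour
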