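import Cfsg.Agent.StdSpFour.UFourP
import Cfsg.Agent.StdSpFour.UFourRoot
import Cfsg.Agent.StdSpFour.CloseMain
import Cfsg.Agent.SplitTwo.QuadChar

/-!
# S1778, type Sp₄(q), target U₄(q): the end of the field case

`isLie`: `V : Env c G`, `x² + x + c` irreducible, `InE V E`, `E` simple: `E` is of Lie type in characteristic 2.
-/

set_option autoImplicit false
set_option linter.unusedSectionVars false

namespace Cfsg.Agent.StdSpFour.UFour

open Subgroup Cfsg.Agent.StdSpFour Cfsg.Agent.StdSpFour.CaseBModel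
open Cfsg.Agent.StdSpFour.CloseDefs Cfsg.Agent.StdSpFour.RootEight
open Cfsg.Agent.Lib Cfsg.Agent.Lib.GoldschmidtFusion
open Cfsg.Agent.TwoFusion.Gold (TProp)
open Cfsg.Agent.StdSpFour.CloseComp Cfsg.Agent.StdSpFour.CloseLoc
open Cfsg.Agent.StdSpFour.CloseSyl (S0506Stmt)

universe u v

variable {F : Type v} [Field F] [CharP F 2] [Finite F] {c : F} {G : Type u} [Group G] [Finite G]

/-- **the closing** -/
theorem closed (h0506 : S0506Stmt.{u}) (hZS : ZStarStmt.{u})
    (hT : ∀ (G : Type u) [Group G] [Finite G], IsSimpleGroup G → (∃ a b : G, a * b ≠ b * a) → TProp G)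
    (h1173 : S1173Stmt.{u}) (hc : Irr c) {n : ℕ} (hn : Nat.card F = 2 ^ n) (h4 : 4 ≤ Nat.card F) {V : Env c G}
    {E : Subgroup G} (hE : IsSimpleGroup E) (H : InE V E) : Closed V E where
  top := CloseMain.top (relFacts hc hn h4 H) h0506 hZS hT h1173 hE
  norm_W := fun _ hg hW hZ => CloseMain.norm_W (relFacts hc hn h4 H) h0506 hZS hT h1173 hg hW hZ

/-- **the field case** -/
theorem isLie (h0506 : S0506Stmt.{u}) (hZS : ZStarStmt.{u})
    (hT : ∀ (G : Type u) [Group G] [Finite G], IsSimpleGroup G → (∃ a b : G, a * b ≠ b * a) → TProp G)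
    (h1173 : S1173Stmt.{u}) (hc : Irr c) (h4 : 4 ≤ Nat.card F) {V : Env c G}
    {E : Subgroup G} (hE : IsSimpleGroup E) (H : InE V E)
    (hbr : V.na * V.nb * V.na * V.nb = V.nb * V.na * V.nb * V.na) : Cfsg.IsLieTypeChar 2 E := by
  obtain ⟨n, hn⟩ : ∃ n, Nat.card F = 2 ^ n := by
    have := Fintype.ofFinite F
    obtain ⟨n, -, hn⟩ := FiniteField.card F 2
    exact ⟨n, by rw [Nat.card_eq_fintype_card, hn]⟩
  obtain ⟨R, hR⟩ := exists_rootSys V hn h4 hc (closed h0506 hZS hT h1173 hc hn h4 hE H) hbr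
  have := Cfsg.Agent.SplitTwo.QuadChar.isLieTypeChar R
  rwa [hR] at this

/-- irreducible or split -/
theorem irr_or (c : F) : Irr c ∨ ∃ θ : F, θ ^ 2 + θ + c = 0 := by
  by_cases h : ∃ θ : F, θ ^ 2 + θ + c = 0
  · exact Or.inr h
  · left
    intro x hx
    exact h ⟨x, hx⟩

namespace Env

/-- the braid relation from the braid relation modulo `Cn` -/
theorem braid_of (V : Env c G) {k : G} (hk : k ∈ V.Cn)
    (h : V.na * V.nb * V.na * V.nb = V.nb * V.na * V.nb * V.na * k) :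
    V.na * V.nb * V.na * V.nb = V.nb * V.na * V.nb * V.na := by
  have ha : V.na * k = k * V.na := (V.Cn_na k hk).symm
  have hb : V.nb * k = k * V.nb := (V.Cn_nb k hk).symm
  have aa := V.na_na
  have bb := V.nb_nb
  -- conjugate by `na`
  have h1 : V.nb * V.na * V.nb * V.na = V.na * V.nb * V.na * V.nb * k := by
    calc V.nb * V.na * V.nb * V.na = (V.na * V.na) * V.nb * V.na * V.nb * V.na := by rw [aa, one_mul]
      _ = V.na * (V.na * V.nb * V.na * V.nb) * V.na := by group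
      _ = V.na * (V.nb * V.na * V.nb * V.na * k) * V.na := by rw [h]
      _ = V.na * V.nb * V.na * V.nb * (V.na * k) * V.na := by group
      _ = V.na * V.nb * V.na * V.nb * k * (V.na * V.na) := by rw [ha]; group
      _ = _ := by rw [aa, mul_one]
  have h2 : k * k = 1 := by
    rw [h1] at h
    have h3 : V.na * V.nb * V.na * V.nb = V.na * V.nb * V.na * V.nb * (k * k) := by
      rw [← mul_assoc]; exact h
    exact mul_eq_left.1 h3.symm
  rw [h, V.Cn_odd k hk h2, mul_one]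

end Env

open Cfsg.Agent.StdEven.CoreQuot

/-- the braid relation for the lifted environment -/
theorem Lifted.braid {A : Subgroup G} {t : G} {T : Subgroup G} {H : Hyp A t T} {B : Base F (XQ A t)} {V : Env c G}
    (L : Lifted H B V) (W : Weyl B) : V.na * V.nb * V.na * V.nb = V.nb * V.na * V.nb * V.na := by
  set x := V.nb * V.na * V.nb * V.na with hx
  set y := V.na * V.nb * V.na * V.nb with hy
  have hxA : x ∈ A := mul_mem (mul_mem (mul_mem L.nb_A L.na_A) L.nb_A) L.na_A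
  have hyA : y ∈ A := mul_mem (mul_mem (mul_mem L.na_A L.nb_A) L.na_A) L.nb_A
  refine V.braid_of (k := x⁻¹ * y) (L.mem_Cn (A.mul_mem (A.inv_mem hxA) hyA) ?_) (by rw [mul_inv_cancel_left])
  have h1 : pr A t ((⟨V.nb, H.A_le L.nb_A⟩ * ⟨V.na, H.A_le L.na_A⟩ * ⟨V.nb, H.A_le L.nb_A⟩ * ⟨V.na, H.A_le L.na_A⟩)⁻¹ *
      (⟨V.na, H.A_le L.na_A⟩ * ⟨V.nb, H.A_le L.nb_A⟩ * ⟨V.na, H.A_le L.na_A⟩ * ⟨V.nb, H.A_le L.nb_A⟩)) = 1 := by
    simp only [map_mul, map_inv, L.pr_na, L.pr_nb]
    rw [EnvSwap.braid' W, inv_mul_cancel]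
  exact h1

end Cfsg.Agent.StdSpFour.UFour
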