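import Cfsg.Agent.StdSpFour.UFourCount
import Mathlib.GroupTheory.Index

/-!
# S1778, type Sp₄(q), target U₄(q): the T-facts inside the model `TB c`
-/

set_option autoImplicit false

namespace Cfsg.Agent.StdSpFour.UFour

open Cfsg.Agent.StdSpFour.CaseBModel Subgroup

variable {F : Type*} [Field F] [CharP F 2]

section defs

variable (c : F)

/-- `W` -/
def TW : Subgroup (TB c) where
  carrier := {x | x.u = 0 ∧ x.v = 0}
  mul_mem' := by
    rintro x y ⟨h1, h2⟩ ⟨h3, h4⟩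
    exact ⟨by simp [h1, h3], by simp [h2, h4]⟩
  one_mem' := ⟨rfl, rfl⟩
  inv_mem' := by
    rintro x ⟨h1, h2⟩
    exact ⟨by simp [h1], by simp [h2]⟩

/-- `Q` -/
def TQ : Subgroup (TB c) where
  carrier := {x | x.s = 0}
  mul_mem' := by
    intro x y h1 h2
    show (x * y).s = 0
    have h1' : x.s = 0 := h1
    have h2' : y.s = 0 := h2
    simp [h1', h2']
  one_mem' := rfl
  inv_mem' := by
    intro x h1
    have h1' : x.s = 0 := h1
    show (x⁻¹).s = 0
    simp [h1']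

/-- `Z` -/
def TZ : Subgroup (TB c) where
  carrier := {x | x.u = 0 ∧ x.v = 0 ∧ x.s = 0 ∧ x.m = 0 ∧ x.n = 0}
  mul_mem' := by
    rintro x y ⟨h1, h2, h3, h4, h5⟩ ⟨g1, g2, g3, g4, g5⟩
    exact ⟨by simp [h1, g1], by simp [h2, g2], by simp [h3, g3], by simp [h4, g1, h3, g4], by simp [h5, g2, h3, g5]⟩
  one_mem' := ⟨rfl, rfl, rfl, rfl, rfl⟩
  inv_mem' := by
    rintro x ⟨h1, h2, h3, h4, h5⟩
    exact ⟨by simp [h1], by simp [h2], by simp [h3], by simp [h4, h3], by simp [h5, h3]⟩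

/-- `X 0 = X^_a` -/
def T0 : Subgroup (TB c) where
  carrier := {x | x.s = 0 ∧ x.m = 0 ∧ x.n = 0 ∧ x.r = 0}
  mul_mem' := by
    rintro x y ⟨h1, h2, h3, h4⟩ ⟨g1, g2, g3, g4⟩
    exact ⟨by simp [h1, g1], by simp [h1, h2, g2], by simp [h1, h3, g3], by simp [h1, h2, h3, h4, g4]⟩
  one_mem' := ⟨rfl, rfl, rfl, rfl⟩
  inv_mem' := by
    rintro x ⟨h1, h2, h3, h4⟩
    exact ⟨by simp [h1], by simp [h1, h2], by simp [h1, h3], by simp [h1, h2, h3, h4]⟩

/-- `X 2 = X^_{a+b}` -/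
def T2 : Subgroup (TB c) where
  carrier := {x | x.u = 0 ∧ x.v = 0 ∧ x.s = 0 ∧ x.r = 0}
  mul_mem' := by
    rintro x y ⟨h1, h2, h3, h4⟩ ⟨g1, g2, g3, g4⟩
    exact ⟨by simp [h1, g1], by simp [h2, g2], by simp [h3, g3], by simp [h3, h4, g1, g2, g4]⟩
  one_mem' := ⟨rfl, rfl, rfl, rfl⟩
  inv_mem' := by
    rintro x ⟨h1, h2, h3, h4⟩
    exact ⟨by simp [h1], by simp [h2], by simp [h3], by simp [h1, h2, h3, h4]⟩

/-- `X 3 = X_b` -/
def T3 : Subgroup (TB c) where
  carrier := {x | x.u = 0 ∧ x.v = 0 ∧ x.m = 0 ∧ x.n = 0 ∧ x.r = 0}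
  mul_mem' := by
    rintro x y ⟨h1, h2, h3, h4, h5⟩ ⟨g1, g2, g3, g4, g5⟩
    exact ⟨by simp [h1, g1], by simp [h2, g2], by simp [h3, g1, g3], by simp [h4, g2, g4],
      by simp [h3, h4, h5, g1, g2, g5]⟩
  one_mem' := ⟨rfl, rfl, rfl, rfl, rfl⟩
  inv_mem' := by
    rintro x ⟨h1, h2, h3, h4, h5⟩
    exact ⟨by simp [h1], by simp [h2], by simp [h1, h3], by simp [h2, h4], by simp [h1, h2, h3, h4, h5]⟩

end defs

variable {c : F}

theorem mem_TW {x : TB c} : x ∈ TW c ↔ x.u = 0 ∧ x.v = 0 := Iff.rfl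
theorem mem_TQ {x : TB c} : x ∈ TQ c ↔ x.s = 0 := Iff.rfl
theorem mem_TZ {x : TB c} : x ∈ TZ c ↔ x.u = 0 ∧ x.v = 0 ∧ x.s = 0 ∧ x.m = 0 ∧ x.n = 0 := Iff.rfl
theorem mem_T0 {x : TB c} : x ∈ T0 c ↔ x.s = 0 ∧ x.m = 0 ∧ x.n = 0 ∧ x.r = 0 := Iff.rfl
theorem mem_T2 {x : TB c} : x ∈ T2 c ↔ x.u = 0 ∧ x.v = 0 ∧ x.s = 0 ∧ x.r = 0 := Iff.rfl
theorem mem_T3 {x : TB c} : x ∈ T3 c ↔ x.u = 0 ∧ x.v = 0 ∧ x.m = 0 ∧ x.n = 0 ∧ x.r = 0 := Iff.rfl

theorem TZ_le_TW : TZ c ≤ TW c := fun _ h => ⟨h.1, h.2.1⟩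
theorem TZ_le_TQ : TZ c ≤ TQ c := fun _ h => h.2.2.1

/-! ### orders -/

theorem card_TW : Nat.card (TW c) = Nat.card F ^ 4 := by
  have e : TW c ≃ F × F × F × F := ⟨fun x => (x.1.s, x.1.m, x.1.n, x.1.r),
    fun p => ⟨⟨0, 0, p.1, p.2.1, p.2.2.1, p.2.2.2⟩, rfl, rfl⟩, by
      rintro ⟨⟨u, v, s, m, n, r⟩, h1, h2⟩
      simp only at h1 h2
      subst h1 h2
      rfl, fun _ => rfl⟩
  rw [Nat.card_congr e]
  simp only [Nat.card_prod]
  ring

theorem card_TQ : Nat.card (TQ c) = Nat.card F ^ 5 := by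
  have e : TQ c ≃ F × F × F × F × F := ⟨fun x => (x.1.u, x.1.v, x.1.m, x.1.n, x.1.r),
    fun p => ⟨⟨p.1, p.2.1, 0, p.2.2.1, p.2.2.2.1, p.2.2.2.2⟩, rfl⟩, by
      rintro ⟨⟨u, v, s, m, n, r⟩, h1⟩
      change s = 0 at h1
      subst h1
      rfl, fun _ => rfl⟩
  rw [Nat.card_congr e]
  simp only [Nat.card_prod]
  ring

theorem card_TWQ : Nat.card ↥(TW c ⊓ TQ c) = Nat.card F ^ 3 := by
  have e : ↥(TW c ⊓ TQ c) ≃ F × F × F := ⟨fun x => (x.1.m, x.1.n, x.1.r),
    fun p => ⟨⟨0, 0, 0, p.1, p.2.1, p.2.2⟩, ⟨rfl, rfl⟩, rfl⟩, by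
      rintro ⟨⟨u, v, s, m, n, r⟩, ⟨h1, h2⟩, h3⟩
      simp only at h1 h2
      change s = 0 at h3
      subst h1 h2 h3
      rfl, fun _ => rfl⟩
  rw [Nat.card_congr e]
  simp only [Nat.card_prod]
  ring

theorem card_TZ : Nat.card (TZ c) = Nat.card F := by
  have e : TZ c ≃ F := ⟨fun x => x.1.r,
    fun p => ⟨⟨0, 0, 0, 0, 0, p⟩, rfl, rfl, rfl, rfl, rfl⟩, by
      rintro ⟨⟨u, v, s, m, n, r⟩, h1, h2, h3, h4, h5⟩
      simp only at h1 h2 h3 h4 h5
      subst h1 h2 h3 h4 h5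
      rfl, fun _ => rfl⟩
  exact Nat.card_congr e

/-! ### squares -/

theorem sq_mem_TW (x : TB c) : x * x ∈ TW c := by
  rw [sq_eq]; exact ⟨rfl, rfl⟩

theorem TW_sq {w : TB c} (h : w ∈ TW c) : w * w = 1 := by
  rw [sq_eq, h.1, h.2]
  ext <;> simp [N]

theorem TQ_sq {x : TB c} (h : x ∈ TQ c) : x * x ∈ TZ c := by
  rw [sq_eq, mem_TQ.1 h, mem_TZ]
  simp

theorem sq_TZ {x : TB c} (h : x * x ∈ TZ c) : x ∈ TW c ∨ x ∈ TQ c := by
  rw [sq_eq] at h
  have h1 : x.u * x.s = 0 := h.2.2.2.1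
  have h2 : x.v * x.s = 0 := h.2.2.2.2
  by_cases hs : x.s = 0
  · exact Or.inr hs
  · exact Or.inl ⟨(mul_eq_zero.1 h1).resolve_right hs, (mul_eq_zero.1 h2).resolve_right hs⟩

theorem TW_comm {x y : TB c} (hx : x ∈ TW c) (hy : y ∈ TW c) : x * y = y * x := by
  have h1 := TW_sq (mul_mem hx hy)
  have h2 := TW_sq hx
  have h3 := TW_sq hy
  calc x * y = x * (x * y * (x * y)) * y := by rw [h1, mul_one]
    _ = (x * x) * (y * x) * (y * y) := by group
    _ = y * x := by rw [h2, h3, one_mul, mul_one]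

theorem comm_TW (x y : TB c) : x * y * x⁻¹ * y⁻¹ ∈ TW c := by
  have h2 := two_eq (F := F)
  constructor
  · simp only [mul_u, inv_u]; linear_combination (x.u + y.u) * h2
  · simp only [mul_v, inv_v]; linear_combination (x.v + y.v) * h2

theorem TZ_central {z : TB c} (hz : z ∈ TZ c) (x : TB c) : z * x = x * z := by
  obtain ⟨h1, h2, h3, h4, h5⟩ := hz
  ext
  · simp [h1]
  · simp [h2]
  · simp [h3]
  · simp [h1, h3, h4]
  · simp [h2, h3, h5]
  · simp only [mul_r, h1, h2, h3, h4, h5]; ring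

/-- commutator with an element of `Q` -/
theorem mul_q (x y : TB c) (hy : y.s = 0) : x * y = ⟨0, 0, 0, y.u * x.s, y.v * x.s,
    y.u * x.n + y.v * x.m + N c y.u y.v * x.s + (x.u * y.n + x.v * y.m) +
      ((x.u + y.u) * (y.v * x.s) + (x.v + y.v) * (y.u * x.s))⟩ * (y * x) := by
  have h2 := two_eq (F := F)
  ext
  · simp only [mul_u]; ring
  · simp only [mul_v]; ring
  · simp only [mul_s]; ring
  · simp only [mul_m, mul_u, hy]; ring
  · simp only [mul_n, mul_v, hy]; ring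
  · simp only [mul_r, mul_u, mul_v, hy, N]
    linear_combination (-(y.u * y.v * x.s) - x.u * y.n - x.v * y.m - y.u * x.v * x.s - y.v * x.u * x.s - y.u * y.v * x.s) * h2

theorem comm_q (x y : TB c) (hy : y.s = 0) : x * y * x⁻¹ * y⁻¹ = ⟨0, 0, 0, y.u * x.s, y.v * x.s,
    y.u * x.n + y.v * x.m + N c y.u y.v * x.s + (x.u * y.n + x.v * y.m) +
      ((x.u + y.u) * (y.v * x.s) + (x.v + y.v) * (y.u * x.s))⟩ := by
  rw [mul_q x y hy]; group

theorem comm_w (x : TB c) (s m n r : F) : x * ⟨0, 0, s, m, n, r⟩ * x⁻¹ * (⟨0, 0, s, m, n, r⟩ : TB c)⁻¹ =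
    ⟨0, 0, 0, x.u * s, x.v * s, (x.u * n + x.v * m) + N c x.u x.v * s⟩ := by
  have h2 := two_eq (F := F)
  rw [conj_w]
  ext
  · simp
  · simp
  · simp only [mul_s, inv_s]; linear_combination s * h2
  · simp only [mul_m, inv_m, inv_u]; linear_combination m * h2
  · simp only [mul_n, inv_n, inv_v]; linear_combination n * h2
  · simp only [mul_r, inv_r, inv_u, inv_v]; linear_combination r * h2

/-! ### the facts -/

theorem inv_T' {x : TB c} (h : x * x = 1) : x ∈ TW c ∨ x ∈ TQ c := sq_TZ (by rw [h]; exact one_mem _)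

theorem S0_Q {x : TB c} (hc : Irr c) (h : x ∈ S0 c) (h' : x ∈ TQ c) : x ∈ TZ c := by
  obtain ⟨h1, h2, h3, -⟩ := h
  rw [mem_TQ] at h'
  rw [h', zero_mul] at h3
  obtain ⟨h4, h5⟩ := N_eq_zero hc h3.symm
  exact ⟨h1, h2, h', h4, h5⟩

theorem TZ_S0 {x : TB c} (h : x ∈ TZ c) (h1 : x ≠ 1) : x ∈ S0 c := by
  refine ⟨h.1, h.2.1, ?_, h1⟩
  rw [h.2.2.1, h.2.2.2.1, h.2.2.2.2, N_zero, zero_mul]

theorem Q_cent' {x : TB c} (h : ∀ y ∈ TQ c, x * y = y * x) : x ∈ TZ c := by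
  have key : ∀ y : TB c, y.s = 0 → (y.u * x.s = 0 ∧ y.v * x.s = 0 ∧
      y.u * x.n + y.v * x.m + N c y.u y.v * x.s + (x.u * y.n + x.v * y.m) +
      ((x.u + y.u) * (y.v * x.s) + (x.v + y.v) * (y.u * x.s)) = 0) := by
    intro y hy
    have h1 := comm_q x y hy
    rw [h y hy] at h1
    have h2 : y * x * x⁻¹ * y⁻¹ = 1 := by group
    rw [h2] at h1
    exact ⟨(congrArg TB.m h1).symm, (congrArg TB.n h1).symm, (congrArg TB.r h1).symm⟩
  have k1 := key ⟨1, 0, 0, 0, 0, 0⟩ rfl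
  have k2 := key ⟨0, 1, 0, 0, 0, 0⟩ rfl
  have k3 := key ⟨0, 0, 0, 1, 0, 0⟩ rfl
  have k4 := key ⟨0, 0, 0, 0, 1, 0⟩ rfl
  simp only at k1 k2 k3 k4
  have hs : x.s = 0 := by rw [← k1.1, one_mul]
  refine ⟨?_, ?_, hs, ?_, ?_⟩
  · have := k4.2.2; rw [hs] at this; linear_combination this
  · have := k3.2.2; rw [hs] at this; linear_combination this
  · have := k2.2.2; rw [hs] at this; linear_combination this
  · have := k1.2.2; rw [hs] at this; linear_combination this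

theorem Q_cent_mod' {x : TB c} (h : ∀ y ∈ TQ c, x * y * x⁻¹ * y⁻¹ ∈ TZ c) : x ∈ TQ c := by
  have h1 := h ⟨1, 0, 0, 0, 0, 0⟩ rfl
  rw [comm_q _ _ rfl] at h1
  have h2 := h1.2.2.2.1
  simp only at h2
  rw [mem_TQ]
  linear_combination h2

theorem Q_pair' {d : TB c} (hd : d ∈ TQ c) (h : d ∉ TZ c) {z : TB c} (hz : z ∈ TZ c) :
    ∃ e ∈ TQ c, d * e * d⁻¹ * e⁻¹ = z := by
  have hs : d.s = 0 := hd
  have key : ∀ e : TB c, e.s = 0 → d.u * e.n + d.v * e.m + (e.u * d.n + e.v * d.m) = z.r →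
      ∃ e ∈ TQ c, d * e * d⁻¹ * e⁻¹ = z := by
    intro e he h1
    refine ⟨e, he, ?_⟩
    rw [comm_q d e he, hs]
    obtain ⟨g1, g2, g3, g4, g5⟩ := hz
    ext
    · exact g1.symm
    · exact g2.symm
    · exact g3.symm
    · simp only [mul_zero]; exact g4.symm
    · simp only [mul_zero]; exact g5.symm
    · simp only [mul_zero]; linear_combination h1
  by_cases h1 : d.u = 0
  · by_cases h2 : d.v = 0
    · by_cases h3 : d.m = 0
      · by_cases h4 : d.n = 0
        · exact absurd ⟨h1, h2, hs, h3, h4⟩ h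
        · refine key ⟨z.r / d.n, 0, 0, 0, 0, 0⟩ rfl ?_
          simp only
          field_simp
          ring
      · refine key ⟨0, z.r / d.m, 0, 0, 0, 0⟩ rfl ?_
        simp only
        field_simp
        ring
    · refine key ⟨0, 0, 0, z.r / d.v, 0, 0⟩ rfl ?_
      simp only
      field_simp
      ring
  · refine key ⟨0, 0, 0, 0, z.r / d.u, 0⟩ rfl ?_
    simp only
    field_simp
    ring

theorem four' {y : TB c} (h : y ∉ TQ c) (h' : y * y ∈ TZ c) : ∃ z ∈ TZ c, y * z ∈ S0 c := by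
  rcases sq_TZ h' with hw | hw
  · have hs : y.s ≠ 0 := h
    refine ⟨⟨0, 0, 0, 0, 0, y.r + N c y.m y.n / y.s⟩, ⟨rfl, rfl, rfl, rfl, rfl⟩, ?_, ?_, ?_, ?_⟩
    · simp [hw.1]
    · simp [hw.2]
    · simp only [mul_s, mul_r, mul_m, mul_n, N]
      field_simp
      linear_combination (y.s ^ 2 * y.r) * two_eq (F := F)
    · intro h1
      have := congrArg TB.s h1
      simp only [mul_s, one_s, add_zero] at this
      exact hs this
  · exact absurd hw h

theorem TQ_onto' {x : TB c} (h : x ∉ TQ c) {w : TB c} (hw : w ∈ TW c) (hw' : w ∈ TQ c) :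
    ∃ y ∈ TQ c, ∃ z ∈ TZ c, w = x * y * x⁻¹ * y⁻¹ * z := by
  have hs : x.s ≠ 0 := h
  have h3 : (x * ⟨w.m / x.s, w.n / x.s, 0, 0, 0, 0⟩ * x⁻¹ * (⟨w.m / x.s, w.n / x.s, 0, 0, 0, 0⟩ : TB c)⁻¹)⁻¹ * w
      ∈ TZ c := by
    rw [comm_q _ _ rfl]
    obtain ⟨h1, h2⟩ := hw
    have h4 : w.s = 0 := hw'
    refine ⟨?_, ?_, ?_, ?_, ?_⟩
    · simp [h1]
    · simp [h2]
    · simp [h4]
    · simp only [mul_m, inv_m, inv_s, h1]
      field_simp
      linear_combination w.m * two_eq (F := F)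
    · simp only [mul_n, inv_n, inv_s, h2]
      field_simp
      linear_combination w.n * two_eq (F := F)
  exact ⟨⟨w.m / x.s, w.n / x.s, 0, 0, 0, 0⟩, rfl, _, h3, by rw [mul_inv_cancel_left]⟩

theorem eq_TQ [Finite F] {U : Subgroup (TB c)} (h : ∀ x ∈ U, x * x ∈ TZ c) (hU : Nat.card U = Nat.card F ^ 5) :
    U = TQ c := by
  have hq : 1 < Nat.card F := Finite.one_lt_card
  have h1 : U ≤ TQ c := by
    intro x hx
    by_contra hs
    have h2 : U ≤ TW c := by
      intro y hy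
      rcases sq_TZ (h y hy) with h3 | h3
      · exact h3
      · have h4 : x ∈ TW c := (sq_TZ (h x hx)).resolve_right hs
        have h5 : x * y ∈ TW c := by
          refine (sq_TZ (h _ (mul_mem hx hy))).resolve_right ?_
          intro h6
          apply hs
          have := mul_mem h6 (inv_mem h3)
          rwa [mul_inv_cancel_right] at this
        have := mul_mem (inv_mem h4) h5
        rwa [inv_mul_cancel_left] at this
    have h3 := Subgroup.card_le_of_le h2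
    rw [hU, card_TW] at h3
    exact absurd h3 (not_le.2 (Nat.pow_lt_pow_right hq (by norm_num)))
  exact Subgroup.eq_of_le_of_card_ge h1 (by rw [hU, card_TQ])

/-- the hom to the coordinates `λ` -/
def lam (c : F) : TB c →* Multiplicative (F × F) where
  toFun x := Multiplicative.ofAdd (x.u, x.v)
  map_one' := rfl
  map_mul' _ _ := rfl

theorem mem_ker_lam {x : TB c} : x ∈ (lam c).ker ↔ x ∈ TW c := by
  rw [MonoidHom.mem_ker, mem_TW]
  constructor
  · intro h
    have h' : (x.u, x.v) = (0, 0) := h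
    exact ⟨congrArg Prod.fst h', congrArg Prod.snd h'⟩
  · rintro ⟨h1, h2⟩
    show Multiplicative.ofAdd (x.u, x.v) = 1
    rw [h1, h2]; rfl

theorem card_eq (U : Subgroup (TB c)) [Finite F] : Nat.card U = Nat.card ↥(U ⊓ TW c) * Nat.card (U.map (lam c)) := by
  have h1 := Subgroup.card_mul_index ((lam c).comp U.subtype).ker
  rw [Subgroup.index_ker] at h1
  rw [← h1]
  congr 1
  · refine Nat.card_congr ⟨fun x => ⟨x.1.1, x.1.2, mem_ker_lam.1 (x.2)⟩, fun x => ⟨⟨x.1, x.2.1⟩, ?_⟩, ?_, ?_⟩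
    · exact mem_ker_lam.2 x.2.2
    · intro x; rfl
    · intro x; rfl
  · rw [MonoidHom.range_comp, Subgroup.range_subtype]

theorem eq_TW [Finite F] (h4 : 4 ≤ Nat.card F) {U : Subgroup (TB c)} (h : ∀ x ∈ U, x * x = 1)
    (hU : Nat.card U = Nat.card F ^ 4) : U = TW c := by
  have hq : 1 < Nat.card F := by omega
  by_cases hw : U ≤ TW c
  · exact Subgroup.eq_of_le_of_card_ge hw (by rw [hU, card_TW])
  · exfalso
    have hcomm : ∀ x ∈ U, ∀ y ∈ U, x * y = y * x := by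
      intro x hx y hy
      have h1 := h _ (mul_mem hx hy)
      calc x * y = x * (x * y * (x * y)) * y := by rw [h1, mul_one]
        _ = (x * x) * (y * x) * (y * y) := by group
        _ = y * x := by rw [h x hx, h y hy, one_mul, mul_one]
    -- centralised elements of `W`
    have hcw : ∀ x ∈ U, (x.u ≠ 0 ∨ x.v ≠ 0) → ∀ w ∈ U ⊓ TW c, w.s = 0 ∧ x.u * w.n + x.v * w.m = 0 := by
      rintro x hx hx' w ⟨hw1, hw2⟩
      have h1 := hcomm x hx w hw1
      obtain ⟨u, v, s, m, n, r⟩ := w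
      obtain ⟨e1, e2⟩ := hw2
      simp only at e1 e2
      subst e1 e2
      have h2 := comm_w x s m n r
      rw [h1] at h2
      have h3 : (⟨0, 0, s, m, n, r⟩ : TB c) * x * x⁻¹ * (⟨0, 0, s, m, n, r⟩ : TB c)⁻¹ = 1 := by group
      rw [h3] at h2
      have k1 : x.u * s = 0 := (congrArg TB.m h2).symm
      have k2 : x.v * s = 0 := (congrArg TB.n h2).symm
      have k3 : x.u * n + x.v * m + N c x.u x.v * s = 0 := (congrArg TB.r h2).symm
      have hs : s = 0 := by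
        rcases hx' with h5 | h5
        · exact (mul_eq_zero.1 k1).resolve_left h5
        · exact (mul_eq_zero.1 k2).resolve_left h5
      refine ⟨hs, ?_⟩
      simp only
      rw [hs, mul_zero, add_zero] at k3
      exact k3
    have hex : ∃ x ∈ U, x.u ≠ 0 ∨ x.v ≠ 0 := by
      by_contra hcon
      push Not at hcon
      exact hw fun x hx => hcon x hx
    obtain ⟨x, hx, hx'⟩ := hex
    have h1 := card_eq U
    have h2 : Nat.card ↥(U ⊓ TW c) ≤ Nat.card F ^ 2 := by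
      have hb := hcw x hx hx'
      rw [sq, ← Nat.card_prod]
      rcases hx' with h5 | h5
      · refine Nat.card_le_card_of_injective (fun w => (w.1.m, w.1.r)) ?_
        rintro ⟨w, hw⟩ ⟨w', hw'⟩ he
        obtain ⟨e1, e2⟩ := Prod.mk.inj he
        simp only at e1 e2
        obtain ⟨b1, b2⟩ := hb w hw
        obtain ⟨b1', b2'⟩ := hb w' hw'
        apply Subtype.ext
        ext
        · exact hw.2.1.trans hw'.2.1.symm
        · exact hw.2.2.trans hw'.2.2.symm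
        · exact b1.trans b1'.symm
        · exact e1
        · simp only
          rw [e1] at b2
          exact mul_left_cancel₀ h5 (by linear_combination b2 - b2')
        · exact e2
      · refine Nat.card_le_card_of_injective (fun w => (w.1.n, w.1.r)) ?_
        rintro ⟨w, hw⟩ ⟨w', hw'⟩ he
        obtain ⟨e1, e2⟩ := Prod.mk.inj he
        simp only at e1 e2
        obtain ⟨b1, b2⟩ := hb w hw
        obtain ⟨b1', b2'⟩ := hb w' hw'
        apply Subtype.ext
        ext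
        · exact hw.2.1.trans hw'.2.1.symm
        · exact hw.2.2.trans hw'.2.2.symm
        · exact b1.trans b1'.symm
        · simp only
          rw [e1] at b2
          exact mul_left_cancel₀ h5 (by linear_combination b2 - b2')
        · exact e1
        · exact e2
    have h3 : Nat.card (U.map (lam c)) ≤ Nat.card F ^ 2 := by
      have := Subgroup.card_le_card_group (U.map (lam c))
      rwa [show Nat.card (Multiplicative (F × F)) = Nat.card F ^ 2 by
        rw [sq, ← Nat.card_prod]; rfl] at this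
    have h5 : Nat.card (U.map (lam c)) = Nat.card F ^ 2 := by
      apply le_antisymm h3
      rw [h1] at hU
      by_contra hlt
      push Not at hlt
      have h6 : Nat.card ↥(U ⊓ TW c) * Nat.card (U.map (lam c)) < Nat.card F ^ 2 * Nat.card F ^ 2 :=
        Nat.mul_lt_mul_of_le_of_lt h2 hlt (by positivity)
      rw [hU] at h6
      have : Nat.card F ^ 2 * Nat.card F ^ 2 = Nat.card F ^ 4 := by ring
      omega
    have h6 : U.map (lam c) = ⊤ := by
      apply Subgroup.eq_top_of_card_eq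
      rw [h5, show Nat.card (Multiplicative (F × F)) = Nat.card F ^ 2 by
        rw [sq, ← Nat.card_prod]; rfl]
    have h7 : ∀ a b : F, ∃ x ∈ U, x.u = a ∧ x.v = b := by
      intro a b
      have : Multiplicative.ofAdd (a, b) ∈ U.map (lam c) := by rw [h6]; trivial
      obtain ⟨x, hx, he⟩ := this
      have he' : (x.u, x.v) = (a, b) := he
      exact ⟨x, hx, congrArg Prod.fst he', congrArg Prod.snd he'⟩
    obtain ⟨x1, hx1, a1, b1⟩ := h7 1 0
    obtain ⟨x2, hx2, a2, b2⟩ := h7 0 1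
    have h8 : U ⊓ TW c ≤ TZ c := by
      intro w hw
      obtain ⟨g1, g2⟩ := hcw x1 hx1 (Or.inl (by rw [a1]; exact one_ne_zero)) w hw
      obtain ⟨-, g3⟩ := hcw x2 hx2 (Or.inr (by rw [b2]; exact one_ne_zero)) w hw
      rw [a1, b1] at g2
      rw [a2, b2] at g3
      exact ⟨hw.2.1, hw.2.2, g1, by linear_combination g3, by linear_combination g2⟩
    have h9 := Subgroup.card_le_of_le h8
    rw [card_TZ] at h9
    rw [h1, h5] at hU
    have h10 : Nat.card ↥(U ⊓ TW c) * Nat.card F ^ 2 ≤ Nat.card F * Nat.card F ^ 2 := Nat.mul_le_mul_right _ h9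
    rw [hU] at h10
    have h11 : Nat.card F * Nat.card F ^ 2 = Nat.card F ^ 3 := by ring
    rw [h11] at h10
    exact absurd h10 (not_le.2 (Nat.pow_lt_pow_right hq (by norm_num)))

/-- hyperplanes -/
theorem card_hyp [Finite F] (h4 : 4 ≤ Nat.card F) {B : Subgroup (TB c)} (hB : 2 * Nat.card B = Nat.card F ^ 6)
    {m n : F} (h : ∀ x ∈ B, x.u * n + x.v * m = 0) : m = 0 ∧ n = 0 := by
  by_contra hcon
  have h1 : Nat.card B ≤ Nat.card F ^ 5 := by
    have e : Nat.card F ^ 5 = Nat.card (F × F × F × F × F) := by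
      simp only [Nat.card_prod]; ring
    rw [e]
    by_cases hn : n = 0
    · have hm : m ≠ 0 := fun hm => hcon ⟨hm, hn⟩
      refine Nat.card_le_card_of_injective (fun x => (x.1.u, x.1.s, x.1.m, x.1.n, x.1.r)) ?_
      rintro ⟨x, hx⟩ ⟨y, hy⟩ he
      simp only [Prod.mk.injEq] at he
      obtain ⟨e1, e2, e3, e4, e5⟩ := he
      apply Subtype.ext
      have g1 := h x hx
      have g2 := h y hy
      rw [e1] at g1
      ext
      · exact e1
      · exact mul_right_cancel₀ hm (by linear_combination g1 - g2)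
      · exact e2
      · exact e3
      · exact e4
      · exact e5
    · refine Nat.card_le_card_of_injective (fun x => (x.1.v, x.1.s, x.1.m, x.1.n, x.1.r)) ?_
      rintro ⟨x, hx⟩ ⟨y, hy⟩ he
      simp only [Prod.mk.injEq] at he
      obtain ⟨e1, e2, e3, e4, e5⟩ := he
      apply Subtype.ext
      have g1 := h x hx
      have g2 := h y hy
      rw [e1] at g1
      ext
      · exact mul_right_cancel₀ hn (by linear_combination g1 - g2)
      · exact e1
      · exact e2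
      · exact e3
      · exact e4
      · exact e5
  have h2 : 0 < Nat.card F ^ 5 := by positivity
  have h3 : Nat.card F ^ 6 = Nat.card F ^ 5 * Nat.card F := by ring
  have h5 : Nat.card F ^ 5 * 4 ≤ Nat.card F ^ 5 * Nat.card F := Nat.mul_le_mul_left _ h4
  omega

theorem hyp_u [Finite F] (h4 : 4 ≤ Nat.card F) {B : Subgroup (TB c)} (hB : 2 * Nat.card B = Nat.card F ^ 6) {s : F}
    (h : ∀ x ∈ B, x.u * s = 0) : s = 0 :=
  (card_hyp h4 hB (m := 0) (n := s) (fun x hx => by rw [mul_zero, add_zero]; exact h x hx)).2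

end Cfsg.Agent.StdSpFour.UFour
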