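import Cfsg.Agent.StdSpFour.UFourEnv
import Mathlib.GroupTheory.Sylow

/-!
# S1778, type Sp₄(q), target U₄(q): the subgroups of `G`, the torus of `Ka` in `N_E(T)`
-/

set_option autoImplicit false
set_option linter.unusedSectionVars false

namespace Cfsg.Agent.StdSpFour.UFour

open Cfsg.Agent.StdSpFour.CaseBModel Subgroup Cfsg.Agent.StdSpFour.RootEight
open scoped Pointwise

/-- elements acting on `W` as an element of `T` -/
def actAs {G : Type*} [Group G] (E T : Subgroup G) (W : Subgroup G) (hW : ∀ x ∈ T, ∀ w ∈ W, cg x w ∈ W) : Subgroup G where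
  carrier := {g | g ∈ E ∧ ∃ x ∈ T, ∀ w ∈ W, cg g w = cg x w}
  mul_mem' := by
    rintro g g' ⟨h1, x, hx, h2⟩ ⟨h1', x', hx', h2'⟩
    refine ⟨mul_mem h1 h1', x * x', mul_mem hx hx', fun w hw => ?_⟩
    rw [cg_comp, cg_comp, h2' w hw, h2 _ (hW x' hx' w hw)]
  one_mem' := ⟨one_mem _, 1, one_mem _, fun w hw => rfl⟩
  inv_mem' := by
    rintro g ⟨h1, x, hx, h2⟩
    refine ⟨inv_mem h1, x⁻¹, inv_mem hx, fun w hw => ?_⟩
    apply cg_inj (g := g)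
    rw [cg_cg_inv, h2 _ (hW _ (inv_mem hx) w hw), cg_cg_inv]

/-- Frattini: an element of `E` which normalises `W` and the image of `T` in `Aut W` may be corrected by `C_E(W)` so
that it normalises `T`. -/
theorem exists_norm {G : Type*} [Group G] [Finite G] {E T W : Subgroup G} (hT : IsPGroup 2 T) (hTE : T ≤ E)
    (syl : ¬ 2 ∣ T.relIndex E) (hW : ∀ x ∈ T, ∀ w ∈ W, cg x w ∈ W) {g0 : G} (hg : g0 ∈ E)
    (hg0 : ∀ x ∈ T, ∃ y ∈ T, ∀ w ∈ W, cg (cg g0 x) w = cg y w) :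
    ∃ k ∈ E, (∀ w ∈ W, cg k w = w) ∧ ∀ x ∈ T, cg (k * g0) x ∈ T := by
  have hp : Fact (Nat.Prime 2) := ⟨Nat.prime_two⟩
  set Y := actAs E T W hW with hY
  have hTY : T ≤ Y := fun x hx => ⟨hTE hx, x, hx, fun _ _ => rfl⟩
  have hYE : Y ≤ E := fun x hx => hx.1
  have hTY' : cjS g0 T ≤ Y := by
    rintro _ ⟨x, hx, rfl⟩
    obtain ⟨y, hy, h⟩ := hg0 x hx
    exact ⟨mul_mem (mul_mem hg (hTE hx)) (inv_mem hg), y, hy, h⟩
  have h1 : ¬ 2 ∣ (T.subgroupOf Y).index := by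
    intro h
    apply syl
    have h2 : T.relIndex Y * Y.relIndex E = T.relIndex E := Subgroup.relIndex_mul_relIndex T Y E hTY hYE
    rw [← h2]
    exact Dvd.dvd.mul_right h _
  have hT1 : IsPGroup 2 (T.subgroupOf Y) := hT.comap_subtype
  have hT2 : IsPGroup 2 ((cjS g0 T).subgroupOf Y) := (hT.map (MulAut.conj g0).toMonoidHom).comap_subtype
  obtain ⟨P2, hP2⟩ := hT2.exists_le_sylow
  obtain ⟨y, hy⟩ := MulAction.exists_smul_eq Y P2 (hT1.toSylow h1)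
  have h3 : ∀ x ∈ T, (y : G) * (g0 * x * g0⁻¹) * (y : G)⁻¹ ∈ T := by
    intro x hx
    have h4 : g0 * x * g0⁻¹ ∈ cjS g0 T := ⟨x, hx, rfl⟩
    have h5 : (⟨g0 * x * g0⁻¹, hTY' h4⟩ : Y) ∈ P2 := hP2 (mem_subgroupOf.2 h4)
    have h6 : MulAut.conj y • (⟨g0 * x * g0⁻¹, hTY' h4⟩ : Y) ∈ (MulAut.conj y • (P2 : Subgroup Y)) :=
      Subgroup.smul_mem_pointwise_smul _ _ _ h5
    rw [← Sylow.coe_subgroup_smul, hy] at h6
    exact h6
  obtain ⟨h4, x, hx, h5⟩ := y.2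
  refine ⟨x⁻¹ * y, mul_mem (inv_mem (hTE hx)) h4, fun w hw => ?_, fun z hz => ?_⟩
  · rw [cg_comp, h5 w hw, cg_inv_cg]
  · have h6 := mul_mem (mul_mem (inv_mem hx) (h3 z hz)) hx
    have e : cg (x⁻¹ * (y : G) * g0) z = x⁻¹ * ((y : G) * (g0 * z * g0⁻¹) * (y : G)⁻¹) * x := by
      simp only [cg]; group
    rw [e]
    exact h6

namespace Env

variable {F G : Type*} [Field F] [CharP F 2] {c : F} [Group G] (V : Env c G)

/-! ### the subgroups -/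

/-- `T` -/
def T : Subgroup G := V.f.range
/-- `W` -/
def W : Subgroup G := (TW c).map V.f
/-- `Q` -/
def Q : Subgroup G := (TQ c).map V.f
/-- `Z` -/
def Z : Subgroup G := (TZ c).map V.f
/-- `X^_a` -/
def X0 : Subgroup G := (T0 c).map V.f
/-- `X^_{a+b}` -/
def X2 : Subgroup G := (T2 c).map V.f
/-- `X_b` -/
def X3 : Subgroup G := (T3 c).map V.f
/-- `X^_{-a}` -/
def X4 : Subgroup G := cjS V.na V.X0
/-- `X_{-b}` -/
def X7 : Subgroup G := cjS V.nb V.X3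
/-- `⟨X^_a, X^_{-a}⟩` -/
def Ka : Subgroup G := V.X0 ⊔ V.X4
/-- `⟨X_b, X_{-b}⟩` -/
def Kb : Subgroup G := V.X3 ⊔ V.X7
/-- the rank one elements -/
def S : Set G := V.f '' S0 c

theorem f_T (x : TB c) : V.f x ∈ V.T := ⟨x, rfl⟩

theorem f_W {x : TB c} : V.f x ∈ V.W ↔ x.u = 0 ∧ x.v = 0 := by
  constructor
  · rintro ⟨y, hy, e⟩
    rw [← V.inj e]; exact hy
  · exact fun h => ⟨x, h, rfl⟩

theorem f_Q {x : TB c} : V.f x ∈ V.Q ↔ x.s = 0 := by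
  constructor
  · rintro ⟨y, hy, e⟩
    rw [← V.inj e]; exact hy
  · exact fun h => ⟨x, h, rfl⟩

theorem f_Z {x : TB c} : V.f x ∈ V.Z ↔ x ∈ TZ c := by
  constructor
  · rintro ⟨y, hy, e⟩
    rw [← V.inj e]; exact hy
  · exact fun h => ⟨x, h, rfl⟩

theorem f_X0 {x : TB c} : V.f x ∈ V.X0 ↔ x ∈ T0 c := by
  constructor
  · rintro ⟨y, hy, e⟩
    rw [← V.inj e]; exact hy
  · exact fun h => ⟨x, h, rfl⟩

theorem f_X2 {x : TB c} : V.f x ∈ V.X2 ↔ x ∈ T2 c := by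
  constructor
  · rintro ⟨y, hy, e⟩
    rw [← V.inj e]; exact hy
  · exact fun h => ⟨x, h, rfl⟩

theorem f_X3 {x : TB c} : V.f x ∈ V.X3 ↔ x ∈ T3 c := by
  constructor
  · rintro ⟨y, hy, e⟩
    rw [← V.inj e]; exact hy
  · exact fun h => ⟨x, h, rfl⟩

theorem f_S {x : TB c} : V.f x ∈ V.S ↔ x ∈ S0 c := by
  constructor
  · rintro ⟨y, hy, e⟩
    rw [← V.inj e]; exact hy
  · exact fun h => ⟨x, h, rfl⟩

theorem mem_W {x : G} (h : x ∈ V.W) : ∃ s m n r, x = V.f ⟨0, 0, s, m, n, r⟩ := by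
  obtain ⟨⟨u, v, s, m, n, r⟩, ⟨h1, h2⟩, rfl⟩ := h
  simp only at h1 h2
  subst h1 h2
  exact ⟨s, m, n, r, rfl⟩

theorem mem_Q {x : G} (h : x ∈ V.Q) : ∃ u v m n r, x = V.f ⟨u, v, 0, m, n, r⟩ := by
  obtain ⟨⟨u, v, s, m, n, r⟩, h1, rfl⟩ := h
  change s = 0 at h1
  subst h1
  exact ⟨u, v, m, n, r, rfl⟩

theorem mem_Z {x : G} (h : x ∈ V.Z) : ∃ r, x = V.f ⟨0, 0, 0, 0, 0, r⟩ := by
  obtain ⟨⟨u, v, s, m, n, r⟩, ⟨h1, h2, h3, h4, h5⟩, rfl⟩ := h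
  simp only at h1 h2 h3 h4 h5
  subst h1 h2 h3 h4 h5
  exact ⟨r, rfl⟩

theorem mem_X0 {x : G} (h : x ∈ V.X0) : ∃ u v, x = V.f ⟨u, v, 0, 0, 0, 0⟩ := by
  obtain ⟨⟨u, v, s, m, n, r⟩, ⟨h1, h2, h3, h4⟩, rfl⟩ := h
  simp only at h1 h2 h3 h4
  subst h1 h2 h3 h4
  exact ⟨u, v, rfl⟩

theorem mem_X2 {x : G} (h : x ∈ V.X2) : ∃ m n, x = V.f ⟨0, 0, 0, m, n, 0⟩ := by
  obtain ⟨⟨u, v, s, m, n, r⟩, ⟨h1, h2, h3, h4⟩, rfl⟩ := h
  simp only at h1 h2 h3 h4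
  subst h1 h2 h3 h4
  exact ⟨m, n, rfl⟩

theorem mem_X3 {x : G} (h : x ∈ V.X3) : ∃ s, x = V.f ⟨0, 0, s, 0, 0, 0⟩ := by
  obtain ⟨⟨u, v, s, m, n, r⟩, ⟨h1, h2, h3, h4, h5⟩, rfl⟩ := h
  simp only at h1 h2 h3 h4 h5
  subst h1 h2 h3 h4 h5
  exact ⟨s, rfl⟩

theorem W_le : V.W ≤ V.T := by rintro _ ⟨x, -, rfl⟩; exact V.f_T x
theorem Q_le : V.Q ≤ V.T := by rintro _ ⟨x, -, rfl⟩; exact V.f_T x
theorem X0_le : V.X0 ≤ V.T := by rintro _ ⟨x, -, rfl⟩; exact V.f_T x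
theorem X2_le : V.X2 ≤ V.T := by rintro _ ⟨x, -, rfl⟩; exact V.f_T x
theorem X3_le : V.X3 ≤ V.T := by rintro _ ⟨x, -, rfl⟩; exact V.f_T x
theorem Z_le_W : V.Z ≤ V.W := Subgroup.map_mono TZ_le_TW
theorem Z_le_Q : V.Z ≤ V.Q := Subgroup.map_mono TZ_le_TQ
theorem Z_le : V.Z ≤ V.T := V.Z_le_W.trans V.W_le

theorem card_T [Finite F] : Nat.card V.T = Nat.card F ^ 6 := by
  rw [← card_TB (c := c)]
  exact (Nat.card_congr (MonoidHom.ofInjective V.inj).toEquiv).symm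

theorem card_W : Nat.card V.W = Nat.card F ^ 4 := by
  rw [W, Subgroup.card_map_of_injective V.inj, card_TW]

theorem card_Q : Nat.card V.Q = Nat.card F ^ 5 := by
  rw [Q, Subgroup.card_map_of_injective V.inj, card_TQ]

theorem card_Z : Nat.card V.Z = Nat.card F := by
  rw [Z, Subgroup.card_map_of_injective V.inj, card_TZ]

theorem card_WQ : Nat.card ↥(V.W ⊓ V.Q) = Nat.card F ^ 3 := by
  rw [W, Q, ← Subgroup.map_inf _ _ _ V.inj, Subgroup.card_map_of_injective V.inj, card_TWQ]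

/-- pull back a subgroup of `T` -/
theorem pull {U : Subgroup G} (h : U ≤ V.T) : (U.comap V.f).map V.f = U := Subgroup.map_comap_eq_self h

theorem card_pull {U : Subgroup G} (h : U ≤ V.T) : Nat.card (U.comap V.f) = Nat.card U := by
  conv_rhs => rw [← V.pull h]
  rw [Subgroup.card_map_of_injective V.inj]

/-! ### the torus of `Ka` inside `N_E(T)` -/

theorem T_two [Finite F] (hq : ∃ k, Nat.card F = 2 ^ k) : IsPGroup 2 V.T := by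
  obtain ⟨k, hk⟩ := hq
  apply IsPGroup.of_card (n := k * 6)
  rw [V.card_T, hk, ← pow_mul]

theorem T_normal_W (x : G) (hx : x ∈ V.T) (w : G) (hw : w ∈ V.W) : cg x w ∈ V.W := by
  obtain ⟨x, rfl⟩ := hx
  obtain ⟨s, m, n, r, rfl⟩ := V.mem_W hw
  rw [V.a_w]
  exact V.f_W.2 ⟨rfl, rfl⟩

/-- the torus element `κ = (u,v)` of `Ka`, corrected so that it normalises `T` -/
theorem exists_torus [Finite G] [Finite F] {E : Subgroup G} (hq : ∃ k, Nat.card F = 2 ^ k) (hTE : V.T ≤ E)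
    (syl : ¬ 2 ∣ V.T.relIndex E) (hna : V.na ∈ E) {u v i : F} (hi : i * N c u v = 1) :
    ∃ g ∈ E, (∀ x ∈ V.T, cg g x ∈ V.T) ∧ (∀ s m n r, cg g (V.f ⟨0, 0, s, m, n, r⟩) =
      V.f ⟨0, 0, i * s, i * ((u ^ 2 + c * v ^ 2) * m + c * v ^ 2 * n),
      i * ((u ^ 2 + c * v ^ 2) * n + v ^ 2 * m + v ^ 2 * n), N c u v * r⟩) := by
  have hE : ∀ x, V.f x ∈ E := fun x => hTE (V.f_T x)
  have hg : V.g0 u v i ∈ E := mul_mem (mul_mem (mul_mem (hE _) (mul_mem (mul_mem hna (hE _)) (inv_mem hna))) (hE _)) hna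
  have hN : N c u v ≠ 0 := right_ne_zero_of_mul_eq_one hi
  have hi0 : i ≠ 0 := left_ne_zero_of_mul_eq_one hi
  -- `g0` is onto on `W`
  have hw : ∀ w ∈ V.W, ∃ w' ∈ V.W, cg (V.g0 u v i) w' = w := by
    have h1 : cjS (V.g0 u v i) V.W ≤ V.W := by
      rintro _ ⟨w, hw, rfl⟩
      obtain ⟨s, m, n, r, rfl⟩ := V.mem_W hw
      show cg (V.g0 u v i) _ ∈ _
      rw [V.g0_w hi]
      exact V.f_W.2 ⟨rfl, rfl⟩
    have h2 : cjS (V.g0 u v i) V.W = V.W := Subgroup.eq_of_le_of_card_ge h1 (by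
      rw [Subgroup.card_map_of_injective (MulAut.conj _).injective])
    intro w hw
    rw [← h2] at hw
    obtain ⟨w', hw', e⟩ := hw
    exact ⟨w', hw', e⟩
  obtain ⟨k, hk, hk1, hk2⟩ := exists_norm (V.T_two hq) hTE syl V.T_normal_W hg (by
    rintro _ ⟨x, rfl⟩
    refine ⟨_, V.f_T ⟨(u ^ 2 + c * v ^ 2) * x.u + c * v ^ 2 * x.v,
        (u ^ 2 + c * v ^ 2) * x.v + v ^ 2 * x.u + v ^ 2 * x.v, 0, 0, 0, 0⟩, ?_⟩
    intro w hw'
    obtain ⟨w', hw'', rfl⟩ := hw w hw'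
    obtain ⟨s, m, n, r, rfl⟩ := V.mem_W hw''
    exact V.g_a hi (V.g0_w hi) x s m n r)
  refine ⟨k * V.g0 u v i, mul_mem hk hg, hk2, fun s m n r => ?_⟩
  rw [cg_comp, V.g0_w hi, hk1 _ (V.f_W.2 ⟨rfl, rfl⟩)]

/-- the action of the torus element on `T / W` -/
theorem torus_T {u v i : F} (hi : i * N c u v = 1) {g : G} (hT : ∀ x ∈ V.T, cg g x ∈ V.T)
    (hg : ∀ s m n r, cg g (V.f ⟨0, 0, s, m, n, r⟩) =
      V.f ⟨0, 0, i * s, i * ((u ^ 2 + c * v ^ 2) * m + c * v ^ 2 * n),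
      i * ((u ^ 2 + c * v ^ 2) * n + v ^ 2 * m + v ^ 2 * n), N c u v * r⟩) (x : TB c) :
    ∃ y : TB c, cg g (V.f x) = V.f y ∧ y.u = (u ^ 2 + c * v ^ 2) * x.u + c * v ^ 2 * x.v ∧
      y.v = (u ^ 2 + c * v ^ 2) * x.v + v ^ 2 * x.u + v ^ 2 * x.v := by
  obtain ⟨y, hy⟩ := hT _ (V.f_T x)
  have h1 := V.g_a hi hg x 1 0 0 0
  have hi0 : i ≠ 0 := left_ne_zero_of_mul_eq_one hi
  rw [← hy, hg, V.a_w, V.a_w] at h1
  have h2 := V.inj h1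
  have h3 := congrArg TB.m h2
  have h4 := congrArg TB.n h2
  simp only [mul_one, mul_zero, add_zero, zero_add] at h3 h4
  exact ⟨y, hy.symm, mul_right_cancel₀ hi0 h3, mul_right_cancel₀ hi0 h4⟩

end Env

end Cfsg.Agent.StdSpFour.UFour
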