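import Cfsg.Agent.StdSpFour.UFourKa
import Cfsg.Agent.StdSpFour.CloseDefs
import Cfsg.Agent.StdSpFour.RootMu

/-!
# S1778, type Sp₄(q), target U₄(q): `RelFacts E t`
-/

set_option autoImplicit false
set_option linter.unusedSectionVars false

namespace Cfsg.Agent.StdSpFour.UFour

open Cfsg.Agent.StdSpFour.CaseBModel Subgroup Cfsg.Agent.StdSpFour.RootEight Cfsg.Agent.StdSpFour.CloseDefs

variable {F : Type*} [Field F] [CharP F 2]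

/-- `X_a` in the model -/
def Ta (c : F) : Subgroup (TB c) where
  carrier := {x | x.v = 0 ∧ x.s = 0 ∧ x.m = 0 ∧ x.n = 0 ∧ x.r = 0}
  mul_mem' := by
    rintro x y ⟨h1, h2, h3, h4, h5⟩ ⟨g1, g2, g3, g4, g5⟩
    exact ⟨by simp [h1, g1], by simp [h2, g2], by simp [h2, h3, g3], by simp [h2, h4, g4],
      by simp [h2, h3, h4, h5, g5]⟩
  one_mem' := ⟨rfl, rfl, rfl, rfl, rfl⟩
  inv_mem' := by
    rintro x ⟨h1, h2, h3, h4, h5⟩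
    exact ⟨by simp [h1], by simp [h2], by simp [h2, h3], by simp [h2, h4], by simp [h2, h3, h4, h5]⟩

/-- `X_{a+b}` in the model -/
def Tab (c : F) : Subgroup (TB c) where
  carrier := {x | x.u = 0 ∧ x.v = 0 ∧ x.s = 0 ∧ x.n = 0 ∧ x.r = 0}
  mul_mem' := by
    rintro x y ⟨h1, h2, h3, h4, h5⟩ ⟨g1, g2, g3, g4, g5⟩
    exact ⟨by simp [h1, g1], by simp [h2, g2], by simp [h3, g3], by simp [h3, h4, g4],
      by simp [h3, h4, h5, g1, g2, g5]⟩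
  one_mem' := ⟨rfl, rfl, rfl, rfl, rfl⟩
  inv_mem' := by
    rintro x ⟨h1, h2, h3, h4, h5⟩
    exact ⟨by simp [h1], by simp [h2], by simp [h3], by simp [h3, h4], by simp [h1, h2, h3, h5]⟩

variable {c : F} {G : Type*} [Group G]

namespace Env

variable (V : Env c G)

/-- `X_a` -/
def Xa : Subgroup G := (Ta c).map V.f
/-- `X_{a+b}` -/
def Xab : Subgroup G := (Tab c).map V.f
/-- `P = C_A(Z)^∞` -/
def P : Subgroup G := V.Xa ⊔ V.Xab ⊔ V.Z ⊔ V.Kb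

theorem mem_Xa {x : G} (h : x ∈ V.Xa) : ∃ u, x = V.f ⟨u, 0, 0, 0, 0, 0⟩ := by
  obtain ⟨⟨u, v, s, m, n, r⟩, ⟨h1, h2, h3, h4, h5⟩, rfl⟩ := h
  simp only at h1 h2 h3 h4 h5
  subst h1 h2 h3 h4 h5
  exact ⟨u, rfl⟩

theorem mem_Xab {x : G} (h : x ∈ V.Xab) : ∃ m, x = V.f ⟨0, 0, 0, m, 0, 0⟩ := by
  obtain ⟨⟨u, v, s, m, n, r⟩, ⟨h1, h2, h3, h4, h5⟩, rfl⟩ := h
  simp only at h1 h2 h3 h4 h5
  subst h1 h2 h3 h4 h5
  exact ⟨m, rfl⟩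

theorem f_Xa (u : F) : V.f ⟨u, 0, 0, 0, 0, 0⟩ ∈ V.Xa := ⟨_, ⟨rfl, rfl, rfl, rfl, rfl⟩, rfl⟩
theorem f_Xab (m : F) : V.f ⟨0, 0, 0, m, 0, 0⟩ ∈ V.Xab := ⟨_, ⟨rfl, rfl, rfl, rfl, rfl⟩, rfl⟩

theorem Xa_le : V.Xa ≤ V.P := le_sup_left.trans (le_sup_left.trans le_sup_left)
theorem Xab_le : V.Xab ≤ V.P := le_sup_right.trans (le_sup_left.trans le_sup_left)
theorem Z_le_P : V.Z ≤ V.P := le_sup_right.trans le_sup_left
theorem Kb_le_P : V.Kb ≤ V.P := le_sup_right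

end Env

/-- the position of `V` in the simple group `E` -/
structure InE (V : Env c G) (E : Subgroup G) : Prop where
  E_t : ∀ x ∈ E, V.t * x * V.t⁻¹ ∈ E
  f_mem : ∀ x, V.f x ∈ E
  na_mem : V.na ∈ E
  nb_mem : V.nb ∈ E
  /-- `T` is a Sylow 2-subgroup of `E` -/
  syl : ¬ 2 ∣ V.T.relIndex E
  /-- elements of `C_E(t)` centralising some `z ∈ Z \ {1}` normalise `P = C_A(z)^∞` -/
  P_norm : ∀ g ∈ E, V.t * g = g * V.t → ∀ z ∈ V.Z, z ≠ 1 → g * z = z * g → ∀ x ∈ V.P, g * x * g⁻¹ ∈ V.P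
  /-- `C_P(P ∩ Q) ≤ Q` -/
  P_self : ∀ x ∈ V.P, (∀ y ∈ V.P, y ∈ V.Q → x * y = y * x) → x ∈ V.Q

namespace Env

variable (V : Env c G)

theorem Z_sq' {z : G} (hz : z ∈ V.Z) : z * z = 1 := by
  obtain ⟨z, hz, rfl⟩ := hz
  rw [← map_mul, TW_sq (TZ_le_TW hz), map_one]

theorem Z_cent' {z : G} (hz : z ∈ V.Z) {x : G} (hx : x ∈ V.T) : z * x = x * z := by
  obtain ⟨z, hz, rfl⟩ := hz
  obtain ⟨x, rfl⟩ := hx
  rw [← map_mul, TZ_central hz, map_mul]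

theorem W_sq' {z : G} (hz : z ∈ V.W) : z * z = 1 := by
  obtain ⟨z, hz, rfl⟩ := hz
  rw [← map_mul, TW_sq hz, map_one]

theorem W_comm' {x y : G} (hx : x ∈ V.W) (hy : y ∈ V.W) : x * y = y * x := by
  obtain ⟨x, hx, rfl⟩ := hx
  obtain ⟨y, hy, rfl⟩ := hy
  rw [← map_mul, TW_comm hx hy, map_mul]

theorem comm_W' {x y : G} (hx : x ∈ V.T) (hy : y ∈ V.T) : x * y * x⁻¹ * y⁻¹ ∈ V.W := by
  obtain ⟨x, rfl⟩ := hx
  obtain ⟨y, rfl⟩ := hy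
  exact ⟨_, comm_TW x y, by simp only [map_mul, map_inv]⟩

theorem Q_pair'' {d : G} (hd : d ∈ V.Q) (h : d ∉ V.Z) {z : G} (hz : z ∈ V.Z) :
    ∃ e ∈ V.Q, d * e * d⁻¹ * e⁻¹ = z := by
  obtain ⟨d, hd, rfl⟩ := hd
  obtain ⟨z, hz, rfl⟩ := hz
  obtain ⟨e, he, h1⟩ := Q_pair' hd (fun h2 => h ⟨d, h2, rfl⟩) hz
  exact ⟨V.f e, ⟨e, he, rfl⟩, by rw [← h1]; simp only [map_mul, map_inv]⟩

theorem t_Z' {z : G} (hz : z ∈ V.Z) : V.t * z = z * V.t := by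
  obtain ⟨r, rfl⟩ := V.mem_Z hz
  apply comm_of_cg
  rw [V.t_f, tau_apply]
  simp

theorem t_Xa {x : G} (hx : x ∈ V.Xa) : V.t * x = x * V.t := by
  obtain ⟨r, rfl⟩ := V.mem_Xa hx
  apply comm_of_cg
  rw [V.t_f, tau_apply]
  simp

theorem t_Xab {x : G} (hx : x ∈ V.Xab) : V.t * x = x * V.t := by
  obtain ⟨r, rfl⟩ := V.mem_Xab hx
  apply comm_of_cg
  rw [V.t_f, tau_apply]
  simp

theorem t_X3 {x : G} (hx : x ∈ V.X3) : V.t * x = x * V.t := by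
  obtain ⟨r, rfl⟩ := V.mem_X3 hx
  apply comm_of_cg
  rw [V.t_f, tau_apply]
  simp

theorem P_t' : V.P ≤ centralizer ({V.t} : Set G) := by
  have hb : V.Kb ≤ centralizer ({V.t} : Set G) := by
    apply V.Kb_le_of
    · intro x hx
      rw [mem_centralizer_singleton_iff]
      exact (V.t_X3 hx).symm
    · rw [mem_centralizer_singleton_iff]
      exact V.t_nb.eq.symm
  refine sup_le (sup_le (sup_le ?_ ?_) ?_) hb
  · intro x hx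
    rw [mem_centralizer_singleton_iff]
    exact (V.t_Xa hx).symm
  · intro x hx
    rw [mem_centralizer_singleton_iff]
    exact (V.t_Xab hx).symm
  · intro x hx
    rw [mem_centralizer_singleton_iff]
    exact (V.t_Z' hx).symm

theorem Xa_le_Q : V.Xa ≤ V.Q := by
  intro x hx
  obtain ⟨u, rfl⟩ := V.mem_Xa hx
  exact V.f_Q.2 rfl

theorem Xab_le_Q : V.Xab ≤ V.Q := by
  intro x hx
  obtain ⟨u, rfl⟩ := V.mem_Xab hx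
  exact V.f_Q.2 rfl

theorem Xab_le_W : V.Xab ≤ V.W := by
  intro x hx
  obtain ⟨u, rfl⟩ := V.mem_Xab hx
  exact V.f_W.2 ⟨rfl, rfl⟩

theorem P_le_QKb : V.P ≤ V.Q ⊔ V.Kb :=
  sup_le (sup_le (sup_le (V.Xa_le_Q.trans le_sup_left) (V.Xab_le_Q.trans le_sup_left)) (V.Z_le_Q.trans le_sup_left))
    le_sup_right

theorem QKb_Z : V.Q ⊔ V.Kb ≤ centralizer (V.Z : Set G) := by
  refine sup_le ?_ ?_
  · intro x hx
    rw [mem_centralizer_iff]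
    exact fun z hz => V.Z_cent' hz (V.Q_le hx)
  · intro x hx
    rw [mem_centralizer_iff]
    exact fun z hz => (V.Kb_Z' hx hz).symm

theorem QKb_Q : V.Q ⊔ V.Kb ≤ normalizer (V.Q : Set G) := sup_le le_normalizer V.Kb_norm

/-! ### perfectness -/

/-- `h` normalises the positive root groups -/
theorem h_pos (α β : Fˣ) : cjS (V.h α β) V.X0 = V.X0 ∧ cjS (V.h α β) V.Z = V.Z ∧ cjS (V.h α β) V.X2 = V.X2 ∧
    cjS (V.h α β) V.X3 = V.X3 := by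
  refine ⟨?_, ?_, ?_, ?_⟩
  · apply le_antisymm
    · rintro _ ⟨x, hx, rfl⟩
      obtain ⟨u, v, rfl⟩ := V.mem_X0 hx
      show cg _ _ ∈ _
      rw [V.h_f]
      refine V.f_X0.2 ⟨?_, ?_, ?_, ?_⟩ <;> simp
    · intro x hx
      obtain ⟨u, v, rfl⟩ := V.mem_X0 hx
      refine ⟨_, ?_, cg_cg_inv (V.h α β) _⟩
      rw [V.h_f_inv]
      refine V.f_X0.2 ⟨?_, ?_, ?_, ?_⟩ <;> simp
  · apply le_antisymm
    · rintro _ ⟨x, hx, rfl⟩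
      obtain ⟨r, rfl⟩ := V.mem_Z hx
      show cg _ _ ∈ _
      rw [V.h_f]
      refine V.f_Z.2 ⟨?_, ?_, ?_, ?_, ?_⟩ <;> simp
    · intro x hx
      obtain ⟨r, rfl⟩ := V.mem_Z hx
      refine ⟨_, ?_, cg_cg_inv (V.h α β) _⟩
      rw [V.h_f_inv]
      refine V.f_Z.2 ⟨?_, ?_, ?_, ?_, ?_⟩ <;> simp
  · apply le_antisymm
    · rintro _ ⟨x, hx, rfl⟩
      obtain ⟨m, n, rfl⟩ := V.mem_X2 hx
      show cg _ _ ∈ _
      rw [V.h_f]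
      refine V.f_X2.2 ⟨?_, ?_, ?_, ?_⟩ <;> simp
    · intro x hx
      obtain ⟨m, n, rfl⟩ := V.mem_X2 hx
      refine ⟨_, ?_, cg_cg_inv (V.h α β) _⟩
      rw [V.h_f_inv]
      refine V.f_X2.2 ⟨?_, ?_, ?_, ?_⟩ <;> simp
  · apply le_antisymm
    · rintro _ ⟨x, hx, rfl⟩
      obtain ⟨s, rfl⟩ := V.mem_X3 hx
      show cg _ _ ∈ _
      rw [V.h_f]
      refine V.f_X3.2 ⟨?_, ?_, ?_, ?_, ?_⟩ <;> simp
    · intro x hx
      obtain ⟨s, rfl⟩ := V.mem_X3 hx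
      refine ⟨_, ?_, cg_cg_inv (V.h α β) _⟩
      rw [V.h_f_inv]
      refine V.f_X3.2 ⟨?_, ?_, ?_, ?_, ?_⟩ <;> simp

theorem h_na (α β : Fˣ) : ∃ k ∈ V.Cn, V.h α β * V.na = V.na * V.h α⁻¹ (α ^ 2 * β) * k := by
  obtain ⟨k, hk, h1⟩ := V.na_h α⁻¹ (α ^ 2 * β)
  have e1 : (α⁻¹)⁻¹ = α := inv_inv α
  have e2 : (α⁻¹) ^ 2 * (α ^ 2 * β) = β := by rw [inv_pow, inv_mul_cancel_left]
  rw [e1, e2] at h1
  exact ⟨k⁻¹, inv_mem hk, by rw [h1]; group⟩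

theorem h_nb (α β : Fˣ) : ∃ k ∈ V.Cn, V.h α β * V.nb = V.nb * V.h (α * β) β⁻¹ * k := by
  obtain ⟨k, hk, h1⟩ := V.nb_h (α * β) β⁻¹
  have e1 : (β⁻¹)⁻¹ = β := inv_inv β
  have e2 : α * β * β⁻¹ = α := mul_inv_cancel_right α β
  rw [e1, e2] at h1
  exact ⟨k⁻¹, inv_mem hk, by rw [h1]; group⟩

/-- `Cn` centralises the subgroups of `T` -/
theorem Cn_T {k : G} (hk : k ∈ V.Cn) {A : Subgroup G} (hA : A ≤ V.T) : cjS k A = A := by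
  apply cjS_eq_of_comm
  rw [mem_centralizer_iff]
  intro x hx
  obtain ⟨x, rfl⟩ := hA hx
  exact (V.Cn_f k hk x).symm

theorem h_X4 (α β : Fˣ) : cjS (V.h α β) V.X4 = V.X4 := by
  obtain ⟨k, hk, h1⟩ := V.h_na α β
  rw [X4, ← cjS_mul, h1, cjS_mul, cjS_mul, V.Cn_T hk V.X0_le, (V.h_pos _ _).1]

theorem h_X7 (α β : Fˣ) : cjS (V.h α β) V.X7 = V.X7 := by
  obtain ⟨k, hk, h1⟩ := V.h_nb α β
  rw [X7, ← cjS_mul, h1, cjS_mul, cjS_mul, V.Cn_T hk V.X3_le, (V.h_pos _ _).2.2.2]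

/-- the torus of `Kb` -/
theorem h_mem_Kb (β : Fˣ) : ∃ g ∈ V.Kb, ∀ x : TB c, cg g (V.f x) =
    V.f ⟨(β⁻¹ : Fˣ) * x.u, (β⁻¹ : Fˣ) * x.v, β ^ 2 * x.s, β * x.m, β * x.n, x.r⟩ := by
  have h1 : cjS (V.h 1 β) V.Kb = V.Kb := by
    rw [Kb, cjS_sup, (V.h_pos 1 β).2.2.2, V.h_X7]
  have h2 : cg (V.h 1 β) V.nb ∈ V.Kb := by
    rw [← h1]
    exact ⟨V.nb, V.nb_mem, rfl⟩
  obtain ⟨k, hk, h3⟩ := V.h_nb 1 β
  rw [one_mul] at h3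
  have h4 := inv_mem (mul_mem (inv_mem V.nb_mem) h2)
  have h5 : (V.nb⁻¹ * cg (V.h 1 β) V.nb)⁻¹ = V.h 1 β * k⁻¹ * (V.h β β⁻¹)⁻¹ := by
    rw [cg, h3]; group
  rw [h5] at h4
  refine ⟨_, h4, fun x => ?_⟩
  have h6 : ∀ y, cg k⁻¹ (V.f y) = V.f y := fun y => cg_eq_self (V.Cn_f _ (inv_mem hk) y)
  rw [cg_comp, cg_comp, V.h_f_inv, h6, V.h_f']
  congr 1
  have hb : (β : F) ≠ 0 := β.ne_zero
  ext
  · simp only [Units.val_one, Units.val_inv_eq_inv_val, one_mul]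
  · simp only [Units.val_one, Units.val_inv_eq_inv_val, one_mul]
  · simp only [Units.val_inv_eq_inv_val]; field_simp
  · simp only [Units.val_one, Units.val_inv_eq_inv_val]; field_simp
  · simp only [Units.val_one, Units.val_inv_eq_inv_val]; field_simp
  · simp only [Units.val_one, Units.val_inv_eq_inv_val]; field_simp

theorem perf' [Finite F] (h4 : 4 ≤ Nat.card F) : V.Q ⊔ V.Kb ≤ ⁅V.Q ⊔ V.Kb, V.Q ⊔ V.Kb⁆ := by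
  set L := V.Q ⊔ V.Kb with hL
  have hQ : V.Q ≤ L := le_sup_left
  have hK : V.Kb ≤ L := le_sup_right
  have hnorm : ∀ g ∈ L, ∀ x ∈ ⁅L, L⁆, cg g x ∈ ⁅L, L⁆ := by
    intro g hg x hx
    have h1 : g * x * g⁻¹ * x⁻¹ ∈ ⁅L, L⁆ := commutator_mem_commutator hg (Subgroup.commutator_le_self L hx)
    have h2 := mul_mem h1 hx
    rwa [inv_mul_cancel_right] at h2
  -- `X_b`
  have h3 : V.X3 ≤ ⁅L, L⁆ := by
    obtain ⟨β, hβ0, hβ1⟩ : ∃ β : F, β ≠ 0 ∧ β ^ 2 - 1 ≠ 0 := by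
      have : Fintype F := Fintype.ofFinite F
      obtain ⟨x, h1, h2⟩ : ∃ x : F, x ≠ 0 ∧ x ≠ 1 := by
        classical
        by_contra hcon
        push Not at hcon
        have h1 : Set.univ ⊆ ({0, 1} : Set F) := by
          intro x _
          by_cases hx : x = 0
          · exact Or.inl hx
          · exact Or.inr (hcon x hx)
        have h2 := Set.ncard_le_ncard h1 (Set.toFinite _)
        rw [Set.ncard_univ] at h2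
        have h3 := h2.trans ((Set.ncard_insert_le _ _).trans (by simp : _ ≤ 2))
        omega
      refine ⟨x, h1, fun h3 => h2 ?_⟩
      have h4 : (x - 1) ^ 2 = 0 := by
        linear_combination h3 + (1 - x) * two_eq (F := F)
      exact sub_eq_zero.1 (pow_eq_zero_iff two_ne_zero |>.1 h4)
    intro x hx
    obtain ⟨s, rfl⟩ := V.mem_X3 hx
    set b : Fˣ := Units.mk0 β hβ0
    obtain ⟨g, h5, h5'⟩ := V.h_mem_Kb b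
    have h6 : V.f ⟨0, 0, s / (β ^ 2 - 1), 0, 0, 0⟩ ∈ L := hK (mem_sup_left (V.f_X3.2 ⟨rfl, rfl, rfl, rfl, rfl⟩))
    have h7 : g * V.f ⟨0, 0, s / (β ^ 2 - 1), 0, 0, 0⟩ * g⁻¹ *
        (V.f ⟨0, 0, s / (β ^ 2 - 1), 0, 0, 0⟩)⁻¹ ∈ ⁅L, L⁆ := commutator_mem_commutator (hK h5) h6
    have h8 : g * V.f ⟨0, 0, s / (β ^ 2 - 1), 0, 0, 0⟩ * g⁻¹ *
        (V.f ⟨0, 0, s / (β ^ 2 - 1), 0, 0, 0⟩)⁻¹ = V.f ⟨0, 0, s, 0, 0, 0⟩ := by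
      show cg _ _ * _ = _
      rw [h5', ← map_inv, ← map_mul]
      congr 1
      ext
      · simp
      · simp
      · simp only [mul_s, inv_s]
        have : (b : F) = β := rfl
        rw [this]
        field_simp
        linear_combination s * two_eq (F := F)
      · simp
      · simp
      · simp
    rwa [h8] at h7
  have h7 : V.X7 ≤ ⁅L, L⁆ := by
    rintro _ ⟨x, hx, rfl⟩
    exact hnorm _ (hK V.nb_mem) _ (h3 hx)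
  have hZ : V.Z ≤ ⁅L, L⁆ := by
    intro z hz
    have h1 : V.f ⟨1, 0, 0, 0, 0, 0⟩ ∈ V.Q := V.f_Q.2 rfl
    have h2 : V.f ⟨1, 0, 0, 0, 0, 0⟩ ∉ V.Z := fun h => one_ne_zero (V.f_Z.1 h).1
    obtain ⟨e, he, h3⟩ := V.Q_pair'' h1 h2 hz
    rw [← h3]
    exact commutator_mem_commutator (hQ h1) (hQ he)
  -- `X_2`
  have h2 : V.X2 ≤ ⁅L, L⁆ := by
    intro x hx
    obtain ⟨m, n, rfl⟩ := V.mem_X2 hx
    have h1 : V.f ⟨0, 0, 1, 0, 0, 0⟩ ∈ L := hK (mem_sup_left (V.f_X3.2 ⟨rfl, rfl, rfl, rfl, rfl⟩))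
    have h5 : V.f ⟨m, n, 0, 0, 0, 0⟩ ∈ L := hQ (V.f_Q.2 rfl)
    have h6 : V.f ⟨0, 0, 1, 0, 0, 0⟩ * V.f ⟨m, n, 0, 0, 0, 0⟩ * (V.f ⟨0, 0, 1, 0, 0, 0⟩)⁻¹ *
      (V.f ⟨m, n, 0, 0, 0, 0⟩)⁻¹ ∈ ⁅L, L⁆ := commutator_mem_commutator h1 h5
    have h8 : V.f ⟨0, 0, 1, 0, 0, 0⟩ * V.f ⟨m, n, 0, 0, 0, 0⟩ * (V.f ⟨0, 0, 1, 0, 0, 0⟩)⁻¹ *
      (V.f ⟨m, n, 0, 0, 0, 0⟩)⁻¹ = V.f ((⟨0, 0, 1, 0, 0, 0⟩ : TB c) * ⟨m, n, 0, 0, 0, 0⟩ *
        (⟨0, 0, 1, 0, 0, 0⟩ : TB c)⁻¹ * (⟨m, n, 0, 0, 0, 0⟩ : TB c)⁻¹) := by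
      simp only [map_mul, map_inv]
    rw [h8, comm_q _ _ rfl] at h6
    simp only [mul_one, mul_zero, add_zero, zero_add] at h6
    have h9 := mul_mem h6 (hZ (V.f_Z.2 (⟨rfl, rfl, rfl, rfl, rfl⟩ :
      (⟨0, 0, 0, 0, 0, N c m n + (m * n + n * m)⟩ : TB c) ∈ TZ c)))
    rw [← map_mul] at h9
    convert h9 using 2
    ext
    · simp
    · simp
    · simp
    · simp
    · simp
    · simp only [mul_r]
      linear_combination (-(N c m n) - (m * n + n * m)) * two_eq (F := F)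
  have h0 : V.X0 ≤ ⁅L, L⁆ := by
    intro x hx
    obtain ⟨m, n, rfl⟩ := V.mem_X0 hx
    have h1 := hnorm _ (hK V.nb_mem) _ (h2 (V.f_X2.2 (⟨rfl, rfl, rfl, rfl⟩ : (⟨0, 0, 0, m, n, 0⟩ : TB c) ∈ T2 c)))
    rw [V.nb_q] at h1
    simpa using h1
  refine sup_le ?_ (sup_le h3 h7)
  intro x hx
  obtain ⟨u, v, m, n, r, rfl⟩ := V.mem_Q hx
  have e : (⟨u, v, 0, m, n, r⟩ : TB c) = ⟨u, v, 0, 0, 0, 0⟩ * (⟨0, 0, 0, m, n, 0⟩ * ⟨0, 0, 0, 0, 0, r⟩) := by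
    ext <;> simp
  rw [e, map_mul, map_mul]
  exact mul_mem (h0 (V.f_X0.2 ⟨rfl, rfl, rfl, rfl⟩)) (mul_mem (h2 (V.f_X2.2 ⟨rfl, rfl, rfl, rfl⟩))
    (hZ (V.f_Z.2 ⟨rfl, rfl, rfl, rfl, rfl⟩)))

end Env

end Cfsg.Agent.StdSpFour.UFour
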