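import Cfsg.Agent.StdSpFour.UFourBase
import Cfsg.Agent.StdSpFour.UFourRel
import Cfsg.Agent.StdSpFour.Lift
import Cfsg.Agent.StdSpFour.RankOne
import Cfsg.Agent.StdSpFour.EnvFacts
import Cfsg.Agent.StdSpFour.Fld

/-!
# S1778, type Sp₄(q), target U₄(q): from `X = N_G(O)/O` to `G`

`exists_lifted`: the environment of `X` (`UFourBase.exists_env`) lifts to `G`.
`P_norm`, `P_self`: the two facts on `P = C_A(Z)^∞`.
-/

set_option autoImplicit false
set_option linter.unusedSectionVars false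

namespace Cfsg.Agent.StdSpFour.UFour

open Subgroup Cfsg.Agent.StdSpFour Cfsg.Agent.StdSpFour.CaseBModel Cfsg.Agent.StdSpFour.CaseBRel
open Cfsg.Agent.StdSpFour.CaseBHom Cfsg.Agent.StdSpFour.Comm Cfsg.Agent.StdSpFour.Lift
open Cfsg.Agent.StdEven.CoreQuot Cfsg.Agent.StdEven.Loc

variable {F : Type*} [Field F] [CharP F 2] [Finite F] {G : Type*} [Group G] [Finite G]
  {A : Subgroup G} {t : G} {T : Subgroup G} {c : F}

theorem isPGroup_TB (c : F) : IsPGroup 2 (TB c) := by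
  obtain ⟨n, hn⟩ : ∃ n, Nat.card F = 2 ^ n := by
    have := Fintype.ofFinite F
    obtain ⟨n, -, hn⟩ := FiniteField.card F 2
    exact ⟨n, by rw [Nat.card_eq_fintype_card, hn]⟩
  apply IsPGroup.of_card (n := n * 6)
  rw [card_TB, hn, ← pow_mul]

/-- the lifted environment -/
structure Lifted (H : Hyp A t T) (B : Base F (XQ A t)) (V : Env c G) : Prop where
  f_NO : ∀ x, V.f x ∈ NO A t
  f_core : ∀ x, ∀ o ∈ core A t, o * V.f x = V.f x * o
  pr_xa : ∀ u, pr A t ⟨V.f ⟨u, 0, 0, 0, 0, 0⟩, f_NO _⟩ = B.xa u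
  pr_xb : ∀ u, pr A t ⟨V.f ⟨0, 0, u, 0, 0, 0⟩, f_NO _⟩ = B.xb u
  pr_zs : ∀ u, pr A t ⟨V.f ⟨0, 0, 0, u, 0, 0⟩, f_NO _⟩ = B.zs u
  pr_zl : ∀ u, pr A t ⟨V.f ⟨0, 0, 0, 0, 0, u⟩, f_NO _⟩ = B.zl u
  f_A : ∀ x, x.v = 0 → x.n = 0 → V.f x ∈ A
  t_eq : V.t = t
  na_A : V.na ∈ A
  pr_na : pr A t ⟨V.na, H.A_le na_A⟩ = B.na
  nb_A : V.nb ∈ A
  pr_nb : pr A t ⟨V.nb, H.A_le nb_A⟩ = B.nb
  h_A : ∀ α β, V.h α β ∈ A
  pr_h : ∀ α β, pr A t ⟨V.h α β, H.A_le (h_A α β)⟩ = B.h α β
  Cn_eq : V.Cn = core A t ⊓ A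

section exists_

variable (H : Hyp A t T) {B : Base F (XQ A t)}
include H

/-- `[h, P(n)]` is in the image of `C_G(O)` -/
theorem P_mem_Cb (hF : 4 ≤ Nat.card F) (E : StdSpFour.Env B (im A t A)) (S : ShortLayer B) (he : S.e = 1)
    (n : F) : S.p n ∈ Cb A t := by
  obtain ⟨l, hl⟩ := Fld.exists_ne (F := F) hF
  have hl' : (l : F) + 1 ≠ 0 := fun h => hl (FieldAux.eq_of_add_eq_zero h)
  set m := ((l : F) + 1)⁻¹ * n with hm
  have h1 := S.h_p l 1 m
  rw [Units.val_one, mul_one] at h1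
  have h2 : B.h l 1 * S.p m * (B.h l 1)⁻¹ * (S.p m)⁻¹ = S.p n := by
    rw [h1, mul_inv_cancel_right]
    have h3 := p_add hF E.self S he ((l : F) * m) m
    have h4 : (l : F) * m + m = n := by
      have : (l : F) * m + m = ((l : F) + 1) * m := by ring
      rw [this, hm, mul_inv_cancel_left₀ hl']
    rw [h4] at h3
    have h5 : (S.p m)⁻¹ = S.p m := by
      have h6 := p_add hF E.self S he m m
      rw [CharTwo.add_self_eq_zero, S.p_zero] at h6
      exact inv_eq_of_mul_eq_one_left h6.symm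
    rw [h5, h3]
  rw [← h2]
  exact Cb_comm (im_A_le H (E.h_mem l 1)) _

theorem hom_mem_Cb (hF : 4 ≤ Nat.card F) (E : StdSpFour.Env B (im A t A)) (S : ShortLayer B) (he : S.e = 1)
    (R : Rels B (p' S) S.p c) (x : TB c) : hom R x ∈ Cb A t := by
  have hle := im_A_le H
  have hP := P_mem_Cb H hF E S he
  rw [hom_apply]
  refine mul_mem (mul_mem (hle (E.xa_mem _)) ?_) (mul_mem (mul_mem (mul_mem (hle (E.xb_mem _)) (hle (E.zs_mem _)))
    (hP _)) (hle (E.zl_mem _)))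
  rw [p'_eq]
  exact Cb_conj (hP _) _

/-- **the lifted environment**, for given relations -/
theorem lifted_of (hF : 4 ≤ Nat.card F) (E : StdSpFour.Env B (im A t A)) (ht : B.t = H.tX) (S : ShortLayer B)
    (he : S.e = 1) {c : F} (R : Rels B (p' S) S.p c) : ∃ (V : Env c G) (L : Lifted H B V),
      ∀ x, pr A t ⟨V.f x, L.f_NO x⟩ = hom R x := by
  obtain ⟨V, hVf, hVt, hVna, hVnb, hVh⟩ := env_of hF E.self S E.weyl R
  obtain ⟨i, hi, h1, h2, h3, h4, h5⟩ := exists_lift_core H (isPGroup_TB c) V.f (fun x => by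
    rw [hVf]; exact hom_mem_Cb H hF E S he R x)
  -- the Weyl elements
  have two_of_sq : ∀ {x : XQ A t}, x * x = 1 → Two x := fun h => ⟨1, by rw [pow_one, pow_two, h]⟩
  obtain ⟨a, haA, ha2, hpa⟩ := exists_two_A H (x := B.na) E.na_mem (two_of_sq E.weyl.na_sq)
  obtain ⟨b, hbA, hb2, hpb⟩ := exists_two_A H (x := B.nb) E.nb_mem (two_of_sq E.weyl.nb_sq)
  have hh : ∀ α β, ∃ g, ∃ hg : g ∈ A, pr A t ⟨g, H.A_le hg⟩ = B.h α β := by
    intro α β
    obtain ⟨n, hn, e⟩ := mem_im.mp (E.h_mem α β)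
    exact ⟨n, hn, e⟩
  choose h hhA hph using hh
  have sq_one : ∀ {a : G} (haA : a ∈ A), Two a → pr A t ⟨a, H.A_le haA⟩ * pr A t ⟨a, H.A_le haA⟩ = 1 → a * a = 1 := by
    intro a haA ha2 h
    have h6 : (⟨a, H.A_le haA⟩ * ⟨a, H.A_le haA⟩ : ↥(NO A t)) = 1 := by
      apply eq_one_of_ker (pr A t) H.odd_ker
      · rw [MonoidHom.mem_ker, map_mul, h]
      · obtain ⟨k, hk⟩ := ha2
        refine ⟨k, Subtype.ext ?_⟩
        show (a * a) ^ 2 ^ k = 1
        rw [(Commute.refl a).mul_pow, hk, one_mul]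
    exact congrArg Subtype.val h6
  have conj_i : ∀ {g : G} (hg : g ∈ NO A t) {x y : TB c}, cg (pr A t ⟨g, hg⟩) (V.f x) = V.f y → cg g (i x) = i y :=
    fun hg x y h => h4 ⟨_, hg⟩ x y h
  have comA : ∀ {g : G}, g ∈ A → Commute t g := fun hg => (comm_of_centralizer H.htA hg)
  -- `n = x x' x`
  have n_eq : ∀ {a : G} (haA : a ∈ A), Two a → ∀ x : TB c, x * x = 1 →
      pr A t ⟨a, H.A_le haA⟩ = V.f x * cg (pr A t ⟨a, H.A_le haA⟩) (V.f x) * V.f x → a = i x * cg a (i x) * i x := by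
    intro a haA ha2 x hx e
    have hix : (i x)⁻¹ = i x := by
      apply inv_eq_of_mul_eq_one_left
      rw [← map_mul, hx, map_one]
    have hN : i x * cg a (i x) * i x ∈ NO A t :=
      (NO A t).mul_mem ((NO A t).mul_mem (hi x) ((NO A t).mul_mem ((NO A t).mul_mem (H.A_le haA) (hi x))
        ((NO A t).inv_mem (H.A_le haA)))) (hi x)
    have h6 : (⟨a, H.A_le haA⟩ : ↥(NO A t)) = ⟨i x * cg a (i x) * i x, hN⟩ := by
      apply unique (pr A t) H.odd_ker (A_mem_C H haA) (by obtain ⟨k, hk⟩ := ha2; exact ⟨k, Subtype.ext hk⟩)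
      · obtain ⟨k, hk⟩ := (h3 x).conj a
        have h7 : Two (i x * cg a (i x) * i x) := by
          have h8 := (Two.conj (x := cg a (i x)) ⟨k, hk⟩ (i x))
          rwa [hix] at h8
        obtain ⟨l, hl⟩ := h7
        exact ⟨l, Subtype.ext hl⟩
      · have h9 : (⟨i x * cg a (i x) * i x, hN⟩ : ↥(NO A t)) =
          ⟨i x, hi x⟩ * (⟨a, H.A_le haA⟩ * ⟨i x, hi x⟩ * ⟨a, H.A_le haA⟩⁻¹) * ⟨i x, hi x⟩ := rfl
        rw [h9]
        simp only [map_mul, map_inv, h1]
        exact e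
    exact congrArg Subtype.val h6
  have x1 : ∀ x : TB c, x.v = 0 → x.n = 0 → x.u * x.s = 0 → x * x = 1 := by
    intro x hv hn hus
    have h2 := two_eq (F := F)
    obtain ⟨u, v, s, m, n, r⟩ := x
    simp only at hv hn hus
    subst hv hn
    ext
    · simp only [mul_u, one_u]; linear_combination u * h2
    · simp
    · simp only [mul_s, one_s]; linear_combination s * h2
    · simp only [mul_m, one_m]; linear_combination m * h2 + hus
    · simp
    · simp only [mul_r, one_r]; linear_combination r * h2 + u * hus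
  have mem_Cn : ∀ {g g' : G} (hg : g ∈ A) (hg' : g' ∈ A), pr A t ⟨g, H.A_le hg⟩ = pr A t ⟨g', H.A_le hg'⟩ →
      g'⁻¹ * g ∈ core A t ⊓ A := by
    intro g g' hg hg' e
    refine ⟨?_, A.mul_mem (A.inv_mem hg') hg⟩
    have h6 : pr A t (⟨g', H.A_le hg'⟩⁻¹ * ⟨g, H.A_le hg⟩) = 1 := by
      rw [map_mul, map_inv, e, inv_mul_cancel]
    exact pr_eq_one.mp h6
  have eq_of_A : ∀ {x : TB c}, V.f x ∈ im A t A → i x ∈ A := by
    intro x hx
    have h6 : Two (V.f x) := by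
      obtain ⟨k, hk⟩ := isPGroup_TB c x
      exact ⟨k, by rw [← map_pow, hk, map_one]⟩
    obtain ⟨g, hg, hg2, e⟩ := exists_two_A H hx h6
    rw [h5 x ⟨g, H.A_le hg⟩ hg2 e]
    exact hg
  have core_cent : ∀ {k g : G}, k ∈ core A t → g ∈ A → k * g = g * k := fun hk hg =>
    comm_of_centralizer (H.core_le hk) hg
  let W : Env c G :=
    { f := i
      inj := fun x y e => V.inj (by
        rw [← h1, ← h1]
        congr 1
        exact Subtype.ext e)
      t := t
      na := a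
      nb := b
      h := h
      tt := H.tt
      t_f := fun x => conj_i H.t_mem (by
        have := V.t_f x
        rw [hVt, ht] at this
        exact this)
      t_na := comA haA
      t_nb := comA hbA
      t_h := fun α β => comA (hhA α β)
      na_na := sq_one haA ha2 (by rw [hpa]; exact E.weyl.na_sq)
      nb_nb := sq_one hbA hb2 (by rw [hpb]; exact E.weyl.nb_sq)
      na_w := fun s m n r => conj_i (H.A_le haA) (by
        have := V.na_w s m n r
        rwa [hVna, ← hpa] at this)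
      nb_q := fun u v m n r => conj_i (H.A_le hbA) (by
        have := V.nb_q u v m n r
        rwa [hVnb, ← hpb] at this)
      na_eq := n_eq haA ha2 _ (x1 _ rfl rfl (by simp)) (by
        have := V.na_eq
        rw [hVna, ← hpa] at this
        exact this)
      nb_eq := n_eq hbA hb2 _ (x1 _ rfl rfl (by simp)) (by
        have := V.nb_eq
        rw [hVnb, ← hpb] at this
        exact this)
      h_f := fun α β u v s m n r => conj_i (H.A_le (hhA α β)) (by
        have := V.h_f α β u v s m n r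
        rwa [hVh, ← hph] at this)
      Cn := core A t ⊓ A
      Cn_odd := fun k hk e => eq_one_of_sq_of_odd e (H.mem_core.mp hk.1).2.2
      Cn_f := fun k hk x => h2 x k hk.1
      Cn_na := fun k hk => core_cent hk.1 haA
      Cn_nb := fun k hk => core_cent hk.1 hbA
      na_h := fun α β => ⟨_, mem_Cn (mul_mem haA (hhA α β)) (mul_mem (hhA α⁻¹ (α ^ 2 * β)) haA) (by
          have e1 : pr A t (⟨a, H.A_le haA⟩ * ⟨h α β, H.A_le (hhA α β)⟩) =
              pr A t (⟨h α⁻¹ (α ^ 2 * β), H.A_le (hhA _ _)⟩ * ⟨a, H.A_le haA⟩) := by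
            rw [map_mul, map_mul, hpa, hph, hph, B.na_h]
          exact e1), by group⟩
      nb_h := fun α β => ⟨_, mem_Cn (mul_mem hbA (hhA α β)) (mul_mem (hhA (α * β) β⁻¹) hbA) (by
          have e1 : pr A t (⟨b, H.A_le hbA⟩ * ⟨h α β, H.A_le (hhA α β)⟩) =
              pr A t (⟨h (α * β) β⁻¹, H.A_le (hhA _ _)⟩ * ⟨b, H.A_le hbA⟩) := by
            rw [map_mul, map_mul, hpb, hph, hph, B.nb_h]
          exact e1), by group⟩ }
  refine ⟨W, ⟨hi, h2, fun u => ?_, fun u => ?_, fun u => ?_, fun u => ?_, fun x hv hn => ?_, rfl, haA, hpa, hbA, hpb, hhA,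
    hph, rfl⟩, fun x => ?_⟩
  · rw [← hom_xa R, ← hVf]; exact h1 _
  · rw [← hom_xb R, ← hVf]; exact h1 _
  · rw [← hom_zs R, ← hVf]; exact h1 _
  · rw [← hom_zl R, ← hVf]; exact h1 _
  · apply eq_of_A
    obtain ⟨u, v, s, m, n, r⟩ := x
    simp only at hv hn
    subst hv hn
    rw [hVf, hom_U]
    exact mul_mem (mul_mem (mul_mem (E.xa_mem _) (E.xb_mem _)) (E.zs_mem _)) (E.zl_mem _)
  · have := h1 x
    rw [hVf] at this
    exact this

/-- **the lifted environment** -/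
theorem exists_lifted (hF : 4 ≤ Nat.card F) (E : StdSpFour.Env B (im A t A)) (ht : B.t = H.tX) (S : ShortLayer B)
    (he : S.e = 1) : ∃ (c : F) (R : Rels B (p' S) S.p c) (V : Env c G) (L : Lifted H B V),
      ∀ x, pr A t ⟨V.f x, L.f_NO x⟩ = hom R x := by
  obtain ⟨c, R, -⟩ := exists_env hF E.self S he E.weyl
  exact ⟨c, R, lifted_of H hF E ht S he R⟩

end exists_

end Cfsg.Agent.StdSpFour.UFour
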