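import Cfsg.Agent.StdSpFour.UFourRel

/-!
# S1778, type Sp₄(q), target U₄(q): `RelFacts E t`, assembly
-/

set_option autoImplicit false
set_option linter.unusedSectionVars false

namespace Cfsg.Agent.StdSpFour.UFour

open Cfsg.Agent.StdSpFour.CaseBModel Subgroup Cfsg.Agent.StdSpFour.RootEight Cfsg.Agent.StdSpFour.CloseDefs

variable {F : Type*} [Field F] [CharP F 2] {c : F} {G : Type*} [Group G]

namespace Env

variable (V : Env c G)

/-! ### the count -/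

theorem card_S [Finite F] (hc : Irr c) : Nat.card V.S = (Nat.card F ^ 2 + 1) * (Nat.card F - 1) := by
  rw [← card_S0 hc]
  exact Nat.card_image_of_injective V.inj _

theorem count_one [Finite F] (hc : Irr c) {w : TB c} (hw : w ∈ TW c) (hS : w ∉ S0 c) (hs : w.s ≠ 0) :
    Nat.card {m : G // m ∈ V.S ∧ m * V.f w ∈ V.S} = Nat.card F * (Nat.card F - 1) := by
  have hd : w.s * w.r + N c w.m w.n ≠ 0 := by
    intro h
    apply hS
    refine ⟨hw.1, hw.2, eq_of_add h, ?_⟩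
    rintro rfl
    exact hs rfl
  rw [← card_S0_pairs hc hw.1 hw.2 hs hd]
  symm
  refine Nat.card_congr (Equiv.ofBijective (fun m => ⟨V.f m.1, V.f_S.2 m.2.1, by
    rw [← map_mul]; exact V.f_S.2 m.2.2⟩) ⟨?_, ?_⟩)
  · intro m m' h
    exact Subtype.ext (V.inj (congrArg Subtype.val h))
  · rintro ⟨_, ⟨m, hm, rfl⟩, h⟩
    rw [← map_mul] at h
    exact ⟨⟨m, hm, V.f_S.1 h⟩, rfl⟩

theorem count_conj (hc : Irr c) {k : G} (hk : k ∈ V.Ka) (w : G) :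
    Nat.card {m : G // m ∈ V.S ∧ m * cg k w ∈ V.S} = Nat.card {m : G // m ∈ V.S ∧ m * w ∈ V.S} := by
  symm
  refine Nat.card_congr ⟨fun m => ⟨cg k m.1, V.S_Ka hc hk m.2.1, by
      rw [← cg_mul]; exact V.S_Ka hc hk m.2.2⟩, fun m => ⟨cg k⁻¹ m.1, V.S_Ka hc (inv_mem hk) m.2.1, ?_⟩, ?_, ?_⟩
  · have := V.S_Ka hc (inv_mem hk) m.2.2
    rwa [cg_mul, cg_inv_cg] at this
  · intro m; exact Subtype.ext (cg_inv_cg _ _)
  · intro m; exact Subtype.ext (cg_cg_inv _ _)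

theorem S_count' [Finite F] (hc : Irr c) {w : G} (hw : w ∈ V.W) (h1 : w ≠ 1) (hS : w ∉ V.S) :
    Nat.card {m : G // m ∈ V.S ∧ m * w ∈ V.S} = Nat.card F * (Nat.card F - 1) := by
  obtain ⟨s, m, n, r, rfl⟩ := V.mem_W hw
  -- a conjugate with `s ≠ 0`
  have key : ∀ k ∈ V.Ka, ∀ s' m' n' r', cg k (V.f ⟨0, 0, s, m, n, r⟩) = V.f ⟨0, 0, s', m', n', r'⟩ → s' ≠ 0 →
      Nat.card {x : G // x ∈ V.S ∧ x * V.f ⟨0, 0, s, m, n, r⟩ ∈ V.S} = Nat.card F * (Nat.card F - 1) := by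
    intro k hk s' m' n' r' e hs'
    rw [← V.count_conj hc hk, e]
    refine V.count_one hc ⟨rfl, rfl⟩ ?_ hs'
    intro h
    apply hS
    have h2 := V.S_Ka hc (inv_mem hk) (V.f_S.2 h)
    rwa [← e, cg_inv_cg] at h2
  by_cases hs : s = 0
  · by_cases hr : r = 0
    · -- use `a(λ)` and `na`
      have hmn : m ≠ 0 ∨ n ≠ 0 := by
        by_contra hcon
        push Not at hcon
        apply h1
        rw [hs, hr, hcon.1, hcon.2]
        exact map_one V.f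
      obtain ⟨u, v, huv⟩ : ∃ u v, u * n + v * m ≠ 0 := by
        rcases hmn with h | h
        · exact ⟨0, 1, by simpa using h⟩
        · exact ⟨1, 0, by simpa using h⟩
      refine key (V.na * V.f ⟨u, v, 0, 0, 0, 0⟩) (mul_mem V.na_mem
        (mem_sup_left (V.f_X0.2 ⟨rfl, rfl, rfl, rfl⟩))) _ _ _ _ (by rw [cg_comp, V.a_w, V.na_w]) ?_
      rw [hs, hr]
      simpa using huv
    · exact key V.na V.na_mem _ _ _ _ (V.na_w s m n r) hr
  · exact key 1 (one_mem _) s m n r (by simp [cg]) hs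

/-! ### transitivity of the torus -/

theorem trans' [Finite G] [Finite F] (hc : Irr c) {E : Subgroup G} (hq : ∃ k, Nat.card F = 2 ^ k) (hTE : V.T ≤ E)
    (syl : ¬ 2 ∣ V.T.relIndex E) (hna : V.na ∈ E) {x : G} (hx : x ∈ V.T) (hx' : ∃ w ∈ V.W, x * w ≠ w * x)
    {y : G} (hy : y ∈ V.T) (hy' : ∃ w ∈ V.W, y * w ≠ w * y) :
    ∃ h ∈ E, (∀ s ∈ V.T, h * s * h⁻¹ ∈ V.T) ∧ ∀ w ∈ V.W, (h * x * h⁻¹ * y⁻¹) * w = w * (h * x * h⁻¹ * y⁻¹) := by
  have h2 := two_eq (F := F)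
  obtain ⟨x, rfl⟩ := hx
  obtain ⟨y, rfl⟩ := hy
  have hne : ∀ z : TB c, (∃ w ∈ V.W, V.f z * w ≠ w * V.f z) → z.u ≠ 0 ∨ z.v ≠ 0 := by
    rintro z ⟨w, hw, hne⟩
    by_contra hcon
    push Not at hcon
    exact hne (V.W_comm' (V.f_W.2 hcon) hw)
  have hNx := N_ne hc (hne x hx')
  have hNy := N_ne hc (hne y hy')
  -- `κ² = λ_y λ_x⁻¹`
  set p := (y.u * (x.u + x.v) + c * (y.v * x.v)) / N c x.u x.v with hp
  set q := (y.u * x.v + y.v * x.u) / N c x.u x.v with hq'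
  have hp' : p * N c x.u x.v = y.u * (x.u + x.v) + c * (y.v * x.v) := div_mul_cancel₀ _ hNx
  have hq'' : q * N c x.u x.v = y.u * x.v + y.v * x.u := div_mul_cancel₀ _ hNx
  have e1 : p * x.u + c * q * x.v = y.u := by
    apply mul_right_cancel₀ hNx
    have : (p * x.u + c * q * x.v) * N c x.u x.v = (p * N c x.u x.v) * x.u + c * (q * N c x.u x.v) * x.v := by ring
    rw [this, hp', hq'', N]
    linear_combination (c * y.v * x.u * x.v) * h2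
  have e2 : p * x.v + q * x.u + q * x.v = y.v := by
    apply mul_right_cancel₀ hNx
    have : (p * x.v + q * x.u + q * x.v) * N c x.u x.v =
      (p * N c x.u x.v) * x.v + (q * N c x.u x.v) * x.u + (q * N c x.u x.v) * x.v := by ring
    rw [this, hp', hq'', N]
    linear_combination (y.u * x.u * x.v + y.u * x.v ^ 2) * h2
  obtain ⟨v, hv⟩ : ∃ v : F, v ^ 2 = q := ⟨rr q, sq_rr q⟩
  obtain ⟨u, hu⟩ : ∃ u : F, u ^ 2 = p + c * q := ⟨rr _, sq_rr _⟩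
  have hu' : u ^ 2 + c * v ^ 2 = p := by rw [hu, hv]; linear_combination (c * q) * h2
  have hcv : c * v ^ 2 = c * q := by rw [hv]
  have hN : N c u v ≠ 0 := by
    apply N_ne hc
    by_contra hcon
    push Not at hcon
    rw [hcon.1, hcon.2] at hu'
    rw [hcon.2] at hv
    have hp0 : p = 0 := by rw [← hu']; ring
    have hq0 : q = 0 := by rw [← hv]; ring
    rw [hp0, hq0] at e1 e2
    apply hNy
    rw [← e1, ← e2, N]
    ring
  obtain ⟨g, hg, hgT, hgW⟩ := V.exists_torus hq hTE syl hna (inv_mul_cancel₀ hN)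
  refine ⟨g, hg, hgT, ?_⟩
  obtain ⟨z, hz, hzu, hzv⟩ := V.torus_T (inv_mul_cancel₀ hN) hgT hgW x
  rw [hu', hcv, e1] at hzu
  rw [hu', hv, e2] at hzv
  have e3 : g * V.f x * g⁻¹ = V.f z := hz
  intro w hw
  rw [e3, ← map_inv, ← map_mul]
  refine V.W_comm' (V.f_W.2 ⟨?_, ?_⟩) hw
  · rw [mul_u, inv_u, hzu]; exact add_self _
  · rw [mul_v, inv_v, hzv]; exact add_self _

/-- an element of `N_E(Q) ∩ C_E(Z)` acting on `X_2` as `ζ²`, `ζ` of norm one, not in `F` -/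
theorem exists_zeta [Finite G] [Finite F] (hc : Irr c) {E : Subgroup G} (hq : ∃ k, Nat.card F = 2 ^ k) (hTE : V.T ≤ E)
    (syl : ¬ 2 ∣ V.T.relIndex E) (hna : V.na ∈ E) :
    ∃ p q : F, q ≠ 0 ∧ ∃ g ∈ E, (∀ z ∈ V.Z, g * z = z * g) ∧ (∀ x ∈ V.Q, g * x * g⁻¹ ∈ V.Q) ∧
      ∀ m n, cg g (V.f ⟨0, 0, 0, m, n, 0⟩) = V.f ⟨0, 0, 0, p * m + c * q * n, p * n + q * m + q * n, 0⟩ := by
  obtain ⟨v, hv⟩ : ∃ v : F, v ^ 2 = 1 / c := ⟨rr _, sq_rr _⟩
  have hc0 := c_ne_zero hc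
  have hN : N c 0 v = 1 := by
    rw [N, hv]
    field_simp
    ring
  have hi : (1 : F) * N c 0 v = 1 := by rw [hN, one_mul]
  obtain ⟨g, hg, hgT, hgW⟩ := V.exists_torus hq hTE syl hna hi
  have hZ : ∀ z ∈ V.Z, cg g z = z := by
    intro z hz
    obtain ⟨r, rfl⟩ := V.mem_Z hz
    rw [hgW, hN]
    simp
  refine ⟨0 ^ 2 + c * v ^ 2, v ^ 2, by rw [hv]; exact div_ne_zero one_ne_zero hc0, g, hg, fun z hz =>
    comm_of_cg (hZ z hz), ?_, ?_⟩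
  · -- `Q` is characteristic
    have h1 : cjS g V.Q ≤ V.T := by
      rintro _ ⟨x, hx, rfl⟩
      exact hgT x (V.Q_le hx)
    have h2 : (cjS g V.Q).comap V.f = TQ c := by
      apply eq_TQ
      · intro x hx
        obtain ⟨y, hy, e⟩ := hx
        obtain ⟨y, hy, rfl⟩ := hy
        have e1 : cg g (V.f y) = V.f x := e
        have h3 : V.f (x * x) ∈ V.Z := by
          rw [map_mul, ← e1, ← cg_mul, ← map_mul]
          rw [hZ _ (V.f_Z.2 (TQ_sq hy))]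
          exact V.f_Z.2 (TQ_sq hy)
        exact V.f_Z.1 h3
      · rw [V.card_pull h1, Subgroup.card_map_of_injective (MulAut.conj g).injective, V.card_Q]
    intro x hx
    have h3 : cjS g V.Q = V.Q := by
      rw [← V.pull h1, h2]; rfl
    rw [← h3]
    exact ⟨x, hx, rfl⟩
  · intro m n
    rw [hgW]
    congr 1
    ext
    · rfl
    · rfl
    · simp
    · simp
    · simp
    · simp

theorem irr' [Finite G] [Finite F] (hc : Irr c) {E : Subgroup G} (hq : ∃ k, Nat.card F = 2 ^ k) (hTE : V.T ≤ E)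
    (syl : ¬ 2 ∣ V.T.relIndex E) (hna : V.na ∈ E) (hnb : V.nb ∈ E) {R : Subgroup G} (hZR : V.Z ≤ R) (hRQ : R ≤ V.Q)
    (hR : ∃ x ∈ R, x ∉ V.Z)
    (inv : ∀ g ∈ E, (∀ z ∈ V.Z, g * z = z * g) → (∀ x ∈ V.Q, g * x * g⁻¹ ∈ V.Q) → ∀ x ∈ R, g * x * g⁻¹ ∈ R) :
    R = V.Q := by
  have h2 := two_eq (F := F)
  have invT : ∀ g ∈ V.T, ∀ x ∈ R, cg g x ∈ R := fun g hg =>
    inv g (hTE hg) (fun z hz => (V.Z_cent' hz hg).symm) (fun x hx => V.T_norm_Q hg hx)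
  have invb : ∀ x ∈ R, cg V.nb x ∈ R :=
    inv V.nb hnb (fun z hz => V.Kb_Z' V.nb_mem hz) (fun x hx => V.nb_Q hx)
  -- dropping the `Z`-coordinate
  have hz : ∀ u v m n r r', V.f ⟨u, v, 0, m, n, r⟩ ∈ R → V.f ⟨u, v, 0, m, n, r'⟩ ∈ R := by
    intro u v m n r r' h
    have h1 := mul_mem h (hZR (V.f_Z.2 (⟨rfl, rfl, rfl, rfl, rfl⟩ : (⟨0, 0, 0, 0, 0, r' + r⟩ : TB c) ∈ TZ c)))
    rw [← map_mul] at h1
    convert h1 using 2
    ext
    · simp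
    · simp
    · simp
    · simp
    · simp
    · simp only [mul_r]; linear_combination (-r) * h2
  -- an element with `λ ≠ 0`
  obtain ⟨a, b, m, n, r, hab, h1⟩ : ∃ a b m n r, ¬(a = 0 ∧ b = 0) ∧ V.f ⟨a, b, 0, m, n, r⟩ ∈ R := by
    obtain ⟨x, hx, hxZ⟩ := hR
    obtain ⟨u, v, m, n, r, rfl⟩ := V.mem_Q (hRQ hx)
    by_cases huv : u = 0 ∧ v = 0
    · have h3 := invb _ hx
      rw [V.nb_q] at h3
      refine ⟨m, n, u, v, _, ?_, h3⟩
      rintro ⟨rfl, rfl⟩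
      apply hxZ
      exact V.f_Z.2 ⟨huv.1, huv.2, rfl, rfl, rfl⟩
    · exact ⟨u, v, m, n, r, huv, hx⟩
  -- `P(s λ) ∈ R`
  have h3 : ∀ s, V.f ⟨0, 0, 0, s * a, s * b, 0⟩ ∈ R := by
    intro s
    have h4 := mul_mem (invT _ (V.f_T ⟨0, 0, s, 0, 0, 0⟩) _ h1) (inv_mem h1)
    have h5 : cg (V.f ⟨0, 0, s, 0, 0, 0⟩) (V.f ⟨a, b, 0, m, n, r⟩) * (V.f ⟨a, b, 0, m, n, r⟩)⁻¹ =
        V.f ((⟨0, 0, s, 0, 0, 0⟩ : TB c) * ⟨a, b, 0, m, n, r⟩ * (⟨0, 0, s, 0, 0, 0⟩ : TB c)⁻¹ *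
          (⟨a, b, 0, m, n, r⟩ : TB c)⁻¹) := by
      simp only [cg, map_mul, map_inv]
    rw [h5, comm_q _ _ rfl] at h4
    have h6 := hz _ _ _ _ _ 0 h4
    convert h6 using 2
    ext <;> simp [mul_comm]
  obtain ⟨p, q, hq0, g, hg, hgZ, hgQ, hgP⟩ := V.exists_zeta hc hq hTE syl hna
  have h4 : ∀ s, V.f ⟨0, 0, 0, p * (s * a) + c * q * (s * b), p * (s * b) + q * (s * a) + q * (s * b), 0⟩ ∈ R := by
    intro s
    have := inv g hg hgZ hgQ _ (h3 s)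
    rw [show g * V.f ⟨0, 0, 0, s * a, s * b, 0⟩ * g⁻¹ = _ from hgP _ _] at this
    exact this
  have hNab : N c a b ≠ 0 := fun h => hab (N_eq_zero hc h)
  -- all of `X_2`
  have h5 : V.X2 ≤ R := by
    intro x hx
    obtain ⟨m', n', rfl⟩ := V.mem_X2 hx
    -- Cramer
    obtain ⟨e, he⟩ : ∃ e, e * (q * (a ^ 2 + a * b + c * b ^ 2)) = 1 := by
      refine ⟨(q * N c a b)⁻¹, ?_⟩
      exact inv_mul_cancel₀ (mul_ne_zero hq0 hNab)
    have h6 := mul_mem (h3 ((m' * (p * b + q * a + q * b) + n' * (p * a + c * q * b)) * e))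
      (h4 ((a * n' + b * m') * e))
    rw [← map_mul] at h6
    convert h6 using 2
    ext
    · simp
    · simp
    · simp
    · simp only [mul_m, zero_mul, add_zero]
      linear_combination (-m') * he - (a * b * c * e * n' * q + a * b * e * m' * p + a ^ 2 * e * n' * p) * h2
    · simp only [mul_n, zero_mul, add_zero]
      linear_combination (-n') * he - (a * b * e * m' * q + a * b * e * n' * p + b ^ 2 * e * m' * p + b ^ 2 * e * m' * q) * h2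
    · simp
  have h0 : V.X0 ≤ R := by
    intro x hx
    obtain ⟨u, v, rfl⟩ := V.mem_X0 hx
    have h7 := invb _ (h5 (V.f_X2.2 (⟨rfl, rfl, rfl, rfl⟩ : (⟨0, 0, 0, u, v, 0⟩ : TB c) ∈ T2 c)))
    rw [V.nb_q] at h7
    simpa using h7
  apply le_antisymm hRQ
  intro x hx
  obtain ⟨u, v, m', n', r', rfl⟩ := V.mem_Q hx
  have e : (⟨u, v, 0, m', n', r'⟩ : TB c) = ⟨u, v, 0, 0, 0, 0⟩ * (⟨0, 0, 0, m', n', 0⟩ * ⟨0, 0, 0, 0, 0, r'⟩) := by
    ext <;> simp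
  rw [e, map_mul, map_mul]
  exact mul_mem (h0 (V.f_X0.2 ⟨rfl, rfl, rfl, rfl⟩)) (mul_mem (h5 (V.f_X2.2 ⟨rfl, rfl, rfl, rfl⟩))
    (hZR (V.f_Z.2 ⟨rfl, rfl, rfl, rfl, rfl⟩)))

end Env

end Cfsg.Agent.StdSpFour.UFour
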