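import Cfsg.Agent.StdSpFour.CaseBModel

/-!
# S1778, type Sp₄(q), target U₄(q): facts about the 2-group `TB c` when `X² + X + c` is irreducible

`W` : `u = v = 0`; `Q` : `s = 0`; `Z` : all coordinates but `r` are `0`.
-/

set_option autoImplicit false

namespace Cfsg.Agent.StdSpFour.UFour

open Cfsg.Agent.StdSpFour.CaseBModel Subgroup

variable {F : Type*} [Field F] [CharP F 2] {c : F}

/-- the norm form -/
def N (c u v : F) : F := u ^ 2 + u * v + c * v ^ 2

/-- `X² + X + c` is irreducible -/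
def Irr (c : F) : Prop := ∀ x : F, x ^ 2 + x + c ≠ 0

omit [CharP F 2] in
theorem N_eq_zero (hc : Irr c) {u v : F} (h : N c u v = 0) : u = 0 ∧ v = 0 := by
  by_cases hv : v = 0
  · subst hv
    refine ⟨?_, rfl⟩
    have : u ^ 2 = 0 := by rw [N] at h; linear_combination h
    exact pow_eq_zero_iff two_ne_zero |>.1 this
  · exfalso
    apply hc (u / v)
    have h1 : ((u / v) ^ 2 + u / v + c) * v ^ 2 = N c u v := by
      rw [N]; field_simp
    rw [h] at h1
    exact (mul_eq_zero.1 h1).resolve_right (pow_ne_zero 2 hv)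

omit [CharP F 2] in
theorem c_ne_zero (hc : Irr c) : c ≠ 0 := by
  intro h
  exact hc 0 (by rw [h]; ring)

omit [CharP F 2] in
@[simp] theorem N_zero : N c 0 0 = 0 := by rw [N]; ring

omit [CharP F 2] in
theorem N_ne (hc : Irr c) {u v : F} (h : u ≠ 0 ∨ v ≠ 0) : N c u v ≠ 0 := by
  intro h1
  obtain ⟨h2, h3⟩ := N_eq_zero hc h1
  rcases h with h | h
  · exact h h2
  · exact h h3

theorem sq_eq (x : TB c) : x * x = ⟨0, 0, 0, x.u * x.s, x.v * x.s, x.u * x.n + x.v * x.m + N c x.u x.v * x.s⟩ := by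
  have h2 := two_eq (F := F)
  ext
  · simp only [mul_u]; linear_combination x.u * h2
  · simp only [mul_v]; linear_combination x.v * h2
  · simp only [mul_s]; linear_combination x.s * h2
  · simp only [mul_m]; linear_combination x.m * h2
  · simp only [mul_n]; linear_combination x.n * h2
  · simp only [mul_r, N]; linear_combination x.r * h2

/-- the action of `λ = (u,v)` on `W` -/
def act (u v : F) (w : TB c) : TB c := ⟨w.u, w.v, w.s, w.m + u * w.s, w.n + v * w.s,
  w.r + (u * w.n + v * w.m) + N c u v * w.s⟩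

/-- `x w = w' x` -/
theorem mul_w (x : TB c) (s m n r : F) :
    x * ⟨0, 0, s, m, n, r⟩ = ⟨0, 0, s, m + x.u * s, n + x.v * s, r + (x.u * n + x.v * m) + N c x.u x.v * s⟩ * x := by
  have h2 := two_eq (F := F)
  ext
  · simp only [mul_u]; ring
  · simp only [mul_v]; ring
  · simp only [mul_s]; ring
  · simp only [mul_m]; linear_combination (-(x.u * s)) * h2
  · simp only [mul_n]; linear_combination (-(x.v * s)) * h2
  · simp only [mul_r, N]
    linear_combination (-(x.u * n) - x.v * m - 2 * x.u * x.v * s - x.u ^ 2 * s - c * x.v ^ 2 * s) * h2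

theorem conj_w (x : TB c) (s m n r : F) :
    x * ⟨0, 0, s, m, n, r⟩ * x⁻¹ =
      ⟨0, 0, s, m + x.u * s, n + x.v * s, r + (x.u * n + x.v * m) + N c x.u x.v * s⟩ := by
  rw [mul_w, mul_inv_cancel_right]

end Cfsg.Agent.StdSpFour.UFour
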