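import Cfsg.Agent.StdSpFour.UFourLift
import Cfsg.Agent.StdSpFour.UFourClose
import Cfsg.Agent.StdSpFour.EnvSwap

/-!
# S1778, type Sp₄(q), target U₄(q): the facts on `P = C_A(Z)^∞` in `G`
-/

set_option autoImplicit false
set_option linter.unusedSectionVars false

namespace Cfsg.Agent.StdSpFour.UFour

open Subgroup Cfsg.Agent.StdSpFour Cfsg.Agent.StdSpFour.CaseBModel
open Cfsg.Agent.StdSpFour.Lift Cfsg.Agent.StdSpFour.RootEight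
open Cfsg.Agent.StdEven.CoreQuot Cfsg.Agent.StdEven.Loc

/-! ### the model: `V₂` -/

/-- `V₂ = X_a X_{a+b} Z` in the model -/
def TV2 {F : Type*} [Field F] [CharP F 2] (c : F) : Subgroup (TB c) where
  carrier := {x | x.v = 0 ∧ x.s = 0 ∧ x.n = 0}
  mul_mem' := by
    rintro x y ⟨h1, h2, h3⟩ ⟨g1, g2, g3⟩
    exact ⟨by simp [h1, g1], by simp [h2, g2], by simp [h2, h3, g3]⟩
  one_mem' := ⟨rfl, rfl, rfl⟩
  inv_mem' := by
    rintro x ⟨h1, h2, h3⟩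
    exact ⟨by simp [h1], by simp [h2], by simp [h2, h3]⟩

theorem TV2_comm {F : Type*} [Field F] [CharP F 2] {c : F} {x y : TB c} (hx : x ∈ TV2 c) (hy : y ∈ TV2 c) :
    x * y = y * x := by
  obtain ⟨u, v, s, m, n, r⟩ := x
  obtain ⟨u', v', s', m', n', r'⟩ := y
  obtain ⟨h1, h2, h3⟩ := hx
  obtain ⟨g1, g2, g3⟩ := hy
  simp only at h1 h2 h3 g1 g2 g3
  subst h1 h2 h3 g1 g2 g3
  ext <;> simp [add_comm]

namespace Env

variable {F : Type*} [Field F] [CharP F 2] {c : F} {G : Type*} [Group G] (V : Env c G)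

/-- `V₂` -/
def V2 : Subgroup G := (TV2 c).map V.f

theorem f_V2 {x : TB c} : V.f x ∈ V.V2 ↔ x.v = 0 ∧ x.s = 0 ∧ x.n = 0 := by
  constructor
  · rintro ⟨y, hy, e⟩
    rw [← V.inj e]
    exact hy
  · intro h
    exact ⟨x, h, rfl⟩

theorem mem_V2 {x : G} (h : x ∈ V.V2) : ∃ u m r, x = V.f ⟨u, 0, 0, m, 0, r⟩ := by
  obtain ⟨⟨u, v, s, m, n, r⟩, ⟨h1, h2, h3⟩, rfl⟩ := h
  simp only at h1 h2 h3
  subst h1 h2 h3
  exact ⟨u, m, r, rfl⟩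

theorem V2_comm {x y : G} (hx : x ∈ V.V2) (hy : y ∈ V.V2) : x * y = y * x := by
  obtain ⟨x, hx, rfl⟩ := hx
  obtain ⟨y, hy, rfl⟩ := hy
  rw [← map_mul, TV2_comm hx hy, map_mul]

theorem V2_le_P : V.V2 ≤ V.P := by
  intro x hx
  obtain ⟨u, m, r, rfl⟩ := V.mem_V2 hx
  have e : (⟨u, 0, 0, m, 0, r⟩ : TB c) = ⟨u, 0, 0, 0, 0, 0⟩ * ⟨0, 0, 0, m, 0, 0⟩ * ⟨0, 0, 0, 0, 0, r⟩ := by
    ext <;> simp
  rw [e, map_mul, map_mul]
  exact mul_mem (mul_mem (V.Xa_le (V.f_Xa u)) (V.Xab_le (V.f_Xab m))) (V.Z_le_P (V.f_Z.2 ⟨rfl, rfl, rfl, rfl, rfl⟩))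

theorem V2_le_Q : V.V2 ≤ V.Q := by
  intro x hx
  obtain ⟨u, m, r, rfl⟩ := V.mem_V2 hx
  exact V.f_Q.2 rfl

theorem Kb_V2 {k : G} (hk : k ∈ V.Kb) : k ∈ normalizer (V.V2 : Set G) := by
  have h3 : V.X3 ≤ normalizer (V.V2 : Set G) := by
    intro x hx
    have key : ∀ x ∈ V.X3, ∀ y ∈ V.V2, x * y * x⁻¹ ∈ V.V2 := by
      intro x hx y hy
      obtain ⟨s, rfl⟩ := V.mem_X3 hx
      obtain ⟨u, m, r, rfl⟩ := V.mem_V2 hy
      rw [← map_inv, ← map_mul, ← map_mul]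
      exact V.f_V2.2 ⟨by simp, by simp [CharTwo.add_self_eq_zero], by simp⟩
    rw [mem_normalizer_iff]
    intro y
    refine ⟨key x hx y, fun h => ?_⟩
    have h1 := key _ (inv_mem hx) _ h
    rwa [show x⁻¹ * (x * y * x⁻¹) * x⁻¹⁻¹ = y by group] at h1
  have hn : V.nb ∈ normalizer (V.V2 : Set G) := by
    have key : ∀ y ∈ V.V2, V.nb * y * V.nb⁻¹ ∈ V.V2 := by
      intro y hy
      obtain ⟨u, m, r, rfl⟩ := V.mem_V2 hy
      rw [show V.nb * V.f ⟨u, 0, 0, m, 0, r⟩ * V.nb⁻¹ = _ from V.nb_q u 0 m 0 r]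
      exact V.f_V2.2 ⟨rfl, rfl, rfl⟩
    rw [mem_normalizer_iff]
    intro y
    refine ⟨key y, fun h => ?_⟩
    have h1 := key _ h
    have h2 : V.nb * (V.nb * y * V.nb⁻¹) * V.nb⁻¹ = y := V.cg_nb_nb y
    rwa [h2] at h1
  have h7 : V.X7 ≤ normalizer (V.V2 : Set G) := by
    rintro _ ⟨x, hx, rfl⟩
    exact mul_mem (mul_mem hn (h3 hx)) (inv_mem hn)
  exact (sup_le h3 h7 : V.Kb ≤ _) hk

/-- `P = V₂ Kb` -/
theorem P_form {x : G} (hx : x ∈ V.P) : ∃ v ∈ V.V2, ∃ b ∈ V.Kb, x = v * b := by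
  let D : Subgroup G :=
    { carrier := {x | ∃ v ∈ V.V2, ∃ b ∈ V.Kb, x = v * b}
      one_mem' := ⟨1, one_mem _, 1, one_mem _, by rw [one_mul]⟩
      mul_mem' := by
        rintro _ _ ⟨v, hv, b, hb, rfl⟩ ⟨v', hv', b', hb', rfl⟩
        refine ⟨v * (b * v' * b⁻¹), mul_mem hv ((mem_normalizer_iff.1 (V.Kb_V2 hb) v').1 hv'), b * b', mul_mem hb hb', ?_⟩
        group
      inv_mem' := by
        rintro _ ⟨v, hv, b, hb, rfl⟩
        refine ⟨b⁻¹ * v⁻¹ * b⁻¹⁻¹, (mem_normalizer_iff.1 (V.Kb_V2 (inv_mem hb)) v⁻¹).1 (inv_mem hv), b⁻¹, inv_mem hb, ?_⟩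
        group }
  have h1 : V.P ≤ D := by
    refine sup_le (sup_le (sup_le ?_ ?_) ?_) ?_
    · intro x hx
      obtain ⟨u, rfl⟩ := V.mem_Xa hx
      exact ⟨_, V.f_V2.2 ⟨rfl, rfl, rfl⟩, 1, one_mem _, by rw [mul_one]⟩
    · intro x hx
      obtain ⟨u, rfl⟩ := V.mem_Xab hx
      exact ⟨_, V.f_V2.2 ⟨rfl, rfl, rfl⟩, 1, one_mem _, by rw [mul_one]⟩
    · intro x hx
      obtain ⟨u, rfl⟩ := V.mem_Z hx
      exact ⟨_, V.f_V2.2 ⟨rfl, rfl, rfl⟩, 1, one_mem _, by rw [mul_one]⟩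
    · intro x hx
      exact ⟨1, one_mem _, x, hx, by rw [one_mul]⟩
  exact h1 hx

end Env

/-! ### in the lifted environment -/

namespace Lifted

variable {F : Type*} [Field F] [CharP F 2] [Finite F] {G : Type*} [Group G] [Finite G]
  {A : Subgroup G} {t : G} {T : Subgroup G} {c : F} {H : Hyp A t T} {B : Base F (XQ A t)} {V : Env c G}
  (L : Lifted H B V)
include L

theorem mem_Cn {g : G} (hg : g ∈ A) (h : pr A t ⟨g, H.A_le hg⟩ = 1) : g ∈ V.Cn := by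
  rw [L.Cn_eq]
  exact ⟨pr_eq_one.mp h, hg⟩

theorem Cn_le_A : V.Cn ≤ A := by
  rw [L.Cn_eq]
  exact inf_le_right

theorem Cn_cent {k g : G} (hk : k ∈ V.Cn) (hg : g ∈ A) : k * g = g * k := by
  rw [L.Cn_eq] at hk
  exact comm_of_centralizer (H.core_le hk.1) hg

theorem pr_Cn {k : G} (hk : k ∈ V.Cn) : pr A t ⟨k, H.A_le (L.Cn_le_A hk)⟩ = 1 := by
  rw [L.Cn_eq] at hk
  exact pr_eq_one.2 hk.1

theorem Cn_odd' {k : G} (hk : k ∈ V.Cn) : Odd (orderOf k) := by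
  rw [L.Cn_eq] at hk
  exact (H.mem_core.mp hk.1).2.2

/-- products of `h` -/
theorem h_mul (α β α' β' : Fˣ) : ∃ k ∈ V.Cn, V.h α β * V.h α' β' = V.h (α * α') (β * β') * k := by
  refine ⟨(V.h (α * α') (β * β'))⁻¹ * (V.h α β * V.h α' β'), ?_, by group⟩
  apply L.mem_Cn (A.mul_mem (A.inv_mem (L.h_A _ _)) (A.mul_mem (L.h_A _ _) (L.h_A _ _)))
  have e1 : pr A t ((⟨V.h (α * α') (β * β'), H.A_le (L.h_A _ _)⟩)⁻¹ *
      (⟨V.h α β, H.A_le (L.h_A _ _)⟩ * ⟨V.h α' β', H.A_le (L.h_A _ _)⟩)) = 1 := by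
    rw [map_mul, map_mul, map_inv, L.pr_h, L.pr_h, L.pr_h, B.h_mul, inv_mul_cancel]
  exact e1

theorem h_one : V.h 1 1 ∈ V.Cn := by
  apply L.mem_Cn (L.h_A 1 1)
  rw [L.pr_h]
  have h1 := B.h_mul 1 1 1 1
  rw [one_mul] at h1
  exact mul_eq_left.1 h1.symm

theorem V2_le_A : V.V2 ≤ A := by
  intro x hx
  obtain ⟨u, m, r, rfl⟩ := V.mem_V2 hx
  exact L.f_A _ rfl rfl

theorem Kb_le_A : V.Kb ≤ A := by
  apply V.Kb_le_of _ L.nb_A
  intro x hx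
  obtain ⟨s, rfl⟩ := V.mem_X3 hx
  exact L.f_A _ rfl rfl

theorem P_le_A : V.P ≤ A := by
  intro x hx
  obtain ⟨v, hv, b, hb, rfl⟩ := V.P_form hx
  exact mul_mem (L.V2_le_A hv) (L.Kb_le_A hb)

/-- the torus element for the rank one group `Kb` -/
theorem exists_data : ∃ (h : G) (l : Fˣ), h ∈ A ∧ RankOne.Data F (fun s => V.f ⟨0, 0, s, 0, 0, 0⟩) V.nb h (l ^ 2) ∧
    (∀ j : ℤ, ∃ k ∈ V.Cn, h ^ j = V.h (l ^ (-j)) ((l ^ 2) ^ j) * k) := by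
  obtain ⟨μ, hμ⟩ := IsCyclic.exists_generator (α := Fˣ)
  set l := Swap.rtU μ with hl
  have hl2 : l ^ 2 = μ := Swap.sq_rtU μ
  set h1 := V.h l⁻¹ μ with hh1
  -- `nb h1 nb h1 ∈ Cn`
  obtain ⟨k1, hk1, e1⟩ := V.nb_h l⁻¹ μ
  obtain ⟨k2, hk2, e2⟩ := L.h_mul (l⁻¹ * μ) μ⁻¹ l⁻¹ μ
  have e3 : l⁻¹ * μ * l⁻¹ = 1 := by rw [← hl2, pow_two]; group
  have e4 : μ⁻¹ * μ = 1 := inv_mul_cancel _
  rw [e3, e4] at e2
  set k := V.nb * h1 * V.nb * h1 with hk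
  have hkC : k ∈ V.Cn := by
    have h3 : k = V.h 1 1 * k2 * k1 := by
      have h4 : V.nb * h1 * V.nb = V.h (l⁻¹ * μ) μ⁻¹ * k1 := by
        calc V.nb * h1 * V.nb = V.h (l⁻¹ * μ) μ⁻¹ * (V.nb * k1) * V.nb := by rw [hh1, e1]; group
          _ = V.h (l⁻¹ * μ) μ⁻¹ * k1 * (V.nb * V.nb) := by rw [← V.Cn_nb k1 hk1]; group
          _ = _ := by rw [V.nb_nb, mul_one]
      calc k = V.nb * h1 * V.nb * h1 := hk
        _ = V.h (l⁻¹ * μ) μ⁻¹ * (k1 * h1) := by rw [h4]; group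
        _ = (V.h (l⁻¹ * μ) μ⁻¹ * V.h l⁻¹ μ) * k1 := by rw [L.Cn_cent hk1 (L.h_A _ _)]; group
        _ = _ := by rw [e2]
    rw [h3]
    exact mul_mem (mul_mem L.h_one hk2) hk1
  obtain ⟨j0, hj0⟩ := RankOne.exists_corr (n := V.nb) (h := h1) (k := k) V.nb_nb rfl (L.Cn_odd' hkC) (V.Cn_nb k hkC)
  set h := h1 * k ^ j0 with hh
  have hkj : k ^ j0 ∈ V.Cn := pow_mem hkC _
  have hhA : h ∈ A := mul_mem (L.h_A _ _) (L.Cn_le_A hkj)
  have hact : ∀ j : ℤ, ∃ k ∈ V.Cn, h ^ j = V.h (l ^ (-j)) (μ ^ j) * k := by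
    intro j
    have h5 : pr A t ⟨h, H.A_le hhA⟩ = B.h l⁻¹ μ := by
      have h6 : pr A t (⟨h1, H.A_le (L.h_A _ _)⟩ * ⟨k ^ j0, H.A_le (L.Cn_le_A hkj)⟩) = B.h l⁻¹ μ := by
        rw [map_mul, L.pr_h, L.pr_Cn hkj, mul_one]
      exact h6
    let hB : Fˣ × Fˣ →* XQ A t :=
      { toFun := fun p => B.h p.1 p.2
        map_one' := by
          have h1 := B.h_mul 1 1 1 1
          rw [one_mul] at h1
          exact mul_eq_left.1 h1.symm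
        map_mul' := fun p q => B.h_mul _ _ _ _ }
    have h7 : (B.h l⁻¹ μ) ^ j = B.h (l ^ (-j)) (μ ^ j) := by
      have h8 := map_zpow hB (l⁻¹, μ) j
      have h9 : ((l⁻¹, μ) : Fˣ × Fˣ) ^ j = (l ^ (-j), μ ^ j) := by
        ext <;> simp
      rw [h9] at h8
      exact h8.symm
    refine ⟨(V.h (l ^ (-j)) (μ ^ j))⁻¹ * h ^ j, ?_, by group⟩
    apply L.mem_Cn (A.mul_mem (A.inv_mem (L.h_A _ _)) (A.zpow_mem hhA j))
    have e5 : pr A t ((⟨V.h (l ^ (-j)) (μ ^ j), H.A_le (L.h_A _ _)⟩)⁻¹ * (⟨h, H.A_le hhA⟩) ^ j) = 1 := by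
      rw [map_mul, map_zpow, map_inv, L.pr_h, h5, h7, inv_mul_cancel]
    exact e5
  refine ⟨h, l, hhA, ?_, by rw [hl2]; exact hact⟩
  have x1 : V.f ⟨0, 0, 1, 0, 0, 0⟩ * V.f ⟨0, 0, 1, 0, 0, 0⟩ = 1 := by
    rw [← map_mul, ← map_one V.f]
    congr 1
    have h2 := two_eq (F := F)
    ext
    · simp
    · simp
    · simp only [mul_s, one_s]; linear_combination h2
    · simp
    · simp
    · simp
  refine ⟨?_, ?_, V.nb_nb, ?_, ?_, hj0⟩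
  · intro β
    rw [hl2]
    exact mem_zpowers_iff.1 (hμ β)
  · intro a b
    rw [← map_mul]
    congr 1
    ext <;> simp
  · have h3 := V.nb_eq
    have h4 : cg V.nb (V.f ⟨0, 0, 1, 0, 0, 0⟩) = V.nb * V.f ⟨0, 0, 1, 0, 0, 0⟩ * V.nb := by rw [cg, V.nb_inv]
    rw [h4] at h3
    show V.nb * V.f ⟨0, 0, 1, 0, 0, 0⟩ * V.nb = V.f ⟨0, 0, 1, 0, 0, 0⟩ * V.nb * V.f ⟨0, 0, 1, 0, 0, 0⟩
    conv_rhs => rw [h3]
    calc V.nb * V.f ⟨0, 0, 1, 0, 0, 0⟩ * V.nb = 1 * (V.nb * V.f ⟨0, 0, 1, 0, 0, 0⟩ * V.nb) * 1 := by group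
      _ = _ := by rw [← x1]; group
  · intro a
    rw [hl2]
    show h * V.f ⟨0, 0, a, 0, 0, 0⟩ = V.f ⟨0, 0, μ * a, 0, 0, 0⟩ * h
    have h3 := V.h_f l⁻¹ μ 0 0 a 0 0 0
    simp only [mul_zero] at h3
    calc h * V.f ⟨0, 0, a, 0, 0, 0⟩ = h1 * (k ^ j0 * V.f ⟨0, 0, a, 0, 0, 0⟩) := by rw [hh]; group
      _ = (h1 * V.f ⟨0, 0, a, 0, 0, 0⟩ * h1⁻¹) * h1 * k ^ j0 := by rw [V.Cn_f _ hkj]; group
      _ = V.f ⟨0, 0, μ * a, 0, 0, 0⟩ * h1 * k ^ j0 := by rw [← h3]; rfl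
      _ = _ := by rw [hh]; group

/-- **`C_P(V₂) ≤ V₂`** -/
theorem cent_V2 {x : G} (hx : x ∈ V.P) (hc : ∀ y ∈ V.V2, x * y = y * x) : x ∈ V.V2 := by
  obtain ⟨h, l, hhA, D, hact⟩ := L.exists_data
  obtain ⟨v, hv, b, hb, rfl⟩ := V.P_form hx
  -- `b` centralises `V₂`
  have hbc : ∀ y ∈ V.V2, b * y = y * b := by
    intro y hy
    have h1 := hc y hy
    have h2 := V.V2_comm hv hy
    calc b * y = v⁻¹ * (v * b * y) := by group
      _ = v⁻¹ * (y * v) * b := by rw [h1]; group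
      _ = v⁻¹ * (v * y) * b := by rw [h2]
      _ = y * b := by group
  have hbB : b ∈ D.Br := by
    have h1 : V.Kb ≤ D.Br := by
      refine sup_le ?_ ?_
      · intro y hy
        obtain ⟨s, rfl⟩ := V.mem_X3 hy
        exact D.x_mem s
      · rintro _ ⟨y, hy, rfl⟩
        obtain ⟨s, rfl⟩ := V.mem_X3 hy
        exact D.nxn_mem s
    exact h1 hb
  -- the action of `h ^ j`
  have act : ∀ (j : ℤ) (u m : F), cg (h ^ j) (V.f ⟨u, 0, 0, m, 0, 0⟩) =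
      V.f ⟨(l ^ (-j) : Fˣ) * u, 0, 0, (l ^ j : Fˣ) * m, 0, 0⟩ := by
    intro j u m
    obtain ⟨k, hk, e⟩ := hact j
    have h1 := V.h_f (l ^ (-j)) ((l ^ 2) ^ j) u 0 0 m 0 0
    simp only [mul_zero] at h1
    rw [e, cg_comp, cg_eq_self (V.Cn_f k hk _), h1]
    congr 2
    rw [← Units.val_mul, ← zpow_natCast, ← zpow_mul, ← zpow_add]
    congr 3
    push_cast; ring
  have xact : ∀ (a u m : F), cg (V.f ⟨0, 0, a, 0, 0, 0⟩) (V.f ⟨u, 0, 0, m, 0, 0⟩) =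
      V.f ⟨u, 0, 0, m + u * a, 0, u * u * a⟩ := by
    intro a u m
    rw [V.cg_f]
    congr 1
    have h2 := two_eq (F := F)
    ext
    · simp
    · simp
    · simp only [mul_s, inv_s]; linear_combination a * h2
    · simp only [mul_m, mul_u, mul_s, inv_s, inv_m, inv_u, mul_v, inv_v]; ring
    · simp
    · simp only [mul_r, mul_u, mul_s, inv_s, inv_m, inv_u, inv_r, mul_v, inv_v, mul_m, mul_n, inv_n, N]
      ring
  rcases D.mem_Br.1 hbB with ⟨a, j, e⟩ | ⟨a, j, a', e⟩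
  · -- `b = x(a) h ^ j`
    have h1 := cg_eq_self (hbc _ (V.f_V2 (x := ⟨1, 0, 0, 0, 0, 0⟩).2 ⟨rfl, rfl, rfl⟩))
    rw [e, cg_comp, act, xact] at h1
    have h2 := V.inj h1
    have h3 := congrArg TB.u h2
    have h4 := congrArg TB.m h2
    simp only [mul_one, mul_zero, zero_add] at h3 h4
    rw [h3, one_mul] at h4
    -- `l ^ j = 1`
    have h5 : l ^ (-j) = 1 := Units.ext h3
    have h6 : l ^ j = 1 := by rw [← inv_eq_one, ← zpow_neg, h5]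
    have h7 : h ^ j ∈ V.Cn := by
      obtain ⟨k, hk, e2⟩ := hact j
      have h8 : (l ^ 2) ^ j = 1 := by
        rw [← zpow_natCast, ← zpow_mul, mul_comm, zpow_mul, h6, one_zpow]
      rw [h5, h8] at e2
      rw [e2]
      exact mul_mem L.h_one hk
    have h8 : h ^ j = 1 := by
      apply V.Cn_odd _ h7
      have h9 := D.invj j
      rw [← V.Cn_nb _ h7, mul_assoc, V.nb_nb, mul_one, zpow_neg] at h9
      nth_rewrite 1 [h9]
      exact inv_mul_cancel _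
    rw [e, h8, h4, D.zero, mul_one, mul_one]
    exact hv
  · exfalso
    have h1 := cg_eq_self (hbc _ (V.f_V2 (x := ⟨0, 0, 0, 1, 0, 0⟩).2 ⟨rfl, rfl, rfl⟩))
    have h2 := V.nb_q 0 0 1 0 0
    simp only [mul_zero, zero_mul, add_zero] at h2
    rw [e, cg_comp, cg_comp, cg_comp, xact, zero_mul, zero_mul, zero_mul, add_zero, h2, act, xact] at h1
    have h3 := congrArg TB.u (V.inj h1)
    simp only [mul_one] at h3
    exact (l ^ (-j) : Fˣ).ne_zero h3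

/-- **P_self** -/
theorem P_self {x : G} (hx : x ∈ V.P) (hc : ∀ y ∈ V.P, y ∈ V.Q → x * y = y * x) : x ∈ V.Q :=
  V.V2_le_Q (L.cent_V2 hx fun y hy => hc y (V.V2_le_P hy) (V.V2_le_Q hy))

theorem P_inf_Cn {k : G} (hk : k ∈ V.P) (hk' : k ∈ V.Cn) : k = 1 := by
  obtain ⟨x, -, rfl⟩ := L.cent_V2 hk fun y hy => by
    obtain ⟨y, -, rfl⟩ := hy
    exact V.Cn_f k hk' y
  obtain ⟨n, hn⟩ := isPGroup_TB c x
  have h1 : orderOf (V.f x) ∣ 2 ^ n := by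
    apply orderOf_dvd_of_pow_eq_one
    rw [← map_pow, hn, map_one]
  rw [← orderOf_eq_one_iff]
  exact Nat.eq_one_of_dvd_coprimes (Nat.Coprime.pow_left n (Nat.coprime_two_left.mpr (L.Cn_odd' hk'))) h1 dvd_rfl

theorem P_le_NO : V.P ≤ NO A t := L.P_le_A.trans H.A_le

/-- `P` covers `C_{A_X}(z)` -/
theorem P_onto {y : XQ A t} (hy : y ∈ Env.P1 (Swap.swap B)) : ∃ (p : G) (hp : p ∈ V.P), pr A t ⟨p, L.P_le_NO hp⟩ = y := by
  have h1 : Env.P1 (Swap.swap B) ≤ im A t V.P := by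
    rw [Env.P1, closure_le]
    rintro _ (rfl | ⟨u, rfl⟩ | ⟨s, m, r, rfl⟩)
    · show B.nb ∈ im A t V.P
      rw [← L.pr_nb]
      exact pr_mem_im (V.Kb_le_P V.nb_mem)
    · show B.xb u ∈ im A t V.P
      rw [← L.pr_xb]
      exact pr_mem_im (V.Kb_le_P (mem_sup_left (V.f_X3.2 ⟨rfl, rfl, rfl, rfl, rfl⟩)))
    · show B.xa (Swap.rt s) * B.zl m * B.zs (Swap.rt r) ∈ im A t V.P
      rw [← L.pr_xa, ← L.pr_zl, ← L.pr_zs]
      exact mul_mem (mul_mem (pr_mem_im (V.Xa_le (V.f_Xa _))) (pr_mem_im (V.Z_le_P (V.f_Z.2 ⟨rfl, rfl, rfl, rfl, rfl⟩))))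
        (pr_mem_im (V.Xab_le (V.f_Xab _)))
  obtain ⟨n, hn, e⟩ := mem_im.mp (h1 hy)
  exact ⟨n, hn, e⟩

/-- **P_norm** -/
theorem P_norm (E : StdSpFour.Env B (im A t A)) {g : G} (hg : t * g = g * t) {z : G} (hz : z ∈ V.Z) (hz1 : z ≠ 1)
    (hgz : g * z = z * g) {x : G} (hx : x ∈ V.P) : g * x * g⁻¹ ∈ V.P := by
  have hgA : g ∈ normalizer (A : Set G) := H.mem_normalizer hg.symm
  obtain ⟨r, rfl⟩ := V.mem_Z hz
  have hr : r ≠ 0 := by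
    rintro rfl
    exact hz1 (map_one V.f)
  have hzP : ∀ x ∈ V.P, x * V.f ⟨0, 0, 0, 0, 0, r⟩ = V.f ⟨0, 0, 0, 0, 0, r⟩ * x := by
    intro x hx
    obtain ⟨v, hv, b, hb, rfl⟩ := V.P_form hx
    have h1 := V.Kb_Z' hb hz
    have h2 := V.V2_comm hv (V.f_V2 (x := ⟨0, 0, 0, 0, 0, r⟩).2 ⟨rfl, rfl, rfl⟩)
    calc v * b * V.f ⟨0, 0, 0, 0, 0, r⟩ = v * (b * V.f ⟨0, 0, 0, 0, 0, r⟩) := by group
      _ = (v * V.f ⟨0, 0, 0, 0, 0, r⟩) * b := by rw [h1]; group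
      _ = _ := by rw [h2]; group
  -- 2-elements
  have key : ∀ x ∈ V.P, Two x → g * x * g⁻¹ ∈ V.P := by
    intro x hx hx2
    have hxA : g * x * g⁻¹ ∈ A := (mem_normalizer_iff.1 hgA x).1 (L.P_le_A hx)
    have hcz : Commute (g * x * g⁻¹) (V.f ⟨0, 0, 0, 0, 0, r⟩) := by
      have h1 : Commute (g * x * g⁻¹) (g * V.f ⟨0, 0, 0, 0, 0, r⟩ * g⁻¹) := Env.comm_conj (hzP x hx)
      rwa [hgz, mul_inv_cancel_right] at h1
    have h2 : Commute (pr A t ⟨g * x * g⁻¹, H.A_le hxA⟩) (B.zl r) := by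
      rw [← L.pr_zl]
      have h3 : (⟨g * x * g⁻¹, H.A_le hxA⟩ : ↥(NO A t)) * ⟨V.f ⟨0, 0, 0, 0, 0, r⟩, L.f_NO _⟩ =
          ⟨V.f ⟨0, 0, 0, 0, 0, r⟩, L.f_NO _⟩ * ⟨g * x * g⁻¹, H.A_le hxA⟩ := Subtype.ext hcz.eq
      show _ * _ = _ * _
      rw [← map_mul, h3, map_mul]
    have h3 : pr A t ⟨g * x * g⁻¹, H.A_le hxA⟩ ∈ Env.P1 (Swap.swap B) :=
      EnvFacts.cent_zs (B := Swap.swap B) (EnvSwap.env_swap E) (pr_mem_im hxA) hr h2
    obtain ⟨p, hp, e⟩ := L.P_onto h3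
    set k := p⁻¹ * (g * x * g⁻¹) with hk
    have hkA : k ∈ A := mul_mem (inv_mem (L.P_le_A hp)) hxA
    have hkC : k ∈ V.Cn := by
      apply L.mem_Cn hkA
      have h4 : pr A t ((⟨p, L.P_le_NO hp⟩)⁻¹ * ⟨g * x * g⁻¹, H.A_le hxA⟩) = 1 := by
        rw [map_mul, map_inv, e, inv_mul_cancel]
      exact h4
    obtain ⟨n, hn⟩ := hx2.conj g
    have h4 : g * x * g⁻¹ = p * k := by rw [hk]; group
    have h5 : Commute p k := (L.Cn_cent hkC (L.P_le_A hp)).symm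
    rw [h4, h5.mul_pow] at hn
    have h6 : k ^ 2 ^ n = 1 := by
      apply L.P_inf_Cn _ (pow_mem hkC _)
      rw [eq_inv_of_mul_eq_one_right hn]
      exact inv_mem (pow_mem hp _)
    have h7 : k = 1 := by
      rw [← orderOf_eq_one_iff]
      exact Nat.eq_one_of_dvd_coprimes (Nat.Coprime.pow_left n (Nat.coprime_two_left.mpr (L.Cn_odd' hkC)))
        (orderOf_dvd_of_pow_eq_one h6) dvd_rfl
    rw [h4, h7, mul_one]
    exact hp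
  have two_f : ∀ x, Two (V.f x) := by
    intro x
    obtain ⟨n, hn⟩ := isPGroup_TB c x
    exact ⟨n, by rw [← map_pow, hn, map_one]⟩
  have h1 : V.P ≤ V.P.comap (MulAut.conj g).toMonoidHom := by
    refine sup_le (sup_le (sup_le ?_ ?_) ?_) (sup_le ?_ ?_)
    · intro x hx
      refine key x (V.Xa_le hx) ?_
      obtain ⟨u, rfl⟩ := V.mem_Xa hx
      exact two_f _
    · intro x hx
      refine key x (V.Xab_le hx) ?_
      obtain ⟨u, rfl⟩ := V.mem_Xab hx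
      exact two_f _
    · intro x hx
      refine key x (V.Z_le_P hx) ?_
      obtain ⟨u, rfl⟩ := V.mem_Z hx
      exact two_f _
    · intro x hx
      refine key x (V.Kb_le_P (mem_sup_left hx)) ?_
      obtain ⟨u, rfl⟩ := V.mem_X3 hx
      exact two_f _
    · intro x hx
      refine key x (V.Kb_le_P (mem_sup_right hx)) ?_
      obtain ⟨y, hy, rfl⟩ := hx
      obtain ⟨u, rfl⟩ := V.mem_X3 hy
      exact (two_f _).conj V.nb
  exact h1 hx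

/-- **the position of the lifted environment in `E`** -/
theorem inE (EX : StdSpFour.Env B (im A t A)) {E : Subgroup G} (hA : A ≤ E) (htE : ∀ x ∈ E, t * x * t⁻¹ ∈ E)
    (hf : ∀ x, V.f x ∈ E) (syl : ¬ 2 ∣ V.T.relIndex E) : InE V E where
  E_t := by rw [L.t_eq]; exact htE
  f_mem := hf
  na_mem := hA L.na_A
  nb_mem := hA L.nb_A
  syl := syl
  P_norm := by
    rw [L.t_eq]
    exact fun g _ hg z hz hz1 hgz x hx => L.P_norm EX hg hz hz1 hgz hx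
  P_self := fun x hx hc => L.P_self hx hc

end Lifted

end Cfsg.Agent.StdSpFour.UFour
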